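import Mathlib
import Groth.Agent.Lib.Helper3.HenselFinite

set_option autoImplicit false
set_option linter.style.haveILetI false
universe u

namespace Groth.Agent.Lib.Helper36.Olivier

open IsLocalRing

/-- A domain which is a finite product of local rings is local. -/
theorem isLocalRing_of_ringEquiv_pi {S : Type*} [CommRing S] [IsDomain S] {ι : Type*} [Fintype ι]
    {C : ι → Type*} [∀ i, CommRing (C i)] [∀ i, IsLocalRing (C i)] (φ : S ≃+* (∀ i, C i)) :
    IsLocalRing S := by
  classical
  haveI : IsDomain (∀ i, C i) := φ.symm.injective.isDomain φ.symm.toRingHom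
  have hsub : Subsingleton ι := by
    constructor
    intro i j
    by_contra hij
    have h1 : (Pi.single i 1 : ∀ i, C i) * Pi.single j 1 = 0 := by
      ext k
      by_cases hk : k = i
      · subst hk
        simp [Pi.single_eq_of_ne hij]
      · simp [Pi.single_eq_of_ne hk]
    rcases mul_eq_zero.mp h1 with h | h
    · have := congrFun h i
      simp at this
    · have := congrFun h j
      simp at this
  have hne : Nonempty ι := by
    by_contra hcon
    rw [not_nonempty_iff] at hcon
    exact one_ne_zero (α := ∀ i, C i) (Subsingleton.elim _ _)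
  obtain ⟨i₀⟩ := hne
  haveI : Unique ι := { default := i₀, uniq := fun i => Subsingleton.elim _ _ }
  let ψ : S ≃+* C default := φ.trans (RingEquiv.piUnique C)
  exact ψ.symm.isLocalRing

/-- A domain integral over a henselian local ring is local. -/
theorem isLocalRing_of_isIntegral_of_isDomain (A : Type u) [CommRing A] [HenselianLocalRing A]
    (A' : Type u) [CommRing A'] [IsDomain A'] [Algebra A A'] [Algebra.IsIntegral A A'] :
    IsLocalRing A' := by
  obtain ⟨n₀, hn₀⟩ := Ideal.exists_maximal A'
  refine IsLocalRing.of_unique_max_ideal ⟨n₀, hn₀, ?_⟩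
  intro n₁ hn₁
  by_contra hne
  -- an element of `n₁` not in `n₀`
  have hnle : ¬ n₁ ≤ n₀ := fun hle => hne (hn₁.eq_of_le hn₀.ne_top hle)
  obtain ⟨x, hx1, hx0⟩ := Set.not_subset.mp hnle
  let A₁ : Subalgebra A A' := Algebra.adjoin A {x}
  have hxA₁ : x ∈ A₁ := Algebra.subset_adjoin rfl
  haveI hfin : Module.Finite A A₁ :=
    Module.Finite.iff_fg.mpr (Algebra.IsIntegral.isIntegral (R := A) x).fg_adjoin_singleton
  obtain ⟨ι, _, C, _, hC, ⟨φ⟩⟩ :=
    Groth.Agent.Lib.Helper3.exists_ringEquiv_pi_isLocalRing_of_finite A A₁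
  haveI := hC
  haveI hloc : IsLocalRing A₁ := isLocalRing_of_ringEquiv_pi φ
  haveI : Algebra.IsIntegral A₁ A' := Algebra.IsIntegral.tower_top (R := A)
  have h0 : (n₀.comap (algebraMap A₁ A')).IsMaximal :=
    Ideal.isMaximal_comap_of_isIntegral_of_isMaximal n₀
  have h1 : (n₁.comap (algebraMap A₁ A')).IsMaximal :=
    Ideal.isMaximal_comap_of_isIntegral_of_isMaximal n₁
  have heq : n₁.comap (algebraMap A₁ A') = n₀.comap (algebraMap A₁ A') := by
    rw [IsLocalRing.eq_maximalIdeal h0, IsLocalRing.eq_maximalIdeal h1]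
  have h2 : (⟨x, hxA₁⟩ : A₁) ∈ n₁.comap (algebraMap A₁ A') := hx1
  rw [heq] at h2
  exact hx0 h2

end Groth.Agent.Lib.Helper36.Olivier
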