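import Groth.Agent.Lib.Helper36.IndEtale
import Groth.Agent.Lib.Helper9.HensK.IndEtale
import Groth.Agent.Lib.Helper9.HensK.Basic
import Groth.Agent.Lib.Helper3.EtaleQuotLift

set_option autoImplicit false
set_option linter.style.haveILetI false
universe u

namespace Groth.Agent.Lib.Helper36.IndEtLift

open CategoryTheory CategoryTheory.Limits Groth.Agent.Lib.Helper36.IndEt
open Groth.Agent.Lib.Helper9.HensK

/-- A map from a finitely presented algebra to an ind-étale algebra factors through an étale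
algebra. -/
theorem exists_factor_etale (R : Type u) [CommRing R] (Cb : Type u) [CommRing Cb] [Algebra R Cb]
    (h : EtPBC.IsIndEtale R Cb) (Z : Type u) [CommRing Z] [Algebra R Z]
    [Algebra.FinitePresentation R Z] (g : Z →ₐ[R] Cb) :
    ∃ (W : Type u) (_ : CommRing W) (_ : Algebra R W), Algebra.Etale R W ∧
      ∃ (u : Z →ₐ[R] W) (v : W →ₐ[R] Cb), v.comp u = g := by
  rw [isIndEtale_iff_ind] at h
  obtain ⟨J, _, _, pres, hP⟩ := h
  let Zo : Under (CommRingCat.of R) := Under.mk (CommRingCat.ofHom (algebraMap R Z))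
  have hZ : IsFinitelyPresentable.{u} Zo := by
    apply CommRingCat.isFinitelyPresentable_under
    exact (RingHom.finitePresentation_algebraMap (A := R) (B := Z)).mpr inferInstance
  let go : Zo ⟶ Under.mk (CommRingCat.ofHom (algebraMap R Cb)) :=
    Under.homMk (CommRingCat.ofHom g.toRingHom) (by ext x; exact g.commutes x)
  obtain ⟨j, u, hcomp⟩ := IsFinitelyPresentable.exists_hom_of_isColimit pres.isColimit go
  let W := (pres.diag.obj j).right
  letI : Algebra R W := (pres.diag.obj j).hom.hom.toAlgebra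
  have hW : Algebra.Etale R W := hP j
  refine ⟨W, inferInstance, inferInstance, hW, ?_⟩
  refine ⟨⟨u.right.hom, fun r => ?_⟩, ⟨(pres.ι.app j).right.hom, fun r => ?_⟩, ?_⟩
  · have := congrArg (fun m => m.hom r) (Under.w u)
    exact this
  · have := congrArg (fun m => m.hom r) (Under.w (pres.ι.app j))
    exact this
  · ext z
    have := congrArg (fun m => m.right.hom z) hcomp
    exact this

section Lift

variable (A : Type u) [CommRing A] (I : Ideal A) (Cb : Type u) [CommRing Cb] [Algebra (A ⧸ I) Cb]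
  [Algebra A Cb] [IsScalarTower A (A ⧸ I) Cb]

include I in
/-- The residue map of the colimit of pointed étale algebras over an ind-étale `A/I`-algebra is
surjective. -/
theorem residue_surjective (h : EtPBC.IsIndEtale (A ⧸ I) Cb) :
    Function.Surjective (PtColim.residue : PtColim A Cb →ₐ[A] Cb) := by
  intro c
  -- factor the map `(A/I)[X] → Cb`, `X ↦ c` through an étale algebra
  let g : Polynomial (A ⧸ I) →ₐ[A ⧸ I] Cb := Polynomial.aeval c
  obtain ⟨W, _, _, hW, u, v, huv⟩ := exists_factor_etale (A ⧸ I) Cb h (Polynomial (A ⧸ I)) g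
  obtain ⟨B, _, _, hB, ψ, hψs, hψk, hψc⟩ := Groth.Agent.Lib.Helper3.exists_etale_lift_of_quotient I W
  let σ : B →ₐ[A] Cb :=
    { (v.toRingHom.comp ψ) with
      commutes' := fun a => by
        change v (ψ (algebraMap A B a)) = algebraMap A Cb a
        rw [hψc, v.commutes]
        exact (IsScalarTower.algebraMap_apply A (A ⧸ I) Cb a).symm }
  obtain ⟨b, hb⟩ := hψs (u Polynomial.X)
  refine ⟨PtColim.ι (PtEt.of B σ) (PtEt.ofEquiv B σ b), ?_⟩
  rw [PtColim.residue_ι, PtEt.of_σ_apply]
  change v (ψ b) = c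
  rw [hb]
  have := congrArg (fun m => m Polynomial.X) huv
  simpa [g] using this

include I in
/-- The kernel of the residue map is generated by `I`. -/
theorem ker_residue_le (h : EtPBC.IsIndEtale (A ⧸ I) Cb) :
    RingHom.ker (PtColim.residue : PtColim A Cb →ₐ[A] Cb).toRingHom ≤
      I.map (algebraMap A (PtColim A Cb)) := by
  intro x hx
  obtain ⟨N, y, rfl⟩ := PtColim.exists_rep x
  have hy : N.σ y = 0 := by
    have : PtColim.residue (PtColim.ι N y) = 0 := hx
    rwa [PtColim.residue_ι] at this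
  -- notation
  let S := N.S
  let IS : Ideal S := I.map (algebraMap A S)
  let Sb := S ⧸ IS
  have hE : Algebra.Etale (A ⧸ I) Sb :=
    Algebra.Etale.of_equiv (Algebra.TensorProduct.quotIdealMapEquivQuotTensor S I).symm
  have hle : IS ≤ RingHom.ker N.σ.toRingHom := by
    rw [Ideal.map_le_iff_le_comap]
    intro a ha
    rw [Ideal.mem_comap, RingHom.mem_ker]
    change N.σ (algebraMap A S a) = 0
    rw [N.σ.commutes, IsScalarTower.algebraMap_apply A (A ⧸ I) Cb,
      Ideal.Quotient.algebraMap_eq, Ideal.Quotient.eq_zero_iff_mem.mpr ha, map_zero]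
  let σb₀ : Sb →+* Cb := Ideal.Quotient.lift IS N.σ.toRingHom (fun s hs => RingHom.mem_ker.mp (hle hs))
  let σb : Sb →ₐ[A ⧸ I] Cb :=
    { σb₀ with
      commutes' := by
        intro r
        obtain ⟨a, rfl⟩ := Ideal.Quotient.mk_surjective r
        change σb₀ (Ideal.Quotient.mk _ (algebraMap A S a)) = _
        change N.σ (algebraMap A S a) = _
        rw [N.σ.commutes, IsScalarTower.algebraMap_apply A (A ⧸ I) Cb]
        rfl }
  let yb : Sb := Ideal.Quotient.mk IS y
  have hyb : σb yb = 0 := hy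
  let K : Ideal Sb := Ideal.span {yb}
  let Z := Sb ⧸ K
  have hZ : Algebra.FinitePresentation (A ⧸ I) Z :=
    Algebra.FinitePresentation.quotient ⟨{yb}, by simp [K]⟩
  let gZ : Z →ₐ[A ⧸ I] Cb := Ideal.Quotient.liftₐ K σb (by
    intro a ha
    obtain ⟨t, rfl⟩ := Ideal.mem_span_singleton'.mp ha
    rw [map_mul, hyb, mul_zero])
  obtain ⟨W, _, _, hW, u, v, huv⟩ := exists_factor_etale (A ⧸ I) Cb h Z gZ
  letI algSbW : Algebra Sb W := (u.toRingHom.comp (Ideal.Quotient.mk K)).toAlgebra
  have algSbW_def : ∀ s : Sb, algebraMap Sb W s = u (Ideal.Quotient.mk K s) := fun _ => rfl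
  haveI : IsScalarTower (A ⧸ I) Sb W := IsScalarTower.of_algebraMap_eq (fun r => by
    rw [algSbW_def]
    exact (u.commutes r).symm)
  have hSbW : Algebra.Etale Sb W := Algebra.Etale.of_restrictScalars (A ⧸ I) Sb W
  obtain ⟨B', _, _, hB', ψ, hψs, hψk, hψc⟩ :=
    Groth.Agent.Lib.Helper3.exists_etale_lift_of_quotient IS W
  letI algAB' : Algebra A B' := ((algebraMap S B').comp (algebraMap A S)).toAlgebra
  haveI : IsScalarTower A S B' := IsScalarTower.of_algebraMap_eq' rfl
  haveI : Algebra.Etale A B' := Algebra.Etale.comp A S B'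
  have key : ∀ s : S, v (ψ (algebraMap S B' s)) = N.σ s := by
    intro s
    rw [hψc, algSbW_def]
    have := congrArg (fun m => m (Ideal.Quotient.mk K (Ideal.Quotient.mk IS s))) huv
    exact this
  let σ' : B' →ₐ[A] Cb :=
    { (v.toRingHom.comp ψ) with
      commutes' := fun a => by
        change v (ψ (algebraMap A B' a)) = algebraMap A Cb a
        rw [IsScalarTower.algebraMap_apply A S B', key, N.σ.commutes] }
  let f : N.S →ₐ[A] B' := IsScalarTower.toAlgHom A S B'
  have hf : σ'.comp f = N.σ := by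
    ext s
    exact key s
  let m : N ⟶ PtEt.of B' σ' := PtEt.homOf N B' σ' f hf
  have h1 : PtColim.ι N y = PtColim.ι (PtEt.of B' σ') (PtEt.ofEquiv B' σ' (algebraMap S B' y)) := by
    rw [← PtColim.ι_comp m]
    rfl
  have h2 : algebraMap S B' y ∈ I.map (algebraMap A B') := by
    have : algebraMap S B' y ∈ RingHom.ker ψ := by
      rw [RingHom.mem_ker, hψc, algSbW_def]
      have : Ideal.Quotient.mk K (Ideal.Quotient.mk IS y) = 0 :=
        Ideal.Quotient.eq_zero_iff_mem.mpr (Ideal.subset_span rfl)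
      rw [this, map_zero]
    rw [hψk, Ideal.map_map] at this
    exact this
  let θ : B' →ₐ[A] PtColim A Cb := (PtColim.ιₐ (PtEt.of B' σ')).comp (PtEt.ofEquiv B' σ').toAlgHom
  have h3 := Ideal.mem_map_of_mem (θ : B' →+* PtColim A Cb) h2
  rw [Ideal.map_map] at h3
  have h4 : (θ : B' →+* PtColim A Cb).comp (algebraMap A B') = algebraMap A (PtColim A Cb) := by
    ext a
    exact θ.commutes a
  rw [h4] at h3
  rw [h1]
  exact h3

end Lift

/-- **Ind-étale algebras lift along quotients**: with the extra information that the lift is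
`PtColim A Cb` and the isomorphism is induced by the residue map. -/
theorem nonempty_algEquiv_quotient_ptColim (A : Type u) [CommRing A] (I : Ideal A) (Cb : Type u)
    [CommRing Cb] [Algebra (A ⧸ I) Cb] [Algebra A Cb] [IsScalarTower A (A ⧸ I) Cb]
    (h : EtPBC.IsIndEtale (A ⧸ I) Cb) :
    ∃ e : (PtColim A Cb ⧸ I.map (algebraMap A (PtColim A Cb))) ≃ₐ[A ⧸ I] Cb,
      ∀ x : PtColim A Cb, e (Ideal.Quotient.mk _ x) = PtColim.residue x := by
  let C := PtColim A Cb
  let ρ : C →ₐ[A] Cb := PtColim.residue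
  have hle : I.map (algebraMap A C) ≤ RingHom.ker ρ.toRingHom := by
    rw [Ideal.map_le_iff_le_comap]
    intro a ha
    rw [Ideal.mem_comap, RingHom.mem_ker]
    change ρ (algebraMap A C a) = 0
    rw [ρ.commutes, IsScalarTower.algebraMap_apply A (A ⧸ I) Cb,
      Ideal.Quotient.algebraMap_eq, Ideal.Quotient.eq_zero_iff_mem.mpr ha, map_zero]
  let q₀ : C ⧸ I.map (algebraMap A C) →+* Cb :=
    Ideal.Quotient.lift _ ρ.toRingHom (fun s hs => RingHom.mem_ker.mp (hle hs))
  let q : C ⧸ I.map (algebraMap A C) →ₐ[A ⧸ I] Cb :=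
    { q₀ with
      commutes' := by
        intro r
        obtain ⟨a, rfl⟩ := Ideal.Quotient.mk_surjective r
        change ρ (algebraMap A C a) = _
        rw [ρ.commutes, IsScalarTower.algebraMap_apply A (A ⧸ I) Cb]
        rfl }
  have hq : Function.Bijective q := by
    constructor
    · rw [injective_iff_map_eq_zero]
      intro x hx
      obtain ⟨c, rfl⟩ := Ideal.Quotient.mk_surjective x
      have : c ∈ RingHom.ker ρ.toRingHom := hx
      exact Ideal.Quotient.eq_zero_iff_mem.mpr (ker_residue_le A I Cb h this)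
    · intro c
      obtain ⟨x, hx⟩ := residue_surjective A I Cb h c
      exact ⟨Ideal.Quotient.mk _ x, hx⟩
  exact ⟨AlgEquiv.ofBijective q hq, fun x => rfl⟩

/-- **Ind-étale algebras lift along quotients** (`S0755`). -/
theorem exists_indEtale_lift_quotient (A : Type u) [CommRing A] (I : Ideal A) (Cb : Type u)
    [CommRing Cb] [Algebra (A ⧸ I) Cb] (h : EtPBC.IsIndEtale (A ⧸ I) Cb) :
    ∃ (C : Type u) (_ : CommRing C) (_ : Algebra A C),
      EtPBC.IsIndEtale A C ∧ Nonempty ((C ⧸ I.map (algebraMap A C)) ≃ₐ[A ⧸ I] Cb) := by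
  letI : Algebra A Cb := ((algebraMap (A ⧸ I) Cb).comp (Ideal.Quotient.mk I)).toAlgebra
  haveI : IsScalarTower A (A ⧸ I) Cb := IsScalarTower.of_algebraMap_eq' rfl
  obtain ⟨e, -⟩ := nonempty_algEquiv_quotient_ptColim A I Cb h
  exact ⟨PtColim A Cb, inferInstance, inferInstance, PtColim.isIndEtale, ⟨e⟩⟩

end Groth.Agent.Lib.Helper36.IndEtLift
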