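import Mathlib.RingTheory.Ideal.Pure
import Mathlib.RingTheory.Flat.Localization
import Mathlib.RingTheory.KrullDimension.Zero
import Mathlib.RingTheory.LocalProperties.Reduced
import Mathlib.RingTheory.Flat.Stability

/-!
Absolutely flat (von Neumann regular) commutative rings (helper36).
-/

set_option autoImplicit false
universe u

namespace Groth.Agent.Lib.Helper36.AbsFlat

/-- A commutative ring is von Neumann regular if every element `a` is of the form `a * a * b`. -/
def IsVNR (A : Type*) [CommRing A] : Prop := ∀ a : A, ∃ b : A, a = a * a * b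

variable {A : Type u} [CommRing A]

/-- If all cyclic quotients of `A` are flat, `A` is von Neumann regular. -/
theorem isVNR_of_flat_quotients (h : ∀ a : A, Module.Flat A (A ⧸ Ideal.span {a})) : IsVNR A := by
  intro a
  have : (Ideal.span {a}).Pure := h a
  obtain ⟨y, hy, hxy⟩ := Ideal.exists_eq_mul_of_pure (I := Ideal.span {a}) (x := a)
    (Ideal.subset_span rfl)
  obtain ⟨b, rfl⟩ := Ideal.mem_span_singleton'.mp hy
  exact ⟨b, hxy.trans (by ring)⟩

theorem IsVNR.isReduced (h : IsVNR A) : IsReduced A := by
  refine ⟨fun a ⟨n, hn⟩ => ?_⟩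
  obtain ⟨b, hb⟩ := h a
  have key : ∀ k : ℕ, a = a ^ (k + 1) * b ^ k := by
    intro k
    induction k with
    | zero => simp
    | succ k ih =>
      calc a = a ^ (k + 1) * b ^ k := ih
        _ = a ^ k * a * b ^ k := by rw [pow_succ]
        _ = a ^ k * (a * a * b) * b ^ k := by rw [← hb]
        _ = a ^ (k + 1 + 1) * b ^ (k + 1) := by ring
  rw [key n, pow_succ, hn]
  ring

theorem IsVNR.isMaximal_of_isPrime (h : IsVNR A) (p : Ideal A) (hp : p.IsPrime) : p.IsMaximal := by
  rw [Ideal.isMaximal_iff]
  refine ⟨fun h1 => hp.ne_top ((Ideal.eq_top_iff_one _).mpr h1), fun J x hpJ hxp hxJ => ?_⟩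
  obtain ⟨b, hb⟩ := h x
  have h0 : x * (1 - x * b) = 0 := by
    have : x * (1 - x * b) = x - x * x * b := by ring
    rw [this, ← hb, sub_self]
  have h1 : 1 - x * b ∈ p := by
    have := hp.mem_or_mem (show x * (1 - x * b) ∈ p by rw [h0]; exact p.zero_mem)
    exact this.resolve_left hxp
  have : (1 : A) = (1 - x * b) + x * b := by ring
  rw [this]
  exact J.add_mem (hpJ h1) (J.mul_mem_right _ hxJ)

/-- If `A` is reduced and every prime is maximal, all localizations at primes are fields. -/
theorem isField_localization_of_reduced_of_primes_maximal [IsReduced A]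
    (h : ∀ p : Ideal A, p.IsPrime → p.IsMaximal) (p : Ideal A) [hp : p.IsPrime] :
    IsField (Localization.AtPrime p) := by
  have hmin : p ∈ minimalPrimes A := by
    refine ⟨⟨hp, bot_le⟩, fun q hq hqp => ?_⟩
    have hqmax := h q hq.1
    exact (hqmax.eq_of_le hp.ne_top hqp).ge
  have : Ring.KrullDimLE 0 (Localization.AtPrime p) :=
    Ring.KrullDimLE.of_isLocalization p hmin (Localization.AtPrime p)
  exact Ring.KrullDimLE.isField_of_isReduced

/-- If all localizations at maximal ideals are fields, every module is flat. -/
theorem flat_of_isField_localization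
    (h : ∀ (p : Ideal A) [p.IsPrime], IsField (Localization.AtPrime p))
    (M : Type u) [AddCommGroup M] [Module A M] : Module.Flat A M := by
  refine Module.flat_of_localized_maximal M fun P hP => ?_
  have : P.IsPrime := hP.isPrime
  let _ : Field (Localization.AtPrime P) := (h P).toField
  have : Module.Flat (Localization.AtPrime P) (LocalizedModule P.primeCompl M) :=
    Module.Flat.of_free
  exact Module.Flat.trans A (Localization.AtPrime P) (LocalizedModule P.primeCompl M)

end Groth.Agent.Lib.Helper36.AbsFlat
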