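import Mathlib
import Groth.Prelude.Def_BigSite

/-!
# Almost cocontinuous functors: the pushforward commutes with connected colimits (helper36)
-/

set_option autoImplicit false
open CategoryTheory CategoryTheory.Limits Opposite

namespace Groth.Agent.Lib.Helper36.AlmostCocont

universe w v₁ v₂ u₁ u₂

variable {C : Type u₁} [Category.{v₁} C] {D : Type u₂} [Category.{v₂} D] (u : C ⥤ D)
  (J : GrothendieckTopology C) (L : GrothendieckTopology D)

section Concrete

variable {A : Type*} [Category A] {FA : A → A → Type*} {CA : A → Type w}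
  [∀ X Y, FunLike (FA X Y) (CA X) (CA Y)] [ConcreteCategory A FA]

/-- A presheaf has exactly one section over every object covered by the empty sieve. -/
def TrivOnEmpty (G : Dᵒᵖ ⥤ A) : Prop :=
  ∀ V : D, ⊥ ∈ L V → Nonempty (ToType (G.obj (op V))) ∧ Subsingleton (ToType (G.obj (op V)))

variable {u J L}

theorem isLocallySurjective_whiskerLeft (h : BigSite.IsAlmostCocontinuous u J L)
    {G1 G2 : Dᵒᵖ ⥤ A} (g : G1 ⟶ G2) (h1 : TrivOnEmpty L G1) (h2 : TrivOnEmpty L G2)
    [Presheaf.IsLocallySurjective L g] :
    Presheaf.IsLocallySurjective J (Functor.whiskerLeft u.op g) where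
  imageSieve_mem {U} s := by
    obtain ⟨R', hR', H⟩ := h U (Presheaf.imageSieve g s) (Presheaf.imageSieve_mem L g s)
    refine J.superset_covering ?_ hR'
    intro V i hi
    rcases H i hi with hbot | hmem
    · obtain ⟨⟨t⟩, _⟩ := h1 _ hbot
      have := (h2 _ hbot).2
      exact ⟨t, Subsingleton.elim _ _⟩
    · exact hmem

theorem isLocallyInjective_whiskerLeft (h : BigSite.IsAlmostCocontinuous u J L)
    {G1 G2 : Dᵒᵖ ⥤ A} (g : G1 ⟶ G2) (h1 : TrivOnEmpty L G1)
    [Presheaf.IsLocallyInjective L g] :
    Presheaf.IsLocallyInjective J (Functor.whiskerLeft u.op g) where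
  equalizerSieve_mem {U} x y hxy := by
    obtain ⟨R', hR', H⟩ := h U.unop (Presheaf.equalizerSieve (F := G1) x y)
      (Presheaf.equalizerSieve_mem L g x y hxy)
    refine J.superset_covering ?_ hR'
    intro V i hi
    rcases H i hi with hbot | hmem
    · have := (h1 _ hbot).2
      exact Subsingleton.elim _ _
    · exact hmem

/-- A sheaf (with values in a concrete category whose forgetful functor preserves the sheaf
condition) is trivial on objects covered by the empty sieve. -/
theorem trivOnEmpty_of_isSheaf [L.HasSheafCompose (forget A)] (G : Dᵒᵖ ⥤ A)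
    (hG : Presheaf.IsSheaf L G) : TrivOnEmpty L G := by
  intro V hV
  have hG' : Presieve.IsSheaf L (G ⋙ forget A) :=
    (isSheaf_iff_isSheaf_of_type L _).1 (GrothendieckTopology.HasSheafCompose.isSheaf G hG)
  have hS := hG' (⊥ : Sieve V) hV
  let x : Presieve.FamilyOfElements (G ⋙ forget A) (⊥ : Sieve V).arrows :=
    fun _ _ hf => False.elim hf
  have hx : x.Compatible := fun _ _ _ _ _ _ _ hf => False.elim hf
  obtain ⟨t, -, -⟩ := hS x hx
  refine ⟨⟨t⟩, ⟨fun a b => ?_⟩⟩
  exact hS.isSeparatedFor.ext (fun _ _ hf => False.elim hf)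

end Concrete

section Types

variable {u J L}

/-- A colimit of presheaves of types which are trivial on empty-covered objects, over a connected
index category, is trivial on empty-covered objects. -/
theorem trivOnEmpty_colimit {I : Type*} [Category I] [IsConnected I]
    (F : I ⥤ (Dᵒᵖ ⥤ Type w)) (E : Cocone F) (hE : IsColimit E)
    [HasColimitsOfShape I (Type w)]
    (hF : ∀ i, TrivOnEmpty L (F.obj i)) : TrivOnEmpty L E.pt := by
  intro V hV
  have hc : IsColimit (((evaluation _ _).obj (op V)).mapCocone E) := isColimitOfPreserves _ hE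
  let e : ∀ i, (F.obj i).obj (op V) := fun i => (hF i V hV).1.some
  have he : ∀ i (x : (F.obj i).obj (op V)), x = e i := fun i x => (hF i V hV).2.elim _ _
  have hconst : ∀ i j, (E.ι.app i).app (op V) (e i) = (E.ι.app j).app (op V) (e j) :=
    constant_of_preserves_morphisms (α := E.pt.obj (op V))
      (fun i => (E.ι.app i).app (op V) (e i)) (fun i j a => by
      have h1 := congrArg (fun t => t.app (op V) (e i)) (E.w a)
      dsimp at h1
      dsimp only
      rw [← h1, he j ((F.map a).app (op V) (e i))])
  refine ⟨⟨(E.ι.app (Classical.arbitrary I)).app (op V) (e _)⟩, ⟨fun a b => ?_⟩⟩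
  obtain ⟨i, x, rfl⟩ := Types.jointly_surjective_of_isColimit hc a
  obtain ⟨j, y, rfl⟩ := Types.jointly_surjective_of_isColimit hc b
  dsimp
  rw [he i x, he j y]
  exact hconst i j

end Types

section Comparison

variable {A : Type*} [Category A] {FA : A → A → Type*} {CA : A → Type w}
  [∀ X Y, FunLike (FA X Y) (CA X) (CA Y)] [ConcreteCategory A FA]

theorem isIso_sheafifyLift_of_W [HasSheafify J A] {P Q : Cᵒᵖ ⥤ A} (f : P ⟶ Q)
    (hQ : Presheaf.IsSheaf J Q) (hf : J.W f) : IsIso (sheafifyLift J f hQ) := by
  have h1 : sheafifyMap J f ≫ sheafifyLift J (𝟙 Q) hQ = sheafifyLift J f hQ := by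
    rw [sheafifyMap_sheafifyLift, Category.comp_id]
  have h2 : IsIso (sheafifyMap J f) := by
    have := (J.W_iff f).1 hf
    exact inferInstanceAs (IsIso ((sheafToPresheaf J A).map ((presheafToSheaf J A).map f)))
  have h3 : IsIso (sheafifyLift J (𝟙 Q) hQ) := by
    rw [← isoSheafify_inv]
    infer_instance
  rw [← h1]
  infer_instance

variable {u J L}
variable [HasSheafify J A] [HasSheafify L A] [J.WEqualsLocallyBijective A]
  [L.WEqualsLocallyBijective A] [L.HasSheafCompose (forget A)] [u.IsContinuous J L]

/-- For an almost cocontinuous continuous functor `u` and a presheaf `G` which is trivial on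
empty-covered objects, the comparison `(u^p G)^# ⟶ u^s (G^#)` is an isomorphism. -/
theorem isIso_comparison (h : BigSite.IsAlmostCocontinuous u J L) (G : Dᵒᵖ ⥤ A)
    (hG : TrivOnEmpty L G) :
    IsIso (sheafifyLift J (Functor.whiskerLeft u.op (toSheafify L G))
      ((u.sheafPushforwardContinuous A J L).obj ((presheafToSheaf L A).obj G)).property) := by
  apply isIso_sheafifyLift_of_W
  rw [J.W_iff_isLocallyBijective]
  have hG' : TrivOnEmpty L (sheafify L G) :=
    trivOnEmpty_of_isSheaf _ ((presheafToSheaf L A).obj G).property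
  exact ⟨isLocallyInjective_whiskerLeft h (toSheafify L G) hG,
    isLocallySurjective_whiskerLeft h (toSheafify L G) hG hG'⟩

end Comparison

section MainTypes

variable {u J L}
variable [HasSheafify J (Type w)] [HasSheafify L (Type w)] [J.WEqualsLocallyBijective (Type w)]
  [L.WEqualsLocallyBijective (Type w)] [L.HasSheafCompose (forget (Type w))] [u.IsContinuous J L]

/-- The pushforward of sheaves of types along a continuous, almost cocontinuous functor preserves
connected colimits. -/
theorem preservesColimit_of_isConnected (h : BigSite.IsAlmostCocontinuous u J L)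
    {I : Type*} [Category I] [IsConnected I] [HasColimitsOfShape I (Type w)]
    (F : I ⥤ Sheaf L (Type w)) :
    PreservesColimit F (u.sheafPushforwardContinuous (Type w) J L) := by
  let us := u.sheafPushforwardContinuous (Type w) J L
  let E : Cocone (F ⋙ sheafToPresheaf L (Type w)) := colimit.cocone _
  have hE : IsColimit E := colimit.isColimit _
  apply preservesColimit_of_preserves_colimit_cocone (Sheaf.isColimitSheafifyCocone E hE)
  -- the presheaf-level cocone downstairs
  let E' : Cocone ((F ⋙ us) ⋙ sheafToPresheaf J (Type w)) :=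
    { pt := u.op ⋙ E.pt
      ι := { app := fun i => Functor.whiskerLeft u.op (E.ι.app i)
             naturality := fun i j a => NatTrans.ext (funext fun X =>
               NatTrans.congr_app (E.ι.naturality a) (u.op.obj X)) } }
  have hE' : IsColimit E' := by
    refine evaluationJointlyReflectsColimits _ (fun X => ?_)
    have h1 := isColimitOfPreserves ((evaluation _ _).obj (u.op.obj X)) hE
    exact h1
  have hcol := Sheaf.isColimitSheafifyCocone E' hE'
  have hT : TrivOnEmpty L E.pt :=
    trivOnEmpty_colimit (F ⋙ sheafToPresheaf L (Type w)) E hE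
      (fun i => trivOnEmpty_of_isSheaf _ (F.obj i).property)
  let Q : Sheaf J (Type w) := us.obj ((presheafToSheaf L (Type w)).obj E.pt)
  let θh : sheafify J (u.op ⋙ E.pt) ⟶ Q.obj :=
    sheafifyLift J (Functor.whiskerLeft u.op (toSheafify L E.pt)) Q.property
  have hθ : IsIso θh := isIso_comparison h E.pt hT
  let θ : (Sheaf.sheafifyCocone E').pt ⟶ (us.mapCocone (Sheaf.sheafifyCocone E)).pt := ⟨θh⟩
  have hθ' : IsIso θ := by
    have : IsIso ((sheafToPresheaf J (Type w)).map θ) := hθ
    exact isIso_of_reflects_iso θ (sheafToPresheaf J (Type w))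
  refine IsColimit.ofIsoColimit hcol (Cocone.ext (asIso θ) (fun i => ?_))
  apply Sheaf.hom_ext
  have e1 : ((Sheaf.sheafifyCocone E').ι.app i).hom = E'.ι.app i ≫ toSheafify J E'.pt :=
    Sheaf.sheafifyCocone_ι_app_val E' i
  have e2 : ((Sheaf.sheafifyCocone E).ι.app i).hom = E.ι.app i ≫ toSheafify L E.pt :=
    Sheaf.sheafifyCocone_ι_app_val E i
  have e3 : toSheafify J E'.pt ≫ θh = Functor.whiskerLeft u.op (toSheafify L E.pt) :=
    toSheafify_sheafifyLift _ _ _
  have e4 : E'.ι.app i ≫ Functor.whiskerLeft u.op (toSheafify L E.pt) =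
      Functor.whiskerLeft u.op (E.ι.app i ≫ toSheafify L E.pt) := rfl
  have e5 : ((Sheaf.sheafifyCocone E').ι.app i).hom ≫ θh =
      Functor.whiskerLeft u.op ((Sheaf.sheafifyCocone E).ι.app i).hom := by
    exact (congrArg (fun t => t ≫ θh) e1).trans ((Category.assoc _ _ _).trans
      ((congrArg (fun t => E'.ι.app i ≫ t) e3).trans
        (e4.trans (congrArg (fun t => Functor.whiskerLeft u.op t) e2.symm))))
  exact e5

end MainTypes

section MainEpi

variable {A : Type*} [Category A] {FA : A → A → Type*} {CA : A → Type w}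
  [∀ X Y, FunLike (FA X Y) (CA X) (CA Y)] [ConcreteCategory A FA]
variable {u J L}
variable [L.HasSheafCompose (forget A)] [u.IsContinuous J L]

/-- The pushforward along a continuous, almost cocontinuous functor preserves locally surjective
morphisms of sheaves. -/
theorem isLocallySurjective_sheafPushforwardContinuous (h : BigSite.IsAlmostCocontinuous u J L)
    {F G : Sheaf L A} (φ : F ⟶ G) [Presheaf.IsLocallySurjective L φ.hom] :
    Presheaf.IsLocallySurjective J ((u.sheafPushforwardContinuous A J L).map φ).hom :=
  isLocallySurjective_whiskerLeft h φ.hom (trivOnEmpty_of_isSheaf _ F.property)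
    (trivOnEmpty_of_isSheaf _ G.property)

theorem preservesEpimorphisms_sheafPushforwardContinuous (h : BigSite.IsAlmostCocontinuous u J L)
    (hL : ∀ {F G : Sheaf L A} (φ : F ⟶ G), Epi φ → Presheaf.IsLocallySurjective L φ.hom)
    (hJ : ∀ {F G : Sheaf J A} (φ : F ⟶ G), Presheaf.IsLocallySurjective J φ.hom → Epi φ) :
    (u.sheafPushforwardContinuous A J L).PreservesEpimorphisms where
  preserves φ hφ := by
    have := hL φ hφ
    exact hJ _ (isLocallySurjective_sheafPushforwardContinuous h φ)

end MainEpi

section Abelian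

theorem preservesFiniteColimits_of_preservesEpimorphisms {𝒜 ℬ : Type*} [Category 𝒜] [Category ℬ]
    [Abelian 𝒜] [Abelian ℬ] (G : 𝒜 ⥤ ℬ) [G.Additive] [PreservesFiniteLimits G]
    [G.PreservesEpimorphisms] : PreservesFiniteColimits G := by
  refine ((G.preservesFiniteColimits_tfae).out 0 3).1 ?_
  intro S hS
  have h1 := (G.preservesFiniteLimits_iff_forall_exact_map_and_mono.1 inferInstance) S hS
  have := hS.epi_g
  exact ⟨h1.1, inferInstance⟩

end Abelian

end Groth.Agent.Lib.Helper36.AlmostCocont
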