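import Mathlib
import Groth.Agent.Lib.Helper43.EtLift
import Groth.Agent.Lib.Helper9.StdSmoothLift

/-!
# Étale and smooth morphisms lift locally along closed immersions (helper36)
-/

set_option autoImplicit false
universe u
open CategoryTheory CategoryTheory.Limits AlgebraicGeometry Opposite

namespace Groth.Agent.Lib.Helper36.BigClosedLift

/-- `P` has the local lifting property along `Spec (R ⧸ I) ⟶ Spec R`. -/
def HasLocalLift (P : MorphismProperty Scheme.{u}) : Prop :=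
  ∀ (R : CommRingCat.{u}) (I : Ideal R) (W : Scheme.{u})
    (g : W ⟶ Spec (CommRingCat.of (R ⧸ I))), P g → ∀ w : W,
    ∃ (S : CommRingCat.{u}) (σ : R ⟶ S) (W' : Scheme.{u}) (k : W' ⟶ W) (t : W' ⟶ Spec S),
      IsOpenImmersion k ∧ w ∈ Set.range k.base ∧ P (Spec.map σ) ∧
      IsPullback (k ≫ g) t (Spec.map (CommRingCat.ofHom (Ideal.Quotient.mk I))) (Spec.map σ)

theorem hasLocalLift_etale : HasLocalLift (@Etale.{u}) := by
  intro R I W g hg w
  have : Etale g := hg
  obtain ⟨B, k, hk, hwk, -⟩ := Scheme.exists_affine_mem_range_and_range_subset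
    (x := w) (U := ⊤) (by simp)
  obtain ⟨S, σ, t, hσ, hpb⟩ := Groth.Agent.Lib.Helper43.EtLift.core_scheme R I B (k ≫ g)
  exact ⟨S, σ, Spec B, k, t, hk, hwk, hσ, hpb⟩

open TensorProduct in
/-- algebraic core (general form): a base-change identification gives a pushout square -/
lemma pushout_of_equiv (R : CommRingCat.{u}) (I : Ideal R) (B : CommRingCat.{u})
    (ψ : CommRingCat.of (R ⧸ I) ⟶ B) (S : Type u) [CommRing S] [Algebra R S]
    (e : letI : Algebra (R ⧸ I) B := ψ.hom.toAlgebra; ((R ⧸ I) ⊗[R] S) ≃ₐ[R ⧸ I] B) :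
    ∃ (τ : CommRingCat.of S ⟶ B),
      IsPushout (CommRingCat.ofHom (Ideal.Quotient.mk I)) (CommRingCat.ofHom (algebraMap R S))
        ψ τ := by
  letI : Algebra (R ⧸ I) B := ψ.hom.toAlgebra
  refine ⟨CommRingCat.ofHom (e.toRingEquiv.toRingHom.comp
      (Algebra.TensorProduct.includeRight (R := R) (A := R ⧸ I) (B := S)).toRingHom), ?_⟩
  have h := CommRingCat.isPushout_tensorProduct R (R ⧸ I) S
  refine h.of_iso (Iso.refl _) (Iso.refl _) (Iso.refl _) e.toRingEquiv.toCommRingCatIso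
    ?_ ?_ ?_ ?_
  · rfl
  · rfl
  · ext x
    simp only [CommRingCat.hom_comp, CommRingCat.hom_ofHom, RingHom.coe_comp, Function.comp_apply,
      Iso.refl_hom, CommRingCat.hom_id, RingHom.id_apply]
    have h1 : (Ideal.Quotient.mk I x) ⊗ₜ[↑R] (1 : S) =
        algebraMap (↑R ⧸ I) ((↑R ⧸ I) ⊗[↑R] S) (Ideal.Quotient.mk I x) := by
      rw [Algebra.TensorProduct.algebraMap_apply]
      rfl
    change e ((Ideal.Quotient.mk I x) ⊗ₜ[↑R] (1 : S)) = ψ.hom (Ideal.Quotient.mk I x)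
    rw [h1, e.commutes]
    rfl
  · ext x
    simp

theorem hasLocalLift_smooth : HasLocalLift (@Smooth.{u}) := by
  intro R I W g hg w
  have : Smooth g := hg
  obtain ⟨B, k₀, hk₀, ⟨b, hb⟩, -⟩ := Scheme.exists_affine_mem_range_and_range_subset
    (x := w) (U := ⊤) (by simp)
  obtain ⟨ψ, hψ⟩ := Spec.map_surjective (k₀ ≫ g)
  have hsm : ψ.hom.Smooth := by
    have h : Smooth (Spec.map ψ) := by rw [hψ]; infer_instance
    exact (HasRingHomProperty.Spec_iff (P := @Smooth)).1 h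
  rw [RingHom.smooth_iff_locally_isStandardSmooth] at hsm
  obtain ⟨s, hs, H⟩ := hsm
  -- an element of `s` outside the prime `b`
  obtain ⟨t, hts, htb⟩ : ∃ t ∈ s, t ∉ b.asIdeal := by
    by_contra hcon
    push_neg at hcon
    have : Ideal.span s ≤ b.asIdeal := Ideal.span_le.2 hcon
    rw [hs] at this
    exact b.isPrime.ne_top (top_le_iff.1 this)
  let Bt : CommRingCat.{u} := CommRingCat.of (Localization.Away t)
  let loc : B ⟶ Bt := CommRingCat.ofHom (algebraMap B (Localization.Away t))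
  let ψ' : CommRingCat.of (R ⧸ I) ⟶ Bt := ψ ≫ loc
  have hstd : ψ'.hom.IsStandardSmooth := H t hts
  letI : Algebra (R ⧸ I) Bt := ψ'.hom.toAlgebra
  haveI : Algebra.IsStandardSmooth (R ⧸ I) Bt := hstd
  obtain ⟨S, _, _, hS, ⟨e⟩⟩ :=
    Groth.Agent.Lib.Helper9.StdSmoothLift.exists_standardSmooth_lift_tensor R I Bt
  obtain ⟨τ, hpo⟩ := pushout_of_equiv R I Bt ψ' S e
  have hσ : Smooth (Spec.map (CommRingCat.ofHom (algebraMap R S))) := by
    rw [HasRingHomProperty.Spec_iff (P := @Smooth)]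
    have : Algebra.Smooth R S := inferInstance
    exact RingHom.smooth_algebraMap.2 this
  have hloc : IsOpenImmersion (Spec.map loc) := inferInstance
  refine ⟨.of S, CommRingCat.ofHom (algebraMap R S), Spec Bt, Spec.map loc ≫ k₀, Spec.map τ,
    inferInstance, ?_, hσ, ?_⟩
  · have hr : b ∈ Set.range (Spec.map loc).base := by
      have h1 : (Spec.map loc).opensRange = PrimeSpectrum.basicOpen t :=
        Scheme.Hom.opensRange_localizationAway t
      have h2 : b ∈ (Spec.map loc).opensRange := by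
        rw [h1]; exact htb
      exact h2
    obtain ⟨c, hc⟩ := hr
    exact ⟨c, by rw [Scheme.Hom.comp_base, TopCat.comp_app, hc, hb]⟩
  · have := isPullback_SpecMap_of_isPushout _ _ _ _ hpo
    have h2 : (Spec.map loc ≫ k₀) ≫ g = Spec.map ψ' := by
      rw [Category.assoc, ← hψ, ← Spec.map_comp]
    rw [h2]
    exact this

/-- `P`-neighbourhoods lift along closed immersions, locally around a point. -/
theorem lift_at (P : MorphismProperty Scheme.{u}) [P.IsStableUnderBaseChange]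
    [P.IsStableUnderComposition]
    (hOI : ∀ {A B : Scheme.{u}} (j : A ⟶ B), IsOpenImmersion j → P j) (hLL : HasLocalLift P)
    {X Y : Scheme.{u}} (f : X ⟶ Y) [IsClosedImmersion f] {W : Scheme.{u}} (p : W ⟶ X) (hp : P p)
    (x : W) :
    ∃ (V : Scheme.{u}) (v : V ⟶ Y) (h : pullback v f ⟶ W),
      P v ∧ h ≫ p = pullback.snd v f ∧ IsOpenImmersion h ∧ ∃ y, h.base y = x := by
  -- an affine open of `Y` around the image of `x`
  obtain ⟨R, j, hj, hxj, -⟩ := Scheme.exists_affine_mem_range_and_range_subset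
    (x := f.base (p.base x)) (U := ⊤) (by simp)
  let X₀ := pullback j f
  let p₁ : X₀ ⟶ Spec R := pullback.fst j f
  let p₂ : X₀ ⟶ X := pullback.snd j f
  obtain ⟨I, e, he⟩ := IsClosedImmersion.Spec_iff.1 (inferInstance : IsClosedImmersion p₁)
  let U₀ := pullback p₂ p
  let q₁ : U₀ ⟶ X₀ := pullback.fst p₂ p
  let q₂ : U₀ ⟶ W := pullback.snd p₂ p
  have hq₁ : P q₁ := P.pullback_fst _ _ hp
  obtain ⟨r, hr⟩ := hxj
  obtain ⟨x₀', hx₀'1, hx₀'2⟩ :=
    Scheme.Pullback.exists_preimage_pullback (f := j) (g := f) r (p.base x) hr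
  obtain ⟨x₀, hx₀1, hx₀2⟩ :=
    Scheme.Pullback.exists_preimage_pullback (f := p₂) (g := p) x₀' x hx₀'2
  let g : U₀ ⟶ Spec (CommRingCat.of (R ⧸ I)) := q₁ ≫ e.hom
  have hg : P g := P.comp_mem _ _ hq₁ (hOI _ inferInstance)
  obtain ⟨S, σ, W', k, t, hk, hxk, hσ, hpb⟩ := hLL R I U₀ g hg x₀
  let v : Spec S ⟶ Y := Spec.map σ ≫ j
  have hv : P v := P.comp_mem _ _ hσ (hOI _ hj)
  let π₁ : pullback v f ⟶ Spec S := pullback.fst v f
  let π₂ : pullback v f ⟶ X := pullback.snd v f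
  have hπ : π₁ ≫ Spec.map σ ≫ j = π₂ ≫ f := pullback.condition
  let a : pullback v f ⟶ X₀ :=
    pullback.lift (π₁ ≫ Spec.map σ) π₂ (by rw [Category.assoc]; exact hπ)
  have ha1 : a ≫ p₁ = π₁ ≫ Spec.map σ := pullback.lift_fst _ _ _
  have ha2 : a ≫ p₂ = π₂ := pullback.lift_snd _ _ _
  have hbig : IsPullback π₁ π₂ (Spec.map σ ≫ j) f := IsPullback.of_hasPullback _ _
  have hright : IsPullback p₁ p₂ j f := IsPullback.of_hasPullback _ _
  have hleft : IsPullback a π₁ p₁ (Spec.map σ) := by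
    refine IsPullback.of_right ?_ ha1 hright.flip
    rw [ha2]
    exact hbig.flip
  have hleft' : IsPullback (a ≫ e.hom) π₁
      (Spec.map (CommRingCat.ofHom (Ideal.Quotient.mk I))) (Spec.map σ) := by
    refine hleft.of_iso (Iso.refl _) e (Iso.refl _) (Iso.refl _) ?_ ?_ ?_ ?_
    · simp
    · simp
    · simp only [Iso.refl_hom, Category.comp_id]; exact he
    · simp
  let θ : pullback v f ≅ W' := hleft'.isoIsPullback _ _ hpb
  have hθ1 : θ.hom ≫ (k ≫ g) = a ≫ e.hom := hleft'.isoIsPullback_hom_fst _ _ hpb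
  have : IsOpenImmersion q₂ := inferInstance
  refine ⟨Spec S, v, θ.hom ≫ k ≫ q₂, hv, ?_, inferInstance, ?_⟩
  · have h1 : q₂ ≫ p = q₁ ≫ p₂ := pullback.condition.symm
    have h2 : k ≫ q₁ = (k ≫ g) ≫ e.inv := by
      simp only [g, Category.assoc, Iso.hom_inv_id, Category.comp_id]
    calc (θ.hom ≫ k ≫ q₂) ≫ p = θ.hom ≫ (k ≫ q₁) ≫ p₂ := by
          simp only [Category.assoc, h1]
      _ = (θ.hom ≫ (k ≫ g)) ≫ e.inv ≫ p₂ := by rw [h2]; simp only [Category.assoc]
      _ = a ≫ p₂ := by rw [hθ1]; simp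
      _ = _ := ha2
  · obtain ⟨b₀, hb₀⟩ := hxk
    refine ⟨θ.inv.base b₀, ?_⟩
    have : (θ.inv ≫ θ.hom ≫ k ≫ q₂).base b₀ = x := by
      rw [Iso.inv_hom_id_assoc]
      change q₂.base (k.base b₀) = x
      rw [hb₀]
      exact hx₀2
    exact this

theorem lift_at_etale {X Y : Scheme.{u}} (f : X ⟶ Y) [IsClosedImmersion f] {W : Scheme.{u}}
    (p : W ⟶ X) [Etale p] (x : W) :
    ∃ (V : Scheme.{u}) (v : V ⟶ Y) (h : pullback v f ⟶ W),
      Etale v ∧ h ≫ p = pullback.snd v f ∧ IsOpenImmersion h ∧ ∃ y, h.base y = x :=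
  lift_at @Etale (fun _ _ => inferInstance) hasLocalLift_etale f p inferInstance x

theorem lift_at_smooth {X Y : Scheme.{u}} (f : X ⟶ Y) [IsClosedImmersion f] {W : Scheme.{u}}
    (p : W ⟶ X) [Smooth p] (x : W) :
    ∃ (V : Scheme.{u}) (v : V ⟶ Y) (h : pullback v f ⟶ W),
      Smooth v ∧ h ≫ p = pullback.snd v f ∧ IsOpenImmersion h ∧ ∃ y, h.base y = x :=
  lift_at @Smooth (fun _ _ => inferInstance) hasLocalLift_smooth f p inferInstance x

end Groth.Agent.Lib.Helper36.BigClosedLift
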