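import Groth.Prelude.Def_BigSite
import Groth.Agent.Lib.Helper36.BigClosedLift

set_option autoImplicit false
universe u
open CategoryTheory CategoryTheory.Limits AlgebraicGeometry Opposite

namespace Groth.Agent.Lib.Helper36.BigClosedLift

lemma sieve_iff_overEquiv {C : Type*} [Category C] {X : C} {Y : Over X} (S : Sieve Y)
    {Z : Over X} (g : Z ⟶ Y) : S g ↔ Sieve.overEquiv Y S g.left := by
  conv_lhs => rw [← (Sieve.overEquiv Y).symm_apply_apply S]
  rfl

theorem isAlmostCocontinuous (P : MorphismProperty Scheme.{u}) [P.IsStableUnderBaseChange]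
    [P.IsMultiplicative]
    (hOI : ∀ {A B : Scheme.{u}} (j : A ⟶ B), IsOpenImmersion j → P j) (hLL : HasLocalLift P)
    {X Y : Scheme.{u}} (f : X ⟶ Y) [IsClosedImmersion f] :
    BigSite.IsAlmostCocontinuous (Over.pullback f) (QuotSh.J (Scheme.precoverage P) Y)
      (QuotSh.J (Scheme.precoverage P) X) := by
  intro U R hR
  let c : pullback U.hom f ⟶ U.left := pullback.fst U.hom f
  have hc : IsClosedImmersion c := inferInstance
  change R ∈ ((Scheme.grothendieckTopology P).over X) ((Over.pullback f).obj U) at hR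
  rw [GrothendieckTopology.mem_over_iff] at hR
  obtain ⟨𝒰, h𝒰⟩ := Scheme.exists_cover_of_mem_grothendieckTopology hR
  have key : ∀ (q : Σ i, 𝒰.X i), ∃ (V : Scheme.{u}) (v : V ⟶ U.left) (h : pullback v c ⟶ 𝒰.X q.1),
      P v ∧ h ≫ 𝒰.f q.1 = pullback.snd v c ∧ IsOpenImmersion h ∧ ∃ y, h.base y = q.2 :=
    fun q => lift_at P hOI hLL c (𝒰.f q.1) (𝒰.map_prop q.1) q.2
  choose V v h hv hh _ hy using key
  let Uc : U.left.Opens := ⟨(Set.range c.base)ᶜ, c.isClosedEmbedding.isClosed_range.isOpen_compl⟩
  let obj : Option (Σ i, 𝒰.X i) → Scheme.{u} := fun o =>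
    match o with
    | none => Uc.toScheme
    | some q => V q
  let map : (o : Option (Σ i, 𝒰.X i)) → (obj o ⟶ U.left) := fun o =>
    match o with
    | none => Uc.ι
    | some q => v q
  have covers : ∀ x : U.left, ∃ o y, (map o).base y = x := by
    intro x
    by_cases hx : x ∈ Set.range c.base
    · obtain ⟨z, rfl⟩ := hx
      obtain ⟨i, w, hw⟩ := 𝒰.exists_eq z
      obtain ⟨y, hy'⟩ := hy ⟨i, w⟩
      refine ⟨some ⟨i, w⟩, (pullback.fst (v ⟨i, w⟩) c).base y, ?_⟩
      change (v ⟨i, w⟩).base ((pullback.fst (v ⟨i, w⟩) c).base y) = _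
      have h1 : (pullback.fst (v ⟨i, w⟩) c ≫ v ⟨i, w⟩).base y =
          (pullback.snd (v ⟨i, w⟩) c ≫ c).base y := by rw [pullback.condition]
      have h2 : (pullback.snd (v ⟨i, w⟩) c).base y = z := by
        rw [← hh ⟨i, w⟩, Scheme.Hom.comp_base, TopCat.comp_app, hy']
        exact hw
      rw [Scheme.Hom.comp_base, TopCat.comp_app, Scheme.Hom.comp_base, TopCat.comp_app, h2] at h1
      exact h1
    · exact ⟨none, ⟨x, hx⟩, rfl⟩
  have map_prop : ∀ o, P (map o) := by
    intro o
    match o with
    | none => exact hOI _ inferInstance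
    | some q => exact hv q
  let 𝒱 : U.left.Cover (Scheme.precoverage P) :=
    Scheme.Cover.mkOfCovers _ obj map covers map_prop
  refine ⟨(Sieve.overEquiv U).symm (Sieve.ofArrows 𝒱.X 𝒱.f), ?_, ?_⟩
  · exact GrothendieckTopology.overEquiv_symm_mem_over _ _ _ 𝒱.mem_grothendieckTopology
  · intro T g hg
    rw [Sieve.overEquiv_symm_iff] at hg
    obtain ⟨_, a, _, ⟨o⟩, ha⟩ := hg
    have e1 : ((Over.pullback f).map g).left ≫ c = pullback.fst T.hom f ≫ g.left := by
      simp only [c, Over.pullback_map_left]
      exact pullback.lift_fst _ _ _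
    cases o with
    | none =>
      left
      have hemp : IsEmpty ↥(pullback T.hom f) := by
        constructor
        intro z
        have h1 : (((Over.pullback f).map g).left ≫ c).base z ∈ Set.range c.base := by
          rw [Scheme.Hom.comp_base, TopCat.comp_app]
          exact ⟨_, rfl⟩
        rw [e1] at h1
        have h2 : (pullback.fst T.hom f ≫ g.left).base z ∉ Set.range c.base := by
          have ha' : a ≫ Uc.ι = g.left := ha
          rw [← ha', Scheme.Hom.comp_base, TopCat.comp_app, Scheme.Hom.comp_base, TopCat.comp_app]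
          exact (a.base ((pullback.fst T.hom f).base z)).2
        exact h2 h1
      change (⊥ : Sieve _) ∈ ((Scheme.grothendieckTopology P).over X) ((Over.pullback f).obj T)
      rw [GrothendieckTopology.mem_over_iff, map_bot]
      exact Scheme.bot_mem_grothendieckTopology (X := pullback T.hom f)
    | some q =>
      right
      rw [sieve_iff_overEquiv]
      let a' : T.left ⟶ V q := a
      have ha' : a' ≫ v q = g.left := ha
      let l : pullback T.hom f ⟶ pullback (v q) c :=
        pullback.lift (pullback.fst T.hom f ≫ a') ((Over.pullback f).map g).left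
          (by rw [Category.assoc, ha', e1])
      have hl : (l ≫ h q) ≫ 𝒰.f q.1 = ((Over.pullback f).map g).left := by
        rw [Category.assoc, hh q]
        exact pullback.lift_snd _ _ _
      rw [← hl]
      exact Sieve.downward_closed _ (h𝒰 _ _ (Presieve.ofArrows.mk q.1)) _

instance isMultiplicative_smooth : MorphismProperty.IsMultiplicative @Smooth.{u} where
  id_mem _ := inferInstance

theorem isAlmostCocontinuous_etale {X Y : Scheme.{u}} (f : X ⟶ Y) [IsClosedImmersion f] :
    BigSite.IsAlmostCocontinuous (Over.pullback f) (QuotSh.J Scheme.etalePrecoverage Y)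
      (QuotSh.J Scheme.etalePrecoverage X) :=
  isAlmostCocontinuous @Etale (fun _ _ => inferInstance) hasLocalLift_etale f

theorem isAlmostCocontinuous_smooth {X Y : Scheme.{u}} (f : X ⟶ Y) [IsClosedImmersion f] :
    BigSite.IsAlmostCocontinuous (Over.pullback f) (QuotSh.J (Scheme.precoverage @Smooth) Y)
      (QuotSh.J (Scheme.precoverage @Smooth) X) :=
  isAlmostCocontinuous @Smooth (fun _ _ => inferInstance) hasLocalLift_smooth f

end Groth.Agent.Lib.Helper36.BigClosedLift


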