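import Groth.Prelude.Def_BigSite
import Groth.Agent.Lib.Helper36.AlmostCocont
import Groth.Agent.Lib.Helper36.BigClosedAlmost

set_option autoImplicit false
open CategoryTheory CategoryTheory.Limits AlgebraicGeometry Opposite
universe u
open BigSite

namespace Groth.Agent.Lib.Helper36.AlmostCocont

variable {X Y : Scheme.{u}} (f : X ⟶ Y) (K : Precoverage Scheme.{u})

theorem pushBig_preservesColimitsOfShape_of_isConnected
    (h : BigSite.IsAlmostCocontinuous (Over.pullback f) (QuotSh.J K Y) (QuotSh.J K X))
    (I : Type) [SmallCategory I] [IsConnected I] :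
    PreservesColimitsOfShape I (BigSite.pushBig K f (Type (u + 1))) where
  preservesColimit {F} := preservesColimit_of_isConnected h F

theorem pushBig_preservesFiniteColimits
    (h : BigSite.IsAlmostCocontinuous (Over.pullback f) (QuotSh.J K Y) (QuotSh.J K X)) :
    PreservesFiniteColimits (BigSite.pushBig K f AddCommGrpCat.{u + 1}) := by
  have hepi : (BigSite.pushBig K f AddCommGrpCat.{u + 1}).PreservesEpimorphisms :=
    preservesEpimorphisms_sheafPushforwardContinuous h
      (fun φ hφ => (Sheaf.isLocallySurjective_iff_epi' AddCommGrpCat.{u + 1} φ).2 hφ)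
      (fun φ hφ => (Sheaf.isLocallySurjective_iff_epi' AddCommGrpCat.{u + 1} φ).1 hφ)
  have hlim : PreservesFiniteLimits (BigSite.pushBig K f AddCommGrpCat.{u + 1}) := by
    have : PreservesLimitsOfSize.{0, 0} (BigSite.pushBig K f AddCommGrpCat.{u + 1}) :=
      (BigSite.bigAdj K f AddCommGrpCat.{u + 1}).rightAdjoint_preservesLimits
    exact PreservesLimitsOfSize.preservesFiniteLimits _
  exact preservesFiniteColimits_of_preservesEpimorphisms _

end Groth.Agent.Lib.Helper36.AlmostCocont

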