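import Mathlib.CategoryTheory.ObjectProperty.Ind
import Mathlib.CategoryTheory.MorphismProperty.Ind
import Mathlib.Algebra.Category.Ring.FinitePresentation
import Mathlib.Algebra.Category.Ring.Under.Basic
import Mathlib.RingTheory.Etale.Basic
import Groth.Prelude.Def_PBC

set_option autoImplicit false
universe u

namespace Groth.Agent.Lib.Helper36.IndEt

open CategoryTheory CategoryTheory.Limits

/-- étale objects of `Under A` -/
def etaleObj (A : Type u) [CommRing A] : ObjectProperty (Under (CommRingCat.of A)) :=
  fun X => letI := X.hom.hom.toAlgebra; Algebra.Etale A X.right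

theorem etaleObj_le_isFinitelyPresentable (A : Type u) [CommRing A] :
    etaleObj A ≤ ObjectProperty.isFinitelyPresentable.{u} (Under (CommRingCat.of A)) := by
  intro X hX
  apply CommRingCat.isFinitelyPresentable_under
  let := X.hom.hom.toAlgebra
  have : Algebra.Etale A X.right := hX
  show Algebra.FinitePresentation A X.right
  infer_instance

/-- `IsIndEtale` in terms of Mathlib's `ObjectProperty.ind`. -/
theorem isIndEtale_iff_ind (A B : Type u) [CommRing A] [CommRing B] [Algebra A B] :
    EtPBC.IsIndEtale A B ↔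
      (etaleObj A).ind.{u} (Under.mk (CommRingCat.ofHom (algebraMap A B))) := by
  constructor
  · rintro ⟨J, i1, i2, D, c, hc, hD, ⟨e⟩⟩
    let pres₀ : ColimitPresentation J c.pt := ⟨D, c.ι, hc⟩
    exact ⟨J, i1, i2, pres₀.ofIso e, hD⟩
  · rintro ⟨J, i1, i2, pres, h⟩
    exact ⟨J, i1, i2, pres.diag, pres.cocone, pres.isColimit, h, ⟨Iso.refl _⟩⟩

/-- object version -/
theorem isIndEtale_iff_ind_obj (A : Type u) [CommRing A] (X : Under (CommRingCat.of A)) :
    (letI := X.hom.hom.toAlgebra; EtPBC.IsIndEtale A X.right) ↔ (etaleObj A).ind.{u} X := by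
  let := X.hom.hom.toAlgebra
  exact isIndEtale_iff_ind A X.right

/-- `ind` is idempotent on étale objects -/
theorem ind_ind_etaleObj (A : Type u) [CommRing A] :
    ObjectProperty.ind.{u} (ObjectProperty.ind.{u} (etaleObj A)) =
      ObjectProperty.ind.{u} (etaleObj A) :=
  ObjectProperty.ind_ind (etaleObj_le_isFinitelyPresentable A)

end Groth.Agent.Lib.Helper36.IndEt
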