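import Mathlib.CategoryTheory.ObjectProperty.Ind
import Mathlib.CategoryTheory.MorphismProperty.Ind
import Mathlib.CategoryTheory.Filtered.Final
import Mathlib.CategoryTheory.Limits.Final

set_option autoImplicit false
universe w v u

namespace Groth.Agent.Lib.Helper36.IndGen

open CategoryTheory CategoryTheory.Limits MorphismProperty

variable {C : Type u} [Category.{v} C] (P : MorphismProperty C)

/-- The legs of an ind-`P` presentation are ind-`P`, provided `P` has the cancellation property. -/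
theorem ind_leg
    (hcancel : ∀ {X Y Z : C} (f : X ⟶ Y) (g : Y ⟶ Z), P f → P (f ≫ g) → P g)
    {J : Type w} [SmallCategory J] [IsFiltered J] {X Y : C} (D : J ⥤ C)
    (s : (Functor.const J).obj X ⟶ D) (t : D ⟶ (Functor.const J).obj Y)
    (ht : IsColimit (Cocone.mk _ t)) (hs : ∀ j, P (s.app j)) (j : J) :
    ind.{w} P (t.app j) := by
  rw [ind_iff_ind_underMk]
  refine ⟨Under j, inferInstance, inferInstance,
    ⟨Under.post D, ((Cocone.mk _ t).underPost j).ι, ht.underPost j⟩, fun k => ?_⟩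
  show P (D.map k.hom)
  have hnat := s.naturality k.hom
  simp only [Functor.const_obj_obj, Functor.const_obj_map, Category.id_comp] at hnat
  exact hcancel (s.app j) (D.map k.hom) (hs j) (hnat ▸ hs k.right)

/-- ind-`P` followed by `P` is ind-`P`, if `P` spreads out. -/
theorem ind_comp_of_mem [HasPushouts C] [P.IsStableUnderComposition]
    [P.IsStableUnderCobaseChange] [PreIndSpreads.{w} P]
    (hcancel : ∀ {X Y Z : C} (f : X ⟶ Y) (g : Y ⟶ Z), P f → P (f ≫ g) → P g)
    {X Y T : C} (f : X ⟶ Y) (h : Y ⟶ T) (hf : ind.{w} P f) (hh : P h) :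
    ind.{w} P (f ≫ h) := by
  obtain ⟨J₁, _, _, D₁, s₁, t₁, ht₁, h₁⟩ := hf
  obtain ⟨j₁, T', f', g', hpo, hf'⟩ := P.exists_isPushout_of_isFiltered ht₁ h hh
  have hleg : ind.{w} P (t₁.app j₁) := ind_leg P hcancel D₁ s₁ t₁ ht₁ (fun j => (h₁ j).1) j₁
  have hg' : ind.{w} P g' := MorphismProperty.of_isPushout (P := ind.{w} P) hpo.flip hleg
  have hcomp : f ≫ h = (s₁.app j₁ ≫ f') ≫ g' := by
    have hw : t₁.app j₁ ≫ h = f' ≫ g' := hpo.w
    rw [Category.assoc, ← hw, ← Category.assoc, (h₁ j₁).2]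
  rw [hcomp]
  have : P.RespectsLeft P := ⟨fun i hi f hf => P.comp_mem _ _ hi hf⟩
  exact RespectsLeft.precomp (P := ind.{w} P) (Q := P) _ (P.comp_mem _ _ (h₁ j₁).1 hf') _ hg'

/-- ind-`P` is stable under composition if `P` spreads out and has cancellation. -/
theorem ind_comp [HasPushouts C] [P.IsStableUnderComposition]
    [P.IsStableUnderCobaseChange] [PreIndSpreads.{w} P] [LocallySmall.{w} C]
    (hfp : P ≤ MorphismProperty.isFinitelyPresentable.{w} C)
    (hcancel : ∀ {X Y Z : C} (f : X ⟶ Y) (g : Y ⟶ Z), P f → P (f ≫ g) → P g)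
    {X Y Z : C} (f : X ⟶ Y) (g : Y ⟶ Z) (hf : ind.{w} P f) (hg : ind.{w} P g) :
    ind.{w} P (f ≫ g) := by
  rw [← ind_ind hfp]
  obtain ⟨J₂, _, _, D₂, s₂, t₂, ht₂, h₂⟩ := hg
  refine ⟨J₂, inferInstance, inferInstance, D₂, (Functor.const J₂).map f ≫ s₂, t₂, ht₂,
    fun j => ⟨?_, ?_⟩⟩
  · exact ind_comp_of_mem P hcancel f (s₂.app j) hf (h₂ j).1
  · simp [(h₂ j).2]

end Groth.Agent.Lib.Helper36.IndGen
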