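import Mathlib
import Groth.Agent.Lib.Helper36.IndEtale
import Groth.Agent.Lib.Helper36.IndGeneral

set_option autoImplicit false
set_option linter.style.haveILetI false
universe u

namespace Groth.Agent.Lib.Helper36.IndEt

open CategoryTheory CategoryTheory.Limits MorphismProperty TensorProduct

/-- étale morphisms of commutative rings as a morphism property -/
abbrev etaleMP : MorphismProperty CommRingCat.{u} := RingHom.toMorphismProperty RingHom.Etale

section Factor

variable {J : Type u} [SmallCategory J] [IsFiltered J] {D : J ⥤ CommRingCat.{u}} {c : Cocone D}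

/-- A finitely generated `ℤ`-subalgebra of a filtered colimit of rings lifts to some stage. -/
theorem exists_factor_of_fg (hc : IsColimit c) (A₀ : Subalgebra ℤ c.pt) (hA₀ : A₀.FG) :
    ∃ (j : J) (g' : A₀ →+* D.obj j), (c.ι.app j).hom.comp g' = A₀.val.toRingHom := by
  have hft : Algebra.FiniteType ℤ A₀ := A₀.fg_iff_finiteType.mp hA₀
  have hfp : Algebra.FinitePresentation ℤ A₀ := Algebra.FinitePresentation.of_finiteType.mp hft
  let Z : CommRingCat.{u} := CommRingCat.of (ULift.{u} ℤ)
  let α : (Functor.const J).obj Z ⟶ D :=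
    { app := fun i => CommRingCat.isInitial.to _
      naturality := fun i k a => CommRingCat.isInitial.hom_ext _ _ }
  let f : Z ⟶ CommRingCat.of A₀ := CommRingCat.isInitial.to _
  have hf : f.hom.FinitePresentation := by
    have h1 : f.hom = (algebraMap ℤ A₀).comp (ULift.ringEquiv (R := ℤ)).toRingHom := by
      have : f = CommRingCat.ofHom ((algebraMap ℤ A₀).comp (ULift.ringEquiv (R := ℤ)).toRingHom) :=
        CommRingCat.isInitial.hom_ext _ _
      rw [this]; rfl
    rw [h1]
    exact RingHom.FinitePresentation.comp (RingHom.finitePresentation_algebraMap.mpr hfp)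
      (RingHom.FinitePresentation.of_bijective (ULift.ringEquiv (R := ℤ)).bijective)
  let g : CommRingCat.of A₀ ⟶ c.pt := CommRingCat.ofHom A₀.val.toRingHom
  obtain ⟨i, g', -, hg'⟩ := RingHom.EssFiniteType.exists_eq_comp_ι_app_of_isColimit Z D α f c hc hf g
    (fun i => CommRingCat.isInitial.hom_ext _ _)
  refine ⟨i, g'.hom, ?_⟩
  have := congrArg (fun m => m.hom) hg'
  exact this.symm

end Factor

section Spread

attribute [local instance] Algebra.TensorProduct.rightAlgebra

set_option maxHeartbeats 1600000 in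
/-- Étale ring maps out of a filtered colimit descend to a finite stage. -/
instance preIndSpreads_etale : PreIndSpreads.{u} etaleMP.{u} where
  exists_isPushout {J _ _ D c} hc T f hf := by
    letI algRT : Algebra c.pt T := f.hom.toAlgebra
    have hE : Algebra.Etale c.pt T := hf
    obtain ⟨A₀, T₀, _, _, hfg, hE₀, ⟨e⟩⟩ := Algebra.Etale.exists_subalgebra_fg ℤ c.pt T
    obtain ⟨j, g', hg'⟩ := exists_factor_of_fg hc A₀ hfg
    letI alg1 : Algebra A₀ (D.obj j) := g'.toAlgebra
    letI alg2 : Algebra (D.obj j) c.pt := (c.ι.app j).hom.toAlgebra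
    haveI : IsScalarTower A₀ (D.obj j) c.pt := .of_algebraMap_eq' hg'.symm
    let e' : c.pt ⊗[D.obj j] (D.obj j ⊗[A₀] T₀) ≃ₐ[c.pt] T :=
      (Algebra.TensorProduct.cancelBaseChange A₀ (D.obj j) c.pt c.pt T₀).trans e.symm
    let φ : (D.obj j ⊗[A₀] T₀) →+* T := e'.toAlgHom.toRingHom.comp
      (Algebra.TensorProduct.includeRight (R := D.obj j) (A := c.pt)
        (B := D.obj j ⊗[A₀] T₀)).toRingHom
    letI alg3 : Algebra (D.obj j ⊗[A₀] T₀) T := φ.toAlgebra
    letI alg4 : Algebra (D.obj j) T := (f.hom.comp (c.ι.app j).hom).toAlgebra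
    haveI : IsScalarTower (D.obj j) c.pt T := .of_algebraMap_eq' rfl
    haveI : IsScalarTower (D.obj j) (D.obj j ⊗[A₀] T₀) T := .of_algebraMap_eq' (by
      ext d
      show f.hom ((c.ι.app j).hom d) = e' (1 ⊗ₜ (d ⊗ₜ 1))
      simp only [e', AlgEquiv.trans_apply, Algebra.TensorProduct.cancelBaseChange_tmul]
      rw [Algebra.smul_def, mul_one]
      have := e.symm.commutes ((c.ι.app j).hom d)
      exact this.symm)
    haveI : Algebra.IsPushout (D.obj j) c.pt (D.obj j ⊗[A₀] T₀) T :=
      ⟨IsBaseChange.of_equiv e'.toLinearEquiv (fun x => rfl)⟩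
    refine ⟨j, CommRingCat.of (D.obj j ⊗[A₀] T₀),
      CommRingCat.ofHom (algebraMap (D.obj j) (D.obj j ⊗[A₀] T₀)),
      CommRingCat.ofHom (algebraMap (D.obj j ⊗[A₀] T₀) T), ?_, ?_⟩
    · exact CommRingCat.isPushout_of_isPushout (D.obj j) c.pt (D.obj j ⊗[A₀] T₀) T
    · show (algebraMap (D.obj j) (D.obj j ⊗[A₀] T₀)).Etale
      rw [RingHom.etale_algebraMap]
      infer_instance

end Spread

section Trans

theorem etaleMP_le_isFinitelyPresentable :
    etaleMP.{u} ≤ MorphismProperty.isFinitelyPresentable.{u} CommRingCat.{u} := by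
  intro X Y f hf
  apply CommRingCat.isFinitelyPresentable_hom
  algebraize [f.hom]
  have : Algebra.Etale X Y := hf
  show Algebra.FinitePresentation X Y
  infer_instance

instance : etaleMP.{u}.IsStableUnderCobaseChange :=
  RingHom.isStableUnderCobaseChange_toMorphismProperty_iff.mpr RingHom.Etale.isStableUnderBaseChange

instance : etaleMP.{u}.RespectsIso :=
  RingHom.toMorphismProperty_respectsIso_iff.mp RingHom.Etale.respectsIso

instance : etaleMP.{u}.IsStableUnderComposition where
  comp_mem _ _ hf hg := RingHom.Etale.stableUnderComposition _ _ hf hg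

/-- cancellation for étale maps -/
theorem etaleMP_of_comp {X Y Z : CommRingCat.{u}} (f : X ⟶ Y) (g : Y ⟶ Z)
    (hf : etaleMP f) (hfg : etaleMP (f ≫ g)) : etaleMP g := by
  algebraize [f.hom, g.hom, (f ≫ g).hom]
  have h1 : Algebra.Etale X Y := hf
  have h2 : Algebra.Etale X Z := hfg
  have : IsScalarTower X Y Z := .of_algebraMap_eq' rfl
  exact Algebra.Etale.of_restrictScalars X Y Z

theorem etaleObj_eq_underObj (A : Type u) [CommRing A] :
    etaleObj A = etaleMP.{u}.underObj (X := CommRingCat.of A) := rfl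

/-- `IsIndEtale` in terms of Mathlib's `MorphismProperty.ind`. -/
theorem isIndEtale_iff_indMP (A B : Type u) [CommRing A] [CommRing B] [Algebra A B] :
    EtPBC.IsIndEtale A B ↔
      MorphismProperty.ind.{u} etaleMP.{u} (CommRingCat.ofHom (algebraMap A B)) := by
  rw [isIndEtale_iff_ind, ind_iff_ind_underMk, etaleObj_eq_underObj]

/-- ind-étale maps are stable under composition (morphism version). -/
theorem indMP_comp {X Y Z : CommRingCat.{u}} (f : X ⟶ Y) (g : Y ⟶ Z)
    (hf : MorphismProperty.ind.{u} etaleMP.{u} f) (hg : MorphismProperty.ind.{u} etaleMP.{u} g) :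
    MorphismProperty.ind.{u} etaleMP.{u} (f ≫ g) :=
  Groth.Agent.Lib.Helper36.IndGen.ind_comp etaleMP.{u} etaleMP_le_isFinitelyPresentable
    (fun f g hf hfg => etaleMP_of_comp f g hf hfg) f g hf hg

/-- ind-étale algebras are stable under composition. -/
theorem isIndEtale_trans (A B C : Type u) [CommRing A] [CommRing B] [CommRing C] [Algebra A B]
    [Algebra B C] [Algebra A C] [IsScalarTower A B C] (hAB : EtPBC.IsIndEtale A B)
    (hBC : EtPBC.IsIndEtale B C) : EtPBC.IsIndEtale A C := by
  rw [isIndEtale_iff_indMP] at hAB hBC ⊢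
  have h : CommRingCat.ofHom (algebraMap A C) =
      CommRingCat.ofHom (algebraMap A B) ≫ CommRingCat.ofHom (algebraMap B C) := by
    ext x
    exact IsScalarTower.algebraMap_apply A B C x
  rw [h]
  exact indMP_comp _ _ hAB hBC

end Trans

end Groth.Agent.Lib.Helper36.IndEt
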