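import Mathlib
import Groth.Prelude.Def_PBC

set_option autoImplicit false
set_option linter.unusedSectionVars false
universe u

namespace Groth.Agent.Lib.Helper36.IndZar

open Topology CategoryTheory CategoryTheory.Limits

/-- a local isomorphism identifies local rings -/
theorem identifiesLocalRings_of_isLocalIso (R S : Type u) [CommRing R] [CommRing S] [Algebra R S]
    [Algebra.IsLocalIso R S] : EtPBC.IdentifiesLocalRings R S := by
  intro q
  obtain ⟨g, hgq, hg⟩ := Algebra.IsLocalIso.exists_notMem_isStandardOpenImmersion (R := R) q.asIdeal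
  obtain ⟨r, hr⟩ := hg.exists_away
  set f := algebraMap R S with hf
  set φ := algebraMap S (Localization.Away g) with hφ
  set ψ := algebraMap R (Localization.Away g) with hψ
  have hψφ : ∀ a, ψ a = φ (f a) := fun a => IsScalarTower.algebraMap_apply R S _ a
  -- basic facts
  have hRsurj : ∀ s' : Localization.Away g, ∃ (n : ℕ) (v : R), s' * ψ r ^ n = ψ v :=
    fun s' => IsLocalization.Away.surj r s'
  have hRzero : ∀ v : R, ψ v = 0 → ∃ m : ℕ, r ^ m * v = 0 := by
    intro v hv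
    obtain ⟨⟨_, m, rfl⟩, hm⟩ := (IsLocalization.map_eq_zero_iff (Submonoid.powers r) _ v).mp hv
    exact ⟨m, hm⟩
  have hSzero : ∀ s : S, φ s = 0 → ∃ m : ℕ, g ^ m * s = 0 := by
    intro s hs
    obtain ⟨⟨_, m, rfl⟩, hm⟩ := (IsLocalization.map_eq_zero_iff (Submonoid.powers g) _ s).mp hs
    exact ⟨m, hm⟩
  have hSeq : ∀ s s' : S, φ s = φ s' → ∃ m : ℕ, g ^ m * s = g ^ m * s' := by
    intro s s' h
    obtain ⟨m, hm⟩ := hSzero (s - s') (by rw [map_sub, h, sub_self])
    exact ⟨m, by rw [mul_sub, sub_eq_zero] at hm; exact hm⟩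
  have hgpow : ∀ m : ℕ, g ^ m ∉ q.asIdeal := fun m h => hgq (q.2.mem_of_pow_mem _ h)
  -- `f r ∉ q`
  have hfr : f r ∉ q.asIdeal := by
    intro hmem
    have hu : IsUnit (ψ r) := IsLocalization.Away.algebraMap_isUnit r
    obtain ⟨s'', hs''⟩ := hu.exists_right_inv
    obtain ⟨n, s, hs⟩ := IsLocalization.Away.surj g s''
    have h1 : φ (f r * s) = φ (g ^ n) := by
      rw [map_mul, ← hψφ, ← hs, ← mul_assoc, hs'', one_mul, map_pow]
    obtain ⟨m, hm⟩ := hSeq _ _ h1
    have h2 : g ^ m * g ^ n ∈ q.asIdeal := by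
      rw [← hm]
      exact Ideal.mul_mem_left _ _ (Ideal.mul_mem_right _ _ hmem)
    rw [← pow_add] at h2
    exact hgpow _ h2
  have hfrpow : ∀ m : ℕ, f r ^ m ∉ q.asIdeal := fun m h => hfr (q.2.mem_of_pow_mem _ h)
  -- key: if `φ u * ψ r ^ n = ψ v` with `u ∉ q` then `f v ∉ q`
  have hkey : ∀ (u : S) (n : ℕ) (v : R), u ∉ q.asIdeal → φ u * ψ r ^ n = ψ v →
      f v ∉ q.asIdeal := by
    intro u n v hu huv hmem
    have h1 : φ (u * f r ^ n) = φ (f v) := by
      rw [map_mul, map_pow, ← hψφ, ← hψφ, huv]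
    obtain ⟨m, hm⟩ := hSeq _ _ h1
    have h2 : g ^ m * (u * f r ^ n) ∈ q.asIdeal := by
      rw [hm]
      exact Ideal.mul_mem_left _ _ hmem
    rcases q.2.mem_or_mem h2 with h3 | h3
    · exact hgpow _ h3
    · rcases q.2.mem_or_mem h3 with h4 | h4
      · exact hu h4
      · exact hfrpow _ h4
  constructor
  · rw [injective_iff_map_eq_zero]
    intro z hz
    obtain ⟨a, s, rfl⟩ := IsLocalization.exists_mk'_eq (q.asIdeal.comap f).primeCompl z
    rw [Localization.localRingHom_mk', IsLocalization.mk'_eq_zero_iff] at hz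
    obtain ⟨⟨u, hu⟩, hua⟩ := hz
    have huq : u ∉ q.asIdeal := hu
    change u * f a = 0 at hua
    obtain ⟨n, v, hv⟩ := hRsurj (φ u)
    have hva : ψ (v * a) = 0 := by
      rw [map_mul, ← hv, hψφ a, mul_right_comm, ← map_mul, hua, map_zero, zero_mul]
    obtain ⟨m, hm⟩ := hRzero _ hva
    rw [IsLocalization.mk'_eq_zero_iff]
    refine ⟨⟨r ^ m * v, ?_⟩, ?_⟩
    · change _ ∉ q.asIdeal.comap f
      rw [Ideal.mem_comap, map_mul, map_pow]
      exact q.2.mul_notMem (hfrpow m) (hkey u n v huq hv)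
    · change r ^ m * v * a = 0
      rw [mul_assoc]
      exact hm
  · intro z'
    obtain ⟨b, ⟨b', hb'⟩, rfl⟩ := IsLocalization.exists_mk'_eq q.asIdeal.primeCompl z'
    have hb'q : b' ∉ q.asIdeal := hb'
    obtain ⟨n, a₁, ha₁⟩ := hRsurj (φ b)
    obtain ⟨n', a₂, ha₂⟩ := hRsurj (φ b')
    have hs : a₂ * r ^ n ∈ (q.asIdeal.comap f).primeCompl := by
      change _ ∉ q.asIdeal.comap f
      rw [Ideal.mem_comap, map_mul, map_pow]
      exact q.2.mul_notMem (hkey b' n' a₂ hb'q ha₂) (hfrpow n)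
    refine ⟨IsLocalization.mk' _ (a₁ * r ^ n') ⟨a₂ * r ^ n, hs⟩, ?_⟩
    rw [Localization.localRingHom_mk', IsLocalization.eq]
    have h1 : φ (b' * f (a₁ * r ^ n')) = φ (f (a₂ * r ^ n) * b) := by
      simp only [map_mul, map_pow, ← hψφ]
      rw [← ha₁, ← ha₂]
      ring
    obtain ⟨m, hm⟩ := hSeq _ _ h1
    exact ⟨⟨g ^ m, hgpow m⟩, hm⟩

end Groth.Agent.Lib.Helper36.IndZar
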