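import Mathlib
import Groth.Prelude.Def_PBC
import Groth.Agent.Lib.Helper36.IndZarLocal

set_option autoImplicit false
set_option linter.unusedSectionVars false
universe u

namespace Groth.Agent.Lib.Helper36.IndZar

open Topology CategoryTheory CategoryTheory.Limits

/-- elementary unpacking of `IsIndZariski` -/
theorem exists_elementary (A B : Type u) [CommRing A] [CommRing B] [Algebra A B]
    (h : EtPBC.IsIndZariski A B) :
    ∃ (J : Type u) (_ : SmallCategory J) (_ : IsFiltered J) (Bj : J → Type u)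
      (_ : ∀ j, CommRing (Bj j)) (_ : ∀ j, Algebra A (Bj j))
      (ι : ∀ j, Bj j →ₐ[A] B) (tr : ∀ {j k : J}, (j ⟶ k) → (Bj j →ₐ[A] Bj k)),
      (∀ j, Algebra.IsLocalIso A (Bj j)) ∧
      (∀ {j k : J} (f : j ⟶ k) (y : Bj j), ι k (tr f y) = ι j y) ∧
      (∀ b : B, ∃ j y, ι j y = b) ∧
      (∀ j (y : Bj j), ι j y = 0 → ∃ (k : J) (f : j ⟶ k), tr f y = 0) := by
  classical
  obtain ⟨J, _, _, D, c, hc, hD, ⟨e⟩⟩ := h
  have : IsConnected J := IsFiltered.isConnected J
  let F : J ⥤ CommRingCat.{u} := D ⋙ Under.forget _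
  let cF : Cocone F := (Under.forget _).mapCocone c
  have hcF : IsColimit cF := isColimitOfPreserves (Under.forget _) hc
  let alg : ∀ j, Algebra A ↑(D.obj j).right := fun j => (D.obj j).hom.hom.toAlgebra
  have hcomm : ∀ j, (D.obj j).hom ≫ ((c.ι.app j).right ≫ e.hom.right) =
      CommRingCat.ofHom (algebraMap A B) := by
    intro j
    rw [← Category.assoc, Under.w, Under.w]
    rfl
  let ι : ∀ j, ↑(D.obj j).right →ₐ[A] B := fun j =>
    { toRingHom := ((c.ι.app j).right ≫ e.hom.right).hom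
      commutes' := fun r => ConcreteCategory.congr_hom (hcomm j) r }
  have hι : ∀ j (y : ↑(D.obj j).right), ι j y = e.hom.right.hom ((cF.ι.app j).hom y) :=
    fun j y => rfl
  have hinj : Function.Injective e.hom.right.hom := by
    intro x y hxy
    have h1 := congrArg e.inv.right.hom hxy
    have h2 : ∀ z, e.inv.right.hom (e.hom.right.hom z) = z := by
      intro z
      have := ConcreteCategory.congr_hom (congrArg CommaMorphism.right e.hom_inv_id) z
      exact this
    rwa [h2, h2] at h1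
  have hw : ∀ {j k : J} (f : j ⟶ k), (D.obj j).hom ≫ (D.map f).right = (D.obj k).hom :=
    fun f => Under.w (D.map f)
  let tr : ∀ {j k : J}, (j ⟶ k) → (↑(D.obj j).right →ₐ[A] ↑(D.obj k).right) := fun {j k} f =>
    { toRingHom := (D.map f).right.hom
      commutes' := fun r => ConcreteCategory.congr_hom (hw f) r }
  refine ⟨J, inferInstance, inferInstance, fun j => ↑(D.obj j).right, inferInstance, alg, ι,
    tr, hD, ?_, ?_, ?_⟩
  · intro j k f y
    rw [hι, hι]
    congr 1
    exact ConcreteCategory.congr_hom (cF.w f) y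
  · intro b
    obtain ⟨j, y, hy⟩ := Concrete.isColimit_exists_rep F hcF (e.inv.right.hom b)
    refine ⟨j, y, ?_⟩
    rw [hι]
    have h1 : (cF.ι.app j).hom y = e.inv.right.hom b := hy
    rw [h1]
    exact ConcreteCategory.congr_hom (congrArg CommaMorphism.right e.inv_hom_id) b
  · intro j y hy
    rw [hι] at hy
    have hy0 : (cF.ι.app j).hom y = (cF.ι.app j).hom (0 : ↑(F.obj j)) := by
      apply hinj
      refine hy.trans ?_
      have h0 : (cF.ι.app j).hom (0 : ↑(F.obj j)) = 0 := map_zero _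
      rw [h0]
      exact (map_zero e.hom.right.hom).symm
    obtain ⟨k, f, g, hfg⟩ := Concrete.isColimit_exists_of_rep_eq F hcF y (0 : ↑(F.obj j)) hy0
    refine ⟨k, f, ?_⟩
    have : (F.map f).hom y = (F.map g).hom 0 := hfg
    show (D.map f).right.hom y = 0
    exact this.trans (map_zero _)

theorem localRingHom_injective_iff {R S : Type*} [CommRing R] [CommRing S] (f : R →+* S)
    (q : Ideal S) [q.IsPrime] :
    Function.Injective (Localization.localRingHom (q.comap f) q f rfl) ↔
      ∀ a : R, (∃ w, w ∉ q ∧ w * f a = 0) → ∃ s, f s ∉ q ∧ s * a = 0 := by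
  constructor
  · intro h a ⟨w, hw, hwa⟩
    have h1 : Localization.localRingHom (q.comap f) q f rfl
        (IsLocalization.mk' (Localization.AtPrime (q.comap f)) a (1 : (q.comap f).primeCompl)) = 0 := by
      rw [Localization.localRingHom_mk', IsLocalization.mk'_eq_zero_iff]
      exact ⟨⟨w, hw⟩, hwa⟩
    have h2 := h (h1.trans (map_zero _).symm)
    rw [IsLocalization.mk'_eq_zero_iff] at h2
    obtain ⟨⟨s, hs⟩, hsa⟩ := h2
    exact ⟨s, hs, hsa⟩
  · intro h
    rw [injective_iff_map_eq_zero]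
    intro z hz
    obtain ⟨a, u, rfl⟩ := IsLocalization.exists_mk'_eq (q.comap f).primeCompl z
    rw [Localization.localRingHom_mk', IsLocalization.mk'_eq_zero_iff] at hz
    obtain ⟨⟨w, hw⟩, hwa⟩ := hz
    obtain ⟨s, hs, hsa⟩ := h a ⟨w, hw, hwa⟩
    rw [IsLocalization.mk'_eq_zero_iff]
    exact ⟨⟨s, hs⟩, hsa⟩

theorem localRingHom_surjective_iff {R S : Type*} [CommRing R] [CommRing S] (f : R →+* S)
    (q : Ideal S) [q.IsPrime] :
    Function.Surjective (Localization.localRingHom (q.comap f) q f rfl) ↔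
      ∀ b s : S, s ∉ q → ∃ (a u : R) (w : S), f u ∉ q ∧ w ∉ q ∧ w * (s * f a) = w * (f u * b) := by
  constructor
  · intro h b s hs
    obtain ⟨z, hz⟩ := h (IsLocalization.mk' _ b (⟨s, hs⟩ : q.primeCompl))
    obtain ⟨a, ⟨u, hu⟩, rfl⟩ := IsLocalization.exists_mk'_eq (q.comap f).primeCompl z
    rw [Localization.localRingHom_mk', IsLocalization.eq] at hz
    obtain ⟨⟨w, hw⟩, hwe⟩ := hz
    exact ⟨a, u, w, hu, hw, hwe⟩
  · intro h z'
    obtain ⟨b, ⟨s, hs⟩, rfl⟩ := IsLocalization.exists_mk'_eq q.primeCompl z'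
    obtain ⟨a, u, w, hu, hw, hwe⟩ := h b s hs
    refine ⟨IsLocalization.mk' _ a (⟨u, hu⟩ : (q.comap f).primeCompl), ?_⟩
    rw [Localization.localRingHom_mk', IsLocalization.eq]
    exact ⟨⟨w, hw⟩, hwe⟩


/-- an ind-Zariski ring map identifies local rings -/
theorem identifiesLocalRings_of_isIndZariski (A B : Type u) [CommRing A] [CommRing B] [Algebra A B]
    (h : EtPBC.IsIndZariski A B) : EtPBC.IdentifiesLocalRings A B := by
  classical
  obtain ⟨J, _, _, Bj, _, _, ι, tr, hloc, hιtr, hsurj, hzero⟩ := exists_elementary A B h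
  intro q
  -- the primes at the stages
  let qj : ∀ j, PrimeSpectrum (Bj j) := fun j => PrimeSpectrum.comap (ι j).toRingHom q
  have hqj : ∀ j (y : Bj j), y ∈ (qj j).asIdeal ↔ ι j y ∈ q.asIdeal := fun j y => Iff.rfl
  have hG1 : ∀ j, Function.Bijective (Localization.localRingHom
      ((qj j).asIdeal.comap (algebraMap A (Bj j))) (qj j).asIdeal (algebraMap A (Bj j)) rfl) :=
    fun j => by
      have := hloc j
      exact identifiesLocalRings_of_isLocalIso A (Bj j) (qj j)
  -- two elements at a common stage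
  have hrep₂ : ∀ b s : B, ∃ (j : J) (y t : Bj j), ι j y = b ∧ ι j t = s := by
    intro b s
    obtain ⟨j₁, y₁, hy₁⟩ := hsurj b
    obtain ⟨j₂, y₂, hy₂⟩ := hsurj s
    refine ⟨IsFiltered.max j₁ j₂, tr (IsFiltered.leftToMax j₁ j₂) y₁,
      tr (IsFiltered.rightToMax j₁ j₂) y₂, ?_, ?_⟩
    · rw [hιtr, hy₁]
    · rw [hιtr, hy₂]
  constructor
  · rw [localRingHom_injective_iff]
    rintro a ⟨w, hwq, hwa⟩
    obtain ⟨j, v, hv⟩ := hsurj w
    have h0 : ι j (v * algebraMap A (Bj j) a) = 0 := by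
      rw [map_mul, hv, AlgHom.commutes, hwa]
    obtain ⟨k, f, hk⟩ := hzero j _ h0
    rw [map_mul, AlgHom.commutes] at hk
    have hv' : tr f v ∉ (qj k).asIdeal := by
      rw [hqj, hιtr, hv]
      exact hwq
    obtain ⟨s, hs, hsa⟩ := (localRingHom_injective_iff _ _).1 (hG1 k).1 a ⟨tr f v, hv', hk⟩
    refine ⟨s, ?_, hsa⟩
    rw [hqj, AlgHom.commutes] at hs
    exact hs
  · rw [localRingHom_surjective_iff]
    intro b s hs
    obtain ⟨j, y, t, hy, ht⟩ := hrep₂ b s
    have htq : t ∉ (qj j).asIdeal := by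
      rw [hqj, ht]
      exact hs
    obtain ⟨a, u, w, hu, hw, hwe⟩ := (localRingHom_surjective_iff _ _).1 (hG1 j).2 y t htq
    refine ⟨a, u, ι j w, ?_, ?_, ?_⟩
    · rw [hqj, AlgHom.commutes] at hu
      exact hu
    · rw [hqj] at hw
      exact hw
    · have := congrArg (ι j) hwe
      simp only [map_mul, AlgHom.commutes, hy, ht] at this
      exact this

end Groth.Agent.Lib.Helper36.IndZar
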