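import Mathlib

namespace Groth.Agent.Lib.Helper36.WE

open TensorProduct

section
variable (A : Type*) (B : Type*) [CommRing A] [CommRing B] [Algebra A B]
variable (M N : Type*) [AddCommGroup M] [AddCommGroup N] [Module A M] [Module B M]
  [IsScalarTower A B M] [Module A N] [Module B N] [IsScalarTower A B N]

/-- the action of `B ⊗ B` on `M ⊗ N` -/
noncomputable def rho : B ⊗[A] B →ₐ[A] Module.End A (M ⊗[A] N) :=
  (Module.endTensorEndAlgHom (R := A) (S := A) (A := A) (M := M) (N := N)).comp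
    (Algebra.TensorProduct.map (Algebra.lsmul A A M) (Algebra.lsmul A A N))

lemma rho_tmul (b₁ b₂ : B) (m : M) (n : N) :
    rho A B M N (b₁ ⊗ₜ[A] b₂) (m ⊗ₜ[A] n) = (b₁ • m) ⊗ₜ[A] (b₂ • n) := by
  simp [rho, Module.endTensorEndAlgHom_apply]

/-- `M ⊗[A] N` as a module over `B ⊗[A] B`. -/
@[instance_reducible]
noncomputable def modC : Module (B ⊗[A] B) (M ⊗[A] N) :=
  Module.compHom _ (rho A B M N).toRingHom

/-- `B` as an algebra over `B ⊗[A] B` via multiplication. -/
@[instance_reducible]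
noncomputable def algC : Algebra (B ⊗[A] B) B :=
  (Algebra.TensorProduct.lmul' A (S := B)).toRingHom.toAlgebra

attribute [local instance] modC algC

lemma smul_def (c : B ⊗[A] B) (x : M ⊗[A] N) : c • x = rho A B M N c x := rfl

lemma tmul_smul_tmul (b₁ b₂ : B) (m : M) (n : N) :
    (b₁ ⊗ₜ[A] b₂) • (m ⊗ₜ[A] n) = (b₁ • m) ⊗ₜ[A] (b₂ • n) := rho_tmul A B M N b₁ b₂ m n

lemma smulC_def (c : B ⊗[A] B) (b : B) :
    c • b = Algebra.TensorProduct.lmul' A c * b := rfl

/-- `ψ : M ⊗[B] N → B ⊗[C] (M ⊗[A] N)`, `m ⊗ n ↦ 1 ⊗ (m ⊗ n)`. -/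
noncomputable def psi : M ⊗[B] N →ₗ[B] B ⊗[B ⊗[A] B] (M ⊗[A] N) :=
  TensorProduct.lift (LinearMap.mk₂ B (fun m n => (1 : B) ⊗ₜ[B ⊗[A] B] (m ⊗ₜ[A] n))
    (fun m₁ m₂ n => by rw [add_tmul, tmul_add])
    (fun b m n => by
      have : (b • m) ⊗ₜ[A] n = (b ⊗ₜ[A] (1 : B)) • (m ⊗ₜ[A] n) := by
        rw [tmul_smul_tmul, one_smul]
      rw [this, ← TensorProduct.smul_tmul, smulC_def, TensorProduct.smul_tmul']
      simp)
    (fun m n₁ n₂ => by rw [tmul_add, tmul_add])
    (fun b m n => by
      have : m ⊗ₜ[A] (b • n) = ((1 : B) ⊗ₜ[A] b) • (m ⊗ₜ[A] n) := by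
        rw [tmul_smul_tmul, one_smul]
      rw [this, ← TensorProduct.smul_tmul, smulC_def, TensorProduct.smul_tmul']
      simp))

@[simp]
lemma psi_tmul (m : M) (n : N) :
    psi A B M N (m ⊗ₜ[B] n) = (1 : B) ⊗ₜ[B ⊗[A] B] (m ⊗ₜ[A] n) := rfl

/-- the projection `M ⊗[A] N → M ⊗[B] N`. -/
noncomputable def pi : M ⊗[A] N →ₗ[A] M ⊗[B] N := TensorProduct.mapOfCompatibleSMul B A A M N

@[simp]
lemma pi_tmul (m : M) (n : N) : pi A B M N (m ⊗ₜ[A] n) = m ⊗ₜ[B] n :=
  TensorProduct.mapOfCompatibleSMul_tmul ..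

lemma pi_smul (c : B ⊗[A] B) (x : M ⊗[A] N) :
    pi A B M N (c • x) = (Algebra.TensorProduct.lmul' A c) • pi A B M N x := by
  induction c using TensorProduct.induction_on with
  | zero => simp
  | add c₁ c₂ h₁ h₂ => rw [add_smul, map_add, map_add, add_smul, h₁, h₂]
  | tmul b₁ b₂ =>
    induction x using TensorProduct.induction_on with
    | zero => simp
    | add x₁ x₂ h₁ h₂ => rw [smul_add, map_add, map_add, smul_add, h₁, h₂]
    | tmul m n =>
      rw [tmul_smul_tmul, pi_tmul, pi_tmul, Algebra.TensorProduct.lmul'_apply_tmul,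
        ← TensorProduct.smul_tmul, TensorProduct.smul_tmul', smul_smul, mul_comm]

/-- `φ : B ⊗[C] (M ⊗[A] N) → M ⊗[B] N`, `b ⊗ x ↦ b • π x`. -/
noncomputable def phi : B ⊗[B ⊗[A] B] (M ⊗[A] N) →+ M ⊗[B] N :=
  TensorProduct.liftAddHom
    (AddMonoidHom.mk' (fun b : B => (DistribSMul.toAddMonoidHom (M ⊗[B] N) b).comp
      (pi A B M N).toAddMonoidHom) (fun b b' => by ext x; simp [add_smul]))
    (fun c b x => by
      simp only [AddMonoidHom.mk'_apply, AddMonoidHom.coe_comp, Function.comp_apply,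
        LinearMap.toAddMonoidHom_coe, DistribSMul.toAddMonoidHom_apply]
      rw [pi_smul, smulC_def, mul_smul, smul_comm])

@[simp]
lemma phi_tmul (b : B) (x : M ⊗[A] N) :
    phi A B M N (b ⊗ₜ[B ⊗[A] B] x) = b • pi A B M N x := rfl

lemma phi_psi (x : M ⊗[B] N) : phi A B M N (psi A B M N x) = x := by
  induction x using TensorProduct.induction_on with
  | zero => simp
  | add x₁ x₂ h₁ h₂ => rw [map_add, map_add, h₁, h₂]
  | tmul m n => simp

lemma psi_injective : Function.Injective (psi A B M N) :=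
  Function.LeftInverse.injective (phi_psi A B M N)


variable {N} {N' : Type*} [AddCommGroup N'] [Module A N'] [Module B N'] [IsScalarTower A B N']

/-- `M ⊗[A] g` as a `B ⊗[A] B`-linear map. -/
noncomputable def jC (g : N' →ₗ[B] N) : (M ⊗[A] N') →ₗ[B ⊗[A] B] (M ⊗[A] N) where
  toFun := (g.restrictScalars A).lTensor M
  map_add' := map_add _
  map_smul' c x := by
    induction c using TensorProduct.induction_on with
    | zero => simp
    | add c₁ c₂ h₁ h₂ =>
      simp only [RingHom.id_apply] at h₁ h₂ ⊢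
      rw [add_smul, map_add, h₁, h₂, add_smul]
    | tmul b₁ b₂ =>
      induction x using TensorProduct.induction_on with
      | zero => simp
      | add x₁ x₂ h₁ h₂ =>
        simp only [RingHom.id_apply] at h₁ h₂ ⊢
        rw [smul_add, map_add, h₁, h₂, map_add, smul_add]
      | tmul m n =>
        simp [tmul_smul_tmul]

@[simp]
lemma jC_apply (g : N' →ₗ[B] N) (x : M ⊗[A] N') :
    jC A B M g x = (g.restrictScalars A).lTensor M x := rfl

lemma square (g : N' →ₗ[B] N) (x : M ⊗[B] N') :
    (jC A B M g).lTensor B (psi A B M N' x) = psi A B M N (g.lTensor M x) := by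
  induction x using TensorProduct.induction_on with
  | zero => simp
  | add x₁ x₂ h₁ h₂ => rw [map_add, map_add, h₁, h₂, map_add, map_add]
  | tmul m n => simp

end

/-- **Stacks 092D (2)**: if `B ⊗[A] B → B` is flat, then any `B`-module which is flat over `A`
is flat over `B`. -/
theorem flat_of_flat_lmul' (A : Type*) (B : Type*) [CommRing A] [CommRing B] [Algebra A B]
    (h : (Algebra.TensorProduct.lmul' A (S := B)).toRingHom.Flat)
    (M : Type*) [AddCommGroup M] [Module A M] [Module B M] [IsScalarTower A B M]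
    [Module.Flat A M] : Module.Flat B M := by
  rw [Module.Flat.iff_lTensor_preserves_injective_linearMap]
  intro N' N _ _ _ _ g hg
  let : Module A N := Module.compHom N (algebraMap A B)
  let : Module A N' := Module.compHom N' (algebraMap A B)
  have : IsScalarTower A B N := IsScalarTower.of_algebraMap_smul fun _ _ => rfl
  have : IsScalarTower A B N' := IsScalarTower.of_algebraMap_smul fun _ _ => rfl
  let := modC A B M N
  let := modC A B M N'
  let := algC A B
  have : Module.Flat (B ⊗[A] B) B := h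
  have hj : Function.Injective (jC A B M g) :=
    Module.Flat.lTensor_preserves_injective_linearMap (M := M) (g.restrictScalars A) hg
  have hj' : Function.Injective ((jC A B M g).lTensor B) :=
    Module.Flat.lTensor_preserves_injective_linearMap (M := B) (jC A B M g) hj
  intro x y hxy
  apply psi_injective A B M N'
  apply hj'
  rw [square, square, hxy]

end Groth.Agent.Lib.Helper36.WE
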