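import Mathlib
import Groth.Agent.Lib.Helper36.WeaklyEtale

set_option autoImplicit false
universe u

namespace Groth.Agent.Lib.Helper36.WE

open TensorProduct

/-- If `f : D → E` is surjective and `g ∘ f` is flat, then `g` is flat. -/
theorem flat_of_comp_surjective {D E C : Type*} [CommRing D] [CommRing E] [CommRing C]
    (f : D →+* E) (g : E →+* C) (hf : Function.Surjective f) (h : (g.comp f).Flat) : g.Flat := by
  algebraize [f, g, g.comp f]
  have hbij : Function.Bijective (Algebra.TensorProduct.lmul' D (S := E)) :=
    LinearMap.mul'_bijective_of_surjective (R := D) (A := E) hf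
  exact flat_of_flat_lmul' D E (RingHom.Flat.of_bijective hbij) C

theorem weaklyEtale_of_algHom (A B C : Type*) [CommRing A] [CommRing B] [CommRing C]
    [Algebra A B] [Algebra A C] [Algebra B C] [IsScalarTower A B C] [Algebra.WeaklyEtale A B]
    [Algebra.WeaklyEtale A C] : Algebra.WeaklyEtale B C := by
  have hflat : Module.Flat B C := flat_of_flat_lmul' A B (Algebra.WeaklyEtale.flat_lmul' A B) C
  refine ⟨hflat, ?_⟩
  let q : C ⊗[A] C →ₐ[A] C ⊗[B] C := Algebra.TensorProduct.mapOfCompatibleSMul B A A C C
  have hq : Function.Surjective q := Algebra.TensorProduct.mapOfCompatibleSMul_surjective B A A C C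
  apply flat_of_comp_surjective q.toRingHom _ hq
  have : (Algebra.TensorProduct.lmul' B (S := C)).toRingHom.comp q.toRingHom =
      (Algebra.TensorProduct.lmul' A (S := C)).toRingHom := by
    apply RingHom.ext
    intro x
    induction x using TensorProduct.induction_on with
    | zero => simp
    | add x y hx hy => rw [map_add, map_add, hx, hy]
    | tmul c₁ c₂ => simp [q]
  rw [this]
  exact Algebra.WeaklyEtale.flat_lmul' A C

end Groth.Agent.Lib.Helper36.WE
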