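import Mathlib
import Groth.Agent.Lib.Helper36.WeaklyEtaleHom

set_option autoImplicit false
universe u

namespace Groth.Agent.Lib.Helper36.WE

open TensorProduct

/-- A localization is weakly étale. -/
theorem weaklyEtale_of_isLocalization {R : Type*} [CommRing R] (M : Submonoid R) (A : Type*)
    [CommRing A] [Algebra R A] [IsLocalization M A] : Algebra.WeaklyEtale R A := by
  have hflat : Module.Flat R A := IsLocalization.flat A M
  refine ⟨hflat, ?_⟩
  have := IsLocalization.tensorProduct_compatibleSMul M A A A
  exact RingHom.Flat.of_bijective (Algebra.TensorProduct.lmulEquiv R A).bijective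

/-- Weakly étale passes to localizations of source and target. -/
theorem weaklyEtale_of_isLocalization_of_weaklyEtale {R S : Type*} [CommRing R] [CommRing S]
    [Algebra R S] [Algebra.WeaklyEtale R S]
    (M : Submonoid R) (A : Type*) [CommRing A] [Algebra R A] [IsLocalization M A]
    (N : Submonoid S) (B : Type*) [CommRing B] [Algebra S B] [IsLocalization N B]
    [Algebra R B] [Algebra A B] [IsScalarTower R S B] [IsScalarTower R A B] :
    Algebra.WeaklyEtale A B := by
  have h1 : Algebra.WeaklyEtale R A := weaklyEtale_of_isLocalization M A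
  have h2 : Algebra.WeaklyEtale S B := weaklyEtale_of_isLocalization N B
  have h3 : Algebra.WeaklyEtale R B := Algebra.WeaklyEtale.trans R S B
  exact weaklyEtale_of_algHom R A B

/-- Local-global principle for flatness of a ring map, in terms of the target. -/
theorem flat_of_forall_maximal_comp {C S : Type*} [CommRing C] [CommRing S] (ψ : C →+* S)
    (h : ∀ (P : Ideal S) [P.IsMaximal],
      ((algebraMap S (Localization.AtPrime P)).comp ψ).Flat) : ψ.Flat := by
  algebraize_only [ψ]
  rw [RingHom.Flat]
  apply Module.flat_of_isLocalized_maximal S S (fun P ↦ Localization.AtPrime P)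
    (fun P ↦ Algebra.linearMap S _)
  intro P _
  have := h P
  dsimp only [RingHom.Flat] at this
  convert! this; ext
  apply Algebra.smul_def

/-- Step lemma: if the multiplication map of the local rings is flat, then the local ring of the
target is flat over `S ⊗[R] S`. -/
theorem flat_comp_lmul'_of_flat_lmul'_local {R S A B : Type*} [CommRing R] [CommRing S]
    [CommRing A] [CommRing B] [Algebra R S] [Algebra R A] [Algebra A B] [Algebra S B] [Algebra R B]
    [IsScalarTower R A B] [IsScalarTower R S B]
    (M : Submonoid R) [IsLocalization M A] [Module.Flat S B]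
    (h : (Algebra.TensorProduct.lmul' A (S := B)).toRingHom.Flat) :
    ((algebraMap S B).comp (Algebra.TensorProduct.lmul' R (S := S)).toRingHom).Flat := by
  let ι : S →ₐ[R] B := IsScalarTower.toAlgHom R S B
  have hι : ι.Flat := by
    change (algebraMap S B).Flat
    rw [RingHom.flat_algebraMap_iff]
    infer_instance
  let m : S ⊗[R] S →ₐ[R] B ⊗[R] B := Algebra.TensorProduct.map ι ι
  have hm : m.toRingHom.Flat := RingHom.Flat.tensorProductMap hι hι
  let e : B ⊗[R] B ≃ₐ[A] B ⊗[A] B := (IsLocalization.algebraTensorEquiv M A B B).symm
  have he : (e : B ⊗[R] B →+* B ⊗[A] B).Flat := RingHom.Flat.of_bijective e.bijective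
  have key : (algebraMap S B).comp (Algebra.TensorProduct.lmul' R (S := S)).toRingHom =
      (Algebra.TensorProduct.lmul' A (S := B)).toRingHom.comp
        ((e : B ⊗[R] B →+* B ⊗[A] B).comp m.toRingHom) := by
    apply RingHom.ext
    intro x
    induction x using TensorProduct.induction_on with
    | zero => simp
    | add x y hx hy => rw [map_add, map_add, hx, hy]
    | tmul s₁ s₂ =>
      have hsymm : ∀ b₁ b₂ : B, e (b₁ ⊗ₜ[R] b₂) = b₁ ⊗ₜ[A] b₂ := fun b₁ b₂ => by
        simp only [e]
        rw [AlgEquiv.symm_apply_eq]
        rfl
      simp [m, ι, hsymm]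
  rw [key]
  exact (hm.comp he).comp h

end Groth.Agent.Lib.Helper36.WE
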