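import Mathlib
import Groth.Agent.Lib.Helper36.WeaklyEtaleHom
import Groth.Agent.Lib.Helper36.WeaklyEtaleLocal

set_option autoImplicit false
set_option linter.style.haveILetI false
universe u

namespace Groth.Agent.Lib.Helper36.Olivier

open TensorProduct IsLocalRing Polynomial Groth.Agent.Lib.Helper36.WE

/-- A nontrivial flat algebra over a domain has injective structure map. -/
theorem algebraMap_injective_of_flat (V W : Type*) [CommRing V] [IsDomain V] [CommRing W]
    [Nontrivial W] [Algebra V W] [Module.Flat V W] : Function.Injective (algebraMap V W) := by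
  rw [injective_iff_map_eq_zero]
  intro v hv
  by_contra hne
  have hreg : IsSMulRegular W v :=
    Module.Flat.isSMulRegular_of_nonZeroDivisors (mem_nonZeroDivisors_of_ne_zero hne)
  have h1 : v • (1 : W) = v • (0 : W) := by
    rw [smul_zero, Algebra.smul_def, mul_one, hv]
  exact one_ne_zero (hreg h1)

/-- A local ring which is weakly étale over a valuation ring is a valuation ring. -/
theorem valuationRing_of_weaklyEtale (V W : Type u) [CommRing V] [IsDomain V] [ValuationRing V]
    [CommRing W] [IsLocalRing W] [Algebra V W] [Algebra.WeaklyEtale V W] :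
    ∃ _ : IsDomain W, ValuationRing W := by
  have hinj : Function.Injective (algebraMap V W) := algebraMap_injective_of_flat V W
  -- a prime of `W` lying over `0`
  let T : Submonoid W := Algebra.algebraMapSubmonoid W (nonZeroDivisors V)
  have hdisj : Disjoint ((⊥ : Ideal W) : Set W) T := by
    rw [Set.disjoint_left]
    rintro x hx ⟨v, hv, rfl⟩
    have h0 : algebraMap V W v = 0 := hx
    have : v = 0 := hinj (by rw [h0, map_zero])
    exact (nonZeroDivisors.ne_zero hv) this
  obtain ⟨𝔭, h𝔭, -, h𝔭T⟩ := Ideal.exists_le_prime_disjoint (⊥ : Ideal W) T hdisj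
  let D := W ⧸ 𝔭
  let F := FractionRing D
  let f : W →+* F := (algebraMap D F).comp (Ideal.Quotient.mk 𝔭)
  obtain ⟨Av, hAv, hloc⟩ := IsLocalRing.exists_factor_valuationRing f
  let φ : W →+* Av.toSubring := f.codRestrict Av.toSubring hAv
  haveI : IsLocalRing Av.toSubring := inferInstanceAs (IsLocalRing Av)
  haveI : ValuationRing Av.toSubring := inferInstanceAs (ValuationRing Av)
  letI algWA : Algebra W Av.toSubring := φ.toAlgebra
  letI algVA : Algebra V Av.toSubring := (φ.comp (algebraMap V W)).toAlgebra
  haveI tower : IsScalarTower V W Av.toSubring := IsScalarTower.of_algebraMap_eq (fun _ => rfl)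
  haveI : IsLocalHom (algebraMap W Av.toSubring) := hloc
  -- `V → Av` is injective
  have hinjVA : Function.Injective (algebraMap V Av.toSubring) := by
    rw [injective_iff_map_eq_zero]
    intro v hv
    by_contra hne
    have h1 : f (algebraMap V W v) = 0 := congrArg Subtype.val hv
    have h2 : Ideal.Quotient.mk 𝔭 (algebraMap V W v) = 0 := by
      have : algebraMap D F (Ideal.Quotient.mk 𝔭 (algebraMap V W v)) = 0 := h1
      exact (IsFractionRing.injective D F) (by rw [this, map_zero])
    rw [Ideal.Quotient.eq_zero_iff_mem] at h2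
    exact Set.disjoint_left.mp h𝔭T h2 ⟨v, mem_nonZeroDivisors_of_ne_zero hne, rfl⟩
  -- hence `Av` is flat over `V`
  haveI flatVA : Module.Flat V Av.toSubring := by
    rw [Module.Flat.flat_iff_torsion_eq_bot_of_isBezout]
    rw [eq_bot_iff]
    rintro m ⟨⟨r, hr⟩, h⟩
    have h1 : algebraMap V Av.toSubring r * m = 0 := by
      rw [← Algebra.smul_def]; exact h
    rcases mul_eq_zero.mp h1 with h2 | h2
    · exact absurd (hinjVA (by rw [h2, map_zero])) (nonZeroDivisors.ne_zero hr)
    · exact h2
  -- hence `Av` is flat over `W`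
  haveI flatWA : Module.Flat W Av.toSubring :=
    flat_of_flat_lmul' V W (Algebra.WeaklyEtale.flat_lmul' V W) Av.toSubring
  haveI ff : Module.FaithfullyFlat W Av.toSubring := Module.FaithfullyFlat.of_flat_of_isLocalHom
  have hinjWA : Function.Injective (algebraMap W Av.toSubring) :=
    FaithfulSMul.algebraMap_injective _ _
  haveI hdom : IsDomain W := hinjWA.isDomain (algebraMap W Av.toSubring)
  refine ⟨hdom, ?_⟩
  have key : ∀ a b : W, algebraMap W Av.toSubring a ∣ algebraMap W Av.toSubring b → a ∣ b := by
    intro a b hab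
    have h1 : algebraMap W Av.toSubring b ∈
        (Ideal.span {a}).map (algebraMap W Av.toSubring) := by
      rw [Ideal.map_span, Set.image_singleton, Ideal.mem_span_singleton]
      exact hab
    have h2 : b ∈ ((Ideal.span {a}).map (algebraMap W Av.toSubring)).comap
        (algebraMap W Av.toSubring) := h1
    rw [Ideal.comap_map_eq_self_of_faithfullyFlat, Ideal.mem_span_singleton] at h2
    exact h2
  refine ValuationRing.iff_dvd_total.mpr ⟨fun a b => ?_⟩
  rcases ValuationRing.dvd_total (algebraMap W Av.toSubring a) (algebraMap W Av.toSubring b)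
    with h | h
  · exact Or.inl (key a b h)
  · exact Or.inr (key b a h)




/-- In a valuation ring, if `c` is a root of `p.scaleRoots v` with `p` monic and `v ≠ 0`, then
`v ∣ c` (valuation rings are integrally closed). -/
theorem dvd_of_scaleRoots_eval_eq_zero_valuationRing (W : Type*) [CommRing W] [IsDomain W]
    [ValuationRing W] (v c : W) (hv : v ≠ 0) (p : W[X]) (hp : p.Monic)
    (h : (p.scaleRoots v).eval c = 0) : v ∣ c := by
  rcases ValuationRing.dvd_total v c with hvc | ⟨t, ht⟩
  · exact hvc
  -- `v = c * t`
  have h1 : p.scaleRoots v = (p.scaleRoots t).scaleRoots c := by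
    rw [ht, mul_comm, scaleRoots_mul]
  have h2 : c ^ (p.scaleRoots t).natDegree * eval 1 (p.scaleRoots t) = 0 := by
    rw [← scaleRoots_eval_mul, mul_one, ← h1, h]
  have hc : c ≠ 0 := by
    rintro rfl
    exact hv (by rw [ht, zero_mul])
  rcases mul_eq_zero.mp h2 with h3 | h3
  · exact absurd (pow_eq_zero_iff (by
      intro hcon
      rw [hcon, pow_zero] at h3
      exact one_ne_zero h3) |>.mp h3) hc
  -- `eval 1 (p.scaleRoots t) = 1 + t * s`
  have hq : (p.scaleRoots t).Monic := (monic_scaleRoots_iff t).mpr hp
  have h4 : ∃ s, eval 1 (p.scaleRoots t) = 1 + t * s := by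
    rw [eval_eq_sum_range, Finset.sum_range_succ]
    have h5 : ∀ i ∈ Finset.range (p.scaleRoots t).natDegree,
        t ∣ (p.scaleRoots t).coeff i * 1 ^ i := by
      intro i hi
      rw [Finset.mem_range, natDegree_scaleRoots] at hi
      rw [one_pow, mul_one, coeff_scaleRoots]
      apply Dvd.dvd.mul_left
      exact dvd_pow_self t (by omega)
    obtain ⟨s, hs⟩ := Finset.dvd_sum h5
    refine ⟨s, ?_⟩
    rw [hs, hq.coeff_natDegree, one_pow, mul_one, add_comm]
  obtain ⟨s, hs⟩ := h4
  rw [hs] at h3
  have htu : IsUnit t := by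
    refine IsUnit.of_mul_eq_one (-s) ?_
    linear_combination -h3
  obtain ⟨u, rfl⟩ := htu
  refine ⟨↑u⁻¹, ?_⟩
  rw [ht, mul_assoc, Units.mul_inv, mul_one]

/-- Key integrality statement over a valuation ring: for a weakly étale algebra `C` over a
valuation ring `V`, `v ≠ 0` in `V`, if `c` is a root of `p.scaleRoots v` with `p` monic then
`v ∣ c` in `C`. -/
theorem dvd_of_scaleRoots_eval_eq_zero (V C : Type u) [CommRing V] [IsDomain V] [ValuationRing V]
    [CommRing C] [Algebra V C] [Algebra.WeaklyEtale V C] (v : V) (hv : v ≠ 0) (c : C)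
    (p : C[X]) (hp : p.Monic) (h : (p.scaleRoots (algebraMap V C v)).eval c = 0) :
    algebraMap V C v ∣ c := by
  rw [← Ideal.mem_span_singleton]
  apply Ideal.mem_of_localization_maximal
  intro P hP
  let W := Localization.AtPrime P
  haveI h1 : Algebra.WeaklyEtale C W := weaklyEtale_of_isLocalization P.primeCompl W
  haveI h2 : Algebra.WeaklyEtale V W := Algebra.WeaklyEtale.trans V C W
  obtain ⟨hdom, hval⟩ := valuationRing_of_weaklyEtale V W
  have hinj : Function.Injective (algebraMap V W) := algebraMap_injective_of_flat V W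
  rw [Ideal.map_span, Set.image_singleton, Ideal.mem_span_singleton]
  have hp' : (p.map (algebraMap C W)).Monic := hp.map _
  have h3 : ((p.map (algebraMap C W)).scaleRoots (algebraMap C W (algebraMap V C v))).eval
      (algebraMap C W c) = 0 := by
    rw [← map_scaleRoots _ _ _ (by rw [hp.leadingCoeff, map_one]; exact one_ne_zero),
      eval_map_apply, h, map_zero]
  refine dvd_of_scaleRoots_eval_eq_zero_valuationRing W _ _ ?_ _ hp' h3
  rw [← IsScalarTower.algebraMap_apply]
  intro h0
  exact hv (hinj (by rw [h0, map_zero]))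

end Groth.Agent.Lib.Helper36.Olivier
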