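import Mathlib
import Groth.Agent.Lib.Helper36.OlivierVal

/-!
# Weakly étale algebras over integrally closed rings (helper36)

`isIntegral_mem_range`: if `A → Ω` is a ring map to a field such that every element of `Ω` integral
over `A` lies in the image of `A`, and `B` is weakly étale over `A`, then every element of
`B ⊗[A] Ω` integral over `B` comes from `B`.
The proof reduces to valuation rings by Zorn's lemma.
-/

set_option autoImplicit false
set_option linter.style.haveILetI false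
universe u

namespace Groth.Agent.Lib.Helper36.Olivier

open TensorProduct Polynomial

section T

variable (A : Type*) [CommRing A] (Ω : Type*) [AddCommGroup Ω] [Module A Ω]
  (B : Type*) [AddCommGroup B] [Module A B]

/-- the image of `B ⊗ N` in `B ⊗ Ω` -/
def T (N : Submodule A Ω) : Submodule A (B ⊗[A] Ω) := LinearMap.range (N.subtype.lTensor B)

variable {A Ω B}

lemma tmul_mem_T {N : Submodule A Ω} (b : B) {n : Ω} (hn : n ∈ N) : b ⊗ₜ[A] n ∈ T A Ω B N :=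
  ⟨b ⊗ₜ[A] ⟨n, hn⟩, by simp⟩

lemma T_mono {N N' : Submodule A Ω} (h : N ≤ N') : T A Ω B N ≤ T A Ω B N' := by
  rintro _ ⟨y, rfl⟩
  refine ⟨(Submodule.inclusion h).lTensor B y, ?_⟩
  rw [← LinearMap.comp_apply, ← LinearMap.lTensor_comp]
  rfl

lemma T_inf [Module.Flat A B] (N₁ N₂ : Submodule A Ω) :
    T A Ω B N₁ ⊓ T A Ω B N₂ ≤ T A Ω B (N₁ ⊓ N₂) := by
  rintro y ⟨⟨y₁, hy₁⟩, ⟨y₂, hy₂⟩⟩
  let ι : ↥(N₁ ⊓ N₂) →ₗ[A] N₁ := Submodule.inclusion inf_le_left
  let f : N₁ →ₗ[A] Ω ⧸ N₂ := N₂.mkQ.comp N₁.subtype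
  have hex : Function.Exact ι f := by
    intro n
    constructor
    · intro hn
      have h1 : (n : Ω) ∈ N₂ := by
        have : N₂.mkQ (n : Ω) = 0 := hn
        rwa [Submodule.mkQ_apply, Submodule.Quotient.mk_eq_zero] at this
      exact ⟨⟨n, ⟨n.2, h1⟩⟩, rfl⟩
    · rintro ⟨m, rfl⟩
      change N₂.mkQ (m : Ω) = 0
      rw [Submodule.mkQ_apply, Submodule.Quotient.mk_eq_zero]
      exact m.2.2
  have hex' : Function.Exact (ι.lTensor B) (f.lTensor B) := Module.Flat.lTensor_exact B hex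
  have h2 : f.lTensor B y₁ = 0 := by
    have : f.lTensor B y₁ = N₂.mkQ.lTensor B (N₁.subtype.lTensor B y₁) := by
      rw [← LinearMap.comp_apply, ← LinearMap.lTensor_comp]
    rw [this, hy₁, ← hy₂, ← LinearMap.comp_apply, ← LinearMap.lTensor_comp]
    have h3 : N₂.mkQ.comp N₂.subtype = 0 := by
      ext n
      simp
    rw [h3, LinearMap.lTensor_zero, LinearMap.zero_apply]
  obtain ⟨y₀, hy₀⟩ := (hex' y₁).mp h2
  refine ⟨y₀, ?_⟩
  have h4 : (N₁ ⊓ N₂).subtype = N₁.subtype.comp ι := rfl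
  rw [h4, LinearMap.lTensor_comp, LinearMap.comp_apply, hy₀, hy₁]

lemma T_directed (N : Submodule A Ω) (c : Set (Submodule A Ω)) (hne : c.Nonempty)
    (hdir : DirectedOn (· ≤ ·) c) (h : ∀ n ∈ N, ∃ N' ∈ c, n ∈ N') :
    ∀ y ∈ T A Ω B N, ∃ N' ∈ c, y ∈ T A Ω B N' := by
  rintro _ ⟨y, rfl⟩
  induction y using TensorProduct.induction_on with
  | zero =>
    obtain ⟨N', hN'⟩ := hne
    exact ⟨N', hN', by rw [map_zero]; exact zero_mem _⟩
  | tmul b n =>
    obtain ⟨N', hN', hn⟩ := h n n.2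
    refine ⟨N', hN', ?_⟩
    rw [LinearMap.lTensor_tmul]
    exact tmul_mem_T b hn
  | add y₁ y₂ h₁ h₂ =>
    obtain ⟨N₁, hN₁, hy₁⟩ := h₁
    obtain ⟨N₂, hN₂, hy₂⟩ := h₂
    obtain ⟨N₃, hN₃, h13, h23⟩ := hdir N₁ hN₁ N₂ hN₂
    refine ⟨N₃, hN₃, ?_⟩
    rw [map_add]
    exact add_mem (T_mono h13 hy₁) (T_mono h23 hy₂)

end T

section IC

variable {A : Type*} [CommRing A] {Ω : Type*} [Field Ω] [Algebra A Ω]

/-- elementary form of "integrally closed in `Ω`" for a subalgebra -/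
def IC (R : Subalgebra A Ω) : Prop :=
  ∀ (p : (Polynomial Ω)) (z : Ω), p.Monic → (∀ i, p.coeff i ∈ R) → p.eval z = 0 → z ∈ R

/-- a root of a monic polynomial with coefficients in a subring is integral over the subring -/
lemma isIntegral_of_coeff_mem (S : Subring Ω) (p : (Polynomial Ω)) (z : Ω) (hp : p.Monic)
    (hc : ∀ i, p.coeff i ∈ S) (hz : p.eval z = 0) : IsIntegral S z := by
  have h1 : p ∈ Polynomial.lifts S.subtype := by
    rw [Polynomial.lifts_iff_coeff_lifts]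
    intro n
    exact ⟨⟨p.coeff n, hc n⟩, rfl⟩
  obtain ⟨q, hq, -, hqm⟩ := Polynomial.lifts_and_degree_eq_and_monic h1 hp
  refine ⟨q, hqm, ?_⟩
  have : eval₂ (algebraMap S Ω) z q = eval z (q.map S.subtype) := by
    rw [eval_map]; rfl
  rw [this, hq, hz]

/-- same for a ring mapping to `Ω` -/
lemma isIntegral_of_coeff_mem_range (p : (Polynomial Ω)) (z : Ω) (hp : p.Monic)
    (hc : ∀ i, p.coeff i ∈ Set.range (algebraMap A Ω)) (hz : p.eval z = 0) : IsIntegral A z := by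
  have h1 : p ∈ Polynomial.lifts (algebraMap A Ω) := by
    rw [Polynomial.lifts_iff_coeff_lifts]
    exact hc
  obtain ⟨q, hq, -, hqm⟩ := Polynomial.lifts_and_degree_eq_and_monic h1 hp
  refine ⟨q, hqm, ?_⟩
  rw [← eval_map, hq, hz]

lemma IC_bot (hA : ∀ z : Ω, IsIntegral A z → z ∈ Set.range (algebraMap A Ω)) :
    IC (⊥ : Subalgebra A Ω) := by
  intro p z hp hc hz
  rw [Algebra.mem_bot]
  apply hA
  apply isIntegral_of_coeff_mem_range p z hp _ hz
  intro i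
  exact Algebra.mem_bot.mp (hc i)

/-- intersection of a family of valuation subrings containing the image of `A` -/
def infSub (𝒱 : Set (ValuationSubring Ω)) (h : ∀ V ∈ 𝒱, ∀ a : A, algebraMap A Ω a ∈ V) :
    Subalgebra A Ω where
  carrier := {z | ∀ V ∈ 𝒱, z ∈ V}
  mul_mem' := fun ha hb V hV => V.mul_mem _ _ (ha V hV) (hb V hV)
  add_mem' := fun ha hb V hV => V.add_mem _ _ (ha V hV) (hb V hV)
  algebraMap_mem' := fun a V hV => h V hV a

lemma mem_infSub {𝒱 : Set (ValuationSubring Ω)} {h : ∀ V ∈ 𝒱, ∀ a : A, algebraMap A Ω a ∈ V}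
    {z : Ω} : z ∈ infSub 𝒱 h ↔ ∀ V ∈ 𝒱, z ∈ V := Iff.rfl

lemma mem_valuationSubring_of_root (V : ValuationSubring Ω) (p : (Polynomial Ω)) (z : Ω) (hp : p.Monic)
    (hc : ∀ i, p.coeff i ∈ V) (hz : p.eval z = 0) : z ∈ V := by
  have h1 : IsIntegral V.toSubring z := isIntegral_of_coeff_mem V.toSubring p z hp hc hz
  have h2 : IsIntegral V z := h1
  obtain ⟨y, hy⟩ := IsIntegrallyClosed.algebraMap_eq_of_integral h2
  rw [← hy]
  exact y.2

lemma IC_infSub (𝒱 : Set (ValuationSubring Ω)) (h : ∀ V ∈ 𝒱, ∀ a : A, algebraMap A Ω a ∈ V) :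
    IC (infSub 𝒱 h) := by
  intro p z hp hc hz V hV
  exact mem_valuationSubring_of_root V p z hp (fun i => hc i V hV) hz

lemma mem_sSup_of_directedOn' {c : Set (Subalgebra A Ω)} (hne : c.Nonempty)
    (hdir : DirectedOn (· ≤ ·) c) {m : Ω} (hm : m ∈ sSup c) : ∃ S ∈ c, m ∈ S := by
  have : Nonempty c := hne.to_subtype
  rw [sSup_eq_iSup', ← SetLike.mem_coe,
    Subalgebra.coe_iSup_of_directed hdir.directed_val, Set.mem_iUnion] at hm
  obtain ⟨⟨S, hS⟩, hmS⟩ := hm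
  exact ⟨S, hS, hmS⟩

lemma IC_sSup (c : Set (Subalgebra A Ω)) (hne : c.Nonempty) (hdir : DirectedOn (· ≤ ·) c)
    (hc : ∀ R ∈ c, IC R) : IC (sSup c) := by
  intro p z hp hcoef hz
  have key : ∃ R ∈ c, ∀ i ∈ p.support, p.coeff i ∈ R := by
    classical
    have : ∀ s : Finset ℕ, (∀ i ∈ s, p.coeff i ∈ sSup c) → ∃ R ∈ c, ∀ i ∈ s, p.coeff i ∈ R := by
      intro s
      induction s using Finset.induction_on with
      | empty =>
        intro _
        obtain ⟨R, hR⟩ := hne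
        exact ⟨R, hR, by simp⟩
      | insert a s ha ih =>
        intro hs
        obtain ⟨R₁, hR₁, h1⟩ := ih (fun i hi => hs i (Finset.mem_insert_of_mem hi))
        obtain ⟨R₂, hR₂, h2⟩ := mem_sSup_of_directedOn' hne hdir
          (hs a (Finset.mem_insert_self a s))
        obtain ⟨R₃, hR₃, h13, h23⟩ := hdir R₁ hR₁ R₂ hR₂
        refine ⟨R₃, hR₃, fun i hi => ?_⟩
        rcases Finset.mem_insert.mp hi with rfl | hi
        · exact h23 h2
        · exact h13 (h1 i hi)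
    exact this p.support (fun i _ => hcoef i)
  obtain ⟨R, hR, hRc⟩ := key
  have h3 : ∀ i, p.coeff i ∈ R := by
    intro i
    by_cases hi : i ∈ p.support
    · exact hRc i hi
    · rw [Polynomial.notMem_support_iff.mp hi]
      exact zero_mem R
  exact (le_sSup hR : R ≤ sSup c) (hc R hR p z hp h3 hz)

end IC

section Val

variable (A : Type u) [CommRing A] (Ω : Type u) [Field Ω] [Algebra A Ω] (B : Type u) [CommRing B]
  [Algebra A B]

/-- the comparison map `R ⊗ B → B ⊗ Ω` -/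
noncomputable def psi (R : Subalgebra A Ω) : ↥R ⊗[A] B →ₐ[A] B ⊗[A] Ω :=
  (Algebra.TensorProduct.map (AlgHom.id A B) R.val).comp
    (Algebra.TensorProduct.comm A ↥R B).toAlgHom

variable {A Ω B}

@[simp]
lemma psi_tmul (R : Subalgebra A Ω) (r : R) (b : B) :
    psi A Ω B R (r ⊗ₜ[A] b) = b ⊗ₜ[A] (r : Ω) := by
  simp [psi]

lemma psi_mem_T (R : Subalgebra A Ω) (c : ↥R ⊗[A] B) :
    psi A Ω B R c ∈ T A Ω B (Subalgebra.toSubmodule R) := by
  induction c using TensorProduct.induction_on with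
  | zero => rw [map_zero]; exact zero_mem _
  | tmul r b =>
    rw [psi_tmul]
    exact tmul_mem_T b (show (r : Ω) ∈ Subalgebra.toSubmodule R from r.2)
  | add x y hx hy => rw [map_add]; exact add_mem hx hy

lemma exists_psi_eq_of_mem_T (R : Subalgebra A Ω) (x : B ⊗[A] Ω)
    (hx : x ∈ T A Ω B (Subalgebra.toSubmodule R)) : ∃ c, psi A Ω B R c = x := by
  obtain ⟨y, rfl⟩ := hx
  induction y using TensorProduct.induction_on with
  | zero => exact ⟨0, by simp⟩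
  | tmul b n =>
    refine ⟨(⟨n.1, n.2⟩ : R) ⊗ₜ[A] b, ?_⟩
    rw [psi_tmul, LinearMap.lTensor_tmul]
    rfl
  | add y₁ y₂ h₁ h₂ =>
    obtain ⟨c₁, h₁⟩ := h₁
    obtain ⟨c₂, h₂⟩ := h₂
    exact ⟨c₁ + c₂, by rw [map_add, map_add, h₁, h₂]⟩

lemma psi_injective [Module.Flat A B] (R : Subalgebra A Ω) :
    Function.Injective (psi A Ω B R) := by
  have h1 : Function.Injective (LinearMap.lTensor B R.val.toLinearMap) :=
    Module.Flat.lTensor_preserves_injective_linearMap (M := B) R.val.toLinearMap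
      Subtype.val_injective
  have h2 : ∀ c, psi A Ω B R c =
      LinearMap.lTensor B R.val.toLinearMap (TensorProduct.comm A ↥R B c) := by
    intro c
    induction c using TensorProduct.induction_on with
    | zero => simp
    | tmul r b => simp
    | add x y hx hy => rw [map_add, map_add, map_add, hx, hy]
  intro c₁ c₂ h
  rw [h2, h2] at h
  exact (TensorProduct.comm A ↥R B).injective (h1 h)

/-- a subalgebra of a field containing `y` or `y⁻¹` for all `y` is a valuation ring -/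
lemma valuationRing_of_mem_or_inv_mem (R : Subalgebra A Ω)
    (hR : ∀ y : Ω, y ≠ 0 → y ∈ R ∨ y⁻¹ ∈ R) : ValuationRing ↥R := by
  refine ValuationRing.iff_dvd_total.mpr ⟨fun a b => ?_⟩
  by_cases ha : a = 0
  · subst ha; exact Or.inr (dvd_zero b)
  by_cases hb : b = 0
  · subst hb; exact Or.inl (dvd_zero a)
  have ha' : (a : Ω) ≠ 0 := fun h => ha (Subtype.ext h)
  have hb' : (b : Ω) ≠ 0 := fun h => hb (Subtype.ext h)
  rcases hR ((b : Ω) / a) (div_ne_zero hb' ha') with h | h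
  · refine Or.inl ⟨⟨_, h⟩, Subtype.ext ?_⟩
    simp only [MulMemClass.coe_mul]
    field_simp
  · refine Or.inr ⟨⟨_, h⟩, Subtype.ext ?_⟩
    simp only [MulMemClass.coe_mul]
    field_simp

end Val

section Main

variable {A : Type u} [CommRing A] {Ω : Type u} [Field Ω] [Algebra A Ω] {B : Type u} [CommRing B]
  [Algebra A B]

lemma psi_algebraMap_mul (R : Subalgebra A Ω) (r : R) (c : ↥R ⊗[A] B) :
    psi A Ω B R (algebraMap R (↥R ⊗[A] B) r * c) = ((1 : B) ⊗ₜ[A] (r : Ω)) * psi A Ω B R c := by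
  rw [map_mul, Algebra.TensorProduct.algebraMap_apply, Algebra.algebraMap_self, RingHom.id_apply,
    psi_tmul]

/-- clearing denominators -/
lemma exists_denominator (R : Subalgebra A Ω) (hR : ∀ y : Ω, y ≠ 0 → y ∈ R ∨ y⁻¹ ∈ R)
    (x : B ⊗[A] Ω) : ∃ r : R, r ≠ 0 ∧ ∃ c : ↥R ⊗[A] B,
      psi A Ω B R c = ((1 : B) ⊗ₜ[A] (r : Ω)) * x := by
  induction x using TensorProduct.induction_on with
  | zero => exact ⟨1, one_ne_zero, 0, by simp⟩
  | tmul b ω =>
    by_cases hω : ω = 0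
    · subst hω
      exact ⟨1, one_ne_zero, 0, by simp⟩
    rcases hR ω hω with h | h
    · refine ⟨1, one_ne_zero, (⟨ω, h⟩ : R) ⊗ₜ[A] b, ?_⟩
      rw [psi_tmul, Algebra.TensorProduct.tmul_mul_tmul]
      simp
    · refine ⟨⟨ω⁻¹, h⟩, fun h0 => ?_, (1 : R) ⊗ₜ[A] b, ?_⟩
      · have : ω⁻¹ = 0 := congrArg Subtype.val h0
        exact hω (inv_eq_zero.mp this)
      · rw [psi_tmul, Algebra.TensorProduct.tmul_mul_tmul, one_mul, inv_mul_cancel₀ hω]
        rfl
  | add x y hx hy =>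
    obtain ⟨r₁, hr₁, c₁, h₁⟩ := hx
    obtain ⟨r₂, hr₂, c₂, h₂⟩ := hy
    refine ⟨r₁ * r₂, mul_ne_zero hr₁ hr₂,
      algebraMap R (↥R ⊗[A] B) r₂ * c₁ + algebraMap R (↥R ⊗[A] B) r₁ * c₂, ?_⟩
    rw [map_add, psi_algebraMap_mul, psi_algebraMap_mul, h₁, h₂]
    have e : (1 : B) ⊗ₜ[A] ((r₁ * r₂ : R) : Ω) =
        ((1 : B) ⊗ₜ[A] (r₁ : Ω)) * ((1 : B) ⊗ₜ[A] (r₂ : Ω)) := by
      rw [Algebra.TensorProduct.tmul_mul_tmul, one_mul]; rfl
    rw [e]
    ring

/-- the valuation-ring step -/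
theorem mem_T_of_valuation [Algebra.WeaklyEtale A B] (R : Subalgebra A Ω)
    (hR : ∀ y : Ω, y ≠ 0 → y ∈ R ∨ y⁻¹ ∈ R)
    (x : B ⊗[A] Ω) (hx : IsIntegral B x) : x ∈ T A Ω B (Subalgebra.toSubmodule R) := by
  rcases subsingleton_or_nontrivial (B ⊗[A] Ω) with hsub | hnt
  · rw [Subsingleton.elim x 0]; exact zero_mem _
  haveI : ValuationRing ↥R := valuationRing_of_mem_or_inv_mem R hR
  obtain ⟨r, hr, c, hc⟩ := exists_denominator R hR x
  obtain ⟨p, hp, hpx⟩ := hx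
  let C := ↥R ⊗[A] B
  let ι : B →+* C := (Algebra.TensorProduct.includeRight : B →ₐ[A] C).toRingHom
  let Ψ : C →+* B ⊗[A] Ω := (psi A Ω B R).toRingHom
  have hΨ : ∀ c, Ψ c = psi A Ω B R c := fun _ => rfl
  have hψι : Ψ.comp ι = algebraMap B (B ⊗[A] Ω) := by
    ext b
    change psi A Ω B R ((1 : R) ⊗ₜ[A] b) = b ⊗ₜ[A] (1 : Ω)
    rw [psi_tmul]; rfl
  have hmonic : (p.map ι).Monic := hp.map ι
  have hroot : ((p.map ι).scaleRoots (algebraMap R C r)).eval c = 0 := by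
    apply psi_injective R
    rw [map_zero, ← hΨ, ← eval_map_apply,
      map_scaleRoots _ _ _ (by rw [hmonic.leadingCoeff, map_one]; exact one_ne_zero),
      Polynomial.map_map, hψι, hΨ, hc]
    have h2 : Ψ (algebraMap R C r) = (1 : B) ⊗ₜ[A] (r : Ω) := by
      rw [hΨ, Algebra.TensorProduct.algebraMap_apply, Algebra.algebraMap_self, RingHom.id_apply,
        psi_tmul]
    rw [h2, scaleRoots_eval_mul, eval_map, hpx, mul_zero]
  have hr' : r ≠ 0 := hr
  obtain ⟨c₀, hc₀⟩ := dvd_of_scaleRoots_eval_eq_zero R C r hr' c (p.map ι) hmonic hroot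
  have h3 : ((1 : B) ⊗ₜ[A] (r : Ω)) * x = ((1 : B) ⊗ₜ[A] (r : Ω)) * psi A Ω B R c₀ := by
    rw [← hc, hc₀, psi_algebraMap_mul]
  have hrΩ : (r : Ω) ≠ 0 := fun h => hr (Subtype.ext h)
  have h4 : x = psi A Ω B R c₀ := by
    have := congrArg (fun t => ((1 : B) ⊗ₜ[A] (r : Ω)⁻¹) * t) h3
    simp only [← mul_assoc, Algebra.TensorProduct.tmul_mul_tmul, one_mul, inv_mul_cancel₀ hrΩ]
      at this
    rwa [← Algebra.TensorProduct.one_def, one_mul, one_mul] at this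
  rw [h4]
  exact psi_mem_T R c₀

end Main


section Zorn

variable {A : Type u} [CommRing A] {Ω : Type u} [Field Ω] [Algebra A Ω] {B : Type u} [CommRing B]
  [Algebra A B]

lemma T_directed_subalgebra (c : Set (Subalgebra A Ω)) (hne : c.Nonempty)
    (hdir : DirectedOn (· ≤ ·) c) (y : B ⊗[A] Ω)
    (hy : y ∈ T A Ω B (Subalgebra.toSubmodule (sSup c))) :
    ∃ R ∈ c, y ∈ T A Ω B (Subalgebra.toSubmodule R) := by
  obtain ⟨y, rfl⟩ := hy
  induction y using TensorProduct.induction_on with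
  | zero =>
    obtain ⟨R, hR⟩ := hne
    exact ⟨R, hR, by rw [map_zero]; exact zero_mem _⟩
  | tmul b n =>
    obtain ⟨R, hR, hn⟩ := mem_sSup_of_directedOn' hne hdir (show (n : Ω) ∈ sSup c from n.2)
    refine ⟨R, hR, ?_⟩
    rw [LinearMap.lTensor_tmul]
    exact tmul_mem_T b (show (n : Ω) ∈ Subalgebra.toSubmodule R from hn)
  | add y₁ y₂ h₁ h₂ =>
    obtain ⟨R₁, hR₁, hy₁⟩ := h₁
    obtain ⟨R₂, hR₂, hy₂⟩ := h₂
    obtain ⟨R₃, hR₃, h13, h23⟩ := hdir R₁ hR₁ R₂ hR₂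
    refine ⟨R₃, hR₃, ?_⟩
    rw [map_add]
    exact add_mem (T_mono (Subalgebra.toSubmodule.monotone h13) hy₁)
      (T_mono (Subalgebra.toSubmodule.monotone h23) hy₂)

lemma isIntegrallyClosedIn_of_IC (R : Subalgebra A Ω) (hR : IC R) :
    IsIntegrallyClosedIn R.toSubring Ω := by
  rw [Subring.isIntegrallyClosedIn_iff]
  intro z hz
  obtain ⟨q, hq, hqz⟩ := hz
  refine hR (q.map R.toSubring.subtype) z (hq.map _) (fun i => ?_) ?_
  · rw [coeff_map]
    exact (q.coeff i).2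
  · rw [eval_map]
    exact hqz

/-- **Main theorem**: if every element of the field `Ω` integral over `A` comes from `A` and `B`
is weakly étale over `A`, every element of `B ⊗[A] Ω` integral over `B` lies in `B ⊗ A`. -/
theorem isIntegral_mem_T_bot [Algebra.WeaklyEtale A B]
    (hA : ∀ z : Ω, IsIntegral A z → z ∈ Set.range (algebraMap A Ω))
    (x : B ⊗[A] Ω) (hx : IsIntegral B x) :
    x ∈ T A Ω B (Subalgebra.toSubmodule (⊥ : Subalgebra A Ω)) := by
  by_contra hcon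
  let S : Set (Subalgebra A Ω) := {R | IC R ∧ x ∉ T A Ω B (Subalgebra.toSubmodule R)}
  have h0 : (⊥ : Subalgebra A Ω) ∈ S := ⟨IC_bot hA, hcon⟩
  have hchain : ∀ c ⊆ S, IsChain (· ≤ ·) c → ∀ y ∈ c, ∃ ub ∈ S, ∀ z ∈ c, z ≤ ub := by
    intro c hcS hc y hy
    have hne : c.Nonempty := ⟨y, hy⟩
    have hdir : DirectedOn (· ≤ ·) c := hc.directedOn
    refine ⟨sSup c, ⟨IC_sSup c hne hdir (fun R hR => (hcS hR).1), fun hmem => ?_⟩,
      fun z hz => le_sSup hz⟩
    obtain ⟨R, hR, hxR⟩ := T_directed_subalgebra c hne hdir x hmem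
    exact (hcS hR).2 hxR
  obtain ⟨R, -, hRmax⟩ := zorn_le_nonempty₀ S hchain ⊥ h0
  have hRS : R ∈ S := hRmax.prop
  -- `R` is a valuation ring
  have hR : ∀ y : Ω, y ≠ 0 → y ∈ R ∨ y⁻¹ ∈ R := by
    intro y hy0
    by_contra hcon2
    rw [not_or] at hcon2
    obtain ⟨hy1, hy2⟩ := hcon2
    -- the two enlargements
    have key : ∀ w : Ω, w ∉ R → ∃ R' : Subalgebra A Ω, R ≤ R' ∧
        x ∈ T A Ω B (Subalgebra.toSubmodule R') ∧
        ∀ V : ValuationSubring Ω, (∀ z ∈ R, z ∈ V) → w ∈ V → ∀ z ∈ R', z ∈ V := by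
      intro w hw
      let 𝒱 : Set (ValuationSubring Ω) := {V | (∀ z ∈ R, z ∈ V) ∧ w ∈ V}
      have h𝒱 : ∀ V ∈ 𝒱, ∀ a : A, algebraMap A Ω a ∈ V :=
        fun V hV a => hV.1 _ (R.algebraMap_mem a)
      have hle : R ≤ infSub 𝒱 h𝒱 := fun z hz V hV => hV.1 z hz
      refine ⟨infSub 𝒱 h𝒱, hle, ?_, fun V hV1 hV2 z hz => hz V ⟨hV1, hV2⟩⟩
      by_contra hx'
      have hmem : infSub 𝒱 h𝒱 ∈ S := ⟨IC_infSub 𝒱 h𝒱, hx'⟩
      have hle' : infSub 𝒱 h𝒱 ≤ R := hRmax.le_of_ge hmem hle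
      exact hw (hle' (fun V hV => hV.2))
    obtain ⟨R₁, hle₁, hx₁, hV₁⟩ := key y hy1
    obtain ⟨R₂, hle₂, hx₂, hV₂⟩ := key y⁻¹ hy2
    have hx12 : x ∈ T A Ω B (Subalgebra.toSubmodule R₁ ⊓ Subalgebra.toSubmodule R₂) :=
      T_inf _ _ ⟨hx₁, hx₂⟩
    have hle12 : Subalgebra.toSubmodule R₁ ⊓ Subalgebra.toSubmodule R₂ ≤
        Subalgebra.toSubmodule R := by
      rintro z ⟨hz1, hz2⟩
      by_contra hzR
      haveI := isIntegrallyClosedIn_of_IC R hRS.1
      obtain ⟨V, hRV, hzV⟩ := Subring.exists_le_valuationSubring_of_isIntegrallyClosedIn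
        (R := R.toSubring) (x := z) hzR
      rcases V.mem_or_inv_mem y with h | h
      · exact hzV (hV₁ V (fun z hz => hRV hz) h z hz1)
      · exact hzV (hV₂ V (fun z hz => hRV hz) h z hz2)
    exact hRS.2 (T_mono hle12 hx12)
  exact hRS.2 (mem_T_of_valuation R hR x hx)

/-- reformulation -/
theorem isIntegral_mem_range [Algebra.WeaklyEtale A B]
    (hA : ∀ z : Ω, IsIntegral A z → z ∈ Set.range (algebraMap A Ω))
    (x : B ⊗[A] Ω) (hx : IsIntegral B x) : ∃ b : B, b ⊗ₜ[A] (1 : Ω) = x := by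
  have h := isIntegral_mem_T_bot hA x hx
  clear hx
  obtain ⟨y, rfl⟩ := h
  induction y using TensorProduct.induction_on with
  | zero => exact ⟨0, by simp⟩
  | tmul b n =>
    obtain ⟨a, ha⟩ := Algebra.mem_bot.mp (show (n : Ω) ∈ (⊥ : Subalgebra A Ω) from n.2)
    refine ⟨a • b, ?_⟩
    rw [LinearMap.lTensor_tmul, TensorProduct.smul_tmul]
    congr 1
    rw [Algebra.smul_def, mul_one]
    exact ha
  | add y₁ y₂ h₁ h₂ =>
    obtain ⟨b₁, h₁⟩ := h₁
    obtain ⟨b₂, h₂⟩ := h₂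
    exact ⟨b₁ + b₂, by rw [TensorProduct.add_tmul, map_add, h₁, h₂]⟩

end Zorn

end Groth.Agent.Lib.Helper36.Olivier
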