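import Mathlib
import Groth.Agent.Lib.Helper36.WeaklyEtale
import Groth.Agent.Lib.Helper36.AbsFlat
import Groth.Agent.Lib.Helper71.AbsFlat

set_option autoImplicit false
universe u

namespace Groth.Agent.Lib.Helper36.WE

open TensorProduct Groth.Agent.Lib.Helper36.AbsFlat

/-- Stacks 092F (1): weakly étale over an absolutely flat ring is absolutely flat. -/
theorem isVNR_of_weaklyEtale (A B : Type u) [CommRing A] [CommRing B] [Algebra A B]
    (hA : IsVNR A) [Algebra.WeaklyEtale A B] : IsVNR B := by
  apply isVNR_of_flat_quotients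
  intro b
  have : Module.Flat A (B ⧸ Ideal.span {b}) := Groth.Agent.Lib.Helper71.flat_of_vnr hA _
  exact flat_of_flat_lmul' A B (Algebra.WeaklyEtale.flat_lmul' A B) _

/-- The product of the residue fields at all primes. -/
abbrev ProdRes (A : Type u) [CommRing A] : Type u :=
  ∀ p : PrimeSpectrum A, p.asIdeal.ResidueField

lemma prodRes_isVNR (A : Type u) [CommRing A] : IsVNR (ProdRes A) := by
  intro a
  refine ⟨fun i => (a i)⁻¹, ?_⟩
  funext i
  by_cases h : a i = 0
  · simp [h]
  · simp only [Pi.mul_apply]
    field_simp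

lemma prodRes_injective (A : Type u) [CommRing A] [IsReduced A] :
    Function.Injective (algebraMap A (ProdRes A)) := by
  rw [injective_iff_map_eq_zero]
  intro a ha
  have h1 : a ∈ nilradical A := by
    rw [nilradical_eq_sInf, Ideal.mem_sInf]
    intro p hp
    have := congrFun ha ⟨p, hp⟩
    simp only [Pi.algebraMap_apply, Pi.zero_apply] at this
    rwa [← RingHom.mem_ker, Ideal.ker_algebraMap_residueField] at this
  rwa [nilradical_eq_zero, Ideal.zero_eq_bot, Ideal.mem_bot] at h1

theorem isReduced_of_weaklyEtale (A B : Type u) [CommRing A] [CommRing B] [Algebra A B]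
    [IsReduced A] [Algebra.WeaklyEtale A B] : IsReduced B := by
  have h1 : IsVNR (ProdRes A ⊗[A] B) := isVNR_of_weaklyEtale (ProdRes A) _ (prodRes_isVNR A)
  have h2 : IsReduced (ProdRes A ⊗[A] B) := h1.isReduced
  exact isReduced_of_injective _
    (Algebra.TensorProduct.includeRight_injective (R := A) (A := ProdRes A) (B := B)
      (prodRes_injective A))

end Groth.Agent.Lib.Helper36.WE
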