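import Mathlib
import Groth.Agent.S0426
import Groth.Agent.Lib.Helper36.WeaklyEtaleLocal
import Groth.Agent.Lib.Helper36.WeaklyEtaleReduced

set_option autoImplicit false
universe u

namespace Groth.Agent.Lib.Helper36.WE

open TensorProduct Groth.Agent.Lib.Helper36.AbsFlat

lemma field_isVNR (K : Type*) [Field K] : IsVNR K := by
  intro a
  refine ⟨a⁻¹, ?_⟩
  by_cases h : a = 0
  · simp [h]
  · field_simp

/-- A quotient of an absolutely flat ring is weakly étale over it. -/
theorem weaklyEtale_of_surjective_of_isVNR {C D : Type*} [CommRing C] [CommRing D] [Algebra C D]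
    (hC : IsVNR C) (hs : Function.Surjective (algebraMap C D)) : Algebra.WeaklyEtale C D := by
  have hflat : Module.Flat C D := Groth.Agent.Lib.Helper71.flat_of_vnr hC D
  refine ⟨hflat, ?_⟩
  exact RingHom.Flat.of_bijective (LinearMap.mul'_bijective_of_surjective (R := C) (A := D) hs)

/-- For a weakly étale local homomorphism of local rings, the residue field extension is
separable algebraic. -/
theorem isSeparable_residueField_of_weaklyEtale (A B : Type u) [CommRing A] [CommRing B]
    [IsLocalRing A] [IsLocalRing B] [Algebra A B] [IsLocalHom (algebraMap A B)]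
    [Algebra.WeaklyEtale A B] :
    Algebra.IsSeparable (IsLocalRing.ResidueField A) (IsLocalRing.ResidueField B) := by
  let K := IsLocalRing.ResidueField A
  let D := IsLocalRing.ResidueField B
  let C := K ⊗[A] B
  have hC : IsVNR C := isVNR_of_weaklyEtale K C (field_isVNR K)
  let φ : C →ₐ[A] D := Algebra.TensorProduct.productMap (IsScalarTower.toAlgHom A K D)
    (IsScalarTower.toAlgHom A B D)
  have hφ : Function.Surjective φ := by
    intro d
    obtain ⟨b, rfl⟩ := IsLocalRing.residue_surjective d
    refine ⟨1 ⊗ₜ b, ?_⟩
    rw [Algebra.TensorProduct.productMap_apply_tmul, map_one, one_mul]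
    rfl
  let iCD : Algebra C D := φ.toRingHom.toAlgebra
  have tower : IsScalarTower K C D := IsScalarTower.of_algebraMap_eq fun k => by
    change algebraMap K D k = φ (k ⊗ₜ 1)
    rw [Algebra.TensorProduct.productMap_apply_tmul, map_one, mul_one]
    rfl
  have h1 : Algebra.WeaklyEtale C D := weaklyEtale_of_surjective_of_isVNR hC hφ
  have h2 : Algebra.WeaklyEtale K D := Algebra.WeaklyEtale.trans K C D
  exact Groth.Agent.S0426.result

end Groth.Agent.Lib.Helper36.WE
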