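import Mathlib
import Groth.Agent.Lib.Helper36.WeaklyEtaleResidue
import Groth.Agent.Lib.Helper2.FlatDescent
import Groth.Agent.S7130

set_option autoImplicit false
universe u

namespace Groth.Agent.Lib.Helper36.WE

open TensorProduct Groth.Agent.Lib.Helper36.AbsFlat

/-- A weakly étale algebra over a field is absolutely flat. -/
theorem isVNR_of_weaklyEtale_field (K B : Type u) [Field K] [CommRing B] [Algebra K B]
    [Algebra.WeaklyEtale K B] : IsVNR B := isVNR_of_weaklyEtale K B (field_isVNR K)

/-- A quotient of a weakly étale algebra over a field is weakly étale. -/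
theorem weaklyEtale_quotient_field (K B : Type u) [Field K] [CommRing B] [Algebra K B]
    [Algebra.WeaklyEtale K B] (I : Ideal B) : Algebra.WeaklyEtale K (B ⧸ I) := by
  have h1 : Algebra.WeaklyEtale B (B ⧸ I) :=
    weaklyEtale_of_surjective_of_isVNR (isVNR_of_weaklyEtale_field K B) Ideal.Quotient.mk_surjective
  exact Algebra.WeaklyEtale.trans K B (B ⧸ I)

/-- A weakly étale algebra over a field is integral. -/
theorem isIntegral_of_weaklyEtale_field (K B : Type u) [Field K] [CommRing B] [Algebra K B]
    [Algebra.WeaklyEtale K B] : Algebra.IsIntegral K B := by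
  have hB : IsVNR B := isVNR_of_weaklyEtale_field K B
  refine ⟨fun b => ?_⟩
  rw [← isAlgebraic_iff_isIntegral]
  by_contra hb
  have hinj : Function.Injective (Polynomial.aeval (R := K) b) :=
    transcendental_iff_injective.mp hb
  obtain ⟨𝔭, h𝔭, hcomap⟩ := Ideal.exists_comap_eq_of_mem_minimalPrimes_of_injective
    (f := (Polynomial.aeval (R := K) b).toRingHom) hinj ⊥
    (by rw [IsDomain.minimalPrimes_eq_singleton_bot]; rfl)
  have hmax : 𝔭.IsMaximal := hB.isMaximal_of_isPrime 𝔭 h𝔭
  let : Field (B ⧸ 𝔭) := Ideal.Quotient.field 𝔭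
  have h2 : Algebra.WeaklyEtale K (B ⧸ 𝔭) := weaklyEtale_quotient_field K B 𝔭
  have h3 : Algebra.IsSeparable K (B ⧸ 𝔭) := Groth.Agent.S0426.result
  have h4 : IsAlgebraic K (Ideal.Quotient.mk 𝔭 b) := Algebra.IsAlgebraic.isAlgebraic _
  obtain ⟨P, hP0, hP⟩ := h4
  apply hP0
  have hmem : Polynomial.aeval b P ∈ 𝔭 := by
    rw [← Ideal.Quotient.eq_zero_iff_mem, ← hP]
    exact (Polynomial.aeval_algHom_apply (Ideal.Quotient.mkₐ K 𝔭) b P).symm
  have hmem' : P ∈ 𝔭.comap (Polynomial.aeval (R := K) b).toRingHom := hmem
  rw [hcomap] at hmem'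
  exact hmem'

/-- A reduced ring which is integral over a field is absolutely flat. -/
theorem isVNR_of_isIntegral_field_of_isReduced (K S : Type u) [Field K] [CommRing S] [Algebra K S]
    [Algebra.IsIntegral K S] [IsReduced S] : IsVNR S := by
  have h2 : IsReduced S ∧ ∀ p : Ideal S, p.IsPrime → p.IsMaximal := by
    refine ⟨inferInstance, fun p hp => ?_⟩
    apply Ideal.isMaximal_of_isIntegral_of_isMaximal_comap (R := K) p
    have : p.comap (algebraMap K S) = ⊥ := by
      have := Ideal.IsPrime.ne_top (hp.comap (algebraMap K S))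
      exact (Ideal.eq_bot_or_top _).resolve_right this
    rw [this]
    exact Ideal.bot_isMaximal
  have h1 := ((Groth.Agent.S7130.result S).out 1 0).mp h2
  exact isVNR_of_flat_quotients fun a => h1 _

/-- A subalgebra of a weakly étale algebra over a field is weakly étale. -/
theorem weaklyEtale_subalgebra_field (K B : Type u) [Field K] [CommRing B] [Algebra K B]
    [Algebra.WeaklyEtale K B] (S : Subalgebra K B) : Algebra.WeaklyEtale K S := by
  have hint : Algebra.IsIntegral K B := isIntegral_of_weaklyEtale_field K B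
  have hintS : Algebra.IsIntegral K S :=
    ⟨fun s => (isIntegral_algHom_iff S.val Subtype.val_injective).mp (hint.isIntegral s.1)⟩
  have hredB : IsReduced B := (isVNR_of_weaklyEtale_field K B).isReduced
  have hredS : IsReduced S := isReduced_of_injective S.val Subtype.val_injective
  have hS : IsVNR S := isVNR_of_isIntegral_field_of_isReduced K S
  have hflat : Module.Flat S B := Groth.Agent.Lib.Helper71.flat_of_vnr hS B
  have hintSB : Algebra.IsIntegral S B := Algebra.IsIntegral.tower_top K
  have hff : Module.FaithfullyFlat S B := by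
    apply Module.FaithfullyFlat.of_comap_surjective
    intro P
    obtain ⟨Q, -, hQ, hQ'⟩ := Ideal.exists_ideal_over_prime_of_isIntegral P.asIdeal (⊥ : Ideal B)
      (by
        rw [Ideal.comap_bot_of_injective _ (show Function.Injective (algebraMap S B) from
          Subtype.val_injective)]
        exact bot_le)
    exact ⟨⟨Q, hQ⟩, PrimeSpectrum.ext hQ'⟩
  refine ⟨inferInstance, ?_⟩
  let ι : S →ₐ[K] B := S.val
  let Φ : S ⊗[K] S →ₐ[K] B ⊗[K] B := Algebra.TensorProduct.map ι ι
  have hι : ι.Flat := by
    change (algebraMap S B).Flat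
    rw [RingHom.flat_algebraMap_iff]
    exact hflat
  have hΦ : Φ.toRingHom.Flat := RingHom.Flat.tensorProductMap (R := K) (S := K) hι hι
  have hψ := Algebra.WeaklyEtale.flat_lmul' K B
  have hcomp : (ι.toRingHom.comp (Algebra.TensorProduct.lmul' K (S := S)).toRingHom) =
      (Algebra.TensorProduct.lmul' K (S := B)).toRingHom.comp Φ.toRingHom := by
    have : ι.comp (Algebra.TensorProduct.lmul' K (S := S)) =
        (Algebra.TensorProduct.lmul' K (S := B)).comp Φ := by
      apply Algebra.TensorProduct.ext'
      intro a b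
      simp [Φ, ι]
    exact congrArg AlgHom.toRingHom this
  have hflat' : (ι.toRingHom.comp (Algebra.TensorProduct.lmul' K (S := S)).toRingHom).Flat := by
    rw [hcomp]
    exact RingHom.Flat.comp hΦ hψ
  have hff' : ι.toRingHom.FaithfullyFlat := by
    change (algebraMap S B).FaithfullyFlat
    exact RingHom.faithfullyFlat_algebraMap_iff.mpr hff
  exact Groth.Agent.Lib.Helper2.RingHom.Flat.of_comp_faithfullyFlat _ _ hff' hflat'

end Groth.Agent.Lib.Helper36.WE
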