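import Mathlib
import Groth.Prelude.Def_EtAlgD
import Groth.Agent.Lib.Helper36.WeaklyEtaleField

set_option autoImplicit false
universe u

namespace Groth.Agent.Lib.Helper36.WE

open TensorProduct Groth.Agent.Lib.Helper36.AbsFlat

/-- Stacks 04PS (5) ⇒ (1). -/
theorem pure_of_forall_exists_eq_mul {R : Type*} [CommRing R] (I : Ideal R)
    (h : ∀ x ∈ I, ∃ y ∈ I, x = x * y) : I.Pure := by
  refine Ideal.Pure.of_inf_eq_mul I fun J _ => le_antisymm (fun x hx => ?_) Ideal.mul_le_inf
  obtain ⟨y, hy, hxy⟩ := h x hx.1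
  have h2 : y * x ∈ I * J := Ideal.mul_mem_mul hy hx.2
  have h3 : x = y * x := by rw [mul_comm]; exact hxy
  rw [h3]
  exact h2

/-- A surjective ring map is flat iff its kernel is "locally generated by idempotents". -/
theorem flat_iff_of_surjective {C M : Type*} [CommRing C] [CommRing M] (ψ : C →+* M)
    (hψ : Function.Surjective ψ) :
    ψ.Flat ↔ ∀ x ∈ RingHom.ker ψ, ∃ y ∈ RingHom.ker ψ, x = x * y := by
  algebraize [ψ]
  have e : (C ⧸ RingHom.ker ψ) ≃ₐ[C] M :=
    Ideal.quotientKerAlgEquivOfSurjective (f := Algebra.ofId C M) hψ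
  constructor
  · intro h x hx
    have hflat : Module.Flat C M := h
    have : (RingHom.ker ψ).Pure := Module.Flat.of_linearEquiv e.toLinearEquiv
    exact Ideal.exists_eq_mul_of_pure hx
  · intro h
    have : (RingHom.ker ψ).Pure := pure_of_forall_exists_eq_mul _ h
    exact Module.Flat.of_linearEquiv e.symm.toLinearEquiv

/-- The image of a weakly étale algebra over a field under a surjective algebra map is weakly
étale. -/
theorem weaklyEtale_of_surjective_algHom_field (K W W' : Type u) [Field K] [CommRing W]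
    [CommRing W'] [Algebra K W] [Algebra K W'] [Algebra.WeaklyEtale K W] (φ : W →ₐ[K] W')
    (hφ : Function.Surjective φ) : Algebra.WeaklyEtale K W' := by
  let iWW' : Algebra W W' := φ.toRingHom.toAlgebra
  have tower : IsScalarTower K W W' := IsScalarTower.of_algebraMap_eq fun k => (φ.commutes k).symm
  have h1 : Algebra.WeaklyEtale W W' :=
    weaklyEtale_of_surjective_of_isVNR (isVNR_of_weaklyEtale_field K W) hφ
  exact Algebra.WeaklyEtale.trans K W W'

/-- The range of an algebra map from a weakly étale algebra over a field is weakly étale. -/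
theorem weaklyEtale_range_field (K W A : Type u) [Field K] [CommRing W]
    [CommRing A] [Algebra K W] [Algebra K A] [Algebra.WeaklyEtale K W] (φ : W →ₐ[K] A) :
    Algebra.WeaklyEtale K φ.range :=
  weaklyEtale_of_surjective_algHom_field K W φ.range φ.rangeRestrict φ.rangeRestrict_surjective

/-- The weakly étale subalgebras form a directed family. -/
theorem weaklyEtale_sup_field (K A : Type u) [Field K] [CommRing A] [Algebra K A]
    (S₁ S₂ : Subalgebra K A) [Algebra.WeaklyEtale K S₁] [Algebra.WeaklyEtale K S₂] :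
    Algebra.WeaklyEtale K ↥(S₁ ⊔ S₂) := by
  have h1 : Algebra.WeaklyEtale K (S₁ ⊗[K] S₂) := Algebra.WeaklyEtale.trans K S₁ (S₁ ⊗[K] S₂)
  have := weaklyEtale_range_field K (S₁ ⊗[K] S₂) A (Algebra.TensorProduct.productMap S₁.val S₂.val)
  rw [Algebra.TensorProduct.productMap_range, Subalgebra.range_val, Subalgebra.range_val] at this
  exact this

theorem weaklyEtale_bot_field (K A : Type u) [Field K] [CommRing A] [Algebra K A] :
    Algebra.WeaklyEtale K ↥(⊥ : Subalgebra K A) := by
  have := weaklyEtale_range_field K K A (Algebra.ofId K A)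
  rwa [Algebra.range_ofId] at this

/-- Abstract directed-union criterion for weakly étale algebras over a field. -/
theorem weaklyEtale_of_forall_exists_sub (K M : Type u) [Field K] [CommRing M] [Algebra K M]
    (h : ∀ x : M ⊗[K] M, ∃ (S : Type u) (_ : CommRing S) (_ : Algebra K S)
      (_ : Algebra.WeaklyEtale K S) (j : S →ₐ[K] M) (_ : Function.Injective j)
      (xS : S ⊗[K] S), Algebra.TensorProduct.map j j xS = x) : Algebra.WeaklyEtale K M := by
  refine ⟨inferInstance, ?_⟩
  have hsurj : ∀ (T : Type u) [CommRing T] [Algebra K T],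
      Function.Surjective (Algebra.TensorProduct.lmul' K (S := T)).toRingHom :=
    fun T _ _ t => ⟨t ⊗ₜ 1, by simp⟩
  rw [flat_iff_of_surjective _ (hsurj M)]
  intro x hx
  obtain ⟨S, _, _, hS, j, hj, xS, rfl⟩ := h x
  have hcomm : ∀ z : S ⊗[K] S, Algebra.TensorProduct.lmul' K (S := M)
      (Algebra.TensorProduct.map j j z) = j (Algebra.TensorProduct.lmul' K (S := S) z) := by
    intro z
    induction z using TensorProduct.induction_on with
    | zero => simp
    | add a b ha hb => simp only [map_add, ha, hb]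
    | tmul a b => simp
  have hxS : xS ∈ RingHom.ker (Algebra.TensorProduct.lmul' K (S := S)).toRingHom := by
    rw [RingHom.mem_ker]
    apply hj
    rw [map_zero]
    have := hcomm xS
    rw [RingHom.mem_ker] at hx
    exact this.symm.trans hx
  obtain ⟨yS, hyS, hxy⟩ :=
    (flat_iff_of_surjective _ (hsurj S)).mp (Algebra.WeaklyEtale.flat_lmul' K S) xS hxS
  refine ⟨Algebra.TensorProduct.map j j yS, ?_, ?_⟩
  · rw [RingHom.mem_ker] at hyS ⊢
    exact (hcomm yS).trans (by rw [show (Algebra.TensorProduct.lmul' K (S := S)) yS = 0 from hyS,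
      map_zero])
  · conv_lhs => rw [hxy]
    rw [map_mul]

/-- The supremum of a nonempty directed family of weakly étale subalgebras (over a field) is
weakly étale. -/
theorem weaklyEtale_sSup_of_directedOn (K A : Type u) [Field K] [CommRing A] [Algebra K A]
    (𝒮 : Set (Subalgebra K A)) (hne : 𝒮.Nonempty) (hdir : DirectedOn (· ≤ ·) 𝒮)
    (hwe : ∀ S ∈ 𝒮, Algebra.WeaklyEtale K S) : Algebra.WeaklyEtale K ↥(sSup 𝒮) := by
  have hle : ∀ S ∈ 𝒮, S ≤ sSup 𝒮 := fun S hS => le_sSup hS
  have hmem : ∀ m ∈ sSup 𝒮, ∃ S ∈ 𝒮, m ∈ S := by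
    intro m hm
    have : Nonempty 𝒮 := hne.to_subtype
    rw [sSup_eq_iSup', ← SetLike.mem_coe,
      Subalgebra.coe_iSup_of_directed hdir.directed_val, Set.mem_iUnion] at hm
    obtain ⟨⟨S, hS⟩, hmS⟩ := hm
    exact ⟨S, hS, hmS⟩
  -- the key claim
  have key : ∀ x : ↥(sSup 𝒮) ⊗[K] ↥(sSup 𝒮), ∃ S, ∃ hS : S ∈ 𝒮, ∃ xS : S ⊗[K] S,
      Algebra.TensorProduct.map (Subalgebra.inclusion (hle S hS))
        (Subalgebra.inclusion (hle S hS)) xS = x := by
    -- monotonicity
    have mono : ∀ S₁ (h₁ : S₁ ∈ 𝒮) S₂ (h₂ : S₂ ∈ 𝒮) (h12 : S₁ ≤ S₂) (a : S₁ ⊗[K] S₁),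
        ∃ b : S₂ ⊗[K] S₂, Algebra.TensorProduct.map (Subalgebra.inclusion (hle S₂ h₂))
          (Subalgebra.inclusion (hle S₂ h₂)) b =
          Algebra.TensorProduct.map (Subalgebra.inclusion (hle S₁ h₁))
          (Subalgebra.inclusion (hle S₁ h₁)) a := by
      intro S₁ h₁ S₂ h₂ h12 a
      refine ⟨Algebra.TensorProduct.map (Subalgebra.inclusion h12) (Subalgebra.inclusion h12) a, ?_⟩
      rw [← AlgHom.comp_apply, ← Algebra.TensorProduct.map_comp]
      rfl
    intro x
    induction x using TensorProduct.induction_on with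
    | zero =>
      obtain ⟨S, hS⟩ := hne
      exact ⟨S, hS, 0, map_zero _⟩
    | tmul m₁ m₂ =>
      obtain ⟨S₁, hS₁, hm₁⟩ := hmem m₁.1 m₁.2
      obtain ⟨S₂, hS₂, hm₂⟩ := hmem m₂.1 m₂.2
      obtain ⟨S, hS, h1, h2⟩ := hdir S₁ hS₁ S₂ hS₂
      refine ⟨S, hS, (⟨m₁.1, h1 hm₁⟩ : S) ⊗ₜ (⟨m₂.1, h2 hm₂⟩ : S), ?_⟩
      rw [Algebra.TensorProduct.map_tmul]
      rfl
    | add x y hx hy =>
      obtain ⟨S₁, hS₁, a, rfl⟩ := hx
      obtain ⟨S₂, hS₂, b, rfl⟩ := hy
      obtain ⟨S, hS, h1, h2⟩ := hdir S₁ hS₁ S₂ hS₂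
      obtain ⟨a', ha'⟩ := mono S₁ hS₁ S hS h1 a
      obtain ⟨b', hb'⟩ := mono S₂ hS₂ S hS h2 b
      exact ⟨S, hS, a' + b', by rw [map_add, ha', hb']⟩
  apply weaklyEtale_of_forall_exists_sub
  intro x
  obtain ⟨S, hS, xS, hx⟩ := key x
  exact ⟨S, inferInstance, inferInstance, hwe S hS, Subalgebra.inclusion (hle S hS),
    Subalgebra.inclusion_injective _, xS, hx⟩

/-- S1977: the supremum of all weakly étale subalgebras is weakly étale. -/
theorem weaklyEtale_maxWeaklyEtale (K A : Type u) [Field K] [CommRing A] [Algebra K A] :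
    Algebra.WeaklyEtale K ↥(EtAlgD.maxWeaklyEtale K A) := by
  apply weaklyEtale_sSup_of_directedOn
  · exact ⟨⊥, weaklyEtale_bot_field K A⟩
  · intro S₁ h₁ S₂ h₂
    have : Algebra.WeaklyEtale K S₁ := h₁
    have : Algebra.WeaklyEtale K S₂ := h₂
    exact ⟨S₁ ⊔ S₂, weaklyEtale_sup_field K A S₁ S₂, le_sup_left, le_sup_right⟩
  · exact fun S hS => hS

end Groth.Agent.Lib.Helper36.WE
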