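import Mathlib
import Groth.Agent.Lib.Helper36.OlivierNormal
import Groth.Agent.Lib.Helper36.OlivierLocal
import Groth.Agent.Lib.Helper36.WeaklyEtaleResidue
import Groth.Agent.Lib.Helper36.WeaklyEtaleField
import Groth.Agent.Lib.Helper36.WeaklyEtaleMax
import Groth.Agent.Lib.Helper3.LocalTensorPI

/-!
# Olivier's theorem (helper36)

A weakly étale local algebra over a strictly henselian local ring is trivial.
-/

set_option autoImplicit false
set_option linter.style.haveILetI false
universe u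

namespace Groth.Agent.Lib.Helper36.Olivier

open TensorProduct IsLocalRing Polynomial Groth.Agent.Lib.Helper36.WE
  Groth.Agent.Lib.Helper36.AbsFlat

section

variable (A B : Type u) [CommRing A] [CommRing B] [HenselianLocalRing A] [IsLocalRing B]
  [IsSepClosed (ResidueField A)] [Algebra A B] [IsLocalHom (algebraMap A B)]
  [Algebra.WeaklyEtale A B]

include A in
/-- the residue field extension is trivial -/
lemma exists_sub_mem_maximalIdeal (b : B) : ∃ a : A, b - algebraMap A B a ∈ maximalIdeal B := by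
  haveI : Algebra.IsSeparable (ResidueField A) (ResidueField B) :=
    isSeparable_residueField_of_weaklyEtale A B
  obtain ⟨r, hr⟩ := IsSepClosed.algebraMap_surjective (ResidueField A) (ResidueField B)
    (residue B b)
  obtain ⟨a, rfl⟩ := IsLocalRing.residue_surjective r
  refine ⟨a, ?_⟩
  rw [← residue_eq_zero_iff, map_sub, sub_eq_zero, ← hr]
  rfl

/-- idempotents are integral -/
lemma isIntegral_of_isIdempotentElem {R S : Type*} [CommRing R] [CommRing S] [Algebra R S]
    (e : S) (he : IsIdempotentElem e) : IsIntegral R e := by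
  refine ⟨X * (X - C 1), monic_X.mul (monic_X_sub_C 1), ?_⟩
  rw [eval₂_mul, eval₂_sub, eval₂_X, eval₂_C, map_one, mul_sub, mul_one, he.eq, sub_self]

/-- any two `A`-algebra maps from `B` to an algebraically closed field agree -/
theorem algHom_eq_of_isAlgClosed (Ω : Type u) [Field Ω] [IsAlgClosed Ω] [Algebra A Ω]
    (g₁ g₂ : B →ₐ[A] Ω) : g₁ = g₂ := by
  by_contra hne
  obtain ⟨b, hb⟩ : ∃ b, g₁ b ≠ g₂ b := by
    by_contra h
    simp only [not_exists, not_not] at h
    exact hne (AlgHom.ext h)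
  let A' : Subalgebra A Ω := integralClosure A Ω
  haveI hintA' : Algebra.IsIntegral A A' := inferInstance
  haveI hlocA' : IsLocalRing A' := isLocalRing_of_isIntegral_of_isDomain A A'
  haveI hlh : IsLocalHom (algebraMap A A') := by
    refine ((local_hom_TFAE (algebraMap A A')).out 0 4 rfl rfl).mpr ?_
    have : ((maximalIdeal A').comap (algebraMap A A')).IsMaximal :=
      Ideal.isMaximal_comap_of_isIntegral_of_isMaximal (maximalIdeal A')
    exact IsLocalRing.eq_maximalIdeal this
  haveI hff : Module.FaithfullyFlat A B := Module.FaithfullyFlat.of_flat_of_isLocalHom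
  haveI hnt : Nontrivial (B ⊗[A] A') := Module.FaithfullyFlat.lTensor_nontrivial A B A'
  haveI hloc1 : IsLocalRing (B ⊗[A] A') :=
    Groth.Agent.Lib.Helper3.isLocalRing_tensor_of_residue_surjective A A' B
      (exists_sub_mem_maximalIdeal A B)
  let C' := A' ⊗[A] B
  haveI hlocC : IsLocalRing C' := (Algebra.TensorProduct.comm A B A').toRingEquiv.isLocalRing
  -- `A'` is integrally closed in `Ω`
  have hIC : ∀ z : Ω, IsIntegral A' z → z ∈ Set.range (algebraMap A' Ω) := by
    intro z hz
    have hz' : IsIntegral A z := isIntegral_trans z hz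
    exact ⟨⟨z, hz'⟩, rfl⟩
  let D := C' ⊗[A'] Ω
  -- `D` is von Neumann regular
  have hvnr : ∀ t : D, ∃ s : D, t = t * t * s := by
    have h1 : IsVNR (Ω ⊗[A'] C') := isVNR_of_weaklyEtale_field Ω (Ω ⊗[A'] C')
    let e : D ≃ₐ[A'] Ω ⊗[A'] C' := Algebra.TensorProduct.comm A' C' Ω
    intro t
    obtain ⟨s', hs'⟩ := h1 (e t)
    refine ⟨e.symm s', ?_⟩
    apply e.injective
    rw [map_mul, map_mul, AlgEquiv.apply_symm_apply]
    exact hs'
  let γ : (B →ₐ[A] Ω) → (C' →ₐ[A'] Ω) := fun g =>
    Algebra.TensorProduct.lift (Algebra.ofId A' Ω) g (fun _ _ => Commute.all _ _)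
  let G : (B →ₐ[A] Ω) → (D →ₐ[A'] Ω) := fun g =>
    Algebra.TensorProduct.lift (γ g) (AlgHom.id A' Ω) (fun _ _ => Commute.all _ _)
  have hG : ∀ g (c' : C'), G g (c' ⊗ₜ[A'] (1 : Ω)) = γ g c' := by
    intro g c'
    change (Algebra.TensorProduct.lift (γ g) (AlgHom.id A' Ω) _) (c' ⊗ₜ[A'] (1 : Ω)) = _
    rw [Algebra.TensorProduct.lift_tmul, map_one, mul_one]
  let t : D := (((1 : A') ⊗ₜ[A] b : C') ⊗ₜ[A'] (1 : Ω)) - (1 : C') ⊗ₜ[A'] (g₁ b)
  have hGt : ∀ g, G g t = g b - g₁ b := by
    intro g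
    have e1 : G g (((1 : A') ⊗ₜ[A] b : C') ⊗ₜ[A'] (1 : Ω)) = g b := by
      rw [hG]
      change (Algebra.TensorProduct.lift (Algebra.ofId A' Ω) g _) ((1 : A') ⊗ₜ[A] b) = _
      rw [Algebra.TensorProduct.lift_tmul, map_one, one_mul]
    have e2 : G g ((1 : C') ⊗ₜ[A'] (g₁ b)) = g₁ b := by
      change (Algebra.TensorProduct.lift (γ g) (AlgHom.id A' Ω) _) ((1 : C') ⊗ₜ[A'] (g₁ b)) = _
      rw [Algebra.TensorProduct.lift_tmul, map_one, one_mul]
      rfl
    change G g ((((1 : A') ⊗ₜ[A] b : C') ⊗ₜ[A'] (1 : Ω)) - (1 : C') ⊗ₜ[A'] (g₁ b)) = _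
    rw [map_sub, e1, e2]
  obtain ⟨s, hs⟩ := hvnr t
  let e : D := t * s
  have he : IsIdempotentElem e := by
    change t * s * (t * s) = t * s
    calc t * s * (t * s) = (t * t * s) * s := by ring
      _ = t * s := by rw [← hs]
  have hte : t = t * e := by
    change t = t * (t * s)
    calc t = t * t * s := hs
      _ = t * (t * s) := by ring
  obtain ⟨c', hc'⟩ := isIntegral_mem_range hIC e (isIntegral_of_isIdempotentElem e he)
  have h1 : γ g₁ c' = 0 := by
    rw [← hG, hc']
    change G g₁ (t * s) = 0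
    rw [map_mul, hGt, sub_self, zero_mul]
  have h2 : γ g₂ c' = 1 := by
    rw [← hG, hc']
    have h3 : G g₂ t = G g₂ t * G g₂ e := by rw [← map_mul, ← hte]
    have h4 : G g₂ t ≠ 0 := by
      rw [hGt]
      exact sub_ne_zero.mpr (Ne.symm hb)
    exact (mul_right_cancel₀ h4 (by rw [one_mul, mul_comm]; exact h3)).symm
  rcases IsLocalRing.isUnit_or_isUnit_one_sub_self c' with hu | hu
  · have := hu.map (γ g₁)
    rw [h1] at this
    exact not_isUnit_zero this
  · have := hu.map (γ g₂)
    rw [map_sub, map_one, h2, sub_self] at this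
    exact not_isUnit_zero this

/-- the kernel of the multiplication map is contained in every prime -/
lemma ker_lmul'_le_prime (𝔰 : Ideal (B ⊗[A] B)) [h𝔰 : 𝔰.IsPrime] :
    RingHom.ker (Algebra.TensorProduct.lmul' A (S := B)).toRingHom ≤ 𝔰 := by
  let S := B ⊗[A] B
  let L := FractionRing (S ⧸ 𝔰)
  let Ω := AlgebraicClosure L
  let π : S →+* Ω := (algebraMap L Ω).comp ((algebraMap (S ⧸ 𝔰) L).comp (Ideal.Quotient.mk 𝔰))
  have hπ : ∀ s : S, π s = 0 → s ∈ 𝔰 := by
    intro s hs
    have h1 : algebraMap (S ⧸ 𝔰) L (Ideal.Quotient.mk 𝔰 s) = 0 :=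
      (algebraMap L Ω).injective (by rw [map_zero]; exact hs)
    have h2 : Ideal.Quotient.mk 𝔰 s = 0 :=
      IsFractionRing.injective (S ⧸ 𝔰) L (by rw [h1, map_zero])
    exact Ideal.Quotient.eq_zero_iff_mem.mp h2
  letI algAΩ : Algebra A Ω := (π.comp (algebraMap A S)).toAlgebra
  let g₁ : B →ₐ[A] Ω :=
    { π.comp (Algebra.TensorProduct.includeLeft : B →ₐ[A] S).toRingHom with
      commutes' := fun a => by
        change π ((Algebra.TensorProduct.includeLeft : B →ₐ[A] S) (algebraMap A B a)) =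
          π (algebraMap A S a)
        rw [AlgHom.commutes] }
  let g₂ : B →ₐ[A] Ω :=
    { π.comp (Algebra.TensorProduct.includeRight : B →ₐ[A] S).toRingHom with
      commutes' := fun a => by
        change π ((Algebra.TensorProduct.includeRight : B →ₐ[A] S) (algebraMap A B a)) =
          π (algebraMap A S a)
        rw [AlgHom.commutes] }
  have h12 : g₁ = g₂ := algHom_eq_of_isAlgClosed A B Ω g₁ g₂
  have key : ∀ s : S, π s = g₁ (Algebra.TensorProduct.lmul' A (S := B) s) := by
    intro s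
    induction s using TensorProduct.induction_on with
    | zero => simp
    | tmul b b' =>
      have e1 : (b ⊗ₜ[A] b' : S) = (b ⊗ₜ[A] 1) * (1 ⊗ₜ[A] b') := by
        rw [Algebra.TensorProduct.tmul_mul_tmul, mul_one, one_mul]
      have e2 : π (b ⊗ₜ[A] 1) = g₁ b := rfl
      have e3 : π (1 ⊗ₜ[A] b') = g₂ b' := rfl
      rw [Algebra.TensorProduct.lmul'_apply_tmul, map_mul, e1, map_mul, e2, e3, h12]
    | add x y hx hy => rw [map_add, map_add, map_add, hx, hy]
  intro j hj
  apply hπ
  rw [key]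
  have : (Algebra.TensorProduct.lmul' A (S := B)) j = 0 := hj
  rw [this, map_zero]

/-- the multiplication map `B ⊗[A] B → B` is injective -/
lemma ker_lmul'_eq_bot :
    RingHom.ker (Algebra.TensorProduct.lmul' A (S := B)).toRingHom = ⊥ := by
  rw [eq_bot_iff]
  intro j hj
  have hsurj : Function.Surjective (Algebra.TensorProduct.lmul' A (S := B)).toRingHom := by
    intro b
    exact ⟨b ⊗ₜ[A] 1, by simp⟩
  obtain ⟨y, hy, hjy⟩ := (flat_iff_of_surjective _ hsurj).mp
    (Algebra.WeaklyEtale.flat_lmul' A B) j hj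
  have hynil : IsNilpotent y := by
    rw [← mem_nilradical, nilradical_eq_sInf, Ideal.mem_sInf]
    intro 𝔰 h𝔰
    haveI : 𝔰.IsPrime := h𝔰
    exact ker_lmul'_le_prime A B 𝔰 hy
  obtain ⟨n, hn⟩ := hynil
  have hpow : ∀ k : ℕ, j = j * y ^ k := by
    intro k
    induction k with
    | zero => rw [pow_zero, mul_one]
    | succ k ih =>
      calc j = j * y := hjy
        _ = j * y ^ k * y := by rw [← ih]
        _ = j * y ^ (k + 1) := by rw [pow_succ, mul_assoc]
  rw [Ideal.mem_bot, hpow n, hn, mul_zero]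

/-- **Olivier's theorem** -/
theorem olivier : Function.Bijective (algebraMap A B) := by
  haveI hff : Module.FaithfullyFlat A B := Module.FaithfullyFlat.of_flat_of_isLocalHom
  refine ⟨FaithfulSMul.algebraMap_injective A B, ?_⟩
  intro b
  have h1 : Algebra.TensorProduct.includeLeftSubRight A B b = 0 := by
    have h2 : Algebra.TensorProduct.includeLeftSubRight A B b ∈
        RingHom.ker (Algebra.TensorProduct.lmul' A (S := B)).toRingHom := by
      rw [RingHom.mem_ker]
      simp
    rw [ker_lmul'_eq_bot A B] at h2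
    exact h2
  obtain ⟨a, ha⟩ := ((Algebra.IsEffective.of_faithfullyFlat A B) b).mp h1
  exact ⟨a, ha⟩

end

end Groth.Agent.Lib.Helper36.Olivier
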