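import Mathlib
import Groth.Agent.Lib.Helper36.OlivierMain
import Groth.Agent.Lib.Helper36.IndZarIdLoc
import Groth.Agent.Lib.Helper36.WeaklyEtaleLocal

/-!
# Weakly étale maps which are local isomorphisms at maximal ideals (helper36)
-/

set_option autoImplicit false
set_option linter.style.haveILetI false
universe u

namespace Groth.Agent.Lib.Helper36.Olivier

open TensorProduct IsLocalRing Groth.Agent.Lib.Helper36.WE Groth.Agent.Lib.Helper36.IndZar

/-- If `R_{f⁻¹ n} → S_n` is bijective and `q ≤ n`, then `R_{f⁻¹ q} → S_q` is bijective. -/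
theorem localRingHom_bijective_of_le {R S : Type*} [CommRing R] [CommRing S] (f : R →+* S)
    (q n : Ideal S) [q.IsPrime] [n.IsPrime] (hqn : q ≤ n)
    (h : Function.Bijective (Localization.localRingHom (n.comap f) n f rfl)) :
    Function.Bijective (Localization.localRingHom (q.comap f) q f rfl) := by
  have hinj := (localRingHom_injective_iff f n).mp h.1
  have hsurj := (localRingHom_surjective_iff f n).mp h.2
  have hnq : ∀ x : S, x ∉ n → x ∉ q := fun x hx hxq => hx (hqn hxq)
  constructor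
  · rw [localRingHom_injective_iff]
    rintro a ⟨w, hw, hwa⟩
    obtain ⟨a₂, u₂, w₂, hu₂, hw₂, h2⟩ := hsurj w 1 (fun h1 => (Ideal.IsPrime.ne_top ‹n.IsPrime›)
      ((Ideal.eq_top_iff_one n).mpr h1))
    rw [one_mul] at h2
    -- `f a₂ ∉ q`
    have ha₂ : f a₂ ∉ q := by
      intro hcon
      have h3 : w₂ * (f u₂ * w) ∈ q := by rw [← h2]; exact Ideal.mul_mem_left _ _ hcon
      rcases (Ideal.IsPrime.mem_or_mem ‹q.IsPrime› h3) with h4 | h4
      · exact hnq _ hw₂ h4
      · rcases (Ideal.IsPrime.mem_or_mem ‹q.IsPrime› h4) with h5 | h5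
        · exact hnq _ hu₂ h5
        · exact hw h5
    have h4 : w₂ * f (a₂ * a) = 0 := by
      rw [map_mul, ← mul_assoc, h2]
      calc w₂ * (f u₂ * w) * f a = w₂ * f u₂ * (w * f a) := by ring
        _ = 0 := by rw [hwa, mul_zero]
    obtain ⟨s, hs, hsa⟩ := hinj (a₂ * a) ⟨w₂, hw₂, h4⟩
    refine ⟨s * a₂, ?_, by rw [mul_assoc]; exact hsa⟩
    rw [map_mul]
    intro hcon
    rcases (Ideal.IsPrime.mem_or_mem ‹q.IsPrime› hcon) with h5 | h5
    · exact hnq _ hs h5
    · exact ha₂ h5
  · rw [localRingHom_surjective_iff]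
    intro b s hs
    have h1n : (1 : S) ∉ n := fun h1 => (Ideal.IsPrime.ne_top ‹n.IsPrime›)
      ((Ideal.eq_top_iff_one n).mpr h1)
    obtain ⟨a₁, u₁, w₁, hu₁, hw₁, h1⟩ := hsurj b 1 h1n
    obtain ⟨a₂, u₂, w₂, hu₂, hw₂, h2⟩ := hsurj s 1 h1n
    rw [one_mul] at h1 h2
    have ha₂ : f a₂ ∉ q := by
      intro hcon
      have h3 : w₂ * (f u₂ * s) ∈ q := by rw [← h2]; exact Ideal.mul_mem_left _ _ hcon
      rcases (Ideal.IsPrime.mem_or_mem ‹q.IsPrime› h3) with h4 | h4
      · exact hnq _ hw₂ h4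
      · rcases (Ideal.IsPrime.mem_or_mem ‹q.IsPrime› h4) with h5 | h5
        · exact hnq _ hu₂ h5
        · exact hs h5
    refine ⟨a₁ * u₂, u₁ * a₂, w₁ * w₂, ?_, ?_, ?_⟩
    · rw [map_mul]
      intro hcon
      rcases (Ideal.IsPrime.mem_or_mem ‹q.IsPrime› hcon) with h5 | h5
      · exact hnq _ hu₁ h5
      · exact ha₂ h5
    · intro hcon
      rcases (Ideal.IsPrime.mem_or_mem ‹q.IsPrime› hcon) with h5 | h5
      · exact hnq _ hw₁ h5
      · exact hnq _ hw₂ h5
    · rw [map_mul, map_mul]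
      calc w₁ * w₂ * (s * (f a₁ * f u₂)) = (w₁ * f a₁) * (w₂ * (f u₂ * s)) := by ring
        _ = (w₁ * (f u₁ * b)) * (w₂ * f a₂) := by rw [h1, h2]
        _ = w₁ * w₂ * (f u₁ * f a₂ * b) := by ring

/-- A weakly étale ring map sending maximal ideals to maximal ideals, whose source has strictly
henselian local rings at maximal ideals, identifies local rings. -/
theorem identifiesLocalRings_of_weaklyEtale (C D : Type u) [CommRing C] [CommRing D] [Algebra C D]
    [Algebra.WeaklyEtale C D]
    (hmax : ∀ n : Ideal D, n.IsMaximal → (n.comap (algebraMap C D)).IsMaximal)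
    (hsh : ∀ (m : Ideal C) [m.IsMaximal],
      EtCoh.IsStrictlyHenselianLocalRing (Localization.AtPrime m)) :
    EtPBC.IdentifiesLocalRings C D := by
  intro q
  obtain ⟨n, hn, hqn⟩ := Ideal.exists_le_maximal q.asIdeal q.2.ne_top
  haveI := hn.isPrime
  apply localRingHom_bijective_of_le (algebraMap C D) q.asIdeal n hqn
  let m : Ideal C := n.comap (algebraMap C D)
  haveI hm : m.IsMaximal := hmax n hn
  obtain ⟨hhens, hsep⟩ := hsh m
  let Cm := Localization.AtPrime m
  let Dn := Localization.AtPrime n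
  let φ : Cm →+* Dn := Localization.localRingHom m n (algebraMap C D) rfl
  letI : Algebra Cm Dn := φ.toAlgebra
  haveI : IsScalarTower C Cm Dn := IsScalarTower.of_algebraMap_eq (fun c => by
    change algebraMap C Dn c = φ (algebraMap C Cm c)
    rw [Localization.localRingHom_to_map]
    exact IsScalarTower.algebraMap_apply C D Dn c)
  haveI : IsLocalHom (algebraMap Cm Dn) := Localization.isLocalHom_localRingHom m n _ rfl
  haveI : Algebra.WeaklyEtale Cm Dn :=
    weaklyEtale_of_isLocalization_of_weaklyEtale (R := C) (S := D) m.primeCompl Cm n.primeCompl Dn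
  exact olivier Cm Dn

end Groth.Agent.Lib.Helper36.Olivier
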