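import Mathlib

set_option autoImplicit false
universe u

namespace Groth.Agent.Lib.Helper36.RTensor

open CategoryTheory CategoryTheory.Limits

/-- if an ideal of a stage generates the unit ideal in a filtered colimit of rings, it already
does so at a later stage -/
theorem exists_map_eq_top_of_isColimit {J : Type} [Category.{0} J] [IsFiltered J]
    (D : J ⥤ CommRingCat.{u}) (c : Cocone D) (hc : IsColimit c) (j : J) (I : Ideal (D.obj j))
    (hI : I.map (show D.obj j →+* c.pt from (c.ι.app j).hom) = ⊤) :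
    ∃ (m : J) (a : j ⟶ m), I.map (D.map a).hom = ⊤ := by
  classical
  have : PreservesFilteredColimitsOfSize.{0, 0} (forget CommRingCat.{u}) :=
    preservesFilteredColimitsOfSize_shrink.{0, u, 0, u} _
  let ιc : ∀ k, D.obj k →+* c.pt := fun k => (c.ι.app k).hom
  have hI' : I.map (ιc j) = ⊤ := hI
  have hw : ∀ {k m : J} (b : k ⟶ m) (x : D.obj k), ιc m ((D.map b).hom x) =
      ιc k x := fun b x => ConcreteCategory.congr_hom (c.w b) x
  have hmapmap : ∀ {k m : J} (a : j ⟶ k) (b : k ⟶ m),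
      (I.map (D.map a).hom).map (D.map b).hom = I.map (D.map (a ≫ b)).hom := by
    intro k m a b
    rw [Ideal.map_map, D.map_comp]
    rfl
  let P : c.pt → Prop := fun x => ∃ (m : J) (a : j ⟶ m) (x' : D.obj m),
    x' ∈ I.map (D.map a).hom ∧ ιc m x' = x
  have hP : ∀ x ∈ I.map (ιc j), P x := by
    intro x hx
    refine Submodule.span_induction (p := fun x _ => P x) ?_ ?_ ?_ ?_ hx
    · rintro _ ⟨i, hi, rfl⟩
      refine ⟨j, 𝟙 j, i, ?_, rfl⟩
      rw [D.map_id]
      exact Ideal.mem_map_of_mem _ hi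
    · exact ⟨j, 𝟙 j, 0, zero_mem _, map_zero _⟩
    · rintro x y _ _ ⟨m₁, a₁, x₁, hx₁, rfl⟩ ⟨m₂, a₂, x₂, hx₂, rfl⟩
      obtain ⟨m, b₁, b₂, hb⟩ := IsFiltered.span a₁ a₂
      refine ⟨m, a₁ ≫ b₁, (D.map b₁).hom x₁ + (D.map b₂).hom x₂, ?_, ?_⟩
      · apply add_mem
        · rw [← hmapmap]
          exact Ideal.mem_map_of_mem _ hx₁
        · rw [hb, ← hmapmap]
          exact Ideal.mem_map_of_mem _ hx₂
      · rw [map_add, hw, hw]
    · rintro r x _ ⟨m₁, a₁, x₁, hx₁, rfl⟩
      obtain ⟨m₀, r', hr'⟩ := Concrete.isColimit_exists_rep D hc r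
      have hr'' : ιc m₀ r' = r := hr'
      let m := IsFiltered.max m₀ m₁
      refine ⟨m, a₁ ≫ IsFiltered.rightToMax m₀ m₁,
        (D.map (IsFiltered.leftToMax m₀ m₁)).hom r' * (D.map (IsFiltered.rightToMax m₀ m₁)).hom x₁,
        ?_, ?_⟩
      · apply Ideal.mul_mem_left
        rw [← hmapmap]
        exact Ideal.mem_map_of_mem _ hx₁
      · rw [map_mul, hw, hw, hr'']
        rfl
  obtain ⟨m, a, x', hx', h1⟩ := hP 1 (by rw [hI']; exact Submodule.mem_top)
  have h2 : ιc m x' = ιc m (1 : D.obj m) := by rw [h1, map_one]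
  obtain ⟨k, f, g, hfg⟩ := Concrete.isColimit_exists_of_rep_eq D hc x' (1 : D.obj m) h2
  have hfg' : (D.map f).hom x' = (D.map g).hom 1 := hfg
  rw [map_one] at hfg'
  refine ⟨k, a ≫ f, ?_⟩
  rw [Ideal.eq_top_iff_one, ← hfg', ← hmapmap]
  exact Ideal.mem_map_of_mem _ hx'

end Groth.Agent.Lib.Helper36.RTensor
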