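import Mathlib

set_option autoImplicit false
universe u

namespace Groth.Agent.Lib.Helper36.RTensor

open MvPolynomial

/-- a finite presentation datum -/
structure Cov (R : Type u) [CommRing R] : Type u where
  /-- number of variables -/
  n : ℕ
  /-- relations -/
  rels : Finset (MvPolynomial (Fin n) R)

variable {R : Type u} [CommRing R]

/-- the presented algebra -/
abbrev Cov.Alg (c : Cov R) : Type u :=
  MvPolynomial (Fin c.n) R ⧸ Ideal.span (c.rels : Set (MvPolynomial (Fin c.n) R))

variable {κ : Type u} (c : κ → Cov R)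

/-- variables of the restricted tensor product -/
abbrev Var : Type u := Σ k, Fin (c k).n

/-- inclusion of the variables of a factor -/
def inj (k : κ) : Fin (c k).n → Var c := fun j => ⟨k, j⟩

/-- relations of the restricted tensor product -/
def relSet : Set (MvPolynomial (Var c) R) :=
  ⋃ k, (fun p => rename (inj c k) p) '' ((c k).rels : Set _)

/-- the restricted tensor product -/
abbrev RT : Type u := MvPolynomial (Var c) R ⧸ Ideal.span (relSet c)

namespace RT

/-- the inclusion of a factor -/
noncomputable def ι (k : κ) : (c k).Alg →ₐ[R] RT c :=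
  Ideal.Quotient.liftₐ _ ((Ideal.Quotient.mkₐ R _).comp
    (rename (inj c k))) (by
    intro a ha
    have hle : Ideal.span ((c k).rels : Set (MvPolynomial (Fin (c k).n) R)) ≤
        RingHom.ker ((Ideal.Quotient.mkₐ R (Ideal.span (relSet c))).comp
          (rename (inj c k))).toRingHom := by
      rw [Ideal.span_le]
      intro p hp
      simp only [SetLike.mem_coe, RingHom.mem_ker, AlgHom.toRingHom_eq_coe, RingHom.coe_coe,
        AlgHom.comp_apply, Ideal.Quotient.mkₐ_eq_mk, Ideal.Quotient.eq_zero_iff_mem]
      apply Ideal.subset_span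
      exact Set.mem_iUnion.2 ⟨k, ⟨p, hp, rfl⟩⟩
    exact hle ha)

theorem ι_mk (k : κ) (p : MvPolynomial (Fin (c k).n) R) :
    ι c k (Ideal.Quotient.mk _ p) = Ideal.Quotient.mk _ (rename (inj c k) p) :=
  rfl

variable {c}
variable {S : Type*} [CommRing S] [Algebra R S]

/-- the polynomial-level map -/
noncomputable def liftPoly (f : ∀ k, (c k).Alg →ₐ[R] S) : MvPolynomial (Var c) R →ₐ[R] S :=
  aeval (fun v : Var c => f v.1 (Ideal.Quotient.mk _ (X v.2)))

theorem liftPoly_rename (f : ∀ k, (c k).Alg →ₐ[R] S) (k : κ) (p : MvPolynomial (Fin (c k).n) R) :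
    liftPoly f (rename (inj c k) p) = f k (Ideal.Quotient.mk _ p) := by
  have : (liftPoly f).comp (rename (inj c k)) =
      (f k).comp (Ideal.Quotient.mkₐ R _) := by
    apply MvPolynomial.algHom_ext
    intro j
    simp only [liftPoly, AlgHom.comp_apply, rename_X, aeval_X, Ideal.Quotient.mkₐ_eq_mk]
    rfl
  exact DFunLike.congr_fun this p

/-- universal property: lift -/
noncomputable def lift (f : ∀ k, (c k).Alg →ₐ[R] S) : RT c →ₐ[R] S :=
  Ideal.Quotient.liftₐ _ (liftPoly f) (by
    intro a ha
    have hle : Ideal.span (relSet c) ≤ RingHom.ker (liftPoly f).toRingHom := by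
      rw [Ideal.span_le]
      intro p hp
      obtain ⟨k, hk⟩ := Set.mem_iUnion.1 hp
      obtain ⟨p', hp', rfl⟩ := hk
      simp only [SetLike.mem_coe, RingHom.mem_ker, AlgHom.toRingHom_eq_coe, RingHom.coe_coe]
      rw [liftPoly_rename]
      have : (Ideal.Quotient.mk (Ideal.span ((c k).rels : Set (MvPolynomial (Fin (c k).n) R)))) p' = 0 :=
        Ideal.Quotient.eq_zero_iff_mem.2 (Ideal.subset_span hp')
      rw [this, map_zero]
    exact hle ha)

theorem lift_mk (f : ∀ k, (c k).Alg →ₐ[R] S) (p : MvPolynomial (Var c) R) :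
    lift f (Ideal.Quotient.mk _ p) = liftPoly f p := rfl

theorem lift_ι (f : ∀ k, (c k).Alg →ₐ[R] S) (k : κ) : (lift f).comp (ι c k) = f k := by
  apply AlgHom.ext
  intro x
  obtain ⟨p, rfl⟩ := Ideal.Quotient.mk_surjective x
  rw [AlgHom.comp_apply, ι_mk, lift_mk, liftPoly_rename]

theorem lift_ι_apply (f : ∀ k, (c k).Alg →ₐ[R] S) (k : κ) (x : (c k).Alg) :
    lift f (ι c k x) = f k x := DFunLike.congr_fun (lift_ι f k) x

theorem hom_ext {g g' : RT c →ₐ[R] S} (h : ∀ k, g.comp (ι c k) = g'.comp (ι c k)) : g = g' := by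
  apply Ideal.Quotient.algHom_ext
  apply MvPolynomial.algHom_ext
  rintro ⟨k, j⟩
  have := DFunLike.congr_fun (h k) (Ideal.Quotient.mk _ (X j))
  simp only [AlgHom.comp_apply, ι_mk, rename_X] at this
  exact this

theorem hom_ext_ringHom {S' : Type*} [CommRing S'] {g g' : RT c →+* S'}
    (h0 : g.comp (algebraMap R (RT c)) = g'.comp (algebraMap R (RT c)))
    (h : ∀ k, g.comp (ι c k).toRingHom = g'.comp (ι c k).toRingHom) : g = g' := by
  apply Ideal.Quotient.ringHom_ext
  apply MvPolynomial.ringHom_ext
  · intro r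
    exact DFunLike.congr_fun h0 r
  · rintro ⟨k, j⟩
    have := DFunLike.congr_fun (h k) (Ideal.Quotient.mk _ (X j))
    simp only [RingHom.comp_apply, AlgHom.toRingHom_eq_coe, RingHom.coe_coe, ι_mk, rename_X] at this
    exact this

variable (c)

theorem finitePresentation [Finite κ] : Algebra.FinitePresentation R (RT c) := by
  apply Algebra.FinitePresentation.quotient
  apply Submodule.fg_span
  apply Set.finite_iUnion
  intro k
  exact (Finset.finite_toSet _).image _

theorem formallyEtale [∀ k, Algebra.FormallyEtale R (c k).Alg] :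
    Algebra.FormallyEtale R (RT c) := by
  rw [Algebra.FormallyEtale.iff_comp_bijective]
  intro B _ _ I hI
  constructor
  · intro g g' hgg'
    apply hom_ext
    intro k
    apply (Algebra.FormallyEtale.comp_bijective R (c k).Alg I hI).1
    change (Ideal.Quotient.mkₐ R I).comp (g.comp (ι c k)) =
      (Ideal.Quotient.mkₐ R I).comp (g'.comp (ι c k))
    rw [← AlgHom.comp_assoc, ← AlgHom.comp_assoc]
    exact congrArg (fun φ => AlgHom.comp φ (ι c k)) hgg'
  · intro h
    choose f hf using fun k => (Algebra.FormallyEtale.comp_bijective R (c k).Alg I hI).2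
      (h.comp (ι c k))
    refine ⟨lift f, ?_⟩
    apply hom_ext
    intro k
    change ((Ideal.Quotient.mkₐ R I).comp (lift f)).comp (ι c k) = h.comp (ι c k)
    rw [AlgHom.comp_assoc, lift_ι]
    exact hf k

theorem etale [Finite κ] [∀ k, Algebra.Etale R (c k).Alg] : Algebra.Etale R (RT c) :=
  { formallyEtale := formallyEtale c
    finitePresentation := finitePresentation c }

end RT



end Groth.Agent.Lib.Helper36.RTensor
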