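import Mathlib

set_option autoImplicit false
universe u

namespace Groth.Agent.Lib.Helper36.RTensor

open TensorProduct

/-- a faithfully flat étale algebra maps to any algebraically closed field over the base -/
theorem exists_algHom_algClosed (R S Ω : Type u) [CommRing R] [CommRing S] [Algebra R S]
    [Algebra.Etale R S] [Module.FaithfullyFlat R S] [Field Ω] [IsAlgClosed Ω] [Algebra R Ω] :
    Nonempty (S →ₐ[R] Ω) := by
  have hnt : Nontrivial (Ω ⊗[R] S) :=
    (Module.FaithfullyFlat.nontrivial_tensorProduct_iff_left R Ω).2 inferInstance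
  have hfin : Module.Finite Ω (Ω ⊗[R] S) := Algebra.FormallyUnramified.finite_of_free Ω (Ω ⊗[R] S)
  obtain ⟨m, hm⟩ := Ideal.exists_maximal (Ω ⊗[R] S)
  let K := (Ω ⊗[R] S) ⧸ m
  let : Field K := Ideal.Quotient.field m
  have hint : Algebra.IsIntegral Ω K := inferInstance
  have hbij : Function.Bijective (algebraMap Ω K) := IsAlgClosed.algebraMap_bijective_of_isIntegral
  let e : Ω ≃ₐ[Ω] K := AlgEquiv.ofBijective (Algebra.ofId Ω K) hbij
  let g : S →ₐ[R] K := (IsScalarTower.toAlgHom R (Ω ⊗[R] S) K).comp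
    (Algebra.TensorProduct.includeRight)
  exact ⟨(e.symm.toAlgHom.restrictScalars R).comp g⟩

end Groth.Agent.Lib.Helper36.RTensor
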