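import Mathlib
import Groth.Agent.Lib.Helper36.RTensor
import Groth.Agent.Lib.Helper36.RTensorField
import Groth.Agent.Lib.Helper36.IndEtaleSpread
import Groth.Agent.S0736

set_option autoImplicit false
universe u

namespace Groth.Agent.Lib.Helper36.RTensor

open CategoryTheory CategoryTheory.Limits

variable (R : Type u) [CommRing R]

/-- étale covers, up to presentation -/
def ECov : Type u := {c : Cov R // Algebra.Etale R c.Alg ∧ Module.FaithfullyFlat R c.Alg}

instance (k : ECov R) : Algebra.Etale R k.1.Alg := k.2.1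
instance (k : ECov R) : Module.FaithfullyFlat R k.1.Alg := k.2.2

theorem exists_ecov (S : Type u) [CommRing S] [Algebra R S] [Algebra.Etale R S]
    [Module.FaithfullyFlat R S] : ∃ k : ECov R, Nonempty (S ≃ₐ[R] k.1.Alg) := by
  obtain ⟨n, f, hf, hker⟩ := (Algebra.FinitePresentation.out : ∃ (n : ℕ)
    (f : MvPolynomial (Fin n) R →ₐ[R] S), Function.Surjective f ∧ (RingHom.ker f.toRingHom).FG)
  obtain ⟨s, hs⟩ := hker
  let c : Cov R := ⟨n, s⟩
  have heq : Ideal.span (c.rels : Set (MvPolynomial (Fin c.n) R)) = RingHom.ker f := hs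
  let e : c.Alg ≃ₐ[R] S :=
    (Ideal.quotientEquivAlgOfEq R heq).trans (Ideal.quotientKerAlgEquivOfSurjective hf)
  have h1 : Algebra.Etale R c.Alg := Algebra.Etale.of_equiv e.symm
  have h2 : Module.FaithfullyFlat R c.Alg := Module.FaithfullyFlat.of_linearEquiv R S e.toLinearEquiv
  exact ⟨⟨c, h1, h2⟩, ⟨e.symm⟩⟩

/-- restriction of the tautological family to a finite set -/
abbrev res (F : Finset (ECov R)) : F → Cov R := fun k => k.1.1

instance (F : Finset (ECov R)) (k : F) : Algebra.Etale R (res R F k).Alg := k.1.2.1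

/-- transition maps -/
noncomputable def trans {F F' : Finset (ECov R)} (h : F ≤ F') :
    RT (res R F) →ₐ[R] RT (res R F') :=
  RT.lift (fun k => RT.ι (res R F') ⟨k.1, h k.2⟩)

theorem trans_ι {F F' : Finset (ECov R)} (h : F ≤ F') (k : F) :
    (trans R h).comp (RT.ι (res R F) k) = RT.ι (res R F') ⟨k.1, h k.2⟩ :=
  RT.lift_ι _ k

theorem trans_id (F : Finset (ECov R)) : trans R (le_refl F) = AlgHom.id R _ := by
  apply RT.hom_ext
  intro k
  rw [trans_ι]
  rfl

theorem trans_comp {F F' F'' : Finset (ECov R)} (h : F ≤ F') (h' : F' ≤ F'') :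
    (trans R h').comp (trans R h) = trans R (h.trans h') := by
  apply RT.hom_ext
  intro k
  rw [AlgHom.comp_assoc, trans_ι, trans_ι, trans_ι]

/-- the diagram of finite tensor products -/
noncomputable def diag : Finset (ECov R) ⥤ CommRingCat.{u} where
  obj F := CommRingCat.of (RT (res R F))
  map f := CommRingCat.ofHom (trans R (leOfHom f)).toRingHom
  map_id F := by
    have : trans R (leOfHom (𝟙 F)) = AlgHom.id R _ := trans_id R F
    rw [this]
    rfl
  map_comp f g := by
    have := trans_comp R (leOfHom f) (leOfHom g)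
    rw [← CommRingCat.ofHom_comp]
    congr 1
    rw [← this]
    rfl

/-- the infinite tensor product of all étale covers -/
def T : Type u := ↑(colimit (diag R))

noncomputable instance : CommRing (T R) := inferInstanceAs (CommRing ↑(colimit (diag R)))

/-- the coprojections -/
noncomputable def ιT₀ (F : Finset (ECov R)) : RT (res R F) →+* T R := (colimit.ι (diag R) F).hom

theorem ιT₀_trans {F F' : Finset (ECov R)} (h : F ≤ F') (x : RT (res R F)) :
    ιT₀ R F' (trans R h x) = ιT₀ R F x := by
  have := colimit.w (diag R) (homOfLE h)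
  exact ConcreteCategory.congr_hom this x

noncomputable instance : Algebra R (T R) :=
  ((ιT₀ R ∅).comp (algebraMap R (RT (res R ∅)))).toAlgebra

theorem ιT₀_algebraMap (F : Finset (ECov R)) (r : R) :
    ιT₀ R F (algebraMap R _ r) = algebraMap R (T R) r := by
  have h : (∅ : Finset (ECov R)) ≤ F := Finset.empty_subset F
  change _ = ιT₀ R ∅ (algebraMap R _ r)
  rw [← ιT₀_trans R h, AlgHom.commutes]

/-- the coprojections as algebra maps -/
noncomputable def ιT (F : Finset (ECov R)) : RT (res R F) →ₐ[R] T R :=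
  { ιT₀ R F with commutes' := ιT₀_algebraMap R F }

theorem ιT_trans {F F' : Finset (ECov R)} (h : F ≤ F') :
    (ιT R F').comp (trans R h) = ιT R F := by
  apply AlgHom.ext
  intro x
  exact ιT₀_trans R h x

instance : IsFiltered (Finset (ECov R)) := isFiltered_of_directed_le_nonempty _

open Groth.Agent.Lib.Helper36.IndEt in
theorem isIndEtale_T : EtPBC.IsIndEtale R (T R) := by
  rw [isIndEtale_iff_indMP]
  refine ⟨Finset (ECov R), inferInstance, inferInstance, diag R,
    { app := fun F => CommRingCat.ofHom (algebraMap R (RT (res R F)))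
      naturality := ?_ },
    (colimit.cocone (diag R)).ι, colimit.isColimit (diag R), ?_⟩
  · intro F F' f
    ext (r : R)
    exact ((trans R (leOfHom f)).commutes r).symm
  · intro F
    constructor
    · change (algebraMap R (RT (res R F))).Etale
      rw [RingHom.etale_algebraMap]
      exact RT.etale (res R F)
    · ext r
      exact ιT₀_algebraMap R F r

/-- every faithfully flat étale algebra maps to `T R` -/
theorem exists_algHom_T (S : Type u) [CommRing S] [Algebra R S] [Algebra.Etale R S]
    [Module.FaithfullyFlat R S] : Nonempty (S →ₐ[R] T R) := by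
  obtain ⟨k, ⟨e⟩⟩ := exists_ecov R S
  have hk : k ∈ ({k} : Finset (ECov R)) := Finset.mem_singleton_self k
  exact ⟨((ιT R {k}).comp (RT.ι (res R {k}) ⟨k, hk⟩)).comp e.toAlgHom⟩

/-- ring maps to algebraically closed fields extend to `T R` -/
theorem exists_extension_T (Ω : Type u) [Field Ω] [IsAlgClosed Ω] (φ : R →+* Ω) :
    ∃ ψ : T R →+* Ω, ψ.comp (algebraMap R (T R)) = φ := by
  let : Algebra R Ω := φ.toAlgebra
  let f : ∀ k : ECov R, k.1.Alg →ₐ[R] Ω := fun k => (exists_algHom_algClosed R k.1.Alg Ω).some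
  let g : ∀ F : Finset (ECov R), RT (res R F) →ₐ[R] Ω := fun F => RT.lift (fun k => f k.1)
  have hg : ∀ {F F' : Finset (ECov R)} (h : F ≤ F'), (g F').comp (trans R h) = g F := by
    intro F F' h
    apply RT.hom_ext
    intro k
    rw [AlgHom.comp_assoc, trans_ι, RT.lift_ι, RT.lift_ι]
  let cc : Cocone (diag R) :=
    { pt := CommRingCat.of Ω
      ι := { app := fun F => CommRingCat.ofHom (g F).toRingHom
             naturality := by
               intro F F' a
               ext x
               exact DFunLike.congr_fun (hg (leOfHom a)) x } }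
  refine ⟨(colimit.desc (diag R) cc).hom, ?_⟩
  ext r
  have h1 : (colimit.desc (diag R) cc).hom (ιT₀ R ∅ (algebraMap R (RT (res R ∅)) r)) =
      g ∅ (algebraMap R (RT (res R ∅)) r) :=
    ConcreteCategory.congr_hom (colimit.ι_desc cc ∅) (algebraMap R (RT (res R ∅)) r)
  change (colimit.desc (diag R) cc).hom (ιT₀ R ∅ (algebraMap R (RT (res R ∅)) r)) = φ r
  rw [h1, AlgHom.commutes]
  rfl

/-- kernels of maps to fields lying over a prime -/
theorem exists_prime_of_extension {R' S' : Type u} [CommRing R'] [CommRing S'] [Algebra R' S']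
    (p : PrimeSpectrum R')
    (h : ∀ (Ω : Type u) [Field Ω] [IsAlgClosed Ω] (φ : R' →+* Ω),
      ∃ ψ : S' →+* Ω, ψ.comp (algebraMap R' S') = φ) :
    ∃ q : PrimeSpectrum S', PrimeSpectrum.comap (algebraMap R' S') q = p := by
  let Ω := AlgebraicClosure p.asIdeal.ResidueField
  let φ : R' →+* Ω :=
    (algebraMap p.asIdeal.ResidueField Ω).comp (algebraMap R' p.asIdeal.ResidueField)
  obtain ⟨ψ, hψ⟩ := h Ω φ
  refine ⟨⟨RingHom.ker ψ, RingHom.ker_isPrime ψ⟩, ?_⟩
  ext r
  have h1 : ψ (algebraMap R' S' r) = φ r := DFunLike.congr_fun hψ r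
  simp only [PrimeSpectrum.comap_asIdeal, Ideal.mem_comap, RingHom.mem_ker, h1]
  change (algebraMap p.asIdeal.ResidueField Ω) (algebraMap R' p.asIdeal.ResidueField r) = 0 ↔ _
  rw [map_eq_zero_iff _ (algebraMap p.asIdeal.ResidueField Ω).injective,
    Ideal.algebraMap_residueField_eq_zero]

theorem faithfullyFlat_T : Module.FaithfullyFlat R (T R) := by
  have hwe : Algebra.WeaklyEtale R (T R) := Groth.Agent.S0736.result R (T R) (isIndEtale_T R)
  have : Module.Flat R (T R) := hwe.flat
  apply Module.FaithfullyFlat.of_comap_surjective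
  intro p
  exact exists_prime_of_extension p (fun Ω _ _ φ => exists_extension_T R Ω φ)

end Groth.Agent.Lib.Helper36.RTensor
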