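import Mathlib
import Groth.Agent.Lib.Helper36.RTensorT

set_option autoImplicit false
universe u

namespace Groth.Agent.Lib.Helper36.RTensor

open CategoryTheory CategoryTheory.Limits
open Groth.Agent.Lib.Helper36.IndEt

variable (A : Type u) [CommRing A]

/-- the sequence of rings `A, T A, T (T A), ...` -/
noncomputable def seq : ℕ → CommRingCat.{u}
  | 0 => CommRingCat.of A
  | n + 1 => CommRingCat.of (T (seq n))

/-- the maps of the sequence -/
noncomputable def seqMap (n : ℕ) : seq A n ⟶ seq A (n + 1) :=
  CommRingCat.ofHom (algebraMap (seq A n) (T (seq A n)))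

/-- the sequence as a functor -/
noncomputable def sdiag : ℕ ⥤ CommRingCat.{u} := Functor.ofSequence (seqMap A)

theorem sdiag_map_succ (n : ℕ) :
    (sdiag A).map (homOfLE (Nat.le_add_right n 1)) = seqMap A n :=
  Functor.ofSequence_map_homOfLE_succ _ n

/-- the colimit ring -/
def C : Type u := ↑(colimit (sdiag A))

noncomputable instance : CommRing (C A) := inferInstanceAs (CommRing ↑(colimit (sdiag A)))

/-- coprojections -/
noncomputable def ιC (n : ℕ) : seq A n →+* C A := (colimit.ι (sdiag A) n).hom

noncomputable instance : Algebra A (C A) := RingHom.toAlgebra (ιC A 0)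

theorem indEtale_sdiag_map (n : ℕ) :
    MorphismProperty.ind.{u} etaleMP.{u} ((sdiag A).map (homOfLE (Nat.zero_le n))) := by
  induction n with
  | zero =>
    have : (sdiag A).map (homOfLE (Nat.zero_le 0)) = 𝟙 _ := (sdiag A).map_id 0
    rw [this]
    apply MorphismProperty.le_ind
    change (RingHom.id _).Etale
    exact RingHom.Etale.of_bijective Function.bijective_id
  | succ n ih =>
    have h1 : (sdiag A).map (homOfLE (Nat.zero_le (n + 1))) =
        (sdiag A).map (homOfLE (Nat.zero_le n)) ≫ (sdiag A).map (homOfLE (Nat.le_add_right n 1)) := by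
      rw [← Functor.map_comp]
      rfl
    rw [h1, sdiag_map_succ]
    apply indMP_comp _ _ ih
    exact (isIndEtale_iff_indMP _ _).1 (isIndEtale_T (seq A n))

/-- `ind` with an essentially small index category -/
theorem ind_of_essentiallySmall_index {𝒞 : Type (u + 1)} [Category.{u} 𝒞]
    (P : MorphismProperty 𝒞) {X Y : 𝒞} (f : X ⟶ Y)
    {J : Type} [Category.{0} J] [IsFiltered J]
    (D : J ⥤ 𝒞) (t : (Functor.const J).obj X ⟶ D) (s : D ⟶ (Functor.const J).obj Y)
    (hs : IsColimit (Cocone.mk _ s)) (hst : ∀ j, P (t.app j) ∧ t.app j ≫ s.app j = f) :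
    MorphismProperty.ind.{u} P f := by
  have : EssentiallySmall.{u} J := inferInstance
  let e := equivSmallModel.{u} J
  have : IsFiltered (SmallModel.{u} J) := IsFiltered.of_equivalence e
  refine ⟨SmallModel.{u} J, inferInstance, inferInstance, e.inverse ⋙ D,
    { app := fun j => t.app (e.inverse.obj j)
      naturality := fun j j' a => t.naturality (e.inverse.map a) },
    { app := fun j => s.app (e.inverse.obj j)
      naturality := fun j j' a => s.naturality (e.inverse.map a) }, ?_, fun j => hst _⟩
  exact (Functor.Final.isColimitWhiskerEquiv e.inverse (Cocone.mk _ s)).symm hs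

theorem isIndEtale_C : EtPBC.IsIndEtale A (C A) := by
  rw [isIndEtale_iff_indMP]
  have key : MorphismProperty.ind.{u} (MorphismProperty.ind.{u} etaleMP.{u})
      (CommRingCat.ofHom (algebraMap A (C A))) := ?_
  · exact (MorphismProperty.ind_ind.{u} (P := etaleMP.{u}) etaleMP_le_isFinitelyPresentable).le _ key
  refine ind_of_essentiallySmall_index _ _ (sdiag A)
    { app := fun n => (sdiag A).map (homOfLE (Nat.zero_le n))
      naturality := ?_ }
    (colimit.cocone (sdiag A)).ι (colimit.isColimit (sdiag A)) ?_
  · intro n m f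
    change 𝟙 _ ≫ (sdiag A).map (homOfLE (Nat.zero_le m)) =
      (sdiag A).map (homOfLE (Nat.zero_le n)) ≫ (sdiag A).map f
    rw [Category.id_comp, ← Functor.map_comp]
    rfl
  · intro n
    refine ⟨indEtale_sdiag_map A n, ?_⟩
    exact colimit.w (sdiag A) (homOfLE (Nat.zero_le n))

section ext

variable (Ω : Type u) [Field Ω] [IsAlgClosed Ω] (φ : A →+* Ω)

/-- compatible extensions to the stages -/
noncomputable def extMap : ∀ n, (seq A n →+* Ω)
  | 0 => φ
  | n + 1 => (exists_extension_T (seq A n) Ω (extMap n)).choose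

theorem extMap_succ (n : ℕ) :
    (extMap A Ω φ (n + 1)).comp (algebraMap (seq A n) (T (seq A n))) = extMap A Ω φ n :=
  (exists_extension_T (seq A n) Ω (extMap A Ω φ n)).choose_spec

theorem exists_extension_C : ∃ ψ : C A →+* Ω, ψ.comp (algebraMap A (C A)) = φ := by
  let cc : Cocone (sdiag A) :=
    { pt := CommRingCat.of Ω
      ι := NatTrans.ofSequence (fun n => CommRingCat.ofHom (extMap A Ω φ n)) (by
        intro n
        rw [sdiag_map_succ]
        change seqMap A n ≫ CommRingCat.ofHom (extMap A Ω φ (n + 1)) =
          CommRingCat.ofHom (extMap A Ω φ n) ≫ 𝟙 _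
        rw [Category.comp_id]
        ext x
        exact DFunLike.congr_fun (extMap_succ A Ω φ n) x) }
  refine ⟨(colimit.desc (sdiag A) cc).hom, ?_⟩
  ext a
  exact ConcreteCategory.congr_hom (colimit.ι_desc cc 0) a

end ext

theorem faithfullyFlat_C : Module.FaithfullyFlat A (C A) := by
  have hwe : Algebra.WeaklyEtale A (C A) := Groth.Agent.S0736.result A (C A) (isIndEtale_C A)
  have : Module.Flat A (C A) := hwe.flat
  apply Module.FaithfullyFlat.of_comap_surjective
  intro p
  exact exists_prime_of_extension p (fun Ω _ _ φ => exists_extension_C A Ω φ)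

end Groth.Agent.Lib.Helper36.RTensor
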