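import Mathlib
import Groth.Agent.Lib.Helper36.IndEtaleSpread

set_option autoImplicit false
set_option linter.style.haveILetI false
universe v w u

namespace Groth.Agent.Lib.Helper36.RTensor

open CategoryTheory CategoryTheory.Limits MorphismProperty TensorProduct
open Groth.Agent.Lib.Helper36.IndEt

section Factor

variable {J : Type w} [Category.{v} J] [IsFiltered J] {D : J ⥤ CommRingCat.{u}} {c : Cocone D}
  [PreservesColimit D (forget CommRingCat)]

/-- A finitely generated `ℤ`-subalgebra of a filtered colimit of rings lifts to some stage. -/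
theorem exists_factor_of_fg' (hc : IsColimit c) (A₀ : Subalgebra ℤ c.pt) (hA₀ : A₀.FG) :
    ∃ (j : J) (g' : A₀ →+* D.obj j), (c.ι.app j).hom.comp g' = A₀.val.toRingHom := by
  have hft : Algebra.FiniteType ℤ A₀ := A₀.fg_iff_finiteType.mp hA₀
  have hfp : Algebra.FinitePresentation ℤ A₀ := Algebra.FinitePresentation.of_finiteType.mp hft
  let Z : CommRingCat.{u} := CommRingCat.of (ULift.{u} ℤ)
  let α : (Functor.const J).obj Z ⟶ D :=
    { app := fun i => CommRingCat.isInitial.to _
      naturality := fun i k a => CommRingCat.isInitial.hom_ext _ _ }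
  let f : Z ⟶ CommRingCat.of A₀ := CommRingCat.isInitial.to _
  have hf : f.hom.FinitePresentation := by
    have h1 : f.hom = (algebraMap ℤ A₀).comp (ULift.ringEquiv (R := ℤ)).toRingHom := by
      have : f = CommRingCat.ofHom ((algebraMap ℤ A₀).comp (ULift.ringEquiv (R := ℤ)).toRingHom) :=
        CommRingCat.isInitial.hom_ext _ _
      rw [this]; rfl
    rw [h1]
    exact RingHom.FinitePresentation.comp (RingHom.finitePresentation_algebraMap.mpr hfp)
      (RingHom.FinitePresentation.of_bijective (ULift.ringEquiv (R := ℤ)).bijective)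
  let g : CommRingCat.of A₀ ⟶ c.pt := CommRingCat.ofHom A₀.val.toRingHom
  obtain ⟨i, g', -, hg'⟩ := RingHom.EssFiniteType.exists_eq_comp_ι_app_of_isColimit Z D α f c hc hf g
    (fun i => CommRingCat.isInitial.hom_ext _ _)
  refine ⟨i, g'.hom, ?_⟩
  have := congrArg (fun m => m.hom) hg'
  exact this.symm

attribute [local instance] Algebra.TensorProduct.rightAlgebra

set_option maxHeartbeats 1600000 in
/-- Étale ring maps out of a filtered colimit descend to a finite stage (any index universe). -/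
theorem exists_isPushout_etale (hc : IsColimit c) {T : CommRingCat.{u}} (f : c.pt ⟶ T)
    (hf : etaleMP.{u} f) :
    ∃ (j : J) (T' : CommRingCat.{u}) (f' : D.obj j ⟶ T') (g : T' ⟶ T),
      IsPushout (c.ι.app j) f' f g ∧ etaleMP.{u} f' := by
  letI algRT : Algebra c.pt T := f.hom.toAlgebra
  have hE : Algebra.Etale c.pt T := hf
  obtain ⟨A₀, T₀, _, _, hfg, hE₀, ⟨e⟩⟩ := Algebra.Etale.exists_subalgebra_fg ℤ c.pt T
  obtain ⟨j, g', hg'⟩ := exists_factor_of_fg' hc A₀ hfg
  letI alg1 : Algebra A₀ (D.obj j) := g'.toAlgebra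
  letI alg2 : Algebra (D.obj j) c.pt := (c.ι.app j).hom.toAlgebra
  haveI : IsScalarTower A₀ (D.obj j) c.pt := .of_algebraMap_eq' hg'.symm
  let e' : c.pt ⊗[D.obj j] (D.obj j ⊗[A₀] T₀) ≃ₐ[c.pt] T :=
    (Algebra.TensorProduct.cancelBaseChange A₀ (D.obj j) c.pt c.pt T₀).trans e.symm
  let φ : (D.obj j ⊗[A₀] T₀) →+* T := e'.toAlgHom.toRingHom.comp
    (Algebra.TensorProduct.includeRight (R := D.obj j) (A := c.pt)
      (B := D.obj j ⊗[A₀] T₀)).toRingHom
  letI alg3 : Algebra (D.obj j ⊗[A₀] T₀) T := φ.toAlgebra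
  letI alg4 : Algebra (D.obj j) T := (f.hom.comp (c.ι.app j).hom).toAlgebra
  haveI : IsScalarTower (D.obj j) c.pt T := .of_algebraMap_eq' rfl
  haveI : IsScalarTower (D.obj j) (D.obj j ⊗[A₀] T₀) T := .of_algebraMap_eq' (by
    ext d
    show f.hom ((c.ι.app j).hom d) = e' (1 ⊗ₜ (d ⊗ₜ 1))
    simp only [e', AlgEquiv.trans_apply, Algebra.TensorProduct.cancelBaseChange_tmul]
    rw [Algebra.smul_def, mul_one]
    have := e.symm.commutes ((c.ι.app j).hom d)
    exact this.symm)
  haveI : Algebra.IsPushout (D.obj j) c.pt (D.obj j ⊗[A₀] T₀) T :=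
    ⟨IsBaseChange.of_equiv e'.toLinearEquiv (fun x => rfl)⟩
  refine ⟨j, CommRingCat.of (D.obj j ⊗[A₀] T₀),
    CommRingCat.ofHom (algebraMap (D.obj j) (D.obj j ⊗[A₀] T₀)),
    CommRingCat.ofHom (algebraMap (D.obj j ⊗[A₀] T₀) T), ?_, ?_⟩
  · exact CommRingCat.isPushout_of_isPushout (D.obj j) c.pt (D.obj j ⊗[A₀] T₀) T
  · show (algebraMap (D.obj j) (D.obj j ⊗[A₀] T₀)).Etale
    rw [RingHom.etale_algebraMap]
    infer_instance

end Factor

end Groth.Agent.Lib.Helper36.RTensor
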