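import Mathlib
import Groth.Prelude.Def_ProEtW
import Groth.Agent.Lib.Helper36.RTensorSeq
import Groth.Agent.Lib.Helper36.RTensorDescent
import Groth.Agent.Lib.Helper36.RTensorSpread
import Groth.Agent.Lib.Helper24.SmoothSourceDescent

set_option autoImplicit false
universe u

namespace Groth.Agent.Lib.Helper36.RTensor

open CategoryTheory CategoryTheory.Limits TensorProduct
open Groth.Agent.Lib.Helper36.IndEt

variable (A : Type u) [CommRing A]

theorem ιC_map {n m : ℕ} (a : n ⟶ m) (x : seq A n) :
    ιC A m (((sdiag A).map a).hom x) = ιC A n x :=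
  ConcreteCategory.congr_hom (colimit.w (sdiag A) a) x

theorem ιC_succ (n : ℕ) (x : seq A n) :
    ιC A (n + 1) (algebraMap (seq A n) (T (seq A n)) x) = ιC A n x := by
  have := ιC_map A (homOfLE (Nat.le_add_right n 1)) x
  rw [sdiag_map_succ] at this
  exact this

set_option maxHeartbeats 800000 in
theorem hasEtaleRetractions_C : ProEtW.HasEtaleRetractions (C A) := by
  intro B _ _ hff het
  have hpres : PreservesColimit (sdiag A) (forget CommRingCat) := by
    have : PreservesFilteredColimitsOfSize.{0, 0} (forget CommRingCat.{u}) :=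
      preservesFilteredColimitsOfSize_shrink.{0, u, 0, u} _
    infer_instance
  let cc := colimit.cocone (sdiag A)
  have hcc : IsColimit cc := colimit.isColimit _
  let f : cc.pt ⟶ CommRingCat.of B := CommRingCat.ofHom (algebraMap (C A) B)
  have hf : etaleMP.{u} f := (RingHom.etale_algebraMap (R := C A) (S := B)).2 het
  obtain ⟨j, T', f', g, hpo, hf'⟩ := exists_isPushout_etale hcc f hf
  suffices hsuff : ∃ h : T' ⟶ cc.pt, f' ≫ h = cc.ι.app j by
    obtain ⟨h, hh⟩ := hsuff
    let r : CommRingCat.of B ⟶ cc.pt := hpo.desc (𝟙 _) h (by rw [Category.comp_id, hh])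
    have hr : f ≫ r = 𝟙 _ := hpo.inl_desc _ _ _
    exact ⟨{ toRingHom := r.hom, commutes' := fun x => ConcreteCategory.congr_hom hr x }⟩
  -- algebra structures
  let : Algebra (seq A j) T' := f'.hom.toAlgebra
  have hEt : Algebra.Etale (seq A j) T' := hf'
  let ιj : seq A j →+* C A := ιC A j
  -- the image of `Spec T'`
  set U : Set (PrimeSpectrum (seq A j)) := Set.range (PrimeSpectrum.comap (algebraMap (seq A j) T'))
    with hU
  have hUopen : IsOpen U :=
    (PrimeSpectrum.isOpenMap_comap_of_hasGoingDown_of_finitePresentation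
      (R := seq A j) (S := T')).isOpen_range
  let I : Ideal (seq A j) := PrimeSpectrum.vanishingIdeal Uᶜ
  have hzl : PrimeSpectrum.zeroLocus (I : Set (seq A j)) = Uᶜ := by
    rw [PrimeSpectrum.zeroLocus_vanishingIdeal_eq_closure, hUopen.isClosed_compl.closure_eq]
  have hw : ∀ x : seq A j, g.hom (algebraMap (seq A j) T' x) = algebraMap (C A) B (ιj x) := by
    intro x
    exact (ConcreteCategory.congr_hom hpo.w x).symm
  have hItop : I.map ιj = ⊤ := by
    by_contra hne
    obtain ⟨P, hPmax, hIP⟩ := Ideal.exists_le_maximal _ hne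
    obtain ⟨Q, hQ⟩ := PrimeSpectrum.comap_surjective_of_faithfullyFlat (A := C A) (B := B)
      ⟨P, hPmax.isPrime⟩
    let q : PrimeSpectrum T' := PrimeSpectrum.comap g.hom Q
    have hx : PrimeSpectrum.comap (algebraMap (seq A j) T') q =
        PrimeSpectrum.comap ιj ⟨P, hPmax.isPrime⟩ := by
      rw [← hQ]
      ext x
      simp only [q, PrimeSpectrum.comap_asIdeal, Ideal.mem_comap, hw]
    have h1 : PrimeSpectrum.comap (algebraMap (seq A j) T') q ∈ U := ⟨q, rfl⟩
    have h2 : PrimeSpectrum.comap (algebraMap (seq A j) T') q ∈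
        PrimeSpectrum.zeroLocus (I : Set (seq A j)) := by
      rw [hx, PrimeSpectrum.mem_zeroLocus, SetLike.coe_subset_coe]
      exact Ideal.map_le_iff_le_comap.mp hIP
    rw [hzl] at h2
    exact h2 h1
  obtain ⟨m, a, hm⟩ := exists_map_eq_top_of_isColimit (sdiag A) cc hcc j I hItop
  -- the base change to stage `m`
  let tr : seq A j →+* seq A m := ((sdiag A).map a).hom
  let : Algebra (seq A j) (seq A m) := tr.toAlgebra
  let Tm := (seq A m) ⊗[seq A j] T'
  have hEtm : Algebra.Etale (seq A m) Tm := inferInstance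
  have hFlat : Module.Flat (seq A m) Tm := inferInstance
  have hFFm : Module.FaithfullyFlat (seq A m) Tm := by
    apply Module.FaithfullyFlat.of_comap_surjective
    intro y
    have hyU : PrimeSpectrum.comap (algebraMap (seq A j) (seq A m)) y ∈ U := by
      by_contra hn
      have h3 : PrimeSpectrum.comap (algebraMap (seq A j) (seq A m)) y ∈
          PrimeSpectrum.zeroLocus (I : Set (seq A j)) := by
        rw [hzl]
        exact hn
      rw [PrimeSpectrum.mem_zeroLocus, SetLike.coe_subset_coe] at h3
      have h4 : I.map tr ≤ y.asIdeal := Ideal.map_le_iff_le_comap.mpr h3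
      have h5 : I.map tr = ⊤ := hm
      rw [h5] at h4
      exact y.2.ne_top (top_le_iff.mp h4)
    obtain ⟨q, hq⟩ := hyU
    exact Groth.Agent.Lib.Helper24.exists_comap_tensorProduct_eq (seq A j) (seq A m) T' y q hq.symm
  obtain ⟨hTm⟩ := exists_algHom_T (seq A m) Tm
  let inc : T' →+* Tm := (Algebra.TensorProduct.includeRight (R := seq A j) (A := seq A m)
    (B := T')).toRingHom
  have hinc : ∀ x : seq A j, inc (algebraMap (seq A j) T' x) = algebraMap (seq A m) Tm (tr x) := by
    intro x
    change (1 : seq A m) ⊗ₜ[seq A j] (algebraMap (seq A j) T' x) = (tr x) ⊗ₜ[seq A j] (1 : T')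
    rw [Algebra.algebraMap_eq_smul_one, TensorProduct.tmul_smul, TensorProduct.smul_tmul',
      Algebra.smul_def, mul_one]
    rfl
  let h0 : T' →+* C A := (ιC A (m + 1)).comp (hTm.toRingHom.comp inc)
  refine ⟨CommRingCat.ofHom h0, ?_⟩
  ext x
  change ιC A (m + 1) (hTm (inc (algebraMap (seq A j) T' x))) = ιC A j x
  rw [hinc, AlgHom.commutes, ιC_succ]
  exact ιC_map A a x

end Groth.Agent.Lib.Helper36.RTensor
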