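import Mathlib
import Groth.Prelude.Def_PBC

set_option autoImplicit false
universe u

namespace Groth.Agent.Lib.Helper36.SigmaLoc

open CategoryTheory CategoryTheory.Limits

variable (A : Type u) [CommRing A] (T : Type u) [TopologicalSpace T]
variable (Sg : T → Submonoid A)

/-- index: a discrete quotient `Q` of `T` and a function `ε : Q → A` with `ε [t] ∈ Σ_t`. -/
structure Idx where
  Q : DiscreteQuotient T
  ε : Q → A
  mem : ∀ t, ε (Q.proj t) ∈ Sg t

variable {A T Sg}

/-- pullback of functions along a refinement of discrete quotients -/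
def pull {Q Q' : DiscreteQuotient T} (h : Q' ≤ Q) : (Q → A) →+* (Q' → A) :=
  RingHom.pi (fun k' => Pi.evalRingHom (fun _ : Q => A) (DiscreteQuotient.ofLE h k'))

@[simp] theorem pull_apply {Q Q' : DiscreteQuotient T} (h : Q' ≤ Q) (f : Q → A) (k' : Q') :
    pull h f k' = f (DiscreteQuotient.ofLE h k') := rfl

theorem pull_algebraMap {Q Q' : DiscreteQuotient T} (h : Q' ≤ Q) (a : A) :
    pull h (algebraMap A (Q → A) a) = algebraMap A (Q' → A) a := rfl

theorem pull_refl {Q : DiscreteQuotient T} (f : Q → A) : pull (le_refl Q) f = f := by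
  ext k
  simp

theorem pull_pull {Q Q' Q'' : DiscreteQuotient T} (h : Q' ≤ Q) (h' : Q'' ≤ Q') (f : Q → A) :
    pull h' (pull h f) = pull (h'.trans h) f := by
  ext k
  simp [DiscreteQuotient.ofLE_ofLE]

instance : Preorder (Idx A T Sg) where
  le i j := ∃ h : j.Q ≤ i.Q, pull h i.ε ∣ j.ε
  le_refl i := ⟨le_refl _, by rw [pull_refl]⟩
  le_trans i j k := by
    rintro ⟨h₁, d₁⟩ ⟨h₂, d₂⟩
    refine ⟨h₂.trans h₁, ?_⟩
    rw [← pull_pull h₁ h₂]
    exact (map_dvd (pull h₂) d₁).trans d₂

theorem le_def (i j : Idx A T Sg) : i ≤ j ↔ ∃ h : j.Q ≤ i.Q, pull h i.ε ∣ j.ε := Iff.rfl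

/-- common refinement -/
def sup (i j : Idx A T Sg) : Idx A T Sg where
  Q := i.Q ⊓ j.Q
  ε := pull inf_le_left i.ε * pull inf_le_right j.ε
  mem t := by
    simp only [Pi.mul_apply, pull_apply, DiscreteQuotient.ofLE_proj]
    exact mul_mem (i.mem t) (j.mem t)

theorem le_sup_left (i j : Idx A T Sg) : i ≤ sup i j := ⟨inf_le_left, Dvd.intro _ rfl⟩
theorem le_sup_right (i j : Idx A T Sg) : j ≤ sup i j := ⟨inf_le_right, Dvd.intro_left _ rfl⟩

instance : IsDirected (Idx A T Sg) (· ≤ ·) := ⟨fun i j => ⟨sup i j, le_sup_left i j, le_sup_right i j⟩⟩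

/-- the index `(Q, 1)` -/
abbrev one (Q : DiscreteQuotient T) : Idx A T Sg := ⟨Q, 1, fun _ => one_mem _⟩

instance : Nonempty (Idx A T Sg) := ⟨one ⊤⟩

instance : IsFiltered (Idx A T Sg) := isFiltered_of_directed_le_nonempty _

theorem one_le (j : Idx A T Sg) : one j.Q ≤ j :=
  ⟨le_refl j.Q, by
    change pull (le_refl j.Q) (1 : j.Q → A) ∣ j.ε
    rw [map_one]; exact one_dvd _⟩

theorem one_le_one {Q Q' : DiscreteQuotient T} (h : Q' ≤ Q) : (one Q : Idx A T Sg) ≤ one Q' :=
  ⟨h, by
    change pull h (1 : Q → A) ∣ (1 : Q' → A)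
    rw [map_one]⟩


/-! ### The diagram -/

/-- the ring at stage `i` -/
abbrev Stage (i : Idx A T Sg) : Type u := Localization.Away i.ε

theorem isUnit_trans {i j : Idx A T Sg} (h : i ≤ j) :
    IsUnit (((algebraMap (j.Q → A) (Stage j)).comp (pull h.choose)) i.ε) := by
  have hd := h.choose_spec
  have hu : IsUnit (algebraMap (j.Q → A) (Stage j) j.ε) :=
    IsLocalization.Away.algebraMap_isUnit j.ε
  exact isUnit_of_dvd_unit (map_dvd (algebraMap (j.Q → A) (Stage j)) hd) hu

/-- transition maps -/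
noncomputable def tr {i j : Idx A T Sg} (h : i ≤ j) : Stage i →+* Stage j :=
  IsLocalization.Away.lift i.ε (isUnit_trans h)

theorem tr_comp_algebraMap {i j : Idx A T Sg} (h : i ≤ j) :
    (tr h).comp (algebraMap (i.Q → A) (Stage i)) =
      (algebraMap (j.Q → A) (Stage j)).comp (pull h.choose) :=
  IsLocalization.Away.lift_comp _ _

theorem tr_algebraMap {i j : Idx A T Sg} (h : i ≤ j) (f : i.Q → A) :
    tr h (algebraMap (i.Q → A) (Stage i) f) = algebraMap (j.Q → A) (Stage j) (pull h.choose f) :=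
  congrArg (fun φ : (i.Q → A) →+* Stage j => φ f) (tr_comp_algebraMap h)

theorem stage_hom_ext {i : Idx A T Sg} {P : Type*} [Semiring P] {φ ψ : Stage i →+* P}
    (h : φ.comp (algebraMap (i.Q → A) (Stage i)) = ψ.comp (algebraMap (i.Q → A) (Stage i))) :
    φ = ψ :=
  IsLocalization.ringHom_ext (Submonoid.powers i.ε) h

theorem tr_refl (i : Idx A T Sg) : tr (le_refl i) = RingHom.id _ := by
  apply stage_hom_ext
  rw [tr_comp_algebraMap]
  ext f
  simp only [RingHom.comp_apply, RingHom.id_apply]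
  rw [pull_refl]

theorem tr_tr {i j k : Idx A T Sg} (h : i ≤ j) (h' : j ≤ k) :
    (tr h').comp (tr h) = tr (h.trans h') := by
  apply stage_hom_ext
  rw [RingHom.comp_assoc, tr_comp_algebraMap, ← RingHom.comp_assoc, tr_comp_algebraMap,
    tr_comp_algebraMap]
  ext f
  simp only [RingHom.comp_apply]
  rw [pull_pull]

theorem tr_algebraMap_base {i j : Idx A T Sg} (h : i ≤ j) (a : A) :
    tr h (algebraMap A (Stage i) a) = algebraMap A (Stage j) a := by
  rw [IsScalarTower.algebraMap_apply A (i.Q → A) (Stage i), tr_algebraMap, pull_algebraMap,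
    ← IsScalarTower.algebraMap_apply]

variable (A T Sg)

/-- the diagram of stages -/
noncomputable def diag : Idx A T Sg ⥤ CommRingCat.{u} where
  obj i := CommRingCat.of (Stage i)
  map {i j} f := CommRingCat.ofHom (tr (leOfHom f))
  map_id i := by
    rw [show tr (leOfHom (𝟙 i)) = RingHom.id _ from tr_refl i]
    rfl
  map_comp {i j k} f g := by
    rw [← tr_tr (leOfHom f) (leOfHom g)]
    rfl

/-- the structure maps from `A` -/
noncomputable def structNat :
    (Functor.const (Idx A T Sg)).obj (CommRingCat.of A) ⟶ diag A T Sg where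
  app i := CommRingCat.ofHom (algebraMap A (Stage i))
  naturality i j f := by
    simp only [Functor.const_obj_obj, Functor.const_obj_map, Category.id_comp]
    ext a
    exact (tr_algebraMap_base (leOfHom f) a).symm

/-- the colimit ring -/
def Bw : Type u := (colimit (diag A T Sg) : CommRingCat.{u})

noncomputable instance : CommRing (Bw A T Sg) :=
  inferInstanceAs (CommRing (colimit (diag A T Sg) : CommRingCat.{u}))

variable {A T Sg}

/-- the cocone maps -/
noncomputable def ι (i : Idx A T Sg) : Stage i →+* Bw A T Sg :=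
  (colimit.ι (diag A T Sg) i).hom

theorem ι_tr {i j : Idx A T Sg} (h : i ≤ j) : (ι j).comp (tr h) = ι i := by
  have := colimit.w (diag A T Sg) (homOfLE h)
  exact congrArg (fun φ => φ.hom) this

theorem ι_tr_apply {i j : Idx A T Sg} (h : i ≤ j) (d : Stage i) : ι j (tr h d) = ι i d :=
  congrArg (fun φ : Stage i →+* Bw A T Sg => φ d) (ι_tr h)

noncomputable instance : Algebra A (Bw A T Sg) :=
  ((ι (one ⊤)).comp (algebraMap A (Stage (one ⊤ : Idx A T Sg)))).toAlgebra

theorem ι_algebraMap (i : Idx A T Sg) (a : A) :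
    ι i (algebraMap A (Stage i) a) = algebraMap A (Bw A T Sg) a := by
  obtain ⟨k, h₁, h₂⟩ := exists_ge_ge i (one ⊤ : Idx A T Sg)
  rw [← ι_tr_apply h₁, tr_algebraMap_base]
  change _ = ι (one ⊤) (algebraMap A _ a)
  rw [← ι_tr_apply h₂, tr_algebraMap_base]

theorem exists_rep (b : Bw A T Sg) : ∃ (i : Idx A T Sg) (d : Stage i), ι i d = b :=
  Concrete.colimit_exists_rep (diag A T Sg) b

theorem exists_rep₂ (b b' : Bw A T Sg) :
    ∃ (i : Idx A T Sg) (d d' : Stage i), ι i d = b ∧ ι i d' = b' := by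
  obtain ⟨i, d, rfl⟩ := exists_rep b
  obtain ⟨j, d', rfl⟩ := exists_rep b'
  obtain ⟨k, h₁, h₂⟩ := exists_ge_ge i j
  exact ⟨k, tr h₁ d, tr h₂ d', ι_tr_apply h₁ d, ι_tr_apply h₂ d'⟩

theorem ι_eq_iff {i : Idx A T Sg} (d d' : Stage i) :
    ι i d = ι i d' ↔ ∃ (k : Idx A T Sg) (h : i ≤ k), tr h d = tr h d' := by
  constructor
  · intro h
    obtain ⟨k, f, g, hk⟩ := Concrete.colimit_exists_of_rep_eq (diag A T Sg) d d' h
    refine ⟨k, leOfHom f, ?_⟩
    exact hk
  · rintro ⟨k, h, hk⟩
    rw [← ι_tr_apply h, hk, ι_tr_apply h]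

variable (A T Sg)

theorem isIndZariski [CompactSpace T] : EtPBC.IsIndZariski A (Bw A T Sg) := by
  refine ⟨Idx A T Sg, inferInstance, inferInstance, Under.lift (diag A T Sg) (structNat A T Sg),
    Under.liftCocone (diag A T Sg) (structNat A T Sg) (colimit.cocone _)
      (CommRingCat.ofHom (algebraMap A (Bw A T Sg))) (fun i => ?_),
    Under.isColimitLiftCocone _ _ _ _ _ (colimit.isColimit _), fun i => ?_, ⟨Iso.refl _⟩⟩
  · ext a
    exact ι_algebraMap i a
  · have : (CommRingCat.ofHom (algebraMap A (Stage i))).hom.toAlgebra =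
        (inferInstance : Algebra A (Stage i)) :=
      Algebra.algebra_ext _ _ (fun r => rfl)
    change @Algebra.IsLocalIso A (Stage i) _ _
      (CommRingCat.ofHom (algebraMap A (Stage i))).hom.toAlgebra
    rw [this]
    have : Algebra.IsLocalIso A (i.Q → A) := Algebra.IsLocalIso.pi_of_finite A (fun _ : i.Q => A)
    exact Algebra.IsLocalIso.trans A (i.Q → A) (Stage i)

end Groth.Agent.Lib.Helper36.SigmaLoc
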