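import Mathlib
import Groth.Agent.Lib.Helper36.SigmaLoc

set_option autoImplicit false
universe u

namespace Groth.Agent.Lib.Helper36.SigmaLoc

open CategoryTheory CategoryTheory.Limits Topology

variable {A : Type u} [CommRing A] {T : Type u} [TopologicalSpace T] {Sg : T → Submonoid A}

theorem pull_self {Q : DiscreteQuotient T} (h : Q ≤ Q) (f : Q → A) : pull h f = f :=
  pull_refl f

/-- the maps `A^Q → B` -/
noncomputable def ρ (Q : DiscreteQuotient T) : (Q → A) →+* Bw A T Sg :=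
  (ι (one Q)).comp (algebraMap (Q → A) (Stage (one Q : Idx A T Sg)))

theorem ι_algebraMap_stage (j : Idx A T Sg) (f : j.Q → A) :
    ι j (algebraMap (j.Q → A) (Stage j) f) = ρ j.Q f := by
  change _ = ι (one j.Q) (algebraMap _ _ f)
  rw [← ι_tr_apply (one_le j), tr_algebraMap, pull_self]

theorem ρ_pull {Q Q' : DiscreteQuotient T} (h : Q' ≤ Q) (f : Q → A) :
    (ρ Q' (pull h f) : Bw A T Sg) = ρ Q f := by
  change ι (one Q') (algebraMap _ _ (pull h f)) = ι (one Q) (algebraMap _ _ f)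
  rw [← ι_tr_apply (one_le_one h), tr_algebraMap]

theorem ρ_algebraMap (Q : DiscreteQuotient T) (a : A) :
    (ρ Q (algebraMap A (Q → A) a) : Bw A T Sg) = algebraMap A (Bw A T Sg) a := by
  change ι (one Q) (algebraMap _ _ (algebraMap A (Q → A) a)) = _
  rw [← IsScalarTower.algebraMap_apply, ι_algebraMap]

theorem isUnit_ρ (j : Idx A T Sg) : IsUnit (ρ j.Q j.ε : Bw A T Sg) := by
  rw [← ι_algebraMap_stage]
  exact (IsLocalization.Away.algebraMap_isUnit j.ε).map (ι j)

/-- every element of `B` is, up to a unit, in the image of some `ρ Q`. -/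
theorem exists_mul_unit_eq_ρ (b : Bw A T Sg) :
    ∃ (Q : DiscreteQuotient T) (f : Q → A) (v : Bw A T Sg), IsUnit v ∧ b * v = ρ Q f := by
  obtain ⟨j, d, rfl⟩ := exists_rep b
  obtain ⟨n, f, hf⟩ := IsLocalization.Away.surj j.ε d
  refine ⟨j.Q, f, (ρ j.Q j.ε) ^ n, (isUnit_ρ j).pow n, ?_⟩
  rw [← ι_algebraMap_stage, ← ι_algebraMap_stage, ← hf, map_mul, map_pow]

theorem mem_prime_iff_of_mul_unit {b v c : Bw A T Sg} (hv : IsUnit v) (h : b * v = c)
    (p : PrimeSpectrum (Bw A T Sg)) : b ∈ p.asIdeal ↔ c ∈ p.asIdeal := by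
  rw [← h]
  constructor
  · intro hb
    exact Ideal.mul_mem_right _ _ hb
  · intro hb
    rcases p.2.mem_or_mem hb with h1 | h1
    · exact h1
    · exact absurd (p.asIdeal.eq_top_of_isUnit_mem h1 hv) p.2.ne_top

theorem prime_ext {p p' : PrimeSpectrum (Bw A T Sg)}
    (h : ∀ (Q : DiscreteQuotient T) (f : Q → A), ρ Q f ∈ p.asIdeal ↔ ρ Q f ∈ p'.asIdeal) :
    p = p' := by
  ext b
  obtain ⟨Q, f, v, hv, hb⟩ := exists_mul_unit_eq_ρ b
  rw [mem_prime_iff_of_mul_unit hv hb, mem_prime_iff_of_mul_unit hv hb, h]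

theorem exists_basicOpen_eq (b : Bw A T Sg) :
    ∃ (Q : DiscreteQuotient T) (f : Q → A),
      (PrimeSpectrum.basicOpen b : Set (PrimeSpectrum (Bw A T Sg))) =
        PrimeSpectrum.basicOpen (ρ Q f : Bw A T Sg) := by
  obtain ⟨Q, f, v, hv, hb⟩ := exists_mul_unit_eq_ρ b
  refine ⟨Q, f, ?_⟩
  ext p
  simp only [PrimeSpectrum.basicOpen_eq_zeroLocus_compl, Set.mem_compl_iff,
    PrimeSpectrum.mem_zeroLocus, Set.singleton_subset_iff, SetLike.mem_coe]
  rw [mem_prime_iff_of_mul_unit hv hb]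

/-! ### The space `Y` -/

variable (Sg) in
/-- the space of pairs `(x, t)` with `x` disjoint from `Σ_t` -/
def Yw : Set (PrimeSpectrum A × T) := {p | Disjoint (p.1.asIdeal : Set A) (Sg p.2 : Set A)}

omit [TopologicalSpace T] in
theorem notMem_of_mem_Sg (y : Yw Sg) {a : A} (ha : a ∈ Sg y.1.2) : a ∉ y.1.1.asIdeal :=
  fun h => Set.disjoint_left.mp y.2 h ha

/-- evaluation at `[t]` followed by the residue field map at `x`. -/
noncomputable def evalRes (y : Yw Sg) (Q : DiscreteQuotient T) :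
    (Q → A) →+* y.1.1.asIdeal.ResidueField :=
  (algebraMap A y.1.1.asIdeal.ResidueField).comp (Pi.evalRingHom (fun _ : Q => A) (Q.proj y.1.2))

theorem evalRes_eq_zero_iff (y : Yw Sg) (Q : DiscreteQuotient T) (f : Q → A) :
    evalRes y Q f = 0 ↔ f (Q.proj y.1.2) ∈ y.1.1.asIdeal := by
  change algebraMap A y.1.1.asIdeal.ResidueField (f (Q.proj y.1.2)) = 0 ↔ _
  exact Ideal.algebraMap_residueField_eq_zero

theorem evalRes_pull (y : Yw Sg) {Q Q' : DiscreteQuotient T} (h : Q' ≤ Q) (f : Q → A) :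
    evalRes y Q' (pull h f) = evalRes y Q f := by
  change algebraMap A _ (f (DiscreteQuotient.ofLE h (Q'.proj y.1.2))) = algebraMap A _ (f _)
  rw [DiscreteQuotient.ofLE_proj]

theorem isUnit_evalRes (y : Yw Sg) (j : Idx A T Sg) : IsUnit (evalRes y j.Q j.ε) := by
  apply Ne.isUnit
  rw [Ne, evalRes_eq_zero_iff]
  exact notMem_of_mem_Sg y (j.mem _)

/-- the stage maps to the residue field -/
noncomputable def ψst (y : Yw Sg) (j : Idx A T Sg) : Stage j →+* y.1.1.asIdeal.ResidueField :=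
  IsLocalization.Away.lift j.ε (isUnit_evalRes y j)

theorem ψst_comp_algebraMap (y : Yw Sg) (j : Idx A T Sg) :
    (ψst y j).comp (algebraMap (j.Q → A) (Stage j)) = evalRes y j.Q :=
  IsLocalization.Away.lift_comp _ _

theorem ψst_tr (y : Yw Sg) {i j : Idx A T Sg} (h : i ≤ j) :
    (ψst y j).comp (tr h) = ψst y i := by
  apply stage_hom_ext
  rw [RingHom.comp_assoc, tr_comp_algebraMap, ← RingHom.comp_assoc, ψst_comp_algebraMap,
    ψst_comp_algebraMap]
  ext f
  exact evalRes_pull y _ f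

/-- the cocone with point the residue field -/
noncomputable def resCocone (y : Yw Sg) : Cocone (diag A T Sg) where
  pt := CommRingCat.of y.1.1.asIdeal.ResidueField
  ι :=
    { app := fun j => CommRingCat.ofHom (ψst y j)
      naturality := fun i j f => by
        simp only [Functor.const_obj_obj, Functor.const_obj_map, Category.comp_id]
        rw [← ψst_tr y (leOfHom f)]
        rfl }

/-- the map `B → κ(x)` attached to `(x,t)`. -/
noncomputable def ψ (y : Yw Sg) : Bw A T Sg →+* y.1.1.asIdeal.ResidueField :=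
  (colimit.desc (diag A T Sg) (resCocone y)).hom

theorem ψ_ι (y : Yw Sg) (j : Idx A T Sg) : (ψ y).comp (ι j) = ψst y j := by
  have := colimit.ι_desc (resCocone y) j
  exact congrArg (fun φ => φ.hom) this

theorem ψ_ρ (y : Yw Sg) (Q : DiscreteQuotient T) (f : Q → A) :
    ψ y (ρ Q f) = evalRes y Q f := by
  change ((ψ y).comp (ι (one Q))) (algebraMap _ _ f) = _
  rw [ψ_ι]
  exact congrArg (fun φ : (Q → A) →+* _ => φ f) (ψst_comp_algebraMap y (one Q))

/-- the point of `Spec B` attached to `(x,t)`. -/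
noncomputable def Ψ (y : Yw Sg) : PrimeSpectrum (Bw A T Sg) :=
  ⟨RingHom.ker (ψ y), RingHom.ker_isPrime _⟩

theorem ρ_mem_Ψ_iff (y : Yw Sg) (Q : DiscreteQuotient T) (f : Q → A) :
    ρ Q f ∈ (Ψ y).asIdeal ↔ f (Q.proj y.1.2) ∈ y.1.1.asIdeal := by
  change ρ Q f ∈ RingHom.ker (ψ y) ↔ _
  rw [RingHom.mem_ker, ψ_ρ, evalRes_eq_zero_iff]

theorem comap_Ψ (y : Yw Sg) :
    PrimeSpectrum.comap (algebraMap A (Bw A T Sg)) (Ψ y) = y.1.1 := by
  ext a
  rw [PrimeSpectrum.comap_asIdeal, Ideal.mem_comap, ← ρ_algebraMap ⊤, ρ_mem_Ψ_iff]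
  rfl

end Groth.Agent.Lib.Helper36.SigmaLoc
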