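import Mathlib
import Groth.Agent.Lib.Helper36.SigmaLoc2

set_option autoImplicit false
universe u

namespace Groth.Agent.Lib.Helper36.SigmaLoc

open CategoryTheory CategoryTheory.Limits Topology

variable {A : Type u} [CommRing A] {T : Type u} [TopologicalSpace T] {Sg : T → Submonoid A}

theorem isOpen_aux (Q : DiscreteQuotient T) (f : Q → A) :
    IsOpen {p : PrimeSpectrum A × T | f (Q.proj p.2) ∉ p.1.asIdeal} := by
  have : {p : PrimeSpectrum A × T | f (Q.proj p.2) ∉ p.1.asIdeal} =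
      ⋃ k : Q, (Prod.fst ⁻¹' (PrimeSpectrum.basicOpen (f k) : Set (PrimeSpectrum A))) ∩
        (Prod.snd ⁻¹' (Q.proj ⁻¹' {k})) := by
    ext p
    simp only [Set.mem_ofPred_eq, Set.mem_iUnion, Set.mem_inter_iff, Set.mem_preimage,
      SetLike.mem_coe, PrimeSpectrum.mem_basicOpen, Set.mem_singleton_iff]
    constructor
    · intro h
      exact ⟨Q.proj p.2, h, rfl⟩
    · rintro ⟨k, h, rfl⟩
      exact h
  rw [this]
  exact isOpen_iUnion fun k =>
    ((PrimeSpectrum.basicOpen (f k)).isOpen.preimage continuous_fst).inter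
      ((Q.isOpen_preimage {k}).preimage continuous_snd)

theorem Ψ_preimage_basicOpen (Q : DiscreteQuotient T) (f : Q → A) :
    (Ψ (Sg := Sg)) ⁻¹' (PrimeSpectrum.basicOpen (ρ Q f : Bw A T Sg) : Set _) =
      Subtype.val ⁻¹' {p : PrimeSpectrum A × T | f (Q.proj p.2) ∉ p.1.asIdeal} := by
  ext y
  simp only [Set.mem_preimage, SetLike.mem_coe, PrimeSpectrum.mem_basicOpen, Set.mem_ofPred_eq]
  rw [ρ_mem_Ψ_iff]

theorem continuous_Ψ : Continuous (Ψ (Sg := Sg)) := by
  rw [PrimeSpectrum.isTopologicalBasis_basic_opens.continuous_iff]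
  rintro _ ⟨b, rfl⟩
  obtain ⟨Q, f, hb⟩ := exists_basicOpen_eq b
  change IsOpen (Ψ ⁻¹' (PrimeSpectrum.basicOpen b : Set (PrimeSpectrum (Bw A T Sg))))
  rw [hb, Ψ_preimage_basicOpen]
  exact (isOpen_aux Q f).preimage continuous_subtype_val

theorem ofIsClopen_proj_eq_iff {V : Set T} (hV : IsClopen V) (t t' : T) :
    (DiscreteQuotient.ofIsClopen hV).proj t' = (DiscreteQuotient.ofIsClopen hV).proj t ↔
      (t' ∈ V ↔ t ∈ V) :=
  Quotient.eq''

theorem isInducing_Ψ [CompactSpace T] [T2Space T] [TotallyDisconnectedSpace T] :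
    IsInducing (Ψ (Sg := Sg)) := by
  classical
  rw [isInducing_iff_nhds]
  intro y
  apply le_antisymm
  · exact Filter.map_le_iff_le_comap.mp continuous_Ψ.continuousAt
  · intro U hU
    rw [mem_nhds_subtype] at hU
    obtain ⟨U', hU', hUU'⟩ := hU
    rw [mem_nhds_prod_iff] at hU'
    obtain ⟨U₁, hU₁, U₂, hU₂, hprod⟩ := hU'
    obtain ⟨_, ⟨a, rfl⟩, hxa, haU⟩ :=
      PrimeSpectrum.isTopologicalBasis_basic_opens.mem_nhds_iff.mp hU₁
    obtain ⟨W, hWU, hWo, htW⟩ := mem_nhds_iff.mp hU₂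
    obtain ⟨V, hV, htV, hVW⟩ := compact_exists_isClopen_in_isOpen hWo htW
    set Q := DiscreteQuotient.ofIsClopen hV with hQ
    let f : Q → A := fun k => if k = Q.proj y.1.2 then a else 0
    rw [Filter.mem_comap]
    refine ⟨PrimeSpectrum.basicOpen (ρ Q f : Bw A T Sg), ?_, ?_⟩
    · apply (PrimeSpectrum.basicOpen _).isOpen.mem_nhds
      change ρ Q f ∉ (Ψ y).asIdeal
      rw [ρ_mem_Ψ_iff]
      simp only [f, if_true]
      exact hxa
    · intro y' hy'
      have hy'' : ρ Q f ∉ (Ψ y').asIdeal := hy'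
      rw [ρ_mem_Ψ_iff] at hy''
      by_cases hk : Q.proj y'.1.2 = Q.proj y.1.2
      · simp only [f, hk, if_true] at hy''
        apply hUU'
        apply hprod
        refine ⟨haU hy'', hWU (hVW ?_)⟩
        exact ((ofIsClopen_proj_eq_iff hV _ _).mp hk).mpr htV
      · simp only [f, hk, if_false] at hy''
        exact absurd (Ideal.zero_mem _) hy''

theorem injective_Ψ [CompactSpace T] [T2Space T] [TotallyDisconnectedSpace T] :
    Function.Injective (Ψ (Sg := Sg)) :=
  isInducing_Ψ.injective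


/-! ### Surjectivity of `Ψ` -/

section Surj

attribute [local instance] Classical.propDecidable

variable (q : PrimeSpectrum (Bw A T Sg))

theorem exists_k [CompactSpace T] (Q : DiscreteQuotient T) :
    ∃ k : Q, ρ Q (Pi.single k (1 : A)) ∉ q.asIdeal := by
  classical
  by_contra hcon
  push Not at hcon
  have : Fintype Q := Fintype.ofFinite Q
  have h1 : (∑ k : Q, Pi.single k (1 : A)) = (1 : Q → A) := Finset.univ_sum_single (1 : Q → A)
  have : (1 : Bw A T Sg) ∈ q.asIdeal := by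
    rw [← map_one (ρ Q), ← h1, map_sum]
    exact Ideal.sum_mem _ (fun k _ => hcon k)
  exact q.2.ne_top ((Ideal.eq_top_iff_one _).mpr this)

theorem k_unique (Q : DiscreteQuotient T) (k k' : Q)
    (hk : ρ Q (Pi.single k (1 : A)) ∉ q.asIdeal) (hk' : ρ Q (Pi.single k' (1 : A)) ∉ q.asIdeal) :
    k = k' := by
  classical
  by_contra hne
  have h0' : (Pi.single k (1 : A) * Pi.single k' (1 : A) : Q → A) = 0 := by
    ext i
    by_cases h1 : i = k
    · subst h1
      simp [hne]
    · simp [Pi.single_apply, h1]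
  have h0 : ρ Q (Pi.single k (1 : A)) * ρ Q (Pi.single k' (1 : A)) ∈ q.asIdeal := by
    rw [← map_mul, h0', map_zero]
    exact Ideal.zero_mem _
  rcases q.2.mem_or_mem h0 with h | h
  exacts [hk h, hk' h]

/-- the component of `q` in the discrete quotient `Q`. -/
noncomputable def kq [CompactSpace T] (Q : DiscreteQuotient T) : Q := (exists_k q Q).choose

theorem kq_spec [CompactSpace T] (Q : DiscreteQuotient T) :
    ρ Q (Pi.single (kq q Q) (1 : A)) ∉ q.asIdeal := (exists_k q Q).choose_spec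

theorem kq_compat [CompactSpace T] (Q' Q : DiscreteQuotient T) (h : Q' ≤ Q) :
    DiscreteQuotient.ofLE h (kq q Q') = kq q Q := by
  classical
  apply k_unique q Q _ _ ?_ (kq_spec q Q)
  intro hmem
  apply kq_spec q Q'
  have : pull h (Pi.single (DiscreteQuotient.ofLE h (kq q Q')) (1 : A)) *
      Pi.single (kq q Q') (1 : A) = Pi.single (kq q Q') (1 : A) := by
    ext i
    by_cases hi : i = kq q Q'
    · subst hi
      simp
    · simp [Pi.single_apply, hi]
  rw [← this, map_mul, ρ_pull]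
  exact Ideal.mul_mem_right _ _ hmem

theorem ρ_mem_iff [CompactSpace T] (t : T) (ht : ∀ Q : DiscreteQuotient T, Q.proj t = kq q Q)
    (Q : DiscreteQuotient T) (f : Q → A) :
    ρ Q f ∈ q.asIdeal ↔
      f (Q.proj t) ∈ (PrimeSpectrum.comap (algebraMap A (Bw A T Sg)) q).asIdeal := by
  classical
  have hk := kq_spec q Q
  rw [← ht Q] at hk
  set k := Q.proj t with hkdef
  have hmul : f * Pi.single k (1 : A) = algebraMap A (Q → A) (f k) * Pi.single k (1 : A) := by
    ext i
    by_cases hi : i = k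
    · subst hi
      simp
    · simp [Pi.single_apply, hi]
  have hρ : ρ Q f * ρ Q (Pi.single k (1 : A)) =
      algebraMap A (Bw A T Sg) (f k) * ρ Q (Pi.single k (1 : A)) := by
    rw [← map_mul, hmul, map_mul, ρ_algebraMap]
  rw [PrimeSpectrum.comap_asIdeal, Ideal.mem_comap]
  constructor
  · intro hf
    have : algebraMap A (Bw A T Sg) (f k) * ρ Q (Pi.single k (1 : A)) ∈ q.asIdeal := by
      rw [← hρ]
      exact Ideal.mul_mem_right _ _ hf
    exact (q.2.mem_or_mem this).resolve_right hk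
  · intro hf
    have : ρ Q f * ρ Q (Pi.single k (1 : A)) ∈ q.asIdeal := by
      rw [hρ]
      exact Ideal.mul_mem_right _ _ hf
    exact (q.2.mem_or_mem this).resolve_right hk

theorem disjoint_of [CompactSpace T] [T2Space T] [TotallyDisconnectedSpace T]
    (hSg : ∀ a : A, IsOpen {t | a ∈ Sg t})
    (t : T) (ht : ∀ Q : DiscreteQuotient T, Q.proj t = kq q Q) :
    Disjoint ((PrimeSpectrum.comap (algebraMap A (Bw A T Sg)) q).asIdeal : Set A)
      (Sg t : Set A) := by
  classical
  rw [Set.disjoint_left]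
  intro a hax haS
  obtain ⟨V, hV, htV, hVS⟩ :=
    compact_exists_isClopen_in_isOpen (hSg a) (show t ∈ {t | a ∈ Sg t} from haS)
  set Q := DiscreteQuotient.ofIsClopen hV with hQ
  let j : Idx A T Sg := ⟨Q, fun k => if k = Q.proj t then a else 1, fun t' => by
    by_cases hk : Q.proj t' = Q.proj t
    · simp only [hk, if_true]
      exact hVS (((ofIsClopen_proj_eq_iff hV _ _).mp hk).mpr htV)
    · simp only [hk, if_false]
      exact one_mem _⟩
  have hu : IsUnit (ρ j.Q j.ε : Bw A T Sg) := isUnit_ρ j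
  have hmem : (ρ j.Q j.ε : Bw A T Sg) ∈ q.asIdeal := by
    rw [ρ_mem_iff q t ht]
    simp only [j, if_true]
    exact hax
  exact q.2.ne_top (q.asIdeal.eq_top_of_isUnit_mem hmem hu)

theorem surjective_Ψ [CompactSpace T] [T2Space T] [TotallyDisconnectedSpace T]
    (hSg : ∀ a : A, IsOpen {t | a ∈ Sg t}) : Function.Surjective (Ψ (Sg := Sg)) := by
  intro q
  obtain ⟨t, ht⟩ := DiscreteQuotient.exists_of_compat (kq q) (kq_compat q)
  refine ⟨⟨(PrimeSpectrum.comap (algebraMap A _) q, t), disjoint_of q hSg t ht⟩, ?_⟩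
  apply prime_ext
  intro Q f
  rw [ρ_mem_Ψ_iff, ρ_mem_iff q t ht]

end Surj

/-- `Spec B` is homeomorphic to the space of pairs `(x,t)` with `x ∩ Σ_t = ∅`. -/
noncomputable def homeo [CompactSpace T] [T2Space T] [TotallyDisconnectedSpace T]
    (hSg : ∀ a : A, IsOpen {t | a ∈ Sg t}) : Yw Sg ≃ₜ PrimeSpectrum (Bw A T Sg) :=
  (IsEmbedding.mk isInducing_Ψ injective_Ψ).toHomeomorphOfSurjective (surjective_Ψ hSg)

theorem homeo_apply [CompactSpace T] [T2Space T] [TotallyDisconnectedSpace T]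
    (hSg : ∀ a : A, IsOpen {t | a ∈ Sg t}) (y : Yw Sg) : homeo hSg y = Ψ y := rfl

theorem comap_homeo [CompactSpace T] [T2Space T] [TotallyDisconnectedSpace T]
    (hSg : ∀ a : A, IsOpen {t | a ∈ Sg t}) (y : Yw Sg) :
    PrimeSpectrum.comap (algebraMap A (Bw A T Sg)) (homeo hSg y) = y.1.1 := comap_Ψ y

theorem homeo_symm_fst [CompactSpace T] [T2Space T] [TotallyDisconnectedSpace T]
    (hSg : ∀ a : A, IsOpen {t | a ∈ Sg t}) (q : PrimeSpectrum (Bw A T Sg)) :
    ((homeo hSg).symm q).1.1 = PrimeSpectrum.comap (algebraMap A (Bw A T Sg)) q := by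
  conv_rhs => rw [← (homeo hSg).apply_symm_apply q]
  rw [comap_homeo]

end Groth.Agent.Lib.Helper36.SigmaLoc
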