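import Mathlib
import Groth.Agent.Lib.Helper36.SigmaLoc3

set_option autoImplicit false
universe u

namespace Groth.Agent.Lib.Helper36.SigmaLoc

open Topology

variable {A : Type u} [CommRing A] {T : Type u} [TopologicalSpace T] {Sg : T → Submonoid A}

theorem ι_smul (j : Idx A T Sg) (a : A) (d : Stage j) : ι j (a • d) = a • ι j d := by
  have : a • d = algebraMap A (Stage j) a * d := Algebra.smul_def a d
  rw [this, map_mul, ι_algebraMap, Algebra.smul_def]

theorem tr_smul {i j : Idx A T Sg} (h : i ≤ j) (a : A) (d : Stage i) :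
    tr h (a • d) = a • tr h d := by
  have h1 : a • d = algebraMap A (Stage i) a * d := Algebra.smul_def a d
  have h2 : a • tr h d = algebraMap A (Stage j) a * tr h d := Algebra.smul_def a (tr h d)
  rw [h1, h2, map_mul, tr_algebraMap_base]

instance flat_stage [CompactSpace T] (j : Idx A T Sg) : Module.Flat A (Stage j) :=
  haveI : Module.Flat (j.Q → A) (Stage j) := IsLocalization.flat (Stage j) (Submonoid.powers j.ε)
  Module.Flat.trans A (j.Q → A) (Stage j)

theorem exists_rep_fin {l : ℕ} (x : Fin l → Bw A T Sg) :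
    ∃ (j : Idx A T Sg) (d : Fin l → Stage j), ∀ i, ι j (d i) = x i := by
  choose j d hd using fun i => exists_rep (x i)
  obtain ⟨M, hM⟩ := Finite.exists_le j
  exact ⟨M, fun i => tr (hM i) (d i), fun i => by rw [ι_tr_apply, hd]⟩

instance flat_Bw [CompactSpace T] : Module.Flat A (Bw A T Sg) := by
  rw [Module.Flat.iff_forall_isTrivialRelation]
  intro l f x hfx
  obtain ⟨j, d, hd⟩ := exists_rep_fin x
  have h0 : ι j (∑ i, f i • d i) = ι j 0 := by
    rw [map_sum, map_zero, ← hfx]
    exact Finset.sum_congr rfl (fun i _ => by rw [ι_smul, hd])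
  obtain ⟨k, hjk, hk⟩ := (ι_eq_iff _ _).mp h0
  rw [map_sum, map_zero] at hk
  have hk' : ∑ i, f i • tr hjk (d i) = 0 := by
    rw [← hk]
    exact Finset.sum_congr rfl (fun i _ => (tr_smul hjk _ _).symm)
  obtain ⟨κ, a, y, hxy, hfa⟩ := Module.Flat.isTrivialRelation_of_sum_smul_eq_zero (R := A) (M := Stage k)
    (f := f) (x := fun i => tr hjk (d i)) hk'
  refine ⟨κ, a, fun c => ι k (y c), fun i => ?_, hfa⟩
  have hxy' : tr hjk (d i) = ∑ c, a i c • y c := hxy i
  rw [← hd i, ← ι_tr_apply hjk, hxy', map_sum]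
  exact Finset.sum_congr rfl (fun c _ => ι_smul _ _ _)

end Groth.Agent.Lib.Helper36.SigmaLoc
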