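import Mathlib
import Groth.Prelude.Def_ProEtW
import Groth.Agent.Lib.Helper36.SigmaLoc3

set_option autoImplicit false
universe u

namespace Groth.Agent.Lib.Helper36.SigmaLoc

open Topology

variable {A : Type u} [CommRing A] {T : Type u} [TopologicalSpace T] (π : T → PrimeSpectrum A)

/-- multiplicative sets for the "w-localization along `π`": the complement of the prime `π t`. -/
def SgW (t : T) : Submonoid A := (π t).asIdeal.primeCompl

omit [TopologicalSpace T] in
theorem mem_Yw_SgW (p : PrimeSpectrum A × T) :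
    p ∈ Yw (SgW π) ↔ p.1 ≤ π p.2 := by
  change Disjoint (p.1.asIdeal : Set A) ((π p.2).asIdeal : Set A)ᶜ ↔ _
  rw [Set.disjoint_compl_right_iff_subset]
  rfl

/-- the space `W = {(x,t) | x ⊆ π t}` -/
abbrev W : Type u := Yw (SgW π)

theorem W_le (w : W π) : w.1.1 ≤ π w.1.2 := (mem_Yw_SgW π w.1).mp w.2

/-- the closed point attached to `t` -/
def clPt (t : T) : W π := ⟨(π t, t), (mem_Yw_SgW π _).mpr le_rfl⟩

theorem specializes_iff_W [T1Space T] (w w' : W π) :
    w ⤳ w' ↔ w.1.1 ⤳ w'.1.1 ∧ w.1.2 = w'.1.2 := by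
  rw [← Topology.IsEmbedding.subtypeVal.isInducing.specializes_iff]
  rw [show w.1 = (w.1.1, w.1.2) from rfl, show w'.1 = (w'.1.1, w'.1.2) from rfl, specializes_prod]
  exact and_congr Iff.rfl specializes_iff_eq

theorem isClosed_singleton_iff_W [T1Space T] (w : W π) :
    IsClosed ({w} : Set (W π)) ↔ w.1.1 = π w.1.2 := by
  constructor
  · intro hw
    have hsp : w ⤳ clPt π w.1.2 :=
      (specializes_iff_W π _ _).mpr ⟨(PrimeSpectrum.le_iff_specializes _ _).mp (W_le π w), rfl⟩
    have hmem : clPt π w.1.2 ∈ closure ({w} : Set (W π)) := specializes_iff_mem_closure.mp hsp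
    rw [hw.closure_eq] at hmem
    have : (clPt π w.1.2).1.1 = w.1.1 := congrArg (fun z : W π => z.1.1) hmem
    exact this.symm
  · intro hw
    rw [← closure_eq_iff_isClosed]
    apply Set.Subset.antisymm _ subset_closure
    intro w' hw'
    have hsp : w ⤳ w' := specializes_iff_mem_closure.mpr hw'
    obtain ⟨h1, h2⟩ := (specializes_iff_W π w w').mp hsp
    have h3 : w.1.1 ≤ w'.1.1 := (PrimeSpectrum.le_iff_specializes _ _).mpr h1
    have h4 : w'.1.1 ≤ π w'.1.2 := W_le π w'
    have h5 : w'.1.1 = w.1.1 := by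
      apply le_antisymm _ h3
      rw [hw, h2]
      exact h4
    exact Subtype.ext (Prod.ext h5 h2.symm)

theorem isClosed_closedPoints_W [T1Space T] (hπ : ∀ a : A, IsClosed {t | a ∉ (π t).asIdeal}) :
    IsClosed {w : W π | IsClosed ({w} : Set (W π))} := by
  have : {w : W π | IsClosed ({w} : Set (W π))} = {w : W π | w.1.1 = π w.1.2} := by
    ext w
    exact isClosed_singleton_iff_W π w
  rw [this, ← isOpen_compl_iff, isOpen_iff_forall_mem_open]
  intro w hw
  have hne : w.1.1 ≠ π w.1.2 := hw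
  have hlt : ¬ (π w.1.2 ≤ w.1.1) := fun h => hne (le_antisymm (W_le π w) h)
  obtain ⟨a, ha1, ha2⟩ := Set.not_subset.mp hlt
  refine ⟨Subtype.val ⁻¹' ((PrimeSpectrum.basicOpen a : Set (PrimeSpectrum A)) ×ˢ
    {t | a ∉ (π t).asIdeal}ᶜ), ?_, ?_, ?_⟩
  · intro w' hw' heq
    have h1 : a ∉ w'.1.1.asIdeal := hw'.1
    have h2 : a ∈ (π w'.1.2).asIdeal := by
      have := hw'.2
      simpa using this
    have heq' : w'.1.1 = π w'.1.2 := heq
    rw [heq'] at h1
    exact h1 h2
  · exact ((PrimeSpectrum.basicOpen a).isOpen.prod (hπ a).isOpen_compl).preimage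
      continuous_subtype_val
  · refine ⟨ha2, ?_⟩
    simpa using ha1

theorem existsUnique_W [T1Space T] (w : W π) :
    ∃! w₀ : W π, IsClosed ({w₀} : Set (W π)) ∧ w ⤳ w₀ := by
  refine ⟨clPt π w.1.2, ⟨(isClosed_singleton_iff_W π _).mpr rfl,
    (specializes_iff_W π _ _).mpr ⟨(PrimeSpectrum.le_iff_specializes _ _).mp (W_le π w), rfl⟩⟩, ?_⟩
  rintro w' ⟨hw'c, hw's⟩
  obtain ⟨-, h2⟩ := (specializes_iff_W π w w').mp hw's
  have h3 : w'.1.1 = π w'.1.2 := (isClosed_singleton_iff_W π w').mp hw'c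
  apply Subtype.ext
  apply Prod.ext
  · change w'.1.1 = π w.1.2
    rw [h3, h2]
  · exact h2.symm

/-- transfer of the non-spectral part of w-locality along a homeomorphism -/
theorem isWLocal_of_homeomorph {X Y : Type u} [TopologicalSpace X] [TopologicalSpace Y]
    [SpectralSpace Y] (h : X ≃ₜ Y) (h1 : IsClosed {x : X | IsClosed ({x} : Set X)})
    (h2 : ∀ x : X, ∃! y : X, IsClosed ({y} : Set X) ∧ x ⤳ y) : ProEtW.IsWLocal Y := by
  have hcl : ∀ y : Y, IsClosed ({y} : Set Y) ↔ IsClosed ({h.symm y} : Set X) := by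
    intro y
    rw [← h.symm.isClosed_image, Set.image_singleton]
  refine ⟨inferInstance, ?_, ?_⟩
  · have : {y : Y | IsClosed ({y} : Set Y)} = h.symm ⁻¹' {x : X | IsClosed ({x} : Set X)} := by
      ext y
      exact hcl y
    rw [this]
    exact h1.preimage h.symm.continuous
  · intro y
    obtain ⟨x₀, ⟨hx₀c, hx₀s⟩, huniq⟩ := h2 (h.symm y)
    refine ⟨h x₀, ⟨?_, ?_⟩, ?_⟩
    · rw [hcl, h.symm_apply_apply]
      exact hx₀c
    · rw [← h.symm.isInducing.specializes_iff, h.symm_apply_apply]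
      exact hx₀s
    · rintro y' ⟨hy'c, hy's⟩
      have := huniq (h.symm y') ⟨(hcl y').mp hy'c, h.symm.isInducing.specializes_iff.mpr hy's⟩
      rw [← this, h.apply_symm_apply]

end Groth.Agent.Lib.Helper36.SigmaLoc
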