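import Mathlib
import Groth.Prelude.Def_ProEtW
import Groth.Agent.S7579
import Groth.Agent.Lib.Helper36.SigmaLocW
import Groth.Agent.Lib.Helper36.SigmaLocFlat

set_option autoImplicit false
universe u

namespace Groth.Agent.Lib.Helper36.SigmaLoc

open Topology

theorem isClosed_singleton_homeo {X Y : Type*} [TopologicalSpace X] [TopologicalSpace Y]
    (h : X ≃ₜ Y) (x : X) : IsClosed ({h x} : Set Y) ↔ IsClosed ({x} : Set X) := by
  rw [← Set.image_singleton, h.isClosed_image]

variable (A : Type u) [CommRing A]

/-- the constructible spectrum -/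
abbrev TCons : Type u := WithConstructibleTopology (PrimeSpectrum A)

/-- the identity map from the constructible spectrum to the spectrum -/
def πCons : TCons A → PrimeSpectrum A := WithTopology.ofTopology

theorem isClopen_πCons (a : A) : IsClopen {t : TCons A | a ∉ (πCons A t).asIdeal} := by
  have hc : IsCompact (PrimeSpectrum.basicOpen a : Set (PrimeSpectrum A)) :=
    PrimeSpectrum.isCompact_basicOpen a
  have ho : IsOpen (PrimeSpectrum.basicOpen a : Set (PrimeSpectrum A)) :=
    (PrimeSpectrum.basicOpen a).isOpen
  constructor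
  · rw [← isOpen_compl_iff, WithConstructibleTopology.isOpen_iff]
    change IsOpen[constructibleTopology (PrimeSpectrum A)]
      (PrimeSpectrum.basicOpen a : Set (PrimeSpectrum A))ᶜ
    exact IsCompact.isOpen_constructibleTopology_of_isClosed (by rwa [compl_compl])
      ho.isClosed_compl
  · rw [WithConstructibleTopology.isOpen_iff]
    exact hc.isOpen_constructibleTopology_of_isOpen ho

instance : T2Space (TCons A) := (Groth.Agent.S7579.result (PrimeSpectrum A)).1
instance : TotallyDisconnectedSpace (TCons A) := (Groth.Agent.S7579.result (PrimeSpectrum A)).2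

/-- the w-localization of `A` -/
abbrev Aw : Type u := Bw A (TCons A) (SgW (πCons A))

theorem hSgCons (a : A) : IsOpen {t : TCons A | a ∈ SgW (πCons A) t} := (isClopen_πCons A a).2

/-- `Spec A_w` is homeomorphic to the space of pairs `(x, c)` with `x` a generalization of `c` -/
noncomputable def homeoW : W (πCons A) ≃ₜ PrimeSpectrum (Aw A) := homeo (hSgCons A)

theorem isWLocal_Aw : ProEtW.IsWLocal (PrimeSpectrum (Aw A)) :=
  isWLocal_of_homeomorph (homeoW A)
    (isClosed_closedPoints_W (πCons A) (fun a => (isClopen_πCons A a).1))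
    (existsUnique_W (πCons A))

theorem comap_surjective_Aw :
    Function.Surjective (PrimeSpectrum.comap (algebraMap A (Aw A))) := by
  intro x
  exact ⟨Ψ (clPt (πCons A) (WithTopology.toTopology _ x)), comap_Ψ _⟩

theorem faithfullyFlat_Aw : Module.FaithfullyFlat A (Aw A) :=
  Module.FaithfullyFlat.of_comap_surjective (comap_surjective_Aw A)

theorem isClosed_singleton_iff_Aw (q : PrimeSpectrum (Aw A)) :
    IsClosed ({q} : Set (PrimeSpectrum (Aw A))) ↔
      ((homeoW A).symm q).1.1 = πCons A ((homeoW A).symm q).1.2 := by
  rw [← isClosed_singleton_iff_W, ← isClosed_singleton_homeo (homeoW A), Homeomorph.apply_symm_apply]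

theorem bijOn_closedPoints_Aw :
    Set.BijOn (PrimeSpectrum.comap (algebraMap A (Aw A)))
      (ProEtW.closedPoints (PrimeSpectrum (Aw A))) Set.univ := by
  refine ⟨fun _ _ => Set.mem_univ _, ?_, ?_⟩
  · intro q hq q' hq' heq
    have h1 := (isClosed_singleton_iff_Aw A q).mp hq
    have h2 := (isClosed_singleton_iff_Aw A q').mp hq'
    have e1 : ((homeoW A).symm q).1.1 = PrimeSpectrum.comap (algebraMap A (Aw A)) q :=
      homeo_symm_fst (hSgCons A) q
    have e2 : ((homeoW A).symm q').1.1 = PrimeSpectrum.comap (algebraMap A (Aw A)) q' :=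
      homeo_symm_fst (hSgCons A) q'
    have h3 : ((homeoW A).symm q).1.1 = ((homeoW A).symm q').1.1 := by rw [e1, e2, heq]
    have h4 : ((homeoW A).symm q).1.2 = ((homeoW A).symm q').1.2 := by
      apply WithTopology.ofTopology_injective
      change πCons A _ = πCons A _
      rw [← h1, ← h2, h3]
    have : (homeoW A).symm q = (homeoW A).symm q' := Subtype.ext (Prod.ext h3 h4)
    exact (homeoW A).symm.injective this
  · intro x _
    refine ⟨homeoW A (clPt (πCons A) (WithTopology.toTopology _ x)), ?_, ?_⟩
    · change IsClosed _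
      rw [isClosed_singleton_homeo, isClosed_singleton_iff_W]
      rfl
    · exact comap_Ψ _

end Groth.Agent.Lib.Helper36.SigmaLoc
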