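import Mathlib
import Groth.Prelude.Def_ProEtW
import Groth.Agent.Lib.Helper36.WeaklyEtaleField

set_option autoImplicit false
universe u

namespace Groth.Agent.Lib.Helper36.WLSquare

open Polynomial TensorProduct

/-- elementwise form of algebraicity of `B/q` over `A/p` -/
theorem isAlgebraic_mk_iff {A B : Type u} [CommRing A] [CommRing B] [Algebra A B]
    (q : Ideal B) [q.IsPrime] (b : B) :
    IsAlgebraic (A ⧸ q.comap (algebraMap A B)) (Ideal.Quotient.mk q b) ↔
      ∃ F : A[X], (∃ n, F.coeff n ∉ q.comap (algebraMap A B)) ∧ aeval b F ∈ q := by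
  have h1 : ∀ r : A, algebraMap (A ⧸ q.comap (algebraMap A B)) (B ⧸ q)
      (Ideal.Quotient.mk _ r) = Ideal.Quotient.mk q (algebraMap A B r) := fun r => rfl
  have key : ∀ F : A[X], aeval (Ideal.Quotient.mk q b)
      (F.map (Ideal.Quotient.mk (q.comap (algebraMap A B)))) =
      Ideal.Quotient.mk q (aeval b F) := by
    intro F
    induction F using Polynomial.induction_on' with
    | add f g hf hg => simp only [Polynomial.map_add, map_add, hf, hg]
    | monomial n a =>
      simp only [Polynomial.map_monomial, aeval_monomial, map_mul, map_pow, h1]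
  constructor
  · rintro ⟨P, hP0, hP⟩
    obtain ⟨F, rfl⟩ := Polynomial.map_surjective _ Ideal.Quotient.mk_surjective P
    refine ⟨F, ?_, ?_⟩
    · by_contra hcon
      simp only [not_exists, not_not] at hcon
      apply hP0
      ext n
      rw [coeff_map, coeff_zero, Ideal.Quotient.eq_zero_iff_mem]
      exact hcon n
    · rw [key] at hP
      exact Ideal.Quotient.eq_zero_iff_mem.mp hP
  · rintro ⟨F, ⟨n, hn⟩, hF⟩
    refine ⟨F.map (Ideal.Quotient.mk _), ?_, ?_⟩
    · intro h0
      have := congrArg (fun P => Polynomial.coeff P n) h0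
      simp only [coeff_map, coeff_zero, Ideal.Quotient.eq_zero_iff_mem] at this
      exact hn this
    · rw [key]
      exact Ideal.Quotient.eq_zero_iff_mem.mpr hF

/-- weakly étale ring maps induce algebraic residue field extensions -/
theorem algebraicResidueExtensions_of_weaklyEtale (A B : Type u) [CommRing A] [CommRing B]
    [Algebra A B] [Algebra.WeaklyEtale A B] : ProEtW.AlgebraicResidueExtensions A B := by
  intro q hq
  constructor
  intro x
  obtain ⟨y, rfl⟩ := Ideal.Quotient.mk_surjective x
  set P := q.comap (algebraMap A B) with hP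
  let K := P.ResidueField
  let L := q.ResidueField
  -- the fibre is integral over the residue field
  have hint : Algebra.IsIntegral K (K ⊗[A] B) := Groth.Agent.Lib.Helper36.WE.isIntegral_of_weaklyEtale_field K (K ⊗[A] B)
  have hz : IsIntegral K ((1 : K) ⊗ₜ[A] y) := hint.isIntegral _
  -- map to the residue field of `q`
  let σ : K →ₐ[A] L := Ideal.ResidueField.mapₐ P q (Algebra.ofId A B) rfl
  let : Algebra K L := σ.toRingHom.toAlgebra
  have tw : IsScalarTower A K L := IsScalarTower.of_algebraMap_eq (fun a => (σ.commutes a).symm)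
  let ψ : K ⊗[A] B →ₐ[K] L :=
    Algebra.TensorProduct.lift (Algebra.ofId K L) (IsScalarTower.toAlgHom A B L)
      (fun _ _ => Commute.all ..)
  have hψ : ψ ((1 : K) ⊗ₜ[A] y) = algebraMap B L y := by
    rw [Algebra.TensorProduct.lift_tmul, map_one, one_mul]
    rfl
  have hy : IsIntegral K (algebraMap B L y) := by
    rw [← hψ]
    exact hz.map ψ
  -- descend to `A ⧸ P`
  let : Algebra (A ⧸ P) L := ((algebraMap K L).comp (algebraMap (A ⧸ P) K)).toAlgebra
  have tw2 : IsScalarTower (A ⧸ P) K L := IsScalarTower.of_algebraMap_eq (fun _ => rfl)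
  have halg : IsAlgebraic (A ⧸ P) (algebraMap B L y) :=
    (IsFractionRing.isAlgebraic_iff (A ⧸ P) K L).2 hy.isAlgebraic
  obtain ⟨G, hG0, hG⟩ := halg
  obtain ⟨F, rfl⟩ := Polynomial.map_surjective _ Ideal.Quotient.mk_surjective G
  rw [isAlgebraic_mk_iff]
  refine ⟨F, ?_, ?_⟩
  · by_contra hcon
    simp only [not_exists, not_not] at hcon
    apply hG0
    ext n
    rw [coeff_map, coeff_zero, Ideal.Quotient.eq_zero_iff_mem]
    exact hcon n
  · have tw3 : IsScalarTower A (A ⧸ P) L := IsScalarTower.of_algebraMap_eq (fun a => by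
      change algebraMap A L a = algebraMap K L (algebraMap (A ⧸ P) K (Ideal.Quotient.mk P a))
      rw [IsScalarTower.algebraMap_apply A K L]
      rfl)
    have h2 : aeval (algebraMap B L y) (F.map (Ideal.Quotient.mk P)) =
        algebraMap B L (aeval y F) := by
      have h3 : (Ideal.Quotient.mk P : A →+* A ⧸ P) = algebraMap A (A ⧸ P) := rfl
      rw [h3, Polynomial.aeval_map_algebraMap, Polynomial.aeval_algebraMap_apply]
    rw [h2] at hG
    exact Ideal.algebraMap_residueField_eq_zero.mp hG

/-- algebraic residue field extensions are stable under base change -/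
theorem algebraicResidueExtensions_baseChange (A B C : Type u) [CommRing A] [CommRing B]
    [CommRing C] [Algebra A B] [Algebra A C] (h : ProEtW.AlgebraicResidueExtensions A B) :
    ProEtW.AlgebraicResidueExtensions C (C ⊗[A] B) := by
  intro r hr
  set pC := r.comap (algebraMap C (C ⊗[A] B)) with hpC
  have hdom : IsDomain (C ⧸ pC) := Ideal.Quotient.isDomain pC
  let incR : B →ₐ[A] C ⊗[A] B := Algebra.TensorProduct.includeRight
  set qB := r.comap incR.toRingHom with hqB
  have hqBprime : qB.IsPrime := Ideal.comap_isPrime _ _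
  -- the subalgebra of algebraic elements
  let Sa := Subalgebra.algebraicClosure (C ⧸ pC) ((C ⊗[A] B) ⧸ r)
  have hmemS : ∀ x, x ∈ Sa ↔ IsAlgebraic (C ⧸ pC) x := fun x => Iff.rfl
  have hgen : ∀ b : B, Ideal.Quotient.mk r ((1 : C) ⊗ₜ[A] b) ∈ Sa := by
    intro b
    rw [hmemS, isAlgebraic_mk_iff]
    have hb : IsAlgebraic (A ⧸ qB.comap (algebraMap A B)) (Ideal.Quotient.mk qB b) :=
      (h qB).isAlgebraic _
    rw [isAlgebraic_mk_iff] at hb
    obtain ⟨F, ⟨n, hn⟩, hF⟩ := hb
    refine ⟨F.map (algebraMap A C), ⟨n, ?_⟩, ?_⟩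
    · rw [coeff_map]
      intro hmem
      apply hn
      change incR (algebraMap A B (F.coeff n)) ∈ r
      have : algebraMap C (C ⊗[A] B) (algebraMap A C (F.coeff n)) ∈ r := hmem
      rw [AlgHom.commutes]
      rw [← IsScalarTower.algebraMap_apply] at this
      exact this
    · rw [Polynomial.aeval_map_algebraMap]
      have : aeval ((1 : C) ⊗ₜ[A] b) F = incR (aeval b F) :=
        (Polynomial.aeval_algHom_apply incR b F)
      rw [this]
      exact hF
  constructor
  intro x
  obtain ⟨z, rfl⟩ := Ideal.Quotient.mk_surjective x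
  rw [← hmemS]
  induction z using TensorProduct.induction_on with
  | zero => rw [map_zero]; exact zero_mem _
  | tmul c b =>
    have : c ⊗ₜ[A] b = algebraMap C (C ⊗[A] B) c * ((1 : C) ⊗ₜ[A] b) := by
      rw [Algebra.TensorProduct.algebraMap_apply, Algebra.TensorProduct.tmul_mul_tmul, mul_one,
        one_mul]
      rfl
    rw [this, map_mul]
    refine mul_mem ?_ (hgen b)
    have h1 : Ideal.Quotient.mk r (algebraMap C (C ⊗[A] B) c) =
        algebraMap (C ⧸ pC) ((C ⊗[A] B) ⧸ r) (Ideal.Quotient.mk pC c) := rfl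
    rw [h1]
    exact Subalgebra.algebraMap_mem _ _
  | add x y hx hy => rw [map_add]; exact add_mem hx hy

end Groth.Agent.Lib.Helper36.WLSquare
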