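import Mathlib
import Groth.Prelude.Def_ProEtW
import Groth.Prelude.Def_EtBase
import Groth.Agent.Lib.Helper36.IndEtaleSpread

set_option autoImplicit false
universe u

namespace Groth.Agent.Lib.Helper36.WLSquare

open CategoryTheory CategoryTheory.Limits TensorProduct AlgebraicGeometry
open Groth.Agent.Lib.Helper36.IndEt

/-- a local isomorphism is étale -/
theorem etale_of_isLocalIso (R S : Type u) [CommRing R] [CommRing S] [Algebra R S]
    [Algebra.IsLocalIso R S] : Algebra.Etale R S := by
  rw [← RingHom.etale_algebraMap]
  apply RingHom.Etale.ofLocalizationSpanTarget (algebraMap R S)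
    {g : S | Algebra.IsStandardOpenImmersion R (Localization.Away g)}
    (Algebra.IsLocalIso.span_isStandardOpenImmersion_eq_top R S)
  rintro ⟨g, hg⟩
  have hg' : Algebra.IsStandardOpenImmersion R (Localization.Away g) := hg
  obtain ⟨r, hr⟩ := hg'.exists_away
  have : Algebra.Etale R (Localization.Away g) := Algebra.Etale.of_isLocalizationAway r
  have h2 : (algebraMap R (Localization.Away g)).Etale := RingHom.etale_algebraMap.2 this
  rw [IsScalarTower.algebraMap_eq R S (Localization.Away g)] at h2
  exact h2

/-- ind-Zariski implies ind-étale -/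
theorem isIndEtale_of_isIndZariski (A B : Type u) [CommRing A] [CommRing B] [Algebra A B]
    (h : EtPBC.IsIndZariski A B) : EtPBC.IsIndEtale A B := by
  obtain ⟨J, i1, i2, D, c, hc, hD, he⟩ := h
  refine ⟨J, i1, i2, D, c, hc, ?_, he⟩
  intro j
  let := (D.obj j).hom.hom.toAlgebra
  have := hD j
  exact etale_of_isLocalIso A (D.obj j).right

/-- ind-étale maps are stable under base change -/
theorem isIndEtale_baseChange (A B C : Type u) [CommRing A] [CommRing B] [CommRing C]
    [Algebra A B] [Algebra A C] (h : EtPBC.IsIndEtale A C) :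
    MorphismProperty.ind.{u} etaleMP.{u}
      (CommRingCat.ofHom (Algebra.TensorProduct.includeRight (R := A) (A := C) (B := B)).toRingHom) := by
  rw [isIndEtale_iff_indMP] at h
  have : etaleMP.{u}.IsStableUnderCobaseChange :=
    RingHom.isStableUnderCobaseChange_toMorphismProperty_iff.2 RingHom.Etale.isStableUnderBaseChange
  have hpo := CommRingCat.isPushout_tensorProduct A C B
  exact MorphismProperty.of_isPushout hpo.flip h

/-- points of the spectrum of a tensor product: a compatible pair of primes lifts -/
theorem exists_prime_tensorProduct (A C B : Type u) [CommRing A] [CommRing C] [CommRing B]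
    [Algebra A C] [Algebra A B] (c : PrimeSpectrum C) (q : PrimeSpectrum B)
    (h : PrimeSpectrum.comap (algebraMap A C) c = PrimeSpectrum.comap (algebraMap A B) q) :
    ∃ r : PrimeSpectrum (C ⊗[A] B),
      PrimeSpectrum.comap (algebraMap C (C ⊗[A] B)) r = c ∧
      PrimeSpectrum.comap (Algebra.TensorProduct.includeRight (R := A) (A := C) (B := B)).toRingHom r
        = q := by
  obtain ⟨z, hz1, hz2⟩ := Scheme.Pullback.exists_preimage_pullback
    (f := Spec.map (CommRingCat.ofHom (algebraMap A C)))
    (g := Spec.map (CommRingCat.ofHom (algebraMap A B))) c q h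
  refine ⟨(pullbackSpecIso A C B).hom z, ?_, ?_⟩
  · have h1 := pullbackSpecIso_hom_fst' A C B
    have h2 := congrArg (fun φ => φ.base z) h1
    simp only [Scheme.Hom.comp_base, TopCat.comp_app] at h2
    rw [← hz1]
    exact h2
  · have h1 := pullbackSpecIso_hom_snd A C B
    have h2 := congrArg (fun φ => φ.base z) h1
    simp only [Scheme.Hom.comp_base, TopCat.comp_app] at h2
    rw [← hz2]
    exact h2

/-- henselian local rings transport along ring isomorphisms -/
theorem henselianLocalRing_of_ringEquiv {R S : Type*} [CommRing R] [CommRing S]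
    [HenselianLocalRing R] (e : R ≃+* S) : HenselianLocalRing S := by
  have hloc : IsLocalRing S := e.isLocalRing
  have hmax : ∀ x : S, x ∈ IsLocalRing.maximalIdeal S ↔ e.symm x ∈ IsLocalRing.maximalIdeal R := by
    intro x
    rw [IsLocalRing.mem_maximalIdeal, IsLocalRing.mem_maximalIdeal, mem_nonunits_iff,
      mem_nonunits_iff, not_iff_not]
    exact (isUnit_map_iff e.symm x).symm
  refine { toIsLocalRing := hloc, is_henselian := ?_ }
  intro f hf a₀ h0 h1
  have key : ∀ (g : Polynomial S) (x : S), (g.map e.symm.toRingHom).eval (e.symm x) =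
      e.symm (g.eval x) := by
    intro g x
    rw [Polynomial.eval_map]
    exact Polynomial.eval₂_hom e.symm.toRingHom x
  obtain ⟨a, ha, ha0⟩ := HenselianLocalRing.is_henselian (f.map e.symm.toRingHom)
    (hf.map _) (e.symm a₀)
    (by rw [key]; exact (hmax _).1 h0)
    (by
      rw [Polynomial.derivative_map, key]
      exact h1.map e.symm)
  refine ⟨e a, ?_, ?_⟩
  · have : (f.map e.symm.toRingHom).eval (e.symm (e a)) = e.symm (f.eval (e a)) := key f (e a)
    rw [e.symm_apply_apply] at this
    have h2 : (f.map e.symm.toRingHom).eval a = 0 := ha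
    rw [h2] at this
    change f.eval (e a) = 0
    exact (map_eq_zero_iff e.symm e.symm.injective).mp this.symm
  · rw [hmax, map_sub, e.symm_apply_apply]
    exact ha0

theorem isSepClosed_of_ringEquiv {k K : Type*} [Field k] [Field K] [IsSepClosed k]
    (e : k ≃+* K) : IsSepClosed K := by
  apply IsSepClosed.of_exists_root
  intro p hp hirr hsep
  have hsep' : (p.map e.symm.toRingHom).Separable := hsep.map
  have hdeg : (p.map e.symm.toRingHom).degree ≠ 0 := by
    rw [Polynomial.degree_map]
    exact (Polynomial.degree_pos_of_irreducible hirr).ne'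
  obtain ⟨x, hx⟩ := IsSepClosed.exists_root _ hdeg hsep'
  refine ⟨e x, ?_⟩
  have : (p.map e.symm.toRingHom).eval (e.symm (e x)) = e.symm (p.eval (e x)) := by
    rw [Polynomial.eval_map]
    exact Polynomial.eval₂_hom e.symm.toRingHom (e x)
  rw [e.symm_apply_apply] at this
  have hx' : (p.map e.symm.toRingHom).eval x = 0 := hx
  rw [hx'] at this
  exact (map_eq_zero_iff e.symm e.symm.injective).mp this.symm

theorem isStrictlyHenselianLocalRing_of_ringEquiv {R S : Type u} [CommRing R] [CommRing S]
    (h : EtCoh.IsStrictlyHenselianLocalRing R) (e : R ≃+* S) :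
    EtCoh.IsStrictlyHenselianLocalRing S := by
  obtain ⟨h1, h2⟩ := h
  have hS : HenselianLocalRing S := henselianLocalRing_of_ringEquiv e
  refine ⟨hS, ?_⟩
  exact isSepClosed_of_ringEquiv (IsLocalRing.ResidueField.mapEquiv e)

end Groth.Agent.Lib.Helper36.WLSquare
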