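import Mathlib
import Groth.Agent.S7584
import Groth.Agent.Lib.Helper50.SpectralClopen

set_option autoImplicit false
universe u

namespace Groth.Agent.Lib.Helper36.FibProd

open Topology Set TopologicalSpace

variable {X T : Type u} [TopologicalSpace X] [TopologicalSpace T]

/-- π₀ of a spectral space is Hausdorff -/
theorem t2Space_connectedComponents [SpectralSpace X] : T2Space (ConnectedComponents X) := by
  apply Groth.Agent.S7584.result X
  intro x
  rw [Groth.Agent.Lib.Helper50.connectedComponent_eq_iInter_isClopen_of_prespectral x]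
  ext y
  simp only [mem_iInter, Subtype.forall, mem_sInter, mem_ofPred_eq]

variable (g : C(T, ConnectedComponents X))

/-- the fibre product `X ×_{π₀ X} T` -/
abbrev Y : Type u := {p : X × T // ConnectedComponents.mk p.1 = g p.2}

theorem isClosed_Y [SpectralSpace X] :
    IsClosed {p : X × T | ConnectedComponents.mk p.1 = g p.2} := by
  have := t2Space_connectedComponents (X := X)
  exact isClosed_eq (ConnectedComponents.continuous_coe.comp continuous_fst)
    (g.continuous.comp continuous_snd)

instance compactSpace_Y [SpectralSpace X] [CompactSpace T] : CompactSpace (Y g) :=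
  isCompact_iff_compactSpace.mp (isClosed_Y g).isCompact

/-- index type of the basis -/
abbrev BIdx (X T : Type u) [TopologicalSpace X] [TopologicalSpace T] : Type u :=
  {U : Set X // IsOpen U ∧ IsCompact U} × {V : Set T // IsClopen V}

/-- basic sets of `Y` -/
def basicSet (i : BIdx X T) : Set (Y g) := Subtype.val ⁻¹' (i.1.1 ×ˢ i.2.1)

theorem isCompact_basicSet [SpectralSpace X] [CompactSpace T] (i : BIdx X T) :
    IsCompact (basicSet g i) := by
  rw [Topology.IsEmbedding.subtypeVal.isInducing.isCompact_iff, basicSet,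
    Set.image_preimage_eq_inter_range, Subtype.range_val_subtype]
  exact (i.1.2.2.prod i.2.2.1.isCompact).inter_right (isClosed_Y g)

theorem basicSet_inter [SpectralSpace X] (i j : BIdx X T) :
    basicSet g i ∩ basicSet g j =
      basicSet g (⟨i.1.1 ∩ j.1.1, i.1.2.1.inter j.1.2.1,
        QuasiSeparatedSpace.inter_isCompact _ _ i.1.2.1 i.1.2.2 j.1.2.1 j.1.2.2⟩,
        ⟨i.2.1 ∩ j.2.1, i.2.2.inter j.2.2⟩) := by
  ext y
  simp only [basicSet, mem_inter_iff, mem_preimage, mem_prod]
  tauto

theorem isTopologicalBasis_basicSet [SpectralSpace X] [CompactSpace T] [T2Space T]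
    [TotallyDisconnectedSpace T] : IsTopologicalBasis (range (basicSet g)) := by
  have h1 := (PrespectralSpace.isTopologicalBasis (X := X)).prod
    (isTopologicalBasis_isClopen (X := T))
  have h2 := h1.isInducing (Topology.IsEmbedding.subtypeVal
    (p := fun p : X × T => ConnectedComponents.mk p.1 = g p.2)).isInducing
  convert h2 using 1
  ext W
  constructor
  · rintro ⟨i, rfl⟩
    exact ⟨i.1.1 ×ˢ i.2.1, ⟨i.1.1, i.1.2, i.2.1, i.2.2, rfl⟩, rfl⟩
  · rintro ⟨_, ⟨U, hU, V, hV, rfl⟩, rfl⟩
    exact ⟨(⟨U, hU⟩, ⟨V, hV⟩), rfl⟩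

theorem prespectralSpace_Y [SpectralSpace X] [CompactSpace T] [T2Space T]
    [TotallyDisconnectedSpace T] : PrespectralSpace (Y g) :=
  PrespectralSpace.of_isTopologicalBasis' (isTopologicalBasis_basicSet g) (isCompact_basicSet g)

theorem quasiSeparatedSpace_Y [SpectralSpace X] [CompactSpace T] [T2Space T]
    [TotallyDisconnectedSpace T] : QuasiSeparatedSpace (Y g) :=
  QuasiSeparatedSpace.of_isTopologicalBasis (isTopologicalBasis_basicSet g) (fun i j => by
    rw [basicSet_inter]
    exact isCompact_basicSet g _)


theorem quasiSober_Y [SpectralSpace X] [T2Space T] [TotallyDisconnectedSpace T] :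
    QuasiSober (Y g) where
  sober {S} hS hSc := by
    obtain ⟨y₁, hy₁⟩ := hS.nonempty
    set t := y₁.1.2 with ht
    -- all points of `S` have second coordinate `t`
    have hpr2 : Continuous (fun y : Y g => y.1.2) := continuous_snd.comp continuous_subtype_val
    have hsub : ((fun y : Y g => y.1.2) '' S).Subsingleton :=
      (hS.image _ hpr2.continuousOn).isPreirreducible.isPreconnected.subsingleton
    have hst : ∀ y ∈ S, y.1.2 = t := fun y hy =>
      hsub (mem_image_of_mem _ hy) (mem_image_of_mem _ hy₁)
    -- first projection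
    have hpr1 : Continuous (fun y : Y g => y.1.1) := continuous_fst.comp continuous_subtype_val
    set SX : Set X := (fun y : Y g => y.1.1) '' S with hSX
    have hSXirr : IsIrreducible SX := hS.image _ hpr1.continuousOn
    have hvalclosed : IsClosed (Subtype.val '' S : Set (X × T)) :=
      ((isClosed_Y g).isClosedEmbedding_subtypeVal).isClosedMap S hSc
    have hSXeq : SX = (fun x : X => (x, t)) ⁻¹' (Subtype.val '' S) := by
      ext x
      constructor
      · rintro ⟨y, hy, rfl⟩
        refine ⟨y, hy, ?_⟩
        exact Prod.ext rfl (hst y hy)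
      · rintro ⟨y, hy, hyx⟩
        exact ⟨y, hy, congrArg Prod.fst hyx⟩
    have hSXclosed : IsClosed SX := by
      rw [hSXeq]
      exact hvalclosed.preimage (Continuous.prodMk_left t)
    obtain ⟨η, hη⟩ := QuasiSober.sober hSXirr hSXclosed
    have hηmem : η ∈ SX := hη.mem
    obtain ⟨y₀, hy₀S, hy₀η⟩ := hηmem
    refine ⟨y₀, ?_⟩
    apply le_antisymm
    · exact closure_minimal (singleton_subset_iff.mpr hy₀S) hSc
    · intro y hy
      rw [← specializes_iff_mem_closure, ← Topology.IsEmbedding.subtypeVal.isInducing.specializes_iff]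
      have h1 : y₀.1 = (η, t) := Prod.ext hy₀η (hst y₀ hy₀S)
      have h2 : y.1 = (y.1.1, t) := Prod.ext rfl (hst y hy)
      rw [h1, h2, specializes_prod]
      refine ⟨?_, specializes_rfl⟩
      rw [specializes_iff_mem_closure, hη.def]
      exact ⟨y, hy, rfl⟩


end Groth.Agent.Lib.Helper36.FibProd
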