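import Mathlib
import Groth.Agent.Lib.Helper36.FibProd

set_option autoImplicit false
universe u

namespace Groth.Agent.Lib.Helper36.FibProd

open Topology Set TopologicalSpace

variable {X T : Type u} [TopologicalSpace X] [TopologicalSpace T]
variable (g : C(T, ConnectedComponents X))

theorem spectralSpace_Y [SpectralSpace X] [CompactSpace T] [T2Space T]
    [TotallyDisconnectedSpace T] : SpectralSpace (Y g) where
  toT0Space := inferInstance
  toCompactSpace := compactSpace_Y g
  toQuasiSober := quasiSober_Y g
  toQuasiSeparatedSpace := quasiSeparatedSpace_Y g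
  toPrespectralSpace := prespectralSpace_Y g

/-- second projection -/
def pr2 : Y g → T := fun y => y.1.2

theorem continuous_pr2 : Continuous (pr2 g) := continuous_snd.comp continuous_subtype_val

theorem pr2_surjective : Function.Surjective (pr2 g) := by
  intro t
  obtain ⟨x, hx⟩ := ConnectedComponents.surjective_coe (g t)
  exact ⟨⟨(x, t), hx⟩, rfl⟩

theorem connectedComponent_eq_of_pr2_eq (y₁ y₂ : Y g) (h : pr2 g y₁ = pr2 g y₂) :
    connectedComponent y₁ = connectedComponent y₂ := by
  set t := pr2 g y₁ with ht
  have hy₁ : ConnectedComponents.mk y₁.1.1 = g t := y₁.2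
  have hy₂ : ConnectedComponents.mk y₂.1.1 = g t := by rw [h]; exact y₂.2
  -- the connected component of `y₁.1.1`
  let C : Set X := connectedComponent y₁.1.1
  have hC : ∀ x ∈ C, ConnectedComponents.mk x = g t := by
    intro x hx
    rw [← hy₁]
    exact ConnectedComponents.coe_eq_coe'.mpr hx
  let ι : C → Y g := fun x => ⟨(x.1, t), hC x.1 x.2⟩
  have hι : Continuous ι :=
    Continuous.subtype_mk (continuous_subtype_val.prodMk continuous_const) _
  have : PreconnectedSpace C :=
    Subtype.preconnectedSpace isPreconnected_connectedComponent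
  have hpre : IsPreconnected (range ι) := isPreconnected_range hι
  have h1 : y₁ ∈ range ι := ⟨⟨y₁.1.1, mem_connectedComponent⟩, Subtype.ext (Prod.ext rfl rfl)⟩
  have h2 : y₂ ∈ range ι := by
    have : y₂.1.1 ∈ C := ConnectedComponents.coe_eq_coe'.mp (hy₂.trans hy₁.symm)
    exact ⟨⟨y₂.1.1, this⟩, Subtype.ext (Prod.ext rfl h)⟩
  have hsub := hpre.subset_connectedComponent h1
  exact (connectedComponent_eq (hsub h2)).symm ▸ rfl

/-- the induced map on connected components -/
noncomputable def pi0Map [TotallyDisconnectedSpace T] : ConnectedComponents (Y g) → T :=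
  (continuous_pr2 g).connectedComponentsLift

theorem pi0Map_mk [TotallyDisconnectedSpace T] (y : Y g) :
    pi0Map g (ConnectedComponents.mk y) = y.1.2 :=
  (continuous_pr2 g).connectedComponentsLift_apply_coe y

theorem pi0Map_bijective [TotallyDisconnectedSpace T] : Function.Bijective (pi0Map g) := by
  constructor
  · intro c₁ c₂ h
    obtain ⟨y₁, rfl⟩ := ConnectedComponents.surjective_coe c₁
    obtain ⟨y₂, rfl⟩ := ConnectedComponents.surjective_coe c₂
    rw [pi0Map_mk, pi0Map_mk] at h
    rw [ConnectedComponents.coe_eq_coe]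
    exact connectedComponent_eq_of_pr2_eq g y₁ y₂ h
  · intro t
    obtain ⟨y, hy⟩ := pr2_surjective g t
    exact ⟨ConnectedComponents.mk y, by rw [pi0Map_mk]; exact hy⟩

/-- `π₀(Y) ≃ₜ T` -/
noncomputable def pi0Homeo [SpectralSpace X] [CompactSpace T] [T2Space T]
    [TotallyDisconnectedSpace T] : ConnectedComponents (Y g) ≃ₜ T :=
  haveI := compactSpace_Y g
  Continuous.homeoOfEquivCompactToT2 (f := Equiv.ofBijective (pi0Map g) (pi0Map_bijective g))
    (continuous_pr2 g).connectedComponentsLift_continuous

theorem pi0Homeo_mk [SpectralSpace X] [CompactSpace T] [T2Space T]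
    [TotallyDisconnectedSpace T] (y : Y g) : pi0Homeo g (ConnectedComponents.mk y) = y.1.2 :=
  pi0Map_mk g y

end Groth.Agent.Lib.Helper36.FibProd
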