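import Mathlib
import Groth.Prelude.Def_ProEtW
import Groth.Agent.Lib.Helper36.FibProd2

set_option autoImplicit false
universe u

namespace Groth.Agent.Lib.Helper36.FibProd

open Topology Set TopologicalSpace

variable {X T : Type u} [TopologicalSpace X] [TopologicalSpace T]
variable (g : C(T, ConnectedComponents X))

theorem mk_eq_of_specializes {x x' : X} (h : x ⤳ x') :
    (ConnectedComponents.mk x' : ConnectedComponents X) = ConnectedComponents.mk x := by
  rw [ConnectedComponents.coe_eq_coe']
  have hconn : IsPreconnected (closure ({x} : Set X)) := isPreconnected_singleton.closure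
  have hsub := hconn.subset_connectedComponent (subset_closure (mem_singleton x))
  exact hsub (specializes_iff_mem_closure.mp h)

theorem specializes_iff_Y [T1Space T] (y y' : Y g) :
    y ⤳ y' ↔ y.1.1 ⤳ y'.1.1 ∧ y.1.2 = y'.1.2 := by
  rw [← Topology.IsEmbedding.subtypeVal.isInducing.specializes_iff]
  rw [show y.1 = (y.1.1, y.1.2) from rfl, show y'.1 = (y'.1.1, y'.1.2) from rfl, specializes_prod]
  exact and_congr Iff.rfl specializes_iff_eq

theorem isClosed_singleton_iff_Y [T1Space T] (y : Y g) :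
    IsClosed ({y} : Set (Y g)) ↔ IsClosed ({y.1.1} : Set X) := by
  constructor
  · intro hy
    rw [← closure_eq_iff_isClosed]
    apply Subset.antisymm _ subset_closure
    intro x' hx'
    have hsp : y.1.1 ⤳ x' := specializes_iff_mem_closure.mpr hx'
    let y' : Y g := ⟨(x', y.1.2), (mk_eq_of_specializes hsp).trans y.2⟩
    have : y ⤳ y' := (specializes_iff_Y g y y').mpr ⟨hsp, rfl⟩
    have hmem : y' ∈ closure ({y} : Set (Y g)) := specializes_iff_mem_closure.mp this
    rw [hy.closure_eq] at hmem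
    have : x' = y.1.1 := congrArg (fun z : Y g => z.1.1) hmem
    exact this
  · intro hx
    rw [← closure_eq_iff_isClosed]
    apply Subset.antisymm _ subset_closure
    intro y' hy'
    have hsp : y ⤳ y' := specializes_iff_mem_closure.mpr hy'
    obtain ⟨h1, h2⟩ := (specializes_iff_Y g y y').mp hsp
    have hmem : y'.1.1 ∈ closure ({y.1.1} : Set X) := specializes_iff_mem_closure.mp h1
    rw [hx.closure_eq] at hmem
    have h3 : y'.1.1 = y.1.1 := hmem
    exact Subtype.ext (Prod.ext h3 h2.symm)

theorem isWLocal_Y [CompactSpace T] [T2Space T] [TotallyDisconnectedSpace T]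
    (hX : ProEtW.IsWLocal X) : ProEtW.IsWLocal (Y g) := by
  have := hX.1
  refine ⟨spectralSpace_Y g, ?_, ?_⟩
  · have : {y : Y g | IsClosed ({y} : Set (Y g))} =
        (fun y : Y g => y.1.1) ⁻¹' {x : X | IsClosed ({x} : Set X)} := by
      ext y
      exact isClosed_singleton_iff_Y g y
    rw [this]
    exact hX.2.1.preimage (continuous_fst.comp continuous_subtype_val)
  · intro y
    obtain ⟨x₀, ⟨hx₀c, hx₀s⟩, huniq⟩ := hX.2.2 y.1.1
    let z : Y g := ⟨(x₀, y.1.2), (mk_eq_of_specializes hx₀s).trans y.2⟩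
    refine ⟨z, ⟨(isClosed_singleton_iff_Y g z).mpr hx₀c,
      (specializes_iff_Y g y z).mpr ⟨hx₀s, rfl⟩⟩, ?_⟩
    rintro z' ⟨hz'c, hz's⟩
    obtain ⟨h1, h2⟩ := (specializes_iff_Y g y z').mp hz's
    have h3 : z'.1.1 = x₀ := huniq _ ⟨(isClosed_singleton_iff_Y g z').mp hz'c, h1⟩
    exact Subtype.ext (Prod.ext h3 h2.symm)

theorem isWLocalMap_pr1 [CompactSpace T] [T2Space T] [TotallyDisconnectedSpace T]
    [SpectralSpace X] : ProEtW.IsWLocalMap (fun y : Y g => y.1.1) := by
  refine ⟨⟨continuous_fst.comp continuous_subtype_val, fun U hUo hUc => ?_⟩, fun y hy =>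
    (isClosed_singleton_iff_Y g y).mp hy⟩
  have := isCompact_basicSet g (⟨⟨U, hUo, hUc⟩, ⟨univ, isClopen_univ⟩⟩ : BIdx X T)
  convert this using 1
  ext y
  simp [basicSet]

end Groth.Agent.Lib.Helper36.FibProd
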