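import Mathlib
import Groth.Prelude.Def_ProEtW
import Groth.Agent.Lib.Helper36.IndZarIdLoc
import Groth.Agent.Lib.Helper36.FibProd3

set_option autoImplicit false
set_option linter.unusedSectionVars false
universe u

namespace Groth.Agent.Lib.Helper36.IndZar

open Topology

/-- `π₀` of a subspace that is a union of connected components. -/
theorem mk_eq_mk_of_embedding {X Y : Type*} [TopologicalSpace X] [TopologicalSpace Y]
    (e : X → Y) (he : IsEmbedding e) (Z : Set (ConnectedComponents Y))
    (hrange : Set.range e = ConnectedComponents.mk ⁻¹' Z) (d d' : X)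
    (h : (ConnectedComponents.mk (e d) : ConnectedComponents Y) = ConnectedComponents.mk (e d')) :
    (ConnectedComponents.mk d : ConnectedComponents X) = ConnectedComponents.mk d' := by
  set K := connectedComponent (e d) with hK
  have hKr : K ⊆ Set.range e := by
    intro y hy
    rw [hrange, Set.mem_preimage]
    have h1 : (ConnectedComponents.mk y : ConnectedComponents Y) = ConnectedComponents.mk (e d) :=
      ConnectedComponents.coe_eq_coe'.mpr hy
    rw [h1]
    have : e d ∈ Set.range e := ⟨d, rfl⟩
    rw [hrange] at this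
    exact this
  have hpre : IsPreconnected (e ⁻¹' K) := by
    rw [← he.isInducing.isPreconnected_image, Set.image_preimage_eq_inter_range,
      Set.inter_eq_left.mpr hKr]
    exact isPreconnected_connectedComponent
  have hd : d ∈ e ⁻¹' K := mem_connectedComponent
  have hd' : d' ∈ e ⁻¹' K := ConnectedComponents.coe_eq_coe'.mp h.symm
  have := hpre.subset_connectedComponent hd hd'
  exact (ConnectedComponents.coe_eq_coe'.mpr this).symm

/-- every connected component of a prime spectrum contains a closed point -/
theorem exists_closedPoint_mk_eq {A : Type u} [CommRing A] (x : PrimeSpectrum A) :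
    ∃ m : PrimeSpectrum A, IsClosed ({m} : Set (PrimeSpectrum A)) ∧
      (ConnectedComponents.mk x : ConnectedComponents (PrimeSpectrum A)) =
        ConnectedComponents.mk m := by
  obtain ⟨M, hM, hxM⟩ := Ideal.exists_le_maximal x.asIdeal x.2.ne_top
  refine ⟨⟨M, hM.isPrime⟩, (PrimeSpectrum.isClosed_singleton_iff_isMaximal _).2 hM, ?_⟩
  refine (FibProd.mk_eq_of_specializes ?_).symm
  rw [← PrimeSpectrum.le_iff_specializes]
  exact hxM

/-- lifting primes through `B/IB ≃ C/IC` -/
theorem exists_comap_eq_of_bijective_quotientMap {B C : Type u} [CommRing B] [CommRing C]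
    [Algebra B C] (IB : Ideal B)
    (hbij : Function.Bijective (Ideal.quotientMap (IB.map (algebraMap B C)) (algebraMap B C)
      Ideal.le_comap_map))
    (q : PrimeSpectrum B) (hq : IB ≤ q.asIdeal) :
    ∃ c : PrimeSpectrum C, PrimeSpectrum.comap (algebraMap B C) c = q := by
  let φ := Ideal.quotientMap (IB.map (algebraMap B C)) (algebraMap B C) Ideal.le_comap_map
  let e : (B ⧸ IB) ≃+* (C ⧸ IB.map (algebraMap B C)) := RingEquiv.ofBijective φ hbij
  let ψ : C →+* B ⧸ q.asIdeal :=
    (Ideal.Quotient.factor hq).comp
      (e.symm.toRingHom.comp (Ideal.Quotient.mk (IB.map (algebraMap B C))))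
  have hdom : IsDomain (B ⧸ q.asIdeal) := Ideal.Quotient.isDomain q.asIdeal
  have hψ : ∀ b : B, ψ (algebraMap B C b) = Ideal.Quotient.mk q.asIdeal b := by
    intro b
    have h1 : Ideal.Quotient.mk (IB.map (algebraMap B C)) (algebraMap B C b) =
        e (Ideal.Quotient.mk IB b) := rfl
    change (Ideal.Quotient.factor hq) (e.symm (Ideal.Quotient.mk (IB.map (algebraMap B C))
      (algebraMap B C b))) = _
    rw [h1, RingEquiv.symm_apply_apply]
    rfl
  refine ⟨⟨RingHom.ker ψ, RingHom.ker_isPrime ψ⟩, ?_⟩
  ext b
  simp only [PrimeSpectrum.comap_asIdeal, Ideal.mem_comap, RingHom.mem_ker, hψ,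
    Ideal.Quotient.eq_zero_iff_mem]

end Groth.Agent.Lib.Helper36.IndZar
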