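import Mathlib
import Groth.Prelude.Def_ProEtW
import Groth.Agent.Lib.Helper4.ProfiniteSpec

set_option autoImplicit false
universe u

namespace Groth.Agent.Lib.Helper36.SigmaLoc

open Topology

/-- `Spec` of a ring map is a spectral map -/
theorem isSpectralMap_comap {R S : Type*} [CommRing R] [CommRing S] (f : R →+* S) :
    IsSpectralMap (PrimeSpectrum.comap f) := by
  classical
  refine ⟨PrimeSpectrum.continuous_comap f, fun s hso hsc => ?_⟩
  obtain ⟨t, rfl⟩ := PrimeSpectrum.isCompact_isOpen_iff.mp ⟨hsc, hso⟩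
  rw [Set.preimage_compl, PrimeSpectrum.preimage_comap_zeroLocus]
  have : (f '' (t : Set R)) = ((t.image f : Finset S) : Set S) := by
    rw [Finset.coe_image]
  rw [this]
  exact (PrimeSpectrum.isCompact_isOpen_iff.mpr ⟨t.image f, rfl⟩).1

/-- if all points of `V(J)` are closed points of `Spec B`, then `V(J)` is profinite. -/
theorem isProfinite_zeroLocus {B : Type u} [CommRing B] (J : Ideal B)
    (hJ : ∀ q ∈ PrimeSpectrum.zeroLocus (R := B) J, IsClosed ({q} : Set (PrimeSpectrum B))) :
    ProEtW.IsProfinite (PrimeSpectrum.zeroLocus (R := B) J) := by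
  let φ := Ideal.Quotient.mk J
  have hφ : Function.Surjective φ := Ideal.Quotient.mk_surjective
  have hrange : Set.range (PrimeSpectrum.comap φ) = PrimeSpectrum.zeroLocus (R := B) J := by
    rw [range_comap_of_surjective _ _ hφ, Ideal.mk_ker]
  have hR : ∀ q q' : PrimeSpectrum (B ⧸ J), q ≤ q' → q = q' := by
    intro q q' hqq'
    have hmem : PrimeSpectrum.comap φ q ∈ PrimeSpectrum.zeroLocus (R := B) J := by
      rw [← hrange]
      exact Set.mem_range_self q
    have hmax : (PrimeSpectrum.comap φ q).asIdeal.IsMaximal :=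
      (PrimeSpectrum.isClosed_singleton_iff_isMaximal _).mp (hJ _ hmem)
    have hle : (PrimeSpectrum.comap φ q).asIdeal ≤ (PrimeSpectrum.comap φ q').asIdeal :=
      Ideal.comap_mono hqq'
    have heq : PrimeSpectrum.comap φ q = PrimeSpectrum.comap φ q' := by
      ext1
      exact hmax.eq_of_le (PrimeSpectrum.comap φ q').2.ne_top hle
    exact PrimeSpectrum.comap_injective_of_surjective φ hφ heq
  have hts := Groth.Agent.Lib.Helper4.totallySeparatedSpace_of_incomparable (B ⧸ J) hR
  let e : PrimeSpectrum (B ⧸ J) ≃ₜ ↥(PrimeSpectrum.zeroLocus (R := B) J) :=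
    (PrimeSpectrum.isClosedEmbedding_comap_of_surjective (B ⧸ J) φ hφ).isEmbedding.toHomeomorph.trans
      (Homeomorph.setCongr hrange)
  exact ⟨isCompact_iff_compactSpace.mp (PrimeSpectrum.isClosed_zeroLocus _).isCompact,
    e.t2Space, e.totallyDisconnectedSpace⟩

end Groth.Agent.Lib.Helper36.SigmaLoc
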