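import Mathlib
import Groth.Prelude.Def_ProEtW
import Groth.Agent.Lib.Helper36.SigmaLocW
import Groth.Agent.Lib.Helper36.SigmaLocFlat

set_option autoImplicit false
universe u

namespace Groth.Agent.Lib.Helper36.SigmaLoc

open Topology

variable {A : Type u} [CommRing A] {T : Type u} [TopologicalSpace T] {Sg : T → Submonoid A}

/-! ### Extension of an ideal of `A` to `Bw` -/

theorem tr_mem_map (I : Ideal A) {i j : Idx A T Sg} (h : i ≤ j) {d : Stage i}
    (hd : d ∈ I.map (algebraMap A (Stage i))) : tr h d ∈ I.map (algebraMap A (Stage j)) := by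
  have h1 : tr h d ∈ (I.map (algebraMap A (Stage i))).map (tr h) := Ideal.mem_map_of_mem _ hd
  rw [Ideal.map_map] at h1
  have h2 : (tr h).comp (algebraMap A (Stage i)) = algebraMap A (Stage j) := by
    ext a
    exact tr_algebraMap_base h a
  rwa [h2] at h1

theorem ι_mem_map (I : Ideal A) {j : Idx A T Sg} {d : Stage j}
    (hd : d ∈ I.map (algebraMap A (Stage j))) : ι j d ∈ I.map (algebraMap A (Bw A T Sg)) := by
  have h1 : ι j d ∈ (I.map (algebraMap A (Stage j))).map (ι j) := Ideal.mem_map_of_mem _ hd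
  rw [Ideal.map_map] at h1
  have h2 : (ι j).comp (algebraMap A (Stage j)) = algebraMap A (Bw A T Sg) := by
    ext a
    exact ι_algebraMap j a
  rwa [h2] at h1

/-- elements of `I B` come from `I · (stage)` at some stage -/
theorem exists_rep_of_mem_map (I : Ideal A) {b : Bw A T Sg}
    (hb : b ∈ I.map (algebraMap A (Bw A T Sg))) :
    ∃ (j : Idx A T Sg) (d : Stage j), d ∈ I.map (algebraMap A (Stage j)) ∧ ι j d = b := by
  induction hb using Submodule.span_induction with
  | mem x hx =>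
    obtain ⟨a, ha, rfl⟩ := hx
    exact ⟨one ⊤, algebraMap A _ a, Ideal.mem_map_of_mem _ ha, ι_algebraMap _ a⟩
  | zero => exact ⟨one ⊤, 0, Ideal.zero_mem _, map_zero _⟩
  | add x y _ _ hx hy =>
    obtain ⟨i, d, hd, rfl⟩ := hx
    obtain ⟨j, d', hd', rfl⟩ := hy
    obtain ⟨k, h₁, h₂⟩ := exists_ge_ge i j
    refine ⟨k, tr h₁ d + tr h₂ d', Ideal.add_mem _ (tr_mem_map I h₁ hd) (tr_mem_map I h₂ hd'), ?_⟩
    rw [map_add, ι_tr_apply, ι_tr_apply]
  | smul c x _ hx =>
    obtain ⟨i, d, hd, rfl⟩ := hx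
    obtain ⟨j, d', rfl⟩ := exists_rep c
    obtain ⟨k, h₁, h₂⟩ := exists_ge_ge i j
    refine ⟨k, tr h₂ d' * tr h₁ d, Ideal.mul_mem_left _ _ (tr_mem_map I h₁ hd), ?_⟩
    rw [map_mul, ι_tr_apply, ι_tr_apply, smul_eq_mul]

/-- if `a ∈ A` maps into `I B`, then it maps into `I · (stage)` at some stage -/
theorem exists_stage_of_algebraMap_mem_map (I : Ideal A) {a : A}
    (ha : algebraMap A (Bw A T Sg) a ∈ I.map (algebraMap A (Bw A T Sg))) :
    ∃ j : Idx A T Sg, algebraMap A (Stage j) a ∈ I.map (algebraMap A (Stage j)) := by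
  obtain ⟨j, d, hd, hda⟩ := exists_rep_of_mem_map I ha
  rw [← ι_algebraMap j a] at hda
  obtain ⟨k, h, hk⟩ := (ι_eq_iff _ _).mp hda
  refine ⟨k, ?_⟩
  rw [← tr_algebraMap_base h, ← hk]
  exact tr_mem_map I h hd

theorem eval_mem_of_mem_map_pi (I : Ideal A) {Q : Type u} {g : Q → A}
    (hg : g ∈ I.map (algebraMap A (Q → A))) (k : Q) : g k ∈ I := by
  have h1 : Pi.evalRingHom (fun _ : Q => A) k g ∈
      (I.map (algebraMap A (Q → A))).map (Pi.evalRingHom (fun _ : Q => A) k) :=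
    Ideal.mem_map_of_mem _ hg
  rw [Ideal.map_map] at h1
  have h2 : (Pi.evalRingHom (fun _ : Q => A) k).comp (algebraMap A (Q → A)) = RingHom.id A := by
    ext a
    rfl
  rw [h2, Ideal.map_id] at h1
  exact h1

/-- if `a` maps into `I · (stage j)` then `ε(k)^N a ∈ I` for all `k`. -/
theorem exists_pow_mul_mem (I : Ideal A) {j : Idx A T Sg} {a : A}
    (ha : algebraMap A (Stage j) a ∈ I.map (algebraMap A (Stage j))) :
    ∃ N : ℕ, ∀ k : j.Q, j.ε k ^ N * a ∈ I := by
  have hmap : I.map (algebraMap A (Stage j)) =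
      (I.map (algebraMap A (j.Q → A))).map (algebraMap (j.Q → A) (Stage j)) := by
    rw [Ideal.map_map, ← IsScalarTower.algebraMap_eq]
  rw [hmap, IsScalarTower.algebraMap_apply A (j.Q → A) (Stage j),
    IsLocalization.algebraMap_mem_map_algebraMap_iff (Submonoid.powers j.ε)] at ha
  obtain ⟨m, ⟨N, rfl⟩, hm⟩ := ha
  refine ⟨N, fun k => ?_⟩
  have := eval_mem_of_mem_map_pi I hm k
  simpa using this

end Groth.Agent.Lib.Helper36.SigmaLoc
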