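import Mathlib
import Groth.Prelude.Def_ProEtW
import Groth.Agent.Lib.Helper36.SigmaLocAw
import Groth.Agent.Lib.Helper36.SigmaLocIdeal

set_option autoImplicit false
set_option linter.unusedSectionVars false
universe u

namespace Groth.Agent.Lib.Helper36.SigmaLoc

open Topology

variable (A : Type u) [CommRing A] (I : Ideal A)

/-- `V(I)` as a space -/
abbrev TV : Type u := ↥(PrimeSpectrum.zeroLocus (R := A) I)

/-- the inclusion -/
def πV : TV A I → PrimeSpectrum A := Subtype.val

theorem isClopen_πV [T2Space (TV A I)] (a : A) :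
    IsClopen {t : TV A I | a ∉ (πV A I t).asIdeal} := by
  have hemb : IsClosedEmbedding (Subtype.val : TV A I → PrimeSpectrum A) :=
    (PrimeSpectrum.isClosed_zeroLocus _).isClosedEmbedding_subtypeVal
  have hset : {t : TV A I | a ∉ (πV A I t).asIdeal} =
      Subtype.val ⁻¹' (PrimeSpectrum.basicOpen a : Set (PrimeSpectrum A)) := rfl
  rw [hset]
  constructor
  · exact (hemb.isCompact_preimage (PrimeSpectrum.isCompact_basicOpen a)).isClosed
  · exact (PrimeSpectrum.basicOpen a).isOpen.preimage continuous_subtype_val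

/-- the ring -/
abbrev BV : Type u := Bw A (TV A I) (SgW (πV A I))

variable [CompactSpace (TV A I)] [T2Space (TV A I)] [TotallyDisconnectedSpace (TV A I)]

theorem hSgV (a : A) : IsOpen {t : TV A I | a ∈ SgW (πV A I) t} := (isClopen_πV A I a).2

/-- the spectrum -/
noncomputable def homeoV : W (πV A I) ≃ₜ PrimeSpectrum (BV A I) := homeo (hSgV A I)

theorem isWLocal_BV : ProEtW.IsWLocal (PrimeSpectrum (BV A I)) :=
  isWLocal_of_homeomorph (homeoV A I)
    (isClosed_closedPoints_W (πV A I) (fun a => (isClopen_πV A I a).1))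
    (existsUnique_W (πV A I))

theorem closedPoints_BV :
    ProEtW.closedPoints (PrimeSpectrum (BV A I)) =
      PrimeSpectrum.zeroLocus (I.map (algebraMap A (BV A I))) := by
  ext q
  have hq : q ∈ PrimeSpectrum.zeroLocus (I.map (algebraMap A (BV A I)) : Set (BV A I)) ↔
      PrimeSpectrum.comap (algebraMap A (BV A I)) q ∈ PrimeSpectrum.zeroLocus (R := A) I := by
    rw [PrimeSpectrum.mem_zeroLocus, PrimeSpectrum.mem_zeroLocus, SetLike.coe_subset_coe,
      SetLike.coe_subset_coe, Ideal.map_le_iff_le_comap]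
    rfl
  rw [hq]
  set w := (homeoV A I).symm q with hw
  have e1 : w.1.1 = PrimeSpectrum.comap (algebraMap A (BV A I)) q := homeo_symm_fst (hSgV A I) q
  have hcl : IsClosed ({q} : Set (PrimeSpectrum (BV A I))) ↔ w.1.1 = πV A I w.1.2 := by
    rw [← isClosed_singleton_iff_W, ← isClosed_singleton_homeo (homeoV A I),
      Homeomorph.apply_symm_apply]
  change IsClosed _ ↔ _
  rw [hcl, ← e1]
  constructor
  · intro h
    rw [h]
    exact w.1.2.2
  · intro h
    let t' : TV A I := ⟨w.1.1, h⟩
    have hsp : t' ⤳ w.1.2 := by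
      rw [← Topology.IsInducing.subtypeVal.specializes_iff]
      exact (PrimeSpectrum.le_iff_specializes _ _).mp (W_le (πV A I) w)
    have : t' = w.1.2 := hsp.eq
    exact congrArg Subtype.val this

/-- injectivity of `A/I → B/IB` -/
theorem comap_map_le : (I.map (algebraMap A (BV A I))).comap (algebraMap A (BV A I)) ≤ I := by
  intro a ha
  rw [Ideal.mem_comap] at ha
  obtain ⟨j, hj⟩ := exists_stage_of_algebraMap_mem_map I ha
  obtain ⟨N, hN⟩ := exists_pow_mul_mem I hj
  -- the colon ideal
  let J : Ideal A := Submodule.comap (LinearMap.mulRight A a) I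
  have hJ : ∀ r, r ∈ J ↔ r * a ∈ I := fun r => Iff.rfl
  by_contra haI
  have hJne : J ≠ ⊤ := by
    intro h
    have : (1 : A) ∈ J := h ▸ Submodule.mem_top
    rw [hJ, one_mul] at this
    exact haI this
  obtain ⟨m, hm, hJm⟩ := Ideal.exists_le_maximal J hJne
  have hIm : I ≤ m := fun i hi => hJm ((hJ i).mpr (I.mul_mem_right a hi))
  let t : TV A I := ⟨⟨m, hm.isPrime⟩, by
    rw [PrimeSpectrum.mem_zeroLocus]
    exact hIm⟩
  have h1 : j.ε (j.Q.proj t) ^ N ∈ m := hJm ((hJ _).mpr (hN _))
  have h2 : j.ε (j.Q.proj t) ∈ m := hm.isPrime.mem_of_pow_mem _ h1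
  exact j.mem t h2

end Groth.Agent.Lib.Helper36.SigmaLoc
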