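import Mathlib
import Groth.Prelude.Def_ProEtW
import Groth.Agent.Lib.Helper36.SigmaLocVI

set_option autoImplicit false
set_option linter.unusedSectionVars false
universe u

namespace Groth.Agent.Lib.Helper36.SigmaLoc

open Topology

variable (A : Type u) [CommRing A] (I : Ideal A)
variable [CompactSpace (TV A I)] [T2Space (TV A I)] [TotallyDisconnectedSpace (TV A I)]

attribute [local instance] Classical.propDecidable

/-- idempotents mod `I` cutting out the pieces of a discrete quotient of `V(I)` -/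
theorem exists_e (Q : DiscreteQuotient (TV A I)) (k : Q) :
    ∃ e : A, e * (1 - e) ∈ I ∧ ∀ t : TV A I, e ∉ t.1.asIdeal ↔ Q.proj t = k := by
  let φ := Ideal.Quotient.mk I
  have hφ : Function.Surjective φ := Ideal.Quotient.mk_surjective
  have hrange : Set.range (PrimeSpectrum.comap φ) = PrimeSpectrum.zeroLocus (R := A) I := by
    rw [range_comap_of_surjective _ _ hφ, Ideal.mk_ker]
  let h : PrimeSpectrum (A ⧸ I) → TV A I := fun x =>
    ⟨PrimeSpectrum.comap φ x, by rw [← hrange]; exact Set.mem_range_self x⟩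
  have hcont : Continuous h := (PrimeSpectrum.continuous_comap φ).subtype_mk _
  have hclopen : IsClopen (h ⁻¹' (Q.proj ⁻¹' {k})) := (Q.isClopen_preimage {k}).preimage hcont
  obtain ⟨eb, heb, hset⟩ := PrimeSpectrum.isClopen_iff.mp hclopen
  obtain ⟨e, rfl⟩ := hφ eb
  refine ⟨e, ?_, fun t => ?_⟩
  · rw [← Ideal.Quotient.eq_zero_iff_mem, map_mul, map_sub, map_one, mul_sub, mul_one,
      heb.eq, sub_self]
  · obtain ⟨x, hx⟩ : (t.1 : PrimeSpectrum A) ∈ Set.range (PrimeSpectrum.comap φ) := by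
      rw [hrange]
      exact t.2
    have hxt : h x = t := Subtype.ext hx
    have h1 : x ∈ h ⁻¹' (Q.proj ⁻¹' {k}) ↔ Q.proj t = k := by
      rw [Set.mem_preimage, Set.mem_preimage, Set.mem_singleton_iff, hxt]
    rw [← h1, hset, ← hx]
    rfl

/-- a choice of such elements -/
noncomputable def eQ (Q : DiscreteQuotient (TV A I)) (k : Q) : A := (exists_e A I Q k).choose

theorem eQ_mul (Q : DiscreteQuotient (TV A I)) (k : Q) : eQ A I Q k * (1 - eQ A I Q k) ∈ I :=
  (exists_e A I Q k).choose_spec.1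

theorem eQ_notMem_iff (Q : DiscreteQuotient (TV A I)) (k : Q) (t : TV A I) :
    eQ A I Q k ∉ t.1.asIdeal ↔ Q.proj t = k :=
  (exists_e A I Q k).choose_spec.2 t

/-- the idempotent `χ_k` of `B` -/
noncomputable def χ (Q : DiscreteQuotient (TV A I)) (k : Q) : BV A I :=
  ρ Q (Pi.single k (1 : A))

theorem χ_mul_self (Q : DiscreteQuotient (TV A I)) (k : Q) : χ A I Q k * χ A I Q k = χ A I Q k := by
  rw [χ, ← map_mul, ← Pi.single_mul, mul_one]

/-- `χ_k ≡ e_k` modulo `I B`. -/
theorem χ_sub_mem (Q : DiscreteQuotient (TV A I)) (k : Q) :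
    χ A I Q k - algebraMap A (BV A I) (eQ A I Q k) ∈ I.map (algebraMap A (BV A I)) := by
  set e := eQ A I Q k with he
  -- the index `(Q, ε')`
  let j : Idx A (TV A I) (SgW (πV A I)) := ⟨Q, fun k' => if k' = k then e else 1 - e, fun t => by
    change _ ∉ t.1.asIdeal
    by_cases hk : Q.proj t = k
    · simp only [hk, if_true]
      exact (eQ_notMem_iff A I Q k t).mpr hk
    · simp only [hk, if_false]
      have h1 : e ∈ t.1.asIdeal := by
        by_contra h
        exact hk ((eQ_notMem_iff A I Q k t).mp h)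
      intro h2
      have : (1 : A) ∈ t.1.asIdeal := by
        have := Ideal.add_mem _ h1 h2
        rwa [add_sub_cancel] at this
      exact t.1.2.ne_top ((Ideal.eq_top_iff_one _).mpr this)⟩
  have hu : IsUnit (ρ j.Q j.ε : BV A I) := isUnit_ρ j
  have hε : j.ε = algebraMap A (Q → A) e * Pi.single k (1 : A) +
      algebraMap A (Q → A) (1 - e) * (1 - Pi.single k (1 : A)) := by
    ext k'
    by_cases hk : k' = k
    · rw [hk]
      simp [j]
    · simp [j, hk]
  have hρ : (ρ j.Q j.ε : BV A I) = algebraMap A (BV A I) e * χ A I Q k +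
      (1 - algebraMap A (BV A I) e) * (1 - χ A I Q k) := by
    change ρ Q j.ε = _
    rw [hε]
    simp only [map_add, map_mul, map_sub, map_one, ρ_algebraMap]
    rfl
  have hχ := χ_mul_self A I Q k
  have hkey : (χ A I Q k - algebraMap A (BV A I) e) * ρ j.Q j.ε =
      algebraMap A (BV A I) (e * (1 - e)) * (2 * χ A I Q k - 1) := by
    rw [hρ, map_mul, map_sub, map_one]
    linear_combination (2 * algebraMap A (BV A I) e - 1) * hχ
  have hmem : (χ A I Q k - algebraMap A (BV A I) e) * ρ j.Q j.ε ∈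
      I.map (algebraMap A (BV A I)) := by
    rw [hkey]
    exact Ideal.mul_mem_right _ _ (Ideal.mem_map_of_mem _ (eQ_mul A I Q k))
  obtain ⟨v, hv⟩ := hu.exists_right_inv
  have := Ideal.mul_mem_right v _ hmem
  rwa [mul_assoc, hv, mul_one] at this


noncomputable local instance (Q : DiscreteQuotient (TV A I)) : Fintype Q := Fintype.ofFinite Q

/-- `ρ Q f ≡ Σ f(k) e_k` modulo `I B`. -/
theorem ρ_sub_mem (Q : DiscreteQuotient (TV A I)) (f : Q → A) :
    ρ Q f - algebraMap A (BV A I) (∑ k, f k * eQ A I Q k) ∈ I.map (algebraMap A (BV A I)) := by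
  have hf : f = ∑ k, algebraMap A (Q → A) (f k) * Pi.single k (1 : A) := by
    ext k'
    rw [Finset.sum_apply, Finset.sum_eq_single k']
    · simp
    · intro k _ hk
      simp [hk.symm]
    · intro h
      exact absurd (Finset.mem_univ _) h
  have hρf : (ρ Q f : BV A I) = ∑ k, algebraMap A (BV A I) (f k) * χ A I Q k := by
    conv_lhs => rw [hf]
    simp only [map_sum, map_mul, ρ_algebraMap]
    rfl
  have hsum : (ρ Q f : BV A I) - algebraMap A (BV A I) (∑ k, f k * eQ A I Q k) =
      ∑ k, algebraMap A (BV A I) (f k) * (χ A I Q k - algebraMap A (BV A I) (eQ A I Q k)) := by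
    rw [hρf]
    simp only [map_sum, map_mul]
    rw [← Finset.sum_sub_distrib]
    refine Finset.sum_congr rfl (fun k _ => ?_)
    rw [mul_sub]
  rw [hsum]
  exact Ideal.sum_mem _ (fun k _ => Ideal.mul_mem_left _ _ (χ_sub_mem A I Q k))

theorem exists_mul_sub_one_mem (j : Idx A (TV A I) (SgW (πV A I))) (n : ℕ) :
    ∃ c : A, c * (∑ k, j.ε k ^ n * eQ A I j.Q k) - 1 ∈ I := by
  set a₂ := ∑ k, j.ε k ^ n * eQ A I j.Q k with ha₂
  have htop : I ⊔ Ideal.span {a₂} = ⊤ := by
    by_contra hne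
    obtain ⟨m, hm, hle⟩ := Ideal.exists_le_maximal _ hne
    have hIm : I ≤ m := (_root_.le_sup_left).trans hle
    have ha₂m : a₂ ∈ m := hle (Ideal.mem_sup_right (Ideal.mem_span_singleton_self a₂))
    let t : TV A I := ⟨⟨m, hm.isPrime⟩, by
      rw [PrimeSpectrum.mem_zeroLocus]
      exact hIm⟩
    set k₀ := j.Q.proj t with hk₀
    have hsplit : j.ε k₀ ^ n * eQ A I j.Q k₀ +
        ∑ k ∈ Finset.univ.erase k₀, j.ε k ^ n * eQ A I j.Q k = a₂ :=
      Finset.add_sum_erase Finset.univ (fun k => j.ε k ^ n * eQ A I j.Q k) (Finset.mem_univ k₀)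
    have hrest : ∑ k ∈ Finset.univ.erase k₀, j.ε k ^ n * eQ A I j.Q k ∈ m := by
      refine Ideal.sum_mem _ (fun k hk => Ideal.mul_mem_left _ _ ?_)
      have hne : j.Q.proj t ≠ k := fun h => (Finset.ne_of_mem_erase hk) h.symm
      by_contra hmem
      exact hne ((eQ_notMem_iff A I j.Q k t).mp hmem)
    have hmain : j.ε k₀ ^ n * eQ A I j.Q k₀ ∈ m := by
      have := Ideal.sub_mem _ ha₂m hrest
      rwa [← hsplit, add_sub_cancel_right] at this
    rcases hm.isPrime.mem_or_mem hmain with h1 | h1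
    · exact j.mem t (hm.isPrime.mem_of_pow_mem _ h1)
    · exact (eQ_notMem_iff A I j.Q k₀ t).mpr rfl h1
  have h1 : (1 : A) ∈ I ⊔ Ideal.span {a₂} := htop ▸ Submodule.mem_top
  obtain ⟨i, hi, y, hy, hiy⟩ := Submodule.mem_sup.mp h1
  obtain ⟨c, rfl⟩ := Ideal.mem_span_singleton'.mp hy
  refine ⟨c, ?_⟩
  have : c * a₂ - 1 = -i := by rw [← hiy]; ring
  rw [this]
  exact I.neg_mem hi

theorem exists_sub_mem (b : BV A I) :
    ∃ a : A, b - algebraMap A (BV A I) a ∈ I.map (algebraMap A (BV A I)) := by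
  obtain ⟨j, d, rfl⟩ := exists_rep b
  obtain ⟨n, f, hf⟩ := IsLocalization.Away.surj j.ε d
  have h1 : ι j d * ρ j.Q (j.ε ^ n) = ρ j.Q f := by
    rw [← ι_algebraMap_stage, ← ι_algebraMap_stage, ← map_mul, map_pow, hf]
  have h2 := ρ_sub_mem A I j.Q f
  have h3 := ρ_sub_mem A I j.Q (j.ε ^ n)
  simp only [Pi.pow_apply] at h3
  obtain ⟨c, hc⟩ := exists_mul_sub_one_mem A I j n
  set a₁ := ∑ k, f k * eQ A I j.Q k with ha₁
  set a₂ := ∑ k, j.ε k ^ n * eQ A I j.Q k with ha₂
  refine ⟨c * a₁, ?_⟩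
  have hdecomp : ι j d - algebraMap A (BV A I) (c * a₁) =
      - (ι j d * algebraMap A (BV A I) (c * a₂ - 1)) -
        algebraMap A (BV A I) c * ι j d * (ρ j.Q (j.ε ^ n) - algebraMap A (BV A I) a₂) +
        algebraMap A (BV A I) c * (ρ j.Q f - algebraMap A (BV A I) a₁) := by
    simp only [map_mul, map_sub, map_one]
    linear_combination (algebraMap A (BV A I) c) * h1
  rw [hdecomp]
  refine Ideal.add_mem _ (Ideal.sub_mem _ (neg_mem ?_) ?_) ?_
  · exact Ideal.mul_mem_left _ _ (Ideal.mem_map_of_mem _ hc)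
  · exact Ideal.mul_mem_left _ _ h3
  · exact Ideal.mul_mem_left _ _ h2

theorem bijective_quotientMap :
    Function.Bijective (Ideal.quotientMap (I.map (algebraMap A (BV A I)))
      (algebraMap A (BV A I)) Ideal.le_comap_map) := by
  constructor
  · exact Ideal.quotientMap_injective' (comap_map_le A I)
  · intro x
    obtain ⟨b, rfl⟩ := Ideal.Quotient.mk_surjective x
    obtain ⟨a, ha⟩ := exists_sub_mem A I b
    refine ⟨Ideal.Quotient.mk I a, ?_⟩
    rw [Ideal.quotientMap_mk]
    exact (Ideal.Quotient.eq.mpr ha).symm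

end Groth.Agent.Lib.Helper36.SigmaLoc
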