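import Mathlib
import Groth.Prelude.Def_ProEtW
import Groth.Agent.S0737
import Groth.Agent.Lib.Helper36.IndZarTop

set_option autoImplicit false
universe u

namespace Groth.Agent.Lib.Helper36.WLSquare

open Groth.Agent.Lib.Helper36.IndZar

/-- packaging of S0737: w-localization of an algebra over a w-local base along the closed points -/
theorem exists_wLocal_over (A' C' : Type u) [CommRing A'] [CommRing C'] [Algebra A' C']
    (hA' : ProEtW.IsWLocal (PrimeSpectrum A')) (h : ProEtW.AlgebraicResidueExtensions A' C') :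
    ∃ (C : Type u) (_ : CommRing C) (_ : Algebra C' C) (_ : Algebra A' C)
      (_ : IsScalarTower A' C' C),
      EtPBC.IsIndZariski C' C ∧ ProEtW.IsWLocal (PrimeSpectrum C) ∧
      ProEtW.IsWLocalMap (PrimeSpectrum.comap (algebraMap A' C)) ∧
      ProEtW.closedPoints (PrimeSpectrum C) =
        PrimeSpectrum.comap (algebraMap A' C) ⁻¹' ProEtW.closedPoints (PrimeSpectrum A') ∧
      (∀ r : PrimeSpectrum C',
        PrimeSpectrum.comap (algebraMap A' C') r ∈ ProEtW.closedPoints (PrimeSpectrum A') →
        IsClosed ({r} : Set (PrimeSpectrum C')) ∧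
          ∃ c : PrimeSpectrum C, PrimeSpectrum.comap (algebraMap C' C) c = r) := by
  set I := PrimeSpectrum.vanishingIdeal (ProEtW.closedPoints (PrimeSpectrum A')) with hI
  have hIrad : I.IsRadical := PrimeSpectrum.isRadical_vanishingIdeal _
  have hI0 : PrimeSpectrum.zeroLocus (I : Set A') = ProEtW.closedPoints (PrimeSpectrum A') := by
    rw [hI, PrimeSpectrum.zeroLocus_vanishingIdeal_eq_closure]
    exact hA'.2.1.closure_eq
  obtain ⟨hcl, C, _, _, _, _, hC'C, hbij, hC, hCA, hCcl⟩ :=
    Groth.Agent.S0737.result A' C' hA' I hIrad hI0 h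
  refine ⟨C, inferInstance, inferInstance, inferInstance, inferInstance, hC'C, hC, hCA, hCcl, ?_⟩
  intro r hr
  have hrI : I.map (algebraMap A' C') ≤ r.asIdeal := by
    rw [Ideal.map_le_iff_le_comap]
    have : PrimeSpectrum.comap (algebraMap A' C') r ∈ PrimeSpectrum.zeroLocus (I : Set A') := by
      rw [hI0]
      exact hr
    exact this
  refine ⟨hcl hrI, ?_⟩
  exact exists_comap_eq_of_bijective_quotientMap _ hbij r hrI

end Groth.Agent.Lib.Helper36.WLSquare
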