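import Mathlib
import Groth.Prelude.Def_ProEtW

set_option autoImplicit false

universe u

namespace Groth.Agent.Lib.Helper36.EtRetr

open PrimeSpectrum Polynomial

section EtProd
variable {R A B : Type u} [CommRing R] [CommRing A] [CommRing B] [Algebra R A] [Algebra R B]

/-- the two-member family of algebras -/
def BoolFam (A B : Type u) : Bool → Type u := fun b => cond b A B

instance (b : Bool) : CommRing (BoolFam A B b) :=
  match b with
  | true => (inferInstance : CommRing A)
  | false => (inferInstance : CommRing B)

instance (b : Bool) : Algebra R (BoolFam A B b) :=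
  match b with
  | true => (inferInstance : Algebra R A)
  | false => (inferInstance : Algebra R B)

/-- a binary product as a product over `Bool` -/
def boolFamEquiv : (∀ b, BoolFam A B b) ≃ₐ[R] A × B where
  toFun f := (f true, f false)
  invFun p := fun b => match b with
    | true => p.1
    | false => p.2
  left_inv f := by
    funext b
    cases b <;> rfl
  right_inv p := rfl
  map_mul' _ _ := rfl
  map_add' _ _ := rfl
  commutes' _ := rfl

theorem etale_prod [Algebra.Etale R A] [Algebra.Etale R B] : Algebra.Etale R (A × B) := by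
  haveI : ∀ b, Algebra.Etale R (BoolFam A B b) := fun b =>
    match b with
    | true => (inferInstance : Algebra.Etale R A)
    | false => (inferInstance : Algebra.Etale R B)
  exact Algebra.Etale.of_equiv (boolFamEquiv (R := R) (A := A) (B := B))

end EtProd

theorem idem_eq_zero_of_mem_jacobson {T : Type*} [CommRing T] {e : T}
    (he : IsIdempotentElem e) (hj : e ∈ Ideal.jacobson (⊥ : Ideal T)) : e = 0 := by
  have hu : IsUnit (e * (-1) + 1) := Ideal.mem_jacobson_bot.mp hj (-1)
  have h0 : e * (e * (-1) + 1) = 0 := by
    have : e * e = e := he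
    calc e * (e * (-1) + 1) = e - e * e := by ring
      _ = 0 := by rw [this, sub_self]
  exact (hu.mul_left_eq_zero).mp h0

/-- **Key lemma** (Stacks 097B/097C core).  Let `A` have retractions for faithfully flat étale
algebras, `B` an étale `A`-algebra and `I` an ideal of `A` such that `V(I)` is contained in the image
of `Spec B`.  Then `B` maps, as an `A`-algebra, to every `A`-algebra `T` such that `I T` lies in the
Jacobson radical of `T` (e.g. `T = A/I`, or `T = A_m` for a maximal ideal `m ⊇ I`). -/
theorem exists_algHom_of_zeroLocus_subset {A : Type u} [CommRing A]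
    (h : ProEtW.HasEtaleRetractions A) (B : Type u) [CommRing B] [Algebra A B] [Algebra.Etale A B]
    (I : Ideal A) (hI : zeroLocus (I : Set A) ⊆ Set.range (comap (algebraMap A B)))
    (T : Type*) [CommRing T] [Algebra A T]
    (hT : I.map (algebraMap A T) ≤ Ideal.jacobson ⊥) : Nonempty (B →ₐ[A] T) := by
  classical
  have hflat : Module.Flat A B := inferInstance
  have hopen : IsOpen (Set.range (comap (algebraMap A B))) :=
    (isOpenMap_comap_of_hasGoingDown_of_finitePresentation (R := A) (S := B)).isOpen_range
  set U := Set.range (comap (algebraMap A B)) with hU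
  let J : Ideal A := vanishingIdeal Uᶜ
  have hJ : zeroLocus (J : Set A) = Uᶜ := by
    rw [zeroLocus_vanishingIdeal_eq_closure, hopen.isClosed_compl.closure_eq]
  have hIJ : I ⊔ J = ⊤ := by
    rw [← zeroLocus_empty_iff_eq_top, zeroLocus_sup, hJ]
    ext x
    simp only [Set.mem_inter_iff, Set.mem_compl_iff, Set.mem_empty_iff_false, iff_false, not_and,
      not_not]
    intro hx
    exact hI hx
  obtain ⟨i, hi, j, hj, hij⟩ := Submodule.mem_sup.mp (hIJ ▸ Submodule.mem_top : (1 : A) ∈ I ⊔ J)
  let C := Localization.Away i
  have : Algebra.Etale A (B × C) := etale_prod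
  have : Module.Flat A (B × C) := inferInstance
  have hsurj : Function.Surjective (comap (algebraMap A (B × C))) := by
    intro p
    by_cases hp : p ∈ U
    · obtain ⟨q, rfl⟩ := hp
      refine ⟨comap (RingHom.fst B C) q, ?_⟩
      rw [← PrimeSpectrum.comap_comp_apply]
      rfl
    · have hpJ : p ∈ zeroLocus (J : Set A) := by rw [hJ]; exact hp
      have hjp : j ∈ p.asIdeal := hpJ hj
      have hip : i ∉ p.asIdeal := by
        intro hip
        apply p.isPrime.ne_top
        rw [Ideal.eq_top_iff_one, ← hij]
        exact add_mem hip hjp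
      have : p ∈ Set.range (comap (algebraMap A C)) := by
        rw [localization_away_comap_range C i]
        exact hip
      obtain ⟨q, rfl⟩ := this
      refine ⟨comap (RingHom.snd B C) q, ?_⟩
      rw [← PrimeSpectrum.comap_comp_apply]
      rfl
  have : Module.FaithfullyFlat A (B × C) := Module.FaithfullyFlat.of_comap_surjective hsurj
  obtain ⟨σ⟩ := h (B × C) inferInstance inferInstance
  -- the idempotent
  have he : σ (0, 1) ∈ I := by
    have : ((0 : B), (1 : C)) = i • ((0 : B), IsLocalization.Away.invSelf (S := C) i) := by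
      ext
      · simp
      · simp [Algebra.smul_def, IsLocalization.Away.mul_invSelf]
    rw [this, map_smul, smul_eq_mul]
    exact I.mul_mem_right _ hi
  let ψ₀ : (B × C) →ₐ[A] T := (Algebra.ofId A T).comp σ
  have hψ₀ : ψ₀ (0, 1) = 0 := by
    apply idem_eq_zero_of_mem_jacobson
    · change ψ₀ (0, 1) * ψ₀ (0, 1) = ψ₀ (0, 1)
      rw [← map_mul]
      simp
    · apply hT
      exact Ideal.mem_map_of_mem _ he
  have hψ₀' : ∀ c : C, ψ₀ (0, c) = 0 := by
    intro c
    have : ((0 : B), c) = (0, 1) * (0, c) := by simp
    rw [this, map_mul, hψ₀, zero_mul]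
  have hψ₁ : ψ₀ (1, 0) = 1 := by
    have : ((1 : B), (0 : C)) = 1 - (0, 1) := by
      ext <;> simp
    rw [this, map_sub, map_one, hψ₀, sub_zero]
  refine ⟨{ toFun := fun b => ψ₀ (b, 0)
            map_one' := hψ₁
            map_mul' := fun b b' => by rw [← map_mul]; simp
            map_zero' := by rw [show ((0 : B), (0 : C)) = 0 from rfl, map_zero]
            map_add' := fun b b' => by rw [← map_add]; simp
            commutes' := fun a => ?_ }⟩
  have : (algebraMap A B a, (0 : C)) = a • ((1 : B), (0 : C)) := by
    ext <;> simp [Algebra.smul_def]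
  change ψ₀ (algebraMap A B a, 0) = _
  rw [this, map_smul, hψ₁, Algebra.smul_def, mul_one]

/-- Lemma B: a standard étale pair having a point in a field `L` over the maximal ideal `m`
has a point in every `A`-algebra `T` with `m T ⊆ rad T`. -/
theorem exists_hasMap_of_field {A : Type u} [CommRing A]
    (h : ProEtW.HasEtaleRetractions A) (m : Ideal A) [m.IsMaximal] (P : StandardEtalePair A)
    (L : Type*) [Field L] [Algebra A L] (hL : RingHom.ker (algebraMap A L) = m)
    (x : L) (hx : P.HasMap x)
    (T : Type*) [CommRing T] [Algebra A T]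
    (hT : m.map (algebraMap A T) ≤ Ideal.jacobson ⊥) : ∃ y : T, P.HasMap y := by
  let χ : P.Ring →ₐ[A] L := P.lift x hx
  have hI : zeroLocus (m : Set A) ⊆ Set.range (comap (algebraMap A P.Ring)) := by
    intro p hp
    have hmp : m = p.asIdeal := Ideal.IsMaximal.eq_of_le inferInstance p.isPrime.ne_top hp
    refine ⟨⟨RingHom.ker χ.toRingHom, RingHom.ker_isPrime _⟩, ?_⟩
    ext a
    rw [← hmp, ← hL]
    change χ (algebraMap A P.Ring a) = 0 ↔ algebraMap A L a = 0
    rw [χ.commutes]
  obtain ⟨ψ⟩ := exists_algHom_of_zeroLocus_subset h P.Ring m hI T hT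
  exact ⟨ψ P.X, StandardEtalePair.hasMap_X.map ψ⟩

theorem exists_root_of_simple_root {A : Type u} [CommRing A]
    (h : ProEtW.HasEtaleRetractions A) (m : Ideal A) [m.IsMaximal]
    (G : A[X]) (hG : G.Monic) (a : m.ResidueField)
    (h0 : (G.map (algebraMap A m.ResidueField)).eval a = 0)
    (h1 : (G.map (algebraMap A m.ResidueField)).derivative.eval a ≠ 0) :
    ∃ y : Localization.AtPrime m, aeval y G = 0 ∧ IsLocalRing.residue _ y = a := by
  set φ := algebraMap A m.ResidueField with hφ
  set Gb := G.map φ with hGbdef
  have hGb : Gb.Monic := hG.map φ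
  let Qb := Gb /ₘ (X - C a)
  have hQ : (X - C a) * Qb = Gb := mul_divByMonic_eq_iff_isRoot.mpr h0
  have hQa : Qb.eval a ≠ 0 := by
    have : Gb.derivative.eval a = Qb.eval a := by
      rw [← hQ, derivative_mul]
      simp
    rwa [this] at h1
  obtain ⟨H, hH⟩ := Polynomial.map_surjective φ (Ideal.algebraMap_residueField_surjective m) Qb
  let P : StandardEtalePair A := ⟨G, hG, derivative G * H, ⟨H, 0, 1, by ring⟩⟩
  have hx : P.HasMap a := by
    constructor
    · change aeval a G = 0
      rw [aeval_def, ← eval_map]
      exact h0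
    · change IsUnit (aeval a (derivative G * H))
      rw [map_mul, aeval_def, aeval_def, ← eval_map, ← eval_map, hH, ← derivative_map]
      exact (mul_ne_zero h1 hQa).isUnit
  obtain ⟨y, hy⟩ := exists_hasMap_of_field h m P m.ResidueField
    (Ideal.ker_algebraMap_residueField m) a hx (Localization.AtPrime m)
    (by rw [Localization.AtPrime.map_eq_maximalIdeal,
          IsLocalRing.jacobson_eq_maximalIdeal ⊥ bot_ne_top])
  refine ⟨y, hy.1, ?_⟩
  set r := IsLocalRing.residue _ y with hr
  have key : ∀ p : A[X], (p.map φ).eval r = IsLocalRing.residue _ (aeval y p) := by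
    intro p
    rw [eval_map, ← aeval_def]
    exact aeval_algHom_apply (IsScalarTower.toAlgHom A (Localization.AtPrime m) m.ResidueField) y p
  have hr0 : Gb.eval r = 0 := by
    rw [key, hy.1, map_zero]
  have hr1 : Qb.eval r ≠ 0 := by
    rw [← hH, key]
    have hu : IsUnit (aeval y (derivative G * H)) := hy.2
    rw [map_mul] at hu
    have hu' : IsUnit (aeval y H) := isUnit_of_mul_isUnit_right hu
    exact (hu'.map (IsLocalRing.residue _)).ne_zero
  rw [← hQ, eval_mul, eval_sub, eval_X, eval_C] at hr0
  rcases mul_eq_zero.mp hr0 with h2 | h2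
  · exact sub_eq_zero.mp h2
  · exact absurd h2 hr1

theorem isSepClosed_residueField {A : Type u} [CommRing A]
    (h : ProEtW.HasEtaleRetractions A) (m : Ideal A) [m.IsMaximal] :
    IsSepClosed m.ResidueField := by
  apply IsSepClosed.of_exists_root
  intro p hp hirr hsep
  set φ := algebraMap A m.ResidueField with hφ
  have hφs : Function.Surjective φ := Ideal.algebraMap_residueField_surjective m
  have hlift : p ∈ lifts φ := by
    obtain ⟨q, hq⟩ := Polynomial.map_surjective φ hφs p
    exact (mem_lifts p).mpr ⟨q, hq⟩
  obtain ⟨G, hGp, -, hG⟩ := lifts_and_degree_eq_and_monic hlift hp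
  -- a root in the algebraic closure
  let L := AlgebraicClosure m.ResidueField
  have hdeg : p.degree ≠ 0 := fun h0 => by
    have := hirr.not_isUnit
    exact this (isUnit_iff_degree_eq_zero.mpr h0)  
  obtain ⟨x, hx⟩ := IsAlgClosed.exists_root (p.map (algebraMap m.ResidueField L))
    (by rwa [degree_map])
  let P : StandardEtalePair A := ⟨G, hG, derivative G, ⟨1, 0, 1, by ring⟩⟩
  have hmapL : G.map (algebraMap A L) = p.map (algebraMap m.ResidueField L) := by
    rw [IsScalarTower.algebraMap_eq A m.ResidueField L, ← Polynomial.map_map, hGp]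
  have hPx : P.HasMap x := by
    constructor
    · change aeval x G = 0
      rw [aeval_def, ← eval_map, hmapL]
      exact hx
    · change IsUnit (aeval x (derivative G))
      rw [aeval_def, ← eval_map, ← derivative_map, hmapL, derivative_map, eval_map]
      exact (hsep.eval₂_derivative_ne_zero _ (by rw [← eval_map]; exact hx)).isUnit
  have hker : RingHom.ker (algebraMap A L) = m := by
    rw [IsScalarTower.algebraMap_eq A m.ResidueField L, ← RingHom.comap_ker,
      (RingHom.injective_iff_ker_eq_bot _).mp (algebraMap m.ResidueField L).injective,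
      ← RingHom.ker_eq_comap_bot, Ideal.ker_algebraMap_residueField]
  obtain ⟨y, hy⟩ := exists_hasMap_of_field h m P L hker x hPx m.ResidueField
    (by
      have : m.map (algebraMap A m.ResidueField) = ⊥ := by
        rw [Ideal.map_eq_bot_iff_le_ker, Ideal.ker_algebraMap_residueField]
      rw [this]
      exact bot_le)
  refine ⟨y, ?_⟩
  have := hy.1
  change aeval y G = 0 at this
  rwa [aeval_def, ← eval_map, hGp] at this

theorem henselianLocalRing_atPrime {A : Type u} [CommRing A]
    (h : ProEtW.HasEtaleRetractions A) (m : Ideal A) [m.IsMaximal] :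
    HenselianLocalRing (Localization.AtPrime m) := by
  apply ((HenselianLocalRing.TFAE (Localization.AtPrime m)).out 0 1).mpr
  intro f hf a₀ h0 h1
  -- scale
  let s₀ := IsLocalization.commonDenom m.primeCompl f.support f.coeff
  set sR : Localization.AtPrime m := algebraMap A (Localization.AtPrime m) s₀ with hsRdef
  have hsR : IsUnit sR := IsLocalization.map_units (Localization.AtPrime m) s₀
  have hg : f.scaleRoots sR ∈ lifts (algebraMap A (Localization.AtPrime m)) :=
    IsLocalization.scaleRoots_commonDenom_mem_lifts m.primeCompl f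
      (by rw [hf.leadingCoeff]; exact ⟨1, map_one _⟩)
  have hgm : (f.scaleRoots sR).Monic := (monic_scaleRoots_iff sR).mpr hf
  obtain ⟨G, hGg, -, hG⟩ := lifts_and_degree_eq_and_monic hg hgm
  -- residue polynomial
  set fb := f.map (IsLocalRing.residue (Localization.AtPrime m)) with hfbdef
  set sb := IsLocalRing.residue (Localization.AtPrime m) sR with hsbdef
  have hsb : sb ≠ 0 := (hsR.map _).ne_zero
  have hGb : G.map (algebraMap A m.ResidueField) = fb.scaleRoots sb := by
    rw [IsScalarTower.algebraMap_eq A (Localization.AtPrime m) m.ResidueField,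
      ← Polynomial.map_map, hGg, IsLocalRing.ResidueField.algebraMap_eq, map_scaleRoots]
    rw [hf.leadingCoeff, map_one]
    exact one_ne_zero
  have hfb0 : fb.eval a₀ = 0 := by
    rwa [aeval_def, ← eval_map, IsLocalRing.ResidueField.algebraMap_eq] at h0
  have hfb1 : fb.derivative.eval a₀ ≠ 0 := by
    rw [hfbdef, derivative_map, eval_map]
    rwa [aeval_def, IsLocalRing.ResidueField.algebraMap_eq] at h1
  have hfbm : fb.Monic := hf.map _
  have e0 : (fb.scaleRoots sb).eval (sb * a₀) = 0 := by
    rw [scaleRoots_eval_mul, hfb0, mul_zero]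
  have e1 : (fb.scaleRoots sb).derivative.eval (sb * a₀) ≠ 0 := by
    intro hcon
    have hne : fb.scaleRoots sb ≠ 0 := ((monic_scaleRoots_iff sb).mpr hfbm).ne_zero
    have h2 : 1 < (fb.scaleRoots sb).rootMultiplicity (sb * a₀) :=
      (one_lt_rootMultiplicity_iff_isRoot hne).mpr ⟨e0, hcon⟩
    rw [rootMultiplicity_scaleRoots _ (IsRegular.of_ne_zero hsb).left] at h2
    have := (one_lt_rootMultiplicity_iff_isRoot hfbm.ne_zero).mp h2
    exact hfb1 this.2
  obtain ⟨y, hy0, hyr⟩ := exists_root_of_simple_root h m G hG (sb * a₀)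
    (by rw [hGb]; exact e0) (by rw [hGb]; exact e1)
  -- unscale
  obtain ⟨u, hu⟩ := hsR
  have hy' : sR * (↑u⁻¹ * y) = y := by rw [← hu, ← mul_assoc, Units.mul_inv, one_mul]
  refine ⟨↑u⁻¹ * y, ?_, ?_⟩
  · have key : (f.scaleRoots sR).eval (sR * (↑u⁻¹ * y)) =
        sR ^ f.natDegree * f.eval (↑u⁻¹ * y) := scaleRoots_eval_mul f _ _
    rw [hy', ← hGg, eval_map, ← aeval_def, hy0] at key
    have hu' : IsUnit (sR ^ f.natDegree) := (hu ▸ u.isUnit).pow _
    exact (hu'.mul_right_eq_zero).mp key.symm
  · have h3 : IsLocalRing.residue (Localization.AtPrime m) (sR * (↑u⁻¹ * y)) = sb * a₀ := by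
      rw [hy', hyr]
    rw [map_mul] at h3
    exact mul_left_cancel₀ hsb h3

end Groth.Agent.Lib.Helper36.EtRetr
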