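import Mathlib
import Groth.Prelude.Def_ProEtW
import Groth.Prelude.Def_EtBase
import Groth.Agent.S0675
import Groth.Agent.S0736
import Groth.Agent.Lib.Helper36.WLSquareAlg
import Groth.Agent.Lib.Helper36.WLSquareMisc
import Groth.Agent.Lib.Helper36.WLSquareOver
import Groth.Agent.Lib.Helper36.RTensorRetr
import Groth.Agent.Lib.Helper36.SigmaLocAw
import Groth.Agent.Lib.Helper36.IndZarIdLoc

set_option autoImplicit false
universe u

namespace Groth.Agent.Lib.Helper36.WLSquare

open TensorProduct CategoryTheory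
open Groth.Agent.Lib.Helper36.IndEt Groth.Agent.Lib.Helper36.SigmaLoc Groth.Agent.Lib.Helper36.IndZar

set_option maxHeartbeats 1000000 in
theorem main (A B : Type u) [CommRing A] [CommRing B] [Algebra A B]
    (h : ProEtW.AlgebraicResidueExtensions A B) :
    ∃ (C D : Type u) (_ : CommRing C) (_ : CommRing D) (_ : Algebra A C) (_ : Algebra B D)
      (_ : Algebra C D) (_ : Algebra A D) (_ : IsScalarTower A C D) (_ : IsScalarTower A B D),
      Module.FaithfullyFlat A C ∧ EtPBC.IsIndEtale A C ∧ Module.FaithfullyFlat B D ∧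
      EtPBC.IsIndEtale B D ∧ ProEtW.IsWLocal (PrimeSpectrum C) ∧ ProEtW.IsWLocal (PrimeSpectrum D) ∧
      ProEtW.IsWLocalMap (PrimeSpectrum.comap (algebraMap C D)) ∧
      ProEtW.closedPoints (PrimeSpectrum D) =
        PrimeSpectrum.comap (algebraMap C D) ⁻¹' ProEtW.closedPoints (PrimeSpectrum C) ∧
      PrimeSpectrum.comap (algebraMap A C) '' ProEtW.closedPoints (PrimeSpectrum C) = Set.univ ∧
      PrimeSpectrum.comap (algebraMap B D) '' ProEtW.closedPoints (PrimeSpectrum D) = Set.univ ∧
      ∀ (m : Ideal C) [m.IsMaximal], EtCoh.IsStrictlyHenselianLocalRing (Localization.AtPrime m) := by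
  -- Step 1: the w-localization
  have hA' : ProEtW.IsWLocal (PrimeSpectrum (Aw A)) := isWLocal_Aw A
  have hAA'ind : EtPBC.IsIndEtale A (Aw A) :=
    isIndEtale_of_isIndZariski _ _ (isIndZariski A _ _)
  -- Step 2: étale retractions
  have hff' : Module.FaithfullyFlat (Aw A) (RTensor.C (Aw A)) := RTensor.faithfullyFlat_C (Aw A)
  have hind' : EtPBC.IsIndEtale (Aw A) (RTensor.C (Aw A)) := RTensor.isIndEtale_C (Aw A)
  have hret : ProEtW.HasEtaleRetractions (RTensor.C (Aw A)) := RTensor.hasEtaleRetractions_C (Aw A)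
  have hwe' : Algebra.WeaklyEtale (Aw A) (RTensor.C (Aw A)) := Groth.Agent.S0736.result _ _ hind'
  have halg' : ProEtW.AlgebraicResidueExtensions (Aw A) (RTensor.C (Aw A)) :=
    algebraicResidueExtensions_of_weaklyEtale _ _
  -- Step 3
  obtain ⟨C, _, _, _, _, hC'C, hC, hCA', hCcl, hClift⟩ :=
    exists_wLocal_over (Aw A) (RTensor.C (Aw A)) hA' halg'
  let algAC : Algebra A C := ((algebraMap (Aw A) C).comp (algebraMap A (Aw A))).toAlgebra
  have twAA'C : IsScalarTower A (Aw A) C := IsScalarTower.of_algebraMap_eq (fun _ => rfl)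
  have hindA'C : EtPBC.IsIndEtale (Aw A) C :=
    isIndEtale_trans (Aw A) (RTensor.C (Aw A)) C hind' (isIndEtale_of_isIndZariski _ _ hC'C)
  have hindAC : EtPBC.IsIndEtale A C := isIndEtale_trans A (Aw A) C hAA'ind hindA'C
  have hsurjC : ∀ x : PrimeSpectrum A, ∃ c : PrimeSpectrum C,
      c ∈ ProEtW.closedPoints (PrimeSpectrum C) ∧ PrimeSpectrum.comap (algebraMap A C) c = x := by
    intro x
    obtain ⟨a', ha'cl, ha'⟩ := (bijOn_closedPoints_Aw A).surjOn (Set.mem_univ x)
    obtain ⟨r, hr⟩ := PrimeSpectrum.comap_surjective_of_faithfullyFlat (A := Aw A)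
      (B := RTensor.C (Aw A)) a'
    obtain ⟨-, c, hc⟩ := hClift r (by rw [hr]; exact ha'cl)
    have hca' : PrimeSpectrum.comap (algebraMap (Aw A) C) c = a' := by
      rw [IsScalarTower.algebraMap_eq (Aw A) (RTensor.C (Aw A)) C, PrimeSpectrum.comap_comp_apply,
        hc, hr]
    refine ⟨c, ?_, ?_⟩
    · rw [hCcl, Set.mem_preimage, hca']
      exact ha'cl
    · rw [IsScalarTower.algebraMap_eq A (Aw A) C, PrimeSpectrum.comap_comp_apply, hca', ha']
  have hSH : ∀ (m : Ideal C) [m.IsMaximal],
      EtCoh.IsStrictlyHenselianLocalRing (Localization.AtPrime m) := by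
    intro m hm
    let c : PrimeSpectrum C := ⟨m, hm.isPrime⟩
    have hccl : c ∈ ProEtW.closedPoints (PrimeSpectrum C) :=
      (PrimeSpectrum.isClosed_singleton_iff_isMaximal c).2 hm
    let r : PrimeSpectrum (RTensor.C (Aw A)) :=
      PrimeSpectrum.comap (algebraMap (RTensor.C (Aw A)) C) c
    have hr : PrimeSpectrum.comap (algebraMap (Aw A) (RTensor.C (Aw A))) r ∈
        ProEtW.closedPoints (PrimeSpectrum (Aw A)) := by
      have h1 : c ∈ PrimeSpectrum.comap (algebraMap (Aw A) C) ⁻¹'
          ProEtW.closedPoints (PrimeSpectrum (Aw A)) := by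
        rw [← hCcl]
        exact hccl
      rw [Set.mem_preimage, IsScalarTower.algebraMap_eq (Aw A) (RTensor.C (Aw A)) C,
        PrimeSpectrum.comap_comp_apply] at h1
      exact h1
    have hrmax : r.asIdeal.IsMaximal :=
      (PrimeSpectrum.isClosed_singleton_iff_isMaximal r).1 (hClift r hr).1
    have h1 := @Groth.Agent.S0675.result (RTensor.C (Aw A)) _ hret r.asIdeal hrmax
    have hbij := identifiesLocalRings_of_isIndZariski (RTensor.C (Aw A)) C hC'C c
    exact isStrictlyHenselianLocalRing_of_ringEquiv h1 (RingEquiv.ofBijective _ hbij)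
  -- Step 5: the base change
  have halgB' : ProEtW.AlgebraicResidueExtensions C (C ⊗[A] B) :=
    algebraicResidueExtensions_baseChange A B C h
  obtain ⟨D, _, _, _, _, hB'D, hD, hDC, hDcl, hDlift⟩ :=
    exists_wLocal_over C (C ⊗[A] B) hC halgB'
  let incR : B →+* C ⊗[A] B :=
    (Algebra.TensorProduct.includeRight (R := A) (A := C) (B := B)).toRingHom
  let algBD : Algebra B D := ((algebraMap (C ⊗[A] B) D).comp incR).toAlgebra
  let algAD : Algebra A D := ((algebraMap C D).comp (algebraMap A C)).toAlgebra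
  have twACD : IsScalarTower A C D := IsScalarTower.of_algebraMap_eq (fun _ => rfl)
  have twABD : IsScalarTower A B D := IsScalarTower.of_algebraMap_eq (fun a => by
    change algebraMap C D (algebraMap A C a) = algebraMap (C ⊗[A] B) D (incR (algebraMap A B a))
    have h1 : incR (algebraMap A B a) = algebraMap C (C ⊗[A] B) (algebraMap A C a) := by
      change (1 : C) ⊗ₜ[A] (algebraMap A B a) = (algebraMap A C a) ⊗ₜ[A] (1 : B)
      rw [Algebra.algebraMap_eq_smul_one, Algebra.algebraMap_eq_smul_one, TensorProduct.tmul_smul,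
        TensorProduct.smul_tmul']
    rw [h1, ← IsScalarTower.algebraMap_apply C (C ⊗[A] B) D])
  have hindBB' : MorphismProperty.ind.{u} etaleMP.{u} (CommRingCat.ofHom incR) :=
    isIndEtale_baseChange A B C hindAC
  have hindB'D : MorphismProperty.ind.{u} etaleMP.{u}
      (CommRingCat.ofHom (algebraMap (C ⊗[A] B) D)) :=
    (isIndEtale_iff_indMP _ _).1 (isIndEtale_of_isIndZariski _ _ hB'D)
  have hindBD : EtPBC.IsIndEtale B D := by
    rw [isIndEtale_iff_indMP]
    have : CommRingCat.ofHom (algebraMap B D) =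
        CommRingCat.ofHom incR ≫ CommRingCat.ofHom (algebraMap (C ⊗[A] B) D) := rfl
    rw [this]
    exact indMP_comp _ _ hindBB' hindB'D
  have hsurjD : ∀ q : PrimeSpectrum B, ∃ d : PrimeSpectrum D,
      d ∈ ProEtW.closedPoints (PrimeSpectrum D) ∧ PrimeSpectrum.comap (algebraMap B D) d = q := by
    intro q
    obtain ⟨c, hccl, hc⟩ := hsurjC (PrimeSpectrum.comap (algebraMap A B) q)
    obtain ⟨r, hr1, hr2⟩ := exists_prime_tensorProduct A C B c q hc
    obtain ⟨-, d, hd⟩ := hDlift r (by rw [hr1]; exact hccl)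
    have hdc : PrimeSpectrum.comap (algebraMap C D) d = c := by
      rw [IsScalarTower.algebraMap_eq C (C ⊗[A] B) D, PrimeSpectrum.comap_comp_apply, hd, hr1]
    refine ⟨d, ?_, ?_⟩
    · rw [hDcl, Set.mem_preimage, hdc]
      exact hccl
    · change PrimeSpectrum.comap ((algebraMap (C ⊗[A] B) D).comp incR) d = q
      rw [PrimeSpectrum.comap_comp_apply, hd]
      exact hr2
  have hffAC : Module.FaithfullyFlat A C := by
    have hwe : Algebra.WeaklyEtale A C := Groth.Agent.S0736.result A C hindAC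
    have : Module.Flat A C := hwe.flat
    apply Module.FaithfullyFlat.of_comap_surjective
    intro x
    obtain ⟨c, -, hc⟩ := hsurjC x
    exact ⟨c, hc⟩
  have hffBD : Module.FaithfullyFlat B D := by
    have hwe : Algebra.WeaklyEtale B D := Groth.Agent.S0736.result B D hindBD
    have : Module.Flat B D := hwe.flat
    apply Module.FaithfullyFlat.of_comap_surjective
    intro x
    obtain ⟨d, -, hd⟩ := hsurjD x
    exact ⟨d, hd⟩
  refine ⟨C, D, inferInstance, inferInstance, algAC, algBD, inferInstance, algAD, twACD, twABD,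
    hffAC, hindAC, hffBD, hindBD, hC, hD, hDC, hDcl, ?_, ?_, hSH⟩
  · rw [Set.eq_univ_iff_forall]
    intro x
    obtain ⟨c, hc1, hc2⟩ := hsurjC x
    exact ⟨c, hc1, hc2⟩
  · rw [Set.eq_univ_iff_forall]
    intro q
    obtain ⟨d, hd1, hd2⟩ := hsurjD q
    exact ⟨d, hd1, hd2⟩

end Groth.Agent.Lib.Helper36.WLSquare
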