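import Mathlib
import Groth.Prelude.Def_PBC
import Groth.Agent.Lib.Helper36.SigmaLoc3

set_option autoImplicit false
set_option linter.unusedSectionVars false
universe u

namespace Groth.Agent.Lib.Helper36.SigmaLoc

open Topology CategoryTheory CategoryTheory.Limits

attribute [local instance] Classical.propDecidable

/-- two idempotents lying in the same primes are equal -/
theorem idem_eq_of_forall_mem_iff {B : Type*} [CommRing B] {e e' : B} (he : IsIdempotentElem e)
    (he' : IsIdempotentElem e')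
    (h : ∀ y : PrimeSpectrum B, e ∈ y.asIdeal ↔ e' ∈ y.asIdeal) : e = e' := by
  apply eq_of_isNilpotent_sub_of_isIdempotentElem he he'
  rw [nilpotent_iff_mem_prime]
  intro J hJ
  by_cases h1 : e ∈ J
  · exact J.sub_mem h1 ((h ⟨J, hJ⟩).mp h1)
  · have h2 : e' ∉ J := fun h2 => h1 ((h ⟨J, hJ⟩).mpr h2)
    have h3 : 1 - e ∈ J := by
      have : e * (1 - e) ∈ J := by
        rw [mul_sub, mul_one, he.eq, sub_self]
        exact J.zero_mem
      exact (hJ.mem_or_mem this).resolve_left h1
    have h4 : 1 - e' ∈ J := by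
      have : e' * (1 - e') ∈ J := by
        rw [mul_sub, mul_one, he'.eq, sub_self]
        exact J.zero_mem
      exact (hJ.mem_or_mem this).resolve_left h2
    have : e - e' = (1 - e') - (1 - e) := by ring
    rw [this]
    exact J.sub_mem h4 h3

variable {A : Type u} [CommRing A] {B : Type u} [CommRing B] [Algebra A B]

/-- ring homs out of a finite power of `A` are determined by the primes containing the images of
the standard idempotents -/
theorem ringHom_pi_ext {Q : Type u} [Fintype Q] (σ σ' : (Q → A) →+* B)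
    (hA : ∀ a, σ (algebraMap A (Q → A) a) = σ' (algebraMap A (Q → A) a))
    (hy : ∀ (k : Q) (y : PrimeSpectrum B),
      σ (Pi.single k (1 : A)) ∈ y.asIdeal ↔ σ' (Pi.single k (1 : A)) ∈ y.asIdeal) : σ = σ' := by
  have hidem : ∀ k : Q, IsIdempotentElem (M := Q → A) (Pi.single k (1 : A)) := by
    intro k
    change (Pi.single k (1 : A) * Pi.single k (1 : A) : Q → A) = Pi.single k (1 : A)
    rw [← Pi.single_mul, mul_one]
  have hs : ∀ k : Q, σ (Pi.single k (1 : A)) = σ' (Pi.single k (1 : A)) := fun k =>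
    idem_eq_of_forall_mem_iff ((hidem k).map σ) ((hidem k).map σ') (hy k)
  apply RingHom.ext
  intro g
  have hg : g = ∑ k, algebraMap A (Q → A) (g k) * Pi.single k (1 : A) := by
    ext k'
    rw [Finset.sum_apply, Finset.sum_eq_single k']
    · simp
    · intro k _ hk
      simp [hk.symm]
    · intro h
      exact absurd (Finset.mem_univ _) h
  rw [hg]
  simp only [map_sum, map_mul, hA, hs]

section Desc

variable {T : Type u} [TopologicalSpace T] [CompactSpace T] {Sg : T → Submonoid A}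
variable (τ : PrimeSpectrum B → T) (hτc : Continuous τ)

noncomputable local instance (Q : DiscreteQuotient T) : Fintype Q := Fintype.ofFinite Q

include hτc in
theorem exists_eB (Q : DiscreteQuotient T) (k : Q) :
    ∃ e : B, IsIdempotentElem e ∧ ∀ y : PrimeSpectrum B, e ∉ y.asIdeal ↔ Q.proj (τ y) = k := by
  have hclopen : IsClopen (τ ⁻¹' (Q.proj ⁻¹' {k})) := (Q.isClopen_preimage {k}).preimage hτc
  obtain ⟨e, he, hset⟩ := PrimeSpectrum.isClopen_iff.mp hclopen
  refine ⟨e, he, fun y => ?_⟩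
  have : y ∈ τ ⁻¹' (Q.proj ⁻¹' {k}) ↔ Q.proj (τ y) = k := Iff.rfl
  rw [← this, hset]
  rfl

/-- the idempotent of `B` cutting out the piece `k` -/
noncomputable def eB (Q : DiscreteQuotient T) (k : Q) : B := (exists_eB τ hτc Q k).choose

theorem eB_idem (Q : DiscreteQuotient T) (k : Q) : IsIdempotentElem (eB τ hτc Q k) :=
  (exists_eB τ hτc Q k).choose_spec.1

theorem eB_notMem_iff (Q : DiscreteQuotient T) (k : Q) (y : PrimeSpectrum B) :
    eB τ hτc Q k ∉ y.asIdeal ↔ Q.proj (τ y) = k :=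
  (exists_eB τ hτc Q k).choose_spec.2 y

theorem one_sub_eB_mem (Q : DiscreteQuotient T) (y : PrimeSpectrum B) :
    1 - eB τ hτc Q (Q.proj (τ y)) ∈ y.asIdeal := by
  have h1 : eB τ hτc Q (Q.proj (τ y)) ∉ y.asIdeal := (eB_notMem_iff τ hτc Q _ y).mpr rfl
  have : eB τ hτc Q (Q.proj (τ y)) * (1 - eB τ hτc Q (Q.proj (τ y))) ∈ y.asIdeal := by
    rw [mul_sub, mul_one, (eB_idem τ hτc Q _).eq, sub_self]
    exact Ideal.zero_mem _
  exact (y.2.mem_or_mem this).resolve_left h1

theorem eB_mem_of_ne (Q : DiscreteQuotient T) (k : Q) (y : PrimeSpectrum B)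
    (h : Q.proj (τ y) ≠ k) : eB τ hτc Q k ∈ y.asIdeal := by
  by_contra hmem
  exact h ((eB_notMem_iff τ hτc Q k y).mp hmem)

theorem eB_mul_of_ne (Q : DiscreteQuotient T) {k k' : Q} (h : k ≠ k') :
    eB τ hτc Q k * eB τ hτc Q k' = 0 := by
  have hidem : IsIdempotentElem (eB τ hτc Q k * eB τ hτc Q k') :=
    (eB_idem τ hτc Q k).mul (eB_idem τ hτc Q k')
  apply idem_eq_of_forall_mem_iff hidem IsIdempotentElem.zero
  intro y
  refine ⟨fun _ => Ideal.zero_mem _, fun _ => ?_⟩
  by_cases hk : Q.proj (τ y) = k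
  · exact Ideal.mul_mem_left _ _ (eB_mem_of_ne τ hτc Q k' y (hk ▸ h))
  · exact Ideal.mul_mem_right _ _ (eB_mem_of_ne τ hτc Q k y hk)

theorem orthogonal_eB (Q : DiscreteQuotient T) : OrthogonalIdempotents (eB τ hτc Q) :=
  ⟨eB_idem τ hτc Q, fun _ _ h => eB_mul_of_ne τ hτc Q h⟩

theorem sum_eB_sub_mem (Q : DiscreteQuotient T) (c : Q → B) (y : PrimeSpectrum B) :
    ∑ k, c k * eB τ hτc Q k - c (Q.proj (τ y)) ∈ y.asIdeal := by
  set k₀ := Q.proj (τ y) with hk₀
  have hsplit : c k₀ * eB τ hτc Q k₀ + ∑ k ∈ Finset.univ.erase k₀, c k * eB τ hτc Q k =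
      ∑ k, c k * eB τ hτc Q k :=
    Finset.add_sum_erase Finset.univ (fun k => c k * eB τ hτc Q k) (Finset.mem_univ k₀)
  have hrest : ∑ k ∈ Finset.univ.erase k₀, c k * eB τ hτc Q k ∈ y.asIdeal := by
    refine Ideal.sum_mem _ (fun k hk => Ideal.mul_mem_left _ _ ?_)
    exact eB_mem_of_ne τ hτc Q k y (fun h => (Finset.ne_of_mem_erase hk) h.symm)
  have h1 : c k₀ * (1 - eB τ hτc Q k₀) ∈ y.asIdeal :=
    Ideal.mul_mem_left _ _ (one_sub_eB_mem τ hτc Q y)
  have : ∑ k, c k * eB τ hτc Q k - c k₀ =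
      ∑ k ∈ Finset.univ.erase k₀, c k * eB τ hτc Q k - c k₀ * (1 - eB τ hτc Q k₀) := by
    rw [← hsplit]
    ring
  rw [this]
  exact Ideal.sub_mem _ hrest h1

theorem sum_eB (Q : DiscreteQuotient T) : ∑ k, eB τ hτc Q k = 1 := by
  have hidem : IsIdempotentElem (∑ k, eB τ hτc Q k) :=
    (orthogonal_eB τ hτc Q).isIdempotentElem_sum
  apply idem_eq_of_forall_mem_iff hidem IsIdempotentElem.one
  intro y
  have h := sum_eB_sub_mem τ hτc Q (fun _ => (1 : B)) y
  simp only [one_mul] at h
  constructor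
  · intro h1
    have := Ideal.sub_mem _ h1 h
    rwa [sub_sub_cancel] at this
  · intro h1
    exact absurd h1 (fun h2 => y.2.ne_top ((Ideal.eq_top_iff_one _).mpr h2))

/-- the ring hom `A^Q → B` -/
noncomputable def σ (Q : DiscreteQuotient T) : (Q → A) →+* B where
  toFun g := ∑ k, algebraMap A B (g k) * eB τ hτc Q k
  map_one' := by
    simp only [Pi.one_apply, map_one, one_mul]
    exact sum_eB τ hτc Q
  map_mul' g g' := by
    rw [Finset.sum_mul_sum]
    refine Finset.sum_congr rfl (fun k _ => ?_)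
    rw [Finset.sum_eq_single k]
    · simp only [Pi.mul_apply, map_mul]
      have := (eB_idem τ hτc Q k).eq
      linear_combination (-(algebraMap A B (g k) * algebraMap A B (g' k))) * this
    · intro k' _ hk'
      have := eB_mul_of_ne τ hτc Q hk'.symm
      linear_combination (algebraMap A B (g k) * algebraMap A B (g' k')) * this
    · intro h
      exact absurd (Finset.mem_univ _) h
  map_zero' := by simp
  map_add' g g' := by
    simp only [Pi.add_apply, map_add, add_mul, Finset.sum_add_distrib]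

theorem σ_apply (Q : DiscreteQuotient T) (g : Q → A) :
    σ τ hτc Q g = ∑ k, algebraMap A B (g k) * eB τ hτc Q k := rfl

theorem σ_algebraMap (Q : DiscreteQuotient T) (a : A) :
    σ τ hτc Q (algebraMap A (Q → A) a) = algebraMap A B a := by
  rw [σ_apply]
  simp only [Pi.algebraMap_apply, Algebra.algebraMap_self_apply]
  rw [← Finset.mul_sum, sum_eB, mul_one]

theorem σ_sub_mem (Q : DiscreteQuotient T) (g : Q → A) (y : PrimeSpectrum B) :
    σ τ hτc Q g - algebraMap A B (g (Q.proj (τ y))) ∈ y.asIdeal :=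
  sum_eB_sub_mem τ hτc Q (fun k => algebraMap A B (g k)) y

theorem σ_mem_iff (Q : DiscreteQuotient T) (g : Q → A) (y : PrimeSpectrum B) :
    σ τ hτc Q g ∈ y.asIdeal ↔ algebraMap A B (g (Q.proj (τ y))) ∈ y.asIdeal := by
  have h := σ_sub_mem τ hτc Q g y
  constructor
  · intro h1
    have := Ideal.sub_mem _ h1 h
    rwa [sub_sub_cancel] at this
  · intro h1
    have := Ideal.add_mem _ h h1
    rwa [sub_add_cancel] at this

theorem σ_pull {Q Q' : DiscreteQuotient T} (hle : Q' ≤ Q) :
    (σ τ hτc Q').comp (pull hle) = σ (A := A) τ hτc Q := by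
  apply ringHom_pi_ext
  · intro a
    rw [RingHom.comp_apply, pull_algebraMap, σ_algebraMap, σ_algebraMap]
  · intro k y
    rw [RingHom.comp_apply, σ_mem_iff, σ_mem_iff, pull_apply, DiscreteQuotient.ofLE_proj]

end Desc

end Groth.Agent.Lib.Helper36.SigmaLoc
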