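import Mathlib
import Groth.Prelude.Def_PBC
import Groth.Agent.Lib.Helper36.SigmaLocDesc

set_option autoImplicit false
set_option linter.unusedSectionVars false
universe u

namespace Groth.Agent.Lib.Helper36.SigmaLoc

open Topology CategoryTheory CategoryTheory.Limits

variable {A : Type u} [CommRing A] {B : Type u} [CommRing B] [Algebra A B]
variable {T : Type u} [TopologicalSpace T] [CompactSpace T] {Sg : T → Submonoid A}
variable (τ : PrimeSpectrum B → T) (hτc : Continuous τ)
variable (hτ : ∀ (y : PrimeSpectrum B) (a : A), a ∈ Sg (τ y) → algebraMap A B a ∉ y.asIdeal)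

include hτ in
theorem isUnit_σ (j : Idx A T Sg) : IsUnit (σ τ hτc j.Q j.ε) := by
  by_contra hnu
  obtain ⟨m, hm, hmem⟩ := exists_max_ideal_of_mem_nonunits hnu
  have h1 : σ τ hτc j.Q j.ε ∈ (⟨m, hm.isPrime⟩ : PrimeSpectrum B).asIdeal := hmem
  rw [σ_mem_iff] at h1
  exact hτ _ _ (j.mem _) h1

/-- the stage maps -/
noncomputable def σst (j : Idx A T Sg) : Stage j →+* B :=
  IsLocalization.Away.lift j.ε (isUnit_σ τ hτc hτ j)

theorem σst_comp_algebraMap (j : Idx A T Sg) :
    (σst τ hτc hτ j).comp (algebraMap (j.Q → A) (Stage j)) = σ τ hτc j.Q :=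
  IsLocalization.Away.lift_comp _ _

theorem σst_tr {i j : Idx A T Sg} (h : i ≤ j) :
    (σst τ hτc hτ j).comp (tr h) = σst τ hτc hτ i := by
  apply stage_hom_ext
  rw [RingHom.comp_assoc, tr_comp_algebraMap, ← RingHom.comp_assoc, σst_comp_algebraMap,
    σst_comp_algebraMap, σ_pull]

/-- the cocone with point `B` -/
noncomputable def descCocone : Cocone (diag A T Sg) where
  pt := CommRingCat.of B
  ι :=
    { app := fun j => CommRingCat.ofHom (σst τ hτc hτ j)
      naturality := fun i j f => by
        simp only [Functor.const_obj_obj, Functor.const_obj_map, Category.comp_id]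
        rw [← σst_tr τ hτc hτ (leOfHom f)]
        rfl }

/-- the induced ring hom `Bw → B` -/
noncomputable def descHom : Bw A T Sg →+* B :=
  (colimit.desc (diag A T Sg) (descCocone τ hτc hτ)).hom

theorem descHom_ι (j : Idx A T Sg) : (descHom τ hτc hτ).comp (ι j) = σst τ hτc hτ j := by
  have := colimit.ι_desc (descCocone τ hτc hτ) j
  exact congrArg (fun φ => φ.hom) this

theorem descHom_ρ (Q : DiscreteQuotient T) (g : Q → A) :
    descHom τ hτc hτ (ρ Q g) = σ τ hτc Q g := by
  change ((descHom τ hτc hτ).comp (ι (one Q))) (algebraMap _ _ g) = _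
  rw [descHom_ι]
  exact congrArg (fun φ : (Q → A) →+* B => φ g) (σst_comp_algebraMap τ hτc hτ (one Q))

theorem descHom_algebraMap (a : A) :
    descHom τ hτc hτ (algebraMap A (Bw A T Sg) a) = algebraMap A B a := by
  rw [← ρ_algebraMap ⊤, descHom_ρ, σ_algebraMap]

/-- the induced algebra hom `Bw → B` -/
noncomputable def descAlgHom : Bw A T Sg →ₐ[A] B :=
  { descHom τ hτc hτ with commutes' := descHom_algebraMap τ hτc hτ }

theorem descAlgHom_apply (b : Bw A T Sg) : descAlgHom τ hτc hτ b = descHom τ hτc hτ b := rfl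

include hτ in
theorem mem_Yw_of_hτ (y : PrimeSpectrum B) :
    (PrimeSpectrum.comap (algebraMap A B) y, τ y) ∈ Yw Sg := by
  change Disjoint _ _
  rw [Set.disjoint_left]
  intro a ha haS
  exact hτ y a haS ha

/-- the map on spectra induced by `descHom` -/
theorem comap_descHom (y : PrimeSpectrum B) :
    PrimeSpectrum.comap (descHom τ hτc hτ) y =
      Ψ ⟨(PrimeSpectrum.comap (algebraMap A B) y, τ y), mem_Yw_of_hτ τ hτ y⟩ := by
  apply prime_ext
  intro Q g
  rw [ρ_mem_Ψ_iff, PrimeSpectrum.comap_asIdeal, Ideal.mem_comap, descHom_ρ, σ_mem_iff]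
  rfl

end Groth.Agent.Lib.Helper36.SigmaLoc
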