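import Mathlib
import Groth.Agent.Lib.Helper36.SigmaLoc3
import Groth.Agent.Lib.Helper36.FibProd2

set_option autoImplicit false
universe u

namespace Groth.Agent.Lib.Helper36.SigmaLoc

open Topology

/-- a homeomorphism induces a homeomorphism on `π₀`. -/
noncomputable def pi0Congr {X Y : Type*} [TopologicalSpace X] [TopologicalSpace Y] (h : X ≃ₜ Y) :
    ConnectedComponents X ≃ₜ ConnectedComponents Y where
  toFun := h.continuous.connectedComponentsMap
  invFun := h.symm.continuous.connectedComponentsMap
  left_inv := by
    intro c
    obtain ⟨x, rfl⟩ := ConnectedComponents.surjective_coe c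
    rw [Continuous.connectedComponentsMap_mk, Continuous.connectedComponentsMap_mk,
      h.symm_apply_apply]
  right_inv := by
    intro c
    obtain ⟨x, rfl⟩ := ConnectedComponents.surjective_coe c
    rw [Continuous.connectedComponentsMap_mk, Continuous.connectedComponentsMap_mk,
      h.apply_symm_apply]
  continuous_toFun := h.continuous.connectedComponentsMap_continuous
  continuous_invFun := h.symm.continuous.connectedComponentsMap_continuous

theorem pi0Congr_mk {X Y : Type*} [TopologicalSpace X] [TopologicalSpace Y] (h : X ≃ₜ Y) (x : X) :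
    pi0Congr h (ConnectedComponents.mk x) = ConnectedComponents.mk (h x) :=
  Continuous.connectedComponentsMap_mk h.continuous x

variable {A : Type u} [CommRing A] {T : Type u} [TopologicalSpace T]
variable (g : C(T, ConnectedComponents (PrimeSpectrum A)))

/-- the multiplicative sets for the fibre product: elements not vanishing on the component `g t`. -/
def SgFib (t : T) : Submonoid A where
  carrier := {a | ∀ x : PrimeSpectrum A, ConnectedComponents.mk x = g t → a ∉ x.asIdeal}
  one_mem' := fun x _ => x.2.one_notMem
  mul_mem' := fun ha hb x hx => x.2.mul_notMem (ha x hx) (hb x hx)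

theorem mem_SgFib (t : T) (a : A) :
    a ∈ SgFib g t ↔ ∀ x : PrimeSpectrum A, ConnectedComponents.mk x = g t → a ∉ x.asIdeal :=
  Iff.rfl

theorem isOpen_SgFib (a : A) : IsOpen {t | a ∈ SgFib g t} := by
  have := FibProd.t2Space_connectedComponents (X := PrimeSpectrum A)
  have hcl : IsClosed ((ConnectedComponents.mk : PrimeSpectrum A → _) ''
      PrimeSpectrum.zeroLocus {a}) :=
    ((PrimeSpectrum.isClosed_zeroLocus _).isCompact.image
      ConnectedComponents.continuous_coe).isClosed
  have : {t | a ∈ SgFib g t} =
      g ⁻¹' ((ConnectedComponents.mk : PrimeSpectrum A → _) '' PrimeSpectrum.zeroLocus {a})ᶜ := by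
    ext t
    simp only [Set.mem_ofPred_eq, mem_SgFib, Set.mem_preimage, Set.mem_compl_iff, Set.mem_image,
      PrimeSpectrum.mem_zeroLocus, Set.singleton_subset_iff, SetLike.mem_coe, not_exists, not_and]
    constructor
    · intro h x hx hxt
      exact h x hxt hx
    · intro h x hxt hx
      exact h x hx hxt
  rw [this]
  exact hcl.isOpen_compl.preimage g.continuous

theorem Yw_SgFib :
    Yw (SgFib g) = {p : PrimeSpectrum A × T | ConnectedComponents.mk p.1 = g p.2} := by
  have := FibProd.t2Space_connectedComponents (X := PrimeSpectrum A)
  ext ⟨x, t⟩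
  simp only [Yw, Set.mem_ofPred_eq]
  constructor
  · intro hd
    by_contra hne
    have hopen : IsOpen ({ConnectedComponents.mk x}ᶜ : Set (ConnectedComponents (PrimeSpectrum A))) :=
      isClosed_singleton.isOpen_compl
    obtain ⟨U, hU, hgU, hUx⟩ := compact_exists_isClopen_in_isOpen hopen
      (show g t ∈ ({ConnectedComponents.mk x}ᶜ : Set _) from fun h => hne h.symm)
    have hclopen : IsClopen ((ConnectedComponents.mk : PrimeSpectrum A → _) ⁻¹' U) :=
      hU.preimage ConnectedComponents.continuous_coe
    obtain ⟨e, -, he⟩ := PrimeSpectrum.isClopen_iff.mp hclopen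
    have he1 : e ∈ SgFib g t := by
      intro x' hx'
      have : x' ∈ (ConnectedComponents.mk : PrimeSpectrum A → _) ⁻¹' U := by
        rw [Set.mem_preimage, hx']
        exact hgU
      rw [he] at this
      exact this
    have he2 : e ∈ x.asIdeal := by
      by_contra hex
      have : x ∈ (ConnectedComponents.mk : PrimeSpectrum A → _) ⁻¹' U := by
        rw [he]
        exact hex
      exact hUx this rfl
    exact Set.disjoint_left.mp hd he2 he1
  · intro h
    rw [Set.disjoint_left]
    intro a hax haS
    exact haS x h hax

end Groth.Agent.Lib.Helper36.SigmaLoc
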