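import Mathlib
import Groth.Prelude.Def_PBC
import Groth.Agent.Lib.Helper36.SigmaLoc3

set_option autoImplicit false
universe u

namespace Groth.Agent.Lib.Helper36.SigmaLoc

open Topology

variable {A : Type u} [CommRing A] {T : Type u} [TopologicalSpace T] {Sg : T → Submonoid A}

theorem exists_normal_form₂ (b b' : Bw A T Sg) :
    ∃ (j : Idx A T Sg) (n m : ℕ) (g g' : j.Q → A),
      b * ρ j.Q (j.ε ^ n) = ρ j.Q g ∧ b' * ρ j.Q (j.ε ^ m) = ρ j.Q g' := by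
  obtain ⟨j, d, d', rfl, rfl⟩ := exists_rep₂ b b'
  obtain ⟨n, g, hg⟩ := IsLocalization.Away.surj j.ε d
  obtain ⟨m, g', hg'⟩ := IsLocalization.Away.surj j.ε d'
  refine ⟨j, n, m, g, g', ?_, ?_⟩
  · rw [← ι_algebraMap_stage, ← ι_algebraMap_stage, ← map_mul, map_pow, hg]
  · rw [← ι_algebraMap_stage, ← ι_algebraMap_stage, ← map_mul, map_pow, hg']

theorem exists_normal_form (b : Bw A T Sg) :
    ∃ (j : Idx A T Sg) (n : ℕ) (g : j.Q → A), b * ρ j.Q (j.ε ^ n) = ρ j.Q g := by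
  obtain ⟨j, n, -, g, -, h, -⟩ := exists_normal_form₂ b b
  exact ⟨j, n, g, h⟩

theorem exists_of_ρ_eq_zero (Q : DiscreteQuotient T) (h : Q → A)
    (h0 : (ρ Q h : Bw A T Sg) = 0) :
    ∃ (j : Idx A T Sg) (hle : j.Q ≤ Q) (n : ℕ), j.ε ^ n * pull hle h = 0 := by
  have h1 : ι (one Q : Idx A T Sg) (algebraMap (Q → A) (Stage (one Q : Idx A T Sg)) h) =
      ι (one Q) 0 := by
    rw [map_zero]
    exact h0
  obtain ⟨k, hk, hk'⟩ := (ι_eq_iff _ _).mp h1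
  rw [map_zero, tr_algebraMap, IsLocalization.map_eq_zero_iff (Submonoid.powers k.ε)] at hk'
  obtain ⟨⟨_, n, rfl⟩, hn⟩ := hk'
  exact ⟨k, hk.choose, n, hn⟩

theorem isUnit_ρ_pow (j : Idx A T Sg) (n : ℕ) : IsUnit (ρ j.Q (j.ε ^ n) : Bw A T Sg) := by
  rw [map_pow]
  exact (isUnit_ρ j).pow n

theorem unit_notMem {v : Bw A T Sg} (hv : IsUnit v) (q : PrimeSpectrum (Bw A T Sg)) :
    v ∉ q.asIdeal := fun h => q.2.ne_top (q.asIdeal.eq_top_of_isUnit_mem h hv)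

attribute [local instance] Classical.propDecidable

theorem ρ_mul_single (Q : DiscreteQuotient T) (h : Q → A) (k : Q) :
    (ρ Q h * ρ Q (Pi.single k (1 : A)) : Bw A T Sg) =
      algebraMap A (Bw A T Sg) (h k) * ρ Q (Pi.single k (1 : A)) := by
  have hmul : h * Pi.single k (1 : A) = algebraMap A (Q → A) (h k) * Pi.single k (1 : A) := by
    ext i
    by_cases hi : i = k
    · rw [hi]
      simp
    · simp [hi]
  rw [← map_mul, hmul, map_mul, ρ_algebraMap]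

theorem identifiesLocalRings_Bw [CompactSpace T] [T2Space T] [TotallyDisconnectedSpace T]
    (hSg : ∀ a : A, IsOpen {t | a ∈ Sg t}) : EtPBC.IdentifiesLocalRings A (Bw A T Sg) := by
  intro q
  obtain ⟨y, rfl⟩ := surjective_Ψ hSg q
  set f := algebraMap A (Bw A T Sg) with hf
  have hcomap : (Ψ y).asIdeal.comap f = y.1.1.asIdeal :=
    congrArg PrimeSpectrum.asIdeal (comap_Ψ y)
  have hfa : ∀ a : A, f a ∈ (Ψ y).asIdeal ↔ a ∈ y.1.1.asIdeal := by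
    intro a
    rw [← hcomap, Ideal.mem_comap]
  constructor
  · rw [injective_iff_map_eq_zero]
    intro z hz
    obtain ⟨a, s, rfl⟩ := IsLocalization.exists_mk'_eq ((Ψ y).asIdeal.comap f).primeCompl z
    rw [Localization.localRingHom_mk', IsLocalization.mk'_eq_zero_iff] at hz
    obtain ⟨⟨b, hb⟩, hba⟩ := hz
    have hbq : b ∉ (Ψ y).asIdeal := hb
    change b * f a = 0 at hba
    obtain ⟨j, n, g, hg⟩ := exists_normal_form b
    have hρg : (ρ j.Q g : Bw A T Sg) ∉ (Ψ y).asIdeal := by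
      rw [← hg]
      exact (Ψ y).2.mul_notMem hbq (unit_notMem (isUnit_ρ_pow j n) _)
    have hgk : g (j.Q.proj y.1.2) ∉ y.1.1.asIdeal := fun h => hρg ((ρ_mem_Ψ_iff y _ _).mpr h)
    have h0 : (ρ j.Q (g * algebraMap A (j.Q → A) a) : Bw A T Sg) = 0 := by
      rw [map_mul, ρ_algebraMap, ← hg, mul_right_comm, hba, zero_mul]
    obtain ⟨j', hle, m, hm⟩ := exists_of_ρ_eq_zero _ _ h0
    have hm' := congrFun hm (j'.Q.proj y.1.2)
    simp only [Pi.mul_apply, Pi.pow_apply, pull_apply, DiscreteQuotient.ofLE_proj,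
      Pi.zero_apply] at hm'
    rw [IsLocalization.mk'_eq_zero_iff]
    refine ⟨⟨j'.ε (j'.Q.proj y.1.2) ^ m * g (j.Q.proj y.1.2), ?_⟩, ?_⟩
    · change _ ∉ (Ψ y).asIdeal.comap f
      rw [hcomap]
      exact y.1.1.2.mul_notMem (fun h => notMem_of_mem_Sg y (j'.mem _)
        (y.1.1.2.mem_of_pow_mem _ h)) hgk
    · change j'.ε (j'.Q.proj y.1.2) ^ m * g (j.Q.proj y.1.2) * a = 0
      rw [mul_assoc]
      exact hm'
  · intro z'
    obtain ⟨b, ⟨b', hb'⟩, rfl⟩ := IsLocalization.exists_mk'_eq (Ψ y).asIdeal.primeCompl z'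
    have hb'q : b' ∉ (Ψ y).asIdeal := hb'
    obtain ⟨j, n, m, g, g', hg, hg'⟩ := exists_normal_form₂ b b'
    set k := j.Q.proj y.1.2 with hk
    have hρg' : (ρ j.Q g' : Bw A T Sg) ∉ (Ψ y).asIdeal := by
      rw [← hg']
      exact (Ψ y).2.mul_notMem hb'q (unit_notMem (isUnit_ρ_pow j m) _)
    have hg'k : g' k ∉ y.1.1.asIdeal := fun h => hρg' ((ρ_mem_Ψ_iff y _ _).mpr h)
    have hεk : j.ε k ∉ y.1.1.asIdeal := notMem_of_mem_Sg y (j.mem _)
    have hs : g' k * j.ε k ^ n ∈ ((Ψ y).asIdeal.comap f).primeCompl := by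
      change _ ∉ (Ψ y).asIdeal.comap f
      rw [hcomap]
      exact y.1.1.2.mul_notMem hg'k (fun h => hεk (y.1.1.2.mem_of_pow_mem _ h))
    refine ⟨IsLocalization.mk' _ (g k * j.ε k ^ m) ⟨g' k * j.ε k ^ n, hs⟩, ?_⟩
    rw [Localization.localRingHom_mk', IsLocalization.eq]
    set χ := (ρ j.Q (Pi.single k (1 : A)) : Bw A T Sg) with hχ
    have hχq : χ ∉ (Ψ y).asIdeal := by
      rw [hχ, ρ_mem_Ψ_iff]
      simp only [← hk, Pi.single_eq_same]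
      exact y.1.1.2.one_notMem
    have hc : ρ j.Q (j.ε ^ n) * ρ j.Q (j.ε ^ m) * χ ∈ (Ψ y).asIdeal.primeCompl :=
      (Ψ y).2.mul_notMem ((Ψ y).2.mul_notMem (unit_notMem (isUnit_ρ_pow j n) _)
        (unit_notMem (isUnit_ρ_pow j m) _)) hχq
    refine ⟨⟨_, hc⟩, ?_⟩
    have e1 := ρ_mul_single (Sg := Sg) j.Q g k
    have e2 := ρ_mul_single (Sg := Sg) j.Q g' k
    have e3 := ρ_mul_single (Sg := Sg) j.Q (j.ε ^ n) k
    have e4 := ρ_mul_single (Sg := Sg) j.Q (j.ε ^ m) k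
    simp only [Pi.pow_apply, ← hk, ← hχ] at e1 e2 e3 e4
    change ρ j.Q (j.ε ^ n) * ρ j.Q (j.ε ^ m) * χ * (b' * f (g k * j.ε k ^ m)) =
      ρ j.Q (j.ε ^ n) * ρ j.Q (j.ε ^ m) * χ * (f (g' k * j.ε k ^ n) * b)
    have lhs : ρ j.Q (j.ε ^ n) * ρ j.Q (j.ε ^ m) * χ * (b' * f (g k * j.ε k ^ m)) =
        f (j.ε k ^ n) * f (g' k) * f (g k * j.ε k ^ m) * χ := by
      calc ρ j.Q (j.ε ^ n) * ρ j.Q (j.ε ^ m) * χ * (b' * f (g k * j.ε k ^ m))
          = (ρ j.Q (j.ε ^ n) * χ) * (b' * ρ j.Q (j.ε ^ m)) * f (g k * j.ε k ^ m) := by ring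
        _ = (f (j.ε k ^ n) * χ) * ρ j.Q g' * f (g k * j.ε k ^ m) := by rw [e3, hg']
        _ = f (j.ε k ^ n) * (ρ j.Q g' * χ) * f (g k * j.ε k ^ m) := by ring
        _ = f (j.ε k ^ n) * (f (g' k) * χ) * f (g k * j.ε k ^ m) := by rw [e2]
        _ = _ := by ring
    have rhs : ρ j.Q (j.ε ^ n) * ρ j.Q (j.ε ^ m) * χ * (f (g' k * j.ε k ^ n) * b) =
        f (j.ε k ^ m) * f (g' k * j.ε k ^ n) * f (g k) * χ := by
      calc ρ j.Q (j.ε ^ n) * ρ j.Q (j.ε ^ m) * χ * (f (g' k * j.ε k ^ n) * b)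
          = (ρ j.Q (j.ε ^ m) * χ) * (b * ρ j.Q (j.ε ^ n)) * f (g' k * j.ε k ^ n) := by ring
        _ = (f (j.ε k ^ m) * χ) * ρ j.Q g * f (g' k * j.ε k ^ n) := by rw [e4, hg]
        _ = f (j.ε k ^ m) * (ρ j.Q g * χ) * f (g' k * j.ε k ^ n) := by ring
        _ = f (j.ε k ^ m) * (f (g k) * χ) * f (g' k * j.ε k ^ n) := by rw [e1]
        _ = _ := by ring
    rw [lhs, rhs]
    simp only [map_mul, map_pow]
    ring

end Groth.Agent.Lib.Helper36.SigmaLoc
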