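import Mathlib
import Groth.Prelude.Def_ProEtW
import Groth.Agent.S0699
import Groth.Agent.Lib.Helper36.FibProd3
import Groth.Agent.Lib.Helper36.SigmaLocFib
import Groth.Agent.Lib.Helper36.SigmaLocLocal
import Groth.Agent.Lib.Helper36.SigmaLocDesc2
import Groth.Agent.Lib.Helper36.SigmaLocAw
import Groth.Agent.Lib.Helper36.SpecMisc

set_option autoImplicit false
set_option linter.unusedSectionVars false
universe u

namespace Groth.Agent.Lib.Helper36.SigmaLoc

open Topology CategoryTheory CategoryTheory.Limits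

/-- transport of ind-Zariski along an algebra isomorphism -/
theorem isIndZariski_of_algEquiv {A B B' : Type u} [CommRing A] [CommRing B] [CommRing B']
    [Algebra A B] [Algebra A B'] (e : B' ≃ₐ[A] B) (h : EtPBC.IsIndZariski A B') :
    EtPBC.IsIndZariski A B := by
  obtain ⟨J, i1, i2, D, c, hc, hD, ⟨iso⟩⟩ := h
  refine ⟨J, i1, i2, D, c, hc, hD, ⟨iso ≪≫ Under.isoMk e.toRingEquiv.toCommRingCatIso ?_⟩⟩
  ext a
  exact e.commutes a

/-- identification of local rings passes to the second map of a composite -/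
theorem identifiesLocalRings_of_comp {A B' B : Type u} [CommRing A] [CommRing B'] [CommRing B]
    [Algebra A B'] [Algebra B' B] [Algebra A B] [IsScalarTower A B' B]
    (h1 : EtPBC.IdentifiesLocalRings A B) (h2 : EtPBC.IdentifiesLocalRings A B') :
    EtPBC.IdentifiesLocalRings B' B := by
  intro q
  set F : A →+* B := (algebraMap B' B).comp (algebraMap A B') with hF
  have hFeq : F = algebraMap A B := (IsScalarTower.algebraMap_eq A B' B).symm
  have key : ∀ F' : A →+* B, F' = algebraMap A B →
      Function.Bijective (Localization.localRingHom (q.asIdeal.comap F') q.asIdeal F' rfl) := by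
    rintro _ rfl
    exact h1 q
  have hb := key F hFeq
  have hcomp := Localization.localRingHom_comp (I := q.asIdeal.comap F)
    (q.asIdeal.comap (algebraMap B' B)) q.asIdeal (algebraMap A B') rfl (algebraMap B' B) rfl
  have hb' : Function.Bijective
      ((Localization.localRingHom (q.asIdeal.comap (algebraMap B' B)) q.asIdeal
        (algebraMap B' B) rfl) ∘
      (Localization.localRingHom (q.asIdeal.comap F) (q.asIdeal.comap (algebraMap B' B))
        (algebraMap A B') rfl)) := by
    rw [← RingHom.coe_comp, ← hcomp]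
    exact hb
  have h2' := h2 (PrimeSpectrum.comap (algebraMap B' B) q)
  exact (Function.Bijective.of_comp_iff _ h2').mp hb'


section Main

variable (A B : Type u) [CommRing A] [CommRing B] [Algebra A B]

/-- `T = π₀(Spec B)` -/
abbrev T0 : Type u := _root_.ConnectedComponents (PrimeSpectrum B)

instance : T2Space (T0 B) := FibProd.t2Space_connectedComponents

/-- the map on `π₀` -/
noncomputable def g0 : C(T0 B, _root_.ConnectedComponents (PrimeSpectrum A)) :=
  ⟨(PrimeSpectrum.continuous_comap (algebraMap A B)).connectedComponentsMap,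
    (PrimeSpectrum.continuous_comap (algebraMap A B)).connectedComponentsMap_continuous⟩

theorem g0_mk (y : PrimeSpectrum B) :
    g0 A B (ConnectedComponents.mk y) =
      ConnectedComponents.mk (PrimeSpectrum.comap (algebraMap A B) y) := rfl

/-- the ring `B'` -/
abbrev B0 : Type u := Bw A (T0 B) (SgFib (g0 A B))

/-- `τ = mk` -/
def τ0 : PrimeSpectrum B → T0 B := ConnectedComponents.mk

theorem continuous_τ0 : Continuous (τ0 B) := ConnectedComponents.continuous_coe

theorem hτ0 (y : PrimeSpectrum B) (a : A) (ha : a ∈ SgFib (g0 A B) (τ0 B y)) :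
    algebraMap A B a ∉ y.asIdeal :=
  ha (PrimeSpectrum.comap (algebraMap A B) y) (g0_mk A B y).symm

/-- the comparison map -/
noncomputable def Φ0 : B0 A B →ₐ[A] B := descAlgHom (τ0 B) (continuous_τ0 B) (hτ0 A B)

/-- `Spec B' ≃ₜ Y g` -/
noncomputable def homeo0 : PrimeSpectrum (B0 A B) ≃ₜ FibProd.Y (g0 A B) :=
  (homeo (isOpen_SgFib (g0 A B))).symm.trans (Homeomorph.setCongr (Yw_SgFib (g0 A B)))

theorem homeo0_comap_Φ0 (y : PrimeSpectrum B) :
    (homeo0 A B (PrimeSpectrum.comap (Φ0 A B).toRingHom y)).1 =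
      (PrimeSpectrum.comap (algebraMap A B) y, τ0 B y) := by
  have h1 : PrimeSpectrum.comap (Φ0 A B).toRingHom y =
      homeo (isOpen_SgFib (g0 A B))
        ⟨(PrimeSpectrum.comap (algebraMap A B) y, τ0 B y), mem_Yw_of_hτ (τ0 B) (hτ0 A B) y⟩ :=
    comap_descHom (τ0 B) (continuous_τ0 B) (hτ0 A B) y
  rw [h1]
  change ((Homeomorph.setCongr (Yw_SgFib (g0 A B)))
    ((homeo (isOpen_SgFib (g0 A B))).symm (homeo (isOpen_SgFib (g0 A B)) _))).1 = _
  rw [Homeomorph.symm_apply_apply]
  rfl

theorem isWLocal_B0 (h2 : ProEtW.IsWLocal (PrimeSpectrum A)) :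
    ProEtW.IsWLocal (PrimeSpectrum (B0 A B)) := by
  obtain ⟨-, hcl, huniq⟩ := FibProd.isWLocal_Y (g0 A B) h2
  exact isWLocal_of_homeomorph (homeo0 A B).symm hcl huniq

theorem isClosed_singleton_iff_B0 (q : PrimeSpectrum (B0 A B)) :
    IsClosed ({q} : Set (PrimeSpectrum (B0 A B))) ↔
      IsClosed ({(homeo0 A B q).1.1} : Set (PrimeSpectrum A)) := by
  rw [← FibProd.isClosed_singleton_iff_Y, isClosed_singleton_homeo]


theorem isIndZariski_main (h1 : EtPBC.IdentifiesLocalRings A B)
    (h2 : ProEtW.IsWLocal (PrimeSpectrum A)) (h3 : ProEtW.IsWLocal (PrimeSpectrum B))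
    (h4 : ProEtW.IsWLocalMap (PrimeSpectrum.comap (algebraMap A B))) :
    EtPBC.IsIndZariski A B := by
  let : Algebra (B0 A B) B := (Φ0 A B).toRingHom.toAlgebra
  have : IsScalarTower A (B0 A B) B :=
    IsScalarTower.of_algebraMap_eq (fun a => ((Φ0 A B).commutes a).symm)
  have hα : EtPBC.IdentifiesLocalRings A (B0 A B) :=
    identifiesLocalRings_Bw (isOpen_SgFib (g0 A B))
  have h1' : EtPBC.IdentifiesLocalRings (B0 A B) B := identifiesLocalRings_of_comp h1 hα
  have h2' := isWLocal_B0 A B h2
  have h4' : ProEtW.IsWLocalMap (PrimeSpectrum.comap (algebraMap (B0 A B) B)) := by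
    refine ⟨isSpectralMap_comap _, fun y hy => ?_⟩
    rw [isClosed_singleton_iff_B0]
    have := homeo0_comap_Φ0 A B y
    change IsClosed {(homeo0 A B (PrimeSpectrum.comap (Φ0 A B).toRingHom y)).1.1}
    rw [this]
    exact h4.2 y hy
  have h5' : Function.Bijective
      (PrimeSpectrum.continuous_comap (algebraMap (B0 A B) B)).connectedComponentsMap := by
    let e' : _root_.ConnectedComponents (PrimeSpectrum (B0 A B)) ≃ₜ T0 B :=
      (pi0Congr (homeo0 A B)).trans (FibProd.pi0Homeo (g0 A B))
    have hcomp : (e' : _ → _) ∘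
        (PrimeSpectrum.continuous_comap (algebraMap (B0 A B) B)).connectedComponentsMap = id := by
      funext c
      obtain ⟨y, rfl⟩ := ConnectedComponents.surjective_coe c
      simp only [Function.comp_apply, id]
      rw [Continuous.connectedComponentsMap_mk]
      change FibProd.pi0Homeo (g0 A B) (pi0Congr (homeo0 A B)
        (ConnectedComponents.mk (PrimeSpectrum.comap (Φ0 A B).toRingHom y))) = _
      rw [pi0Congr_mk, FibProd.pi0Homeo_mk]
      exact congrArg Prod.snd (homeo0_comap_Φ0 A B y)
    have hb : Function.Bijective ((e' : _ → _) ∘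
        (PrimeSpectrum.continuous_comap (algebraMap (B0 A B) B)).connectedComponentsMap) := by
      rw [hcomp]
      exact Function.bijective_id
    exact (Function.Bijective.of_comp_iff' e'.bijective _).mp hb
  have hbij := Groth.Agent.S0699.result (B0 A B) B h1' h2' h3 h4' h5'
  exact isIndZariski_of_algEquiv (AlgEquiv.ofBijective (Φ0 A B) hbij) (isIndZariski A _ _)

end Main

end Groth.Agent.Lib.Helper36.SigmaLoc
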