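import Mathlib
import Groth.Agent.Lib.Helper36.IndEtaleSpread
import Groth.Agent.Lib.Helper36.IndEtaleLift
import Groth.Agent.S0176
import Groth.Agent.S0736

set_option autoImplicit false
set_option linter.style.haveILetI false
universe u

open CategoryTheory

namespace Groth.Agent.Lib.Helper36.ClosedLift

open Groth.Agent.Lib.Helper36.IndEt Groth.Agent.Lib.Helper36.IndEtLift
open Groth.Agent.Lib.Helper9.HensK

theorem isIndEtale_of_etale (A B : Type u) [CommRing A] [CommRing B] [Algebra A B]
    [Algebra.Etale A B] : EtPBC.IsIndEtale A B := by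
  rw [isIndEtale_iff_ind]
  apply ObjectProperty.le_ind
  unfold etaleObj
  have h : (Under.mk (CommRingCat.ofHom (algebraMap A B))).hom.hom.toAlgebra =
      (inferInstance : Algebra A B) := Algebra.algebra_ext _ _ (fun _ => rfl)
  rw [h]
  exact (inferInstance : Algebra.Etale A B)

theorem isIndEtale_of_bijective_base (A' A B : Type u) [CommRing A'] [CommRing A] [CommRing B]
    [Algebra A' A] [Algebra A B] [Algebra A' B] [IsScalarTower A' A B]
    (h : Function.Bijective (algebraMap A' A)) (hB : EtPBC.IsIndEtale A B) :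
    EtPBC.IsIndEtale A' B := by
  haveI : Algebra.Etale A' A := Algebra.Etale.of_equiv (AlgEquiv.ofBijective (Algebra.ofId A' A) h)
  exact isIndEtale_trans A' A B (isIndEtale_of_etale A' A) hB

/-- The algebraic input for lifting along closed immersions: for a surjection `D → Db` and a weakly
étale `Db`-algebra `Cb` which is w-contractible, there is a weakly étale `D`-algebra `C` whose
reduction `Cb'` modulo the kernel contains `Cb` as a retract (over `Db`). -/
theorem exists_lift_data (D Db Cb : Type u) [CommRing D] [CommRing Db] [CommRing Cb]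
    (fcl : D →+* Db) (hcl : Function.Surjective fcl) (fa : Db →+* Cb)
    (hfa : letI := fa.toAlgebra; Algebra.WeaklyEtale Db Cb) (hC : EtPBC.IsWContractible Cb) :
    ∃ (C : Type u) (_ : CommRing C) (_ : Algebra D C) (Cb' : Type u) (_ : CommRing Cb')
      (ψ : Cb →+* Cb') (r : Cb' →+* Cb) (π : C →+* Cb') (g : Db →+* Cb'),
      Algebra.WeaklyEtale D C ∧ r.comp ψ = RingHom.id Cb ∧ Function.Surjective π ∧
      RingHom.ker π = (RingHom.ker fcl).map (algebraMap D C) ∧
      g.comp fcl = π.comp (algebraMap D C) ∧ ψ.comp fa = g := by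
  letI := fa.toAlgebra
  haveI : Algebra.WeaklyEtale Db Cb := hfa
  obtain ⟨Cb', _, _, _, tower, hff, hindC, hindD⟩ := Groth.Agent.S0176.result Db Cb
  have hwe : Algebra.WeaklyEtale Cb Cb' := Groth.Agent.S0736.result Cb Cb' hindC
  obtain ⟨ρ⟩ := hC Cb' hff hwe
  let K : Ideal D := RingHom.ker fcl
  let e : D ⧸ K ≃+* Db := RingHom.quotientKerEquivOfSurjective hcl
  have he : ∀ d : D, e (Ideal.Quotient.mk K d) = fcl d := fun d => rfl
  letI algQDb : Algebra (D ⧸ K) Db := e.toRingHom.toAlgebra
  letI algQ : Algebra (D ⧸ K) Cb' := ((algebraMap Db Cb').comp e.toRingHom).toAlgebra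
  haveI : IsScalarTower (D ⧸ K) Db Cb' := IsScalarTower.of_algebraMap_eq' rfl
  have hind : EtPBC.IsIndEtale (D ⧸ K) Cb' :=
    isIndEtale_of_bijective_base (D ⧸ K) Db Cb' e.bijective hindD
  letI algD : Algebra D Cb' := ((algebraMap (D ⧸ K) Cb').comp (Ideal.Quotient.mk K)).toAlgebra
  haveI : IsScalarTower D (D ⧸ K) Cb' := IsScalarTower.of_algebraMap_eq' rfl
  obtain ⟨ε, hε⟩ := nonempty_algEquiv_quotient_ptColim D K Cb' hind
  let C := PtColim D Cb'
  let π : C →+* Cb' := (PtColim.residue : C →ₐ[D] Cb').toRingHom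
  have hπ : ∀ x : C, π x = ε (Ideal.Quotient.mk _ x) := fun x => (hε x).symm
  refine ⟨C, inferInstance, inferInstance, Cb', inferInstance, algebraMap Cb Cb', ρ.toRingHom, π,
    algebraMap Db Cb', Groth.Agent.S0736.result D C PtColim.isIndEtale, ?_, ?_, ?_, ?_, ?_⟩
  · ext x
    exact ρ.commutes x
  · intro y
    obtain ⟨z, hz⟩ := ε.surjective y
    obtain ⟨x, rfl⟩ := Ideal.Quotient.mk_surjective z
    exact ⟨x, (hπ x).trans hz⟩
  · ext x
    rw [RingHom.mem_ker, hπ, map_eq_zero_iff _ ε.injective, Ideal.Quotient.eq_zero_iff_mem]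
  · ext d
    change algebraMap Db Cb' (fcl d) = PtColim.residue (algebraMap D C d)
    rw [AlgHom.commutes]
    rfl
  · exact (IsScalarTower.algebraMap_eq Db Cb Cb').symm

end Groth.Agent.Lib.Helper36.ClosedLift
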