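import Mathlib

set_option autoImplicit false
universe u

namespace Groth.Agent.Lib.Helper36.WE

open AlgebraicGeometry CategoryTheory Limits MorphismProperty TensorProduct

/-- A morphism `Spec S ⟶ Spec R` is weakly étale iff `S` is a weakly étale `R`-algebra. -/
theorem weaklyEtale_SpecMap_iff {R S : Type u} [CommRing R] [CommRing S] (φ : R →+* S) :
    WeaklyEtale (Spec.map (CommRingCat.ofHom φ)) ↔
      (letI := φ.toAlgebra
       Algebra.WeaklyEtale R S) := by
  algebraize [φ]
  rw [weaklyEtale_iff, Algebra.weaklyEtale_iff]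
  refine and_congr ?_ ?_
  · rw [HasRingHomProperty.Spec_iff (P := @Flat)]
    rfl
  · rw [show CommRingCat.ofHom φ = CommRingCat.ofHom (algebraMap R S) from rfl, diagonal_SpecMap R S,
      cancel_right_of_respectsIso (P := @Flat), HasRingHomProperty.Spec_iff (P := @Flat)]
    rfl

theorem weaklyEtale_iff_forall_affineOpens {X S : Scheme.{u}} (f : X ⟶ S) :
    WeaklyEtale f ↔ ∀ (U : X.Opens) (V : S.Opens) (_ : IsAffineOpen U) (_ : IsAffineOpen V)
      (hUV : U ≤ f ⁻¹ᵁ V),
      (letI := (f.appLE V U hUV).hom.toAlgebra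
       Algebra.WeaklyEtale Γ(S, V) Γ(X, U)) := by
  have := HasRingHomProperty.of_isZariskiLocalAtSource_of_isZariskiLocalAtTarget @WeaklyEtale
  rw [HasRingHomProperty.iff_appLE (P := @WeaklyEtale)]
  constructor
  · intro h U V hU hV hUV
    exact (weaklyEtale_SpecMap_iff _).mp (h ⟨V, hV⟩ ⟨U, hU⟩ hUV)
  · intro h V U e
    exact (weaklyEtale_SpecMap_iff _).mpr (h U.1 V.1 U.2 V.2 e)

end Groth.Agent.Lib.Helper36.WE
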