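import Mathlib
import Groth.Prelude.Def_ProEtS
import Groth.Prelude.Def_PBC
import Groth.Agent.Lib.Helper36.WeaklyEtaleSch

/-!
# Plumbing for the small pro-étale site (helper36)

* covering families in `X.ProEt`, refinement of covering sieves by covering families;
* sections of weakly étale covers of w-contractible affine schemes;
* clopen partitions refining covering sieves of w-contractible affine objects, and the converse.
-/

set_option autoImplicit false
set_option linter.style.haveILetI false
universe u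

open CategoryTheory AlgebraicGeometry Limits Opposite

namespace Groth.Agent.Lib.Helper36.ProEtSite

variable {X : Scheme.{u}}

set_option backward.isDefEq.respectTransparency.types false in
instance : (Scheme.ProEt.precoverage X).HasIsos := by
  unfold Scheme.ProEt.precoverage; infer_instance

set_option backward.isDefEq.respectTransparency.types false in
instance : (Scheme.ProEt.precoverage X).IsStableUnderComposition := by
  unfold Scheme.ProEt.precoverage; infer_instance

set_option backward.isDefEq.respectTransparency.types false in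
instance : (Scheme.ProEt.precoverage X).IsStableUnderBaseChange := by
  unfold Scheme.ProEt.precoverage; infer_instance

/-- the object of the small pro-étale site given by a weakly étale map to an object -/
noncomputable abbrev objOver (U : X.ProEt) {W : Scheme.{u}} (f : W ⟶ U.left) [WeaklyEtale f] :
    X.ProEt := Scheme.ProEt.mk (f ≫ U.hom)

/-- the structure morphism of `objOver` -/
noncomputable abbrev homOver (U : X.ProEt) {W : Scheme.{u}} (f : W ⟶ U.left) [WeaklyEtale f] :
    objOver U f ⟶ U := MorphismProperty.Over.homMk f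

set_option backward.isDefEq.respectTransparency.types false in
/-- a family of weakly étale maps to `U.left` which is a pro-étale covering generates a covering
sieve of `U` in the small pro-étale site. -/
theorem generate_ofArrows_mem_topology (U : X.ProEt) {ι : Type*} (W : ι → Scheme.{u})
    (f : ∀ i, W i ⟶ U.left) [∀ i, WeaklyEtale (f i)]
    (h : Presieve.ofArrows W f ∈ Scheme.proetalePrecoverage U.left) :
    Sieve.generate (Presieve.ofArrows (fun i => objOver U (f i)) (fun i => homOver U (f i))) ∈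
      Scheme.ProEt.topology X U := by
  apply Precoverage.generate_mem_toGrothendieck
  change Presieve.map _ _ ∈ Scheme.proetalePrecoverage _
  erw [Presieve.map_ofArrows]
  exact h

set_option backward.isDefEq.respectTransparency.types false in
/-- every covering sieve contains a covering family from the precoverage -/
theorem exists_family_of_mem_topology (U : X.ProEt) (R : Sieve U)
    (hR : R ∈ Scheme.ProEt.topology X U) :
    ∃ (ι : Type (u + 1)) (Y : ι → X.ProEt) (g : ∀ i, Y i ⟶ U), (∀ i, R.arrows (g i)) ∧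
      QuasiCompactCover (⟨ι, fun i => (Y i).left, fun i => (g i).left⟩ :
        PreZeroHypercover U.left) ∧
      (∀ x : U.left, ∃ i, x ∈ Set.range (g i).left) := by
  rw [Precoverage.mem_toGrothendieck_iff_of_isStableUnderComposition] at hR
  obtain ⟨R₀, hR₀, hle⟩ := hR
  obtain ⟨ι, Y, g, rfl⟩ := R₀.exists_eq_ofArrows
  refine ⟨ι, Y, g, fun i => hle _ _ (Presieve.ofArrows.mk i), ?_, ?_⟩
  · have h1 : Presieve.map (Scheme.ProEt.forget X ⋙ Over.forget X) (Presieve.ofArrows Y g) ∈
        Scheme.proetalePrecoverage U.left := hR₀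
    erw [Presieve.map_ofArrows] at h1
    exact Scheme.presieve₀_mem_qcPrecoverage_iff.mp h1.1
  · have h1 : Presieve.map (Scheme.ProEt.forget X ⋙ Over.forget X) (Presieve.ofArrows Y g) ∈
        Scheme.proetalePrecoverage U.left := hR₀
    erw [Presieve.map_ofArrows] at h1
    exact ((Scheme.ofArrows_mem_precoverage_iff _).mp h1.2).1

set_option backward.isDefEq.respectTransparency.types false in
/-- a single surjective quasi-compact weakly étale map generates a covering sieve -/
theorem generate_singleton_mem_topology (U : X.ProEt) {W : Scheme.{u}} (f : W ⟶ U.left)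
    [WeaklyEtale f] (h : Presieve.singleton f ∈ Scheme.proetalePrecoverage U.left) :
    Sieve.generate (Presieve.singleton (homOver U f)) ∈ Scheme.ProEt.topology X U := by
  apply Precoverage.generate_mem_toGrothendieck
  change Presieve.map _ _ ∈ Scheme.proetalePrecoverage _
  erw [Presieve.map_singleton]
  exact h

/-- morphisms in the small pro-étale site are weakly étale -/
theorem weaklyEtale_left {U V : X.ProEt} (g : V ⟶ U) : WeaklyEtale g.left := by
  have h1 : WeaklyEtale (g.left ≫ U.hom) := by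
    rw [MorphismProperty.Over.w g]
    infer_instance
  exact WeaklyEtale.of_comp g.left U.hom

/-- A surjective weakly étale morphism of affine schemes onto an affine scheme with
w-contractible ring of functions has a section. -/
theorem exists_section_of_isWContractible {S Y : Scheme.{u}} [IsAffine S] [IsAffine Y]
    (p : Y ⟶ S) [WeaklyEtale p] [Surjective p] (hS : EtPBC.IsWContractible ↥(Γ(S, ⊤))) :
    ∃ σ : S ⟶ Y, σ ≫ p = 𝟙 S := by
  have hwe : WeaklyEtale (Spec.map p.appTop) :=
    (MorphismProperty.arrow_mk_iso_iff @WeaklyEtale (arrowIsoSpecΓOfIsAffine p)).mp inferInstance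
  have hsurj : Surjective (Spec.map p.appTop) :=
    (MorphismProperty.arrow_mk_iso_iff @Surjective (arrowIsoSpecΓOfIsAffine p)).mp inferInstance
  letI : Algebra ↥(Γ(S, ⊤)) ↥(Γ(Y, ⊤)) := p.appTop.hom.toAlgebra
  have hwe' : Algebra.WeaklyEtale ↥(Γ(S, ⊤)) ↥(Γ(Y, ⊤)) :=
    (Groth.Agent.Lib.Helper36.WE.weaklyEtale_SpecMap_iff p.appTop.hom).mp hwe
  have hff : Module.FaithfullyFlat ↥(Γ(S, ⊤)) ↥(Γ(Y, ⊤)) := by
    apply Module.FaithfullyFlat.of_comap_surjective
    exact hsurj.surj
  obtain ⟨ρ⟩ := hS ↥(Γ(Y, ⊤)) hff hwe'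
  have hρ : p.appTop ≫ CommRingCat.ofHom ρ.toRingHom = 𝟙 _ := by
    ext a
    exact ρ.commutes a
  refine ⟨S.isoSpec.hom ≫ Spec.map (CommRingCat.ofHom ρ.toRingHom) ≫ Y.isoSpec.inv, ?_⟩
  rw [Category.assoc, Category.assoc, ← Scheme.isoSpec_inv_naturality, ← Spec.map_comp_assoc, hρ,
    Spec.map_id, Category.id_comp, Iso.hom_inv_id]

/-- Over an affine scheme with w-contractible ring of functions, a finite jointly surjective family
of weakly étale affine schemes is refined by a finite clopen partition. -/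
theorem exists_clopen_partition_of_isWContractible {S : Scheme.{u}} [IsAffine S]
    (hS : EtPBC.IsWContractible ↥(Γ(S, ⊤))) {n : ℕ} (T : Fin n → Scheme.{u})
    [∀ j, IsAffine (T j)] (p : ∀ j, T j ⟶ S) [∀ j, WeaklyEtale (p j)]
    (hp : ∀ x : S, ∃ j, x ∈ Set.range (p j)) :
    ∃ W : Fin n → S.Opens, (∀ k, IsClopen ((W k : Set ↥S))) ∧
      Pairwise (fun k l => Disjoint (W k : Set ↥S) (W l)) ∧
      (⋃ k, (W k : Set ↥S)) = Set.univ ∧
      ∀ k, ∃ h : (W k).toScheme ⟶ T k, h ≫ p k = (W k).ι := by
  let q : (∐ T) ⟶ S := Sigma.desc p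
  haveI : WeaklyEtale q := IsZariskiLocalAtSource.sigmaDesc (fun j => inferInstance)
  haveI : Surjective q := by
    constructor
    intro x
    obtain ⟨j, y, rfl⟩ := hp x
    refine ⟨Sigma.ι T j y, ?_⟩
    rw [← Scheme.Hom.comp_apply, Sigma.ι_desc]
  obtain ⟨σ, hσ⟩ := exists_section_of_isWContractible q hS
  have hcov : ∀ y : ↥(∐ T), ∃ j, y ∈ Set.range (Sigma.ι T j) := fun y =>
    ⟨(sigmaOpenCover T).idx y, (sigmaOpenCover T).covers y⟩
  have hdisj : ∀ k l, k ≠ l → Disjoint (Set.range (Sigma.ι T k)) (Set.range (Sigma.ι T l)) := by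
    intro k l hkl
    have := disjoint_opensRange_sigmaι T k l hkl
    rw [Set.disjoint_iff]
    rintro y ⟨hy1, hy2⟩
    exact (this.le_bot (show y ∈ (Sigma.ι T k).opensRange ⊓ (Sigma.ι T l).opensRange from
      ⟨hy1, hy2⟩)).elim
  refine ⟨fun k => σ ⁻¹ᵁ (Sigma.ι T k).opensRange, ?_, ?_, ?_, ?_⟩
  · intro k
    refine ⟨?_, (σ ⁻¹ᵁ (Sigma.ι T k).opensRange).isOpen⟩
    have hcl : IsClosed (Set.range (Sigma.ι T k)) := by
      rw [← isOpen_compl_iff]
      have : (Set.range (Sigma.ι T k))ᶜ = ⋃ l ∈ {l | l ≠ k}, Set.range (Sigma.ι T l) := by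
        ext y
        simp only [Set.mem_compl_iff, Set.mem_iUnion, Set.mem_ofPred_eq, exists_prop]
        constructor
        · intro hy
          obtain ⟨j, hj⟩ := hcov y
          refine ⟨j, ?_, hj⟩
          rintro rfl
          exact hy hj
        · rintro ⟨l, hl, hy⟩ hy'
          exact Set.disjoint_iff.mp (hdisj l k hl) ⟨hy, hy'⟩
      rw [this]
      exact isOpen_biUnion fun l _ => (Sigma.ι T l).opensRange.isOpen
    exact hcl.preimage σ.continuous
  · intro k l hkl
    change Disjoint _ _
    rw [Set.disjoint_iff]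
    rintro x ⟨hx1, hx2⟩
    exact Set.disjoint_iff.mp (hdisj k l hkl) ⟨hx1, hx2⟩
  · rw [Set.eq_univ_iff_forall]
    intro x
    obtain ⟨j, hj⟩ := hcov (σ x)
    exact Set.mem_iUnion.mpr ⟨j, hj⟩
  · intro k
    have hrange : Set.range ((σ ⁻¹ᵁ (Sigma.ι T k).opensRange).ι ≫ σ) ⊆
        Set.range (Sigma.ι T k) := by
      rintro _ ⟨x, rfl⟩
      rw [Scheme.Hom.comp_apply]
      exact x.2
    refine ⟨IsOpenImmersion.lift (Sigma.ι T k) _ hrange, ?_⟩
    have h1 : p k = Sigma.ι T k ≫ q := (Sigma.ι_desc p k).symm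
    rw [h1, IsOpenImmersion.lift_fac_assoc, Category.assoc, hσ, Category.comp_id]

/-- On an affine object with w-contractible ring of functions, every covering sieve contains a
finite clopen partition. -/
theorem exists_clopen_partition_mem_of_mem_topology (U : X.ProEt) [IsAffine U.left]
    (hU : EtPBC.IsWContractible ↥(Γ(U.left, ⊤))) (R : Sieve U)
    (hR : R ∈ Scheme.ProEt.topology X U) :
    ∃ (n : ℕ) (W : Fin n → U.left.Opens),
        (∀ k, IsClopen ((W k : Set ↥U.left))) ∧
        Pairwise (fun k l => Disjoint (W k : Set ↥U.left) (W l)) ∧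
        (⋃ k, (W k : Set ↥U.left)) = Set.univ ∧
        ∀ k, R.arrows (homOver U (W k).ι) := by
  obtain ⟨ι, Y, g, hRg, hqc, hsurj⟩ := exists_family_of_mem_topology U R hR
  let E : PreZeroHypercover U.left := ⟨ι, fun i => (Y i).left, fun i => (g i).left⟩
  haveI : QuasiCompactCover E := hqc
  obtain ⟨n, f, V, hV, hVU⟩ := QuasiCompactCover.exists_isAffineOpen_of_isCompact E
    (U := ⊤) isCompact_univ
  haveI : ∀ i, WeaklyEtale (g i).left := fun i => weaklyEtale_left (g i)
  haveI : ∀ j, IsAffine ((V j).toScheme) := fun j => hV j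
  let p : ∀ j : Fin n, (V j).toScheme ⟶ U.left := fun j => (V j).ι ≫ (g (f j)).left
  have hp : ∀ x : U.left, ∃ j, x ∈ Set.range (p j) := by
    intro x
    have hx : x ∈ ⋃ i, E.f (f i) '' (V i) := by
      rw [hVU]
      trivial
    obtain ⟨j, y, hy, rfl⟩ := Set.mem_iUnion.mp hx
    refine ⟨j, ⟨⟨y, hy⟩, ?_⟩⟩
    simp only [p, Scheme.Hom.comp_apply]
    rfl
  obtain ⟨W, hcl, hdisj, hcov, hW⟩ := exists_clopen_partition_of_isWContractible hU
    (fun j => (V j).toScheme) p hp
  refine ⟨n, W, hcl, hdisj, hcov, ?_⟩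
  intro k
  obtain ⟨h, hh⟩ := hW k
  have hw : (h ≫ (V k).ι) ≫ (Y (f k)).hom = (W k).ι ≫ U.hom := by
    rw [← MorphismProperty.Over.w (g (f k)), ← hh]
    simp only [p, Category.assoc]
  let a : objOver U (W k).ι ⟶ Y (f k) := MorphismProperty.Over.homMk (h ≫ (V k).ι) hw
  have ha : a ≫ g (f k) = homOver U (W k).ι := by
    apply MorphismProperty.Over.Hom.ext
    simp only [a, homOver, MorphismProperty.Comma.comp_hom, MorphismProperty.Over.homMk_hom,
      Comma.comp_left, Over.homMk_left, Category.assoc]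
    exact hh
  rw [← ha]
  exact R.downward_closed (hRg (f k)) a

/-- gluing morphisms along a pairwise disjoint open cover -/
theorem exists_glue_of_pairwise_disjoint {S Y : Scheme.{u}} {κ : Type*} (W : κ → S.Opens)
    (hdisj : Pairwise (fun k l => Disjoint (W k : Set ↥S) (W l)))
    (hcov : (⋃ k, (W k : Set ↥S)) = Set.univ) (h : ∀ k, (W k).toScheme ⟶ Y) :
    ∃ σ : S ⟶ Y, ∀ k, (W k).ι ≫ σ = h k := by
  have hoc : TopologicalSpace.IsOpenCover W := by
    apply TopologicalSpace.IsOpenCover.mk
    apply TopologicalSpace.Opens.ext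
    rw [TopologicalSpace.Opens.coe_iSup, hcov]
    rfl
  let 𝒰 : S.OpenCover := S.openCoverOfIsOpenCover W hoc
  have hcompat : ∀ x y : 𝒰.I₀,
      pullback.fst (𝒰.f x) (𝒰.f y) ≫ h x = pullback.snd (𝒰.f x) (𝒰.f y) ≫ h y := by
    intro x y
    rcases eq_or_ne x y with rfl | hne
    · have : pullback.fst (𝒰.f x) (𝒰.f x) = pullback.snd (𝒰.f x) (𝒰.f x) := by
        rw [← cancel_mono (𝒰.f x)]
        exact pullback.condition
      rw [this]
    · haveI : IsEmpty ↥(pullback (𝒰.f x) (𝒰.f y)) := by
        constructor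
        intro z
        have h1 : (𝒰.f x) (pullback.fst (𝒰.f x) (𝒰.f y) z) =
            (𝒰.f y) (pullback.snd (𝒰.f x) (𝒰.f y) z) := by
          rw [← Scheme.Hom.comp_apply, ← Scheme.Hom.comp_apply, pullback.condition]
        have h2 : (𝒰.f x) (pullback.fst (𝒰.f x) (𝒰.f y) z) ∈ (W x : Set ↥S) :=
          (pullback.fst (𝒰.f x) (𝒰.f y) z).2
        have h3 : (𝒰.f y) (pullback.snd (𝒰.f x) (𝒰.f y) z) ∈ (W y : Set ↥S) :=
          (pullback.snd (𝒰.f x) (𝒰.f y) z).2
        rw [h1] at h2
        exact Set.disjoint_iff.mp (hdisj hne) ⟨h2, h3⟩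
      exact (isInitialOfIsEmpty (X := pullback (𝒰.f x) (𝒰.f y))).hom_ext _ _
  exact ⟨𝒰.glueMorphisms h hcompat, fun k => 𝒰.ι_glueMorphisms h hcompat k⟩

theorem weaklyEtale_SpecMap_algebraMap (A B : Type u) [CommRing A] [CommRing B] [Algebra A B]
    [h : Algebra.WeaklyEtale A B] :
    WeaklyEtale (Spec.map (CommRingCat.ofHom (algebraMap A B))) := by
  rw [Groth.Agent.Lib.Helper36.WE.weaklyEtale_SpecMap_iff]
  convert h
  exact Algebra.algebra_ext _ _ (fun _ => rfl)

theorem surjective_SpecMap_algebraMap (A B : Type u) [CommRing A] [CommRing B] [Algebra A B]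
    [Module.FaithfullyFlat A B] :
    Surjective (Spec.map (CommRingCat.ofHom (algebraMap A B))) :=
  ⟨PrimeSpectrum.comap_surjective_of_faithfullyFlat⟩

/-- If every covering sieve of an affine object `U` contains a finite clopen partition then the
ring of functions of `U` is w-contractible. -/
theorem isWContractible_of_forall_clopen_partition (U : X.ProEt) [IsAffine U.left]
    (H : ∀ R ∈ Scheme.ProEt.topology X U, ∃ (n : ℕ) (W : Fin n → U.left.Opens),
        (∀ k, IsClopen ((W k : Set ↥U.left))) ∧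
        Pairwise (fun k l => Disjoint (W k : Set ↥U.left) (W l)) ∧
        (⋃ k, (W k : Set ↥U.left)) = Set.univ ∧
        ∀ k, R.arrows (homOver U (W k).ι)) :
    EtPBC.IsWContractible ↥(Γ(U.left, ⊤)) := by
  intro B _ _ hff hwe
  let φ : Γ(U.left, ⊤) ⟶ CommRingCat.of B := CommRingCat.ofHom (algebraMap _ B)
  haveI : WeaklyEtale (Spec.map φ) := weaklyEtale_SpecMap_algebraMap _ B
  haveI : Surjective (Spec.map φ) := surjective_SpecMap_algebraMap _ B
  let q : Spec (.of B) ⟶ U.left := Spec.map φ ≫ U.left.isoSpec.inv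
  haveI : WeaklyEtale q := inferInstanceAs (WeaklyEtale (Spec.map φ ≫ U.left.isoSpec.inv))
  haveI : Surjective q := inferInstanceAs (Surjective (Spec.map φ ≫ U.left.isoSpec.inv))
  have hmem : Presieve.singleton q ∈ Scheme.proetalePrecoverage U.left :=
    Scheme.Hom.singleton_mem_propQCPrecoverage (P := @WeaklyEtale) inferInstance
  obtain ⟨n, W, -, hdisj, hcov, hW⟩ := H _ (generate_singleton_mem_topology U q hmem)
  have hW' : ∀ k, ∃ a : (W k).toScheme ⟶ Spec (.of B), a ≫ q = (W k).ι := by
    intro k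
    obtain ⟨Z, a, b, ⟨⟩, hab⟩ := hW k
    refine ⟨a.left, ?_⟩
    have := congrArg (fun t => t.left) hab
    exact this
  choose a ha using hW'
  obtain ⟨σ, hσ⟩ := exists_glue_of_pairwise_disjoint W hdisj hcov a
  have hσq : σ ≫ q = 𝟙 _ := by
    have hoc : TopologicalSpace.IsOpenCover W := by
      apply TopologicalSpace.IsOpenCover.mk
      apply TopologicalSpace.Opens.ext
      rw [TopologicalSpace.Opens.coe_iSup, hcov]
      rfl
    apply Scheme.Cover.hom_ext (U.left.openCoverOfIsOpenCover W hoc)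
    intro k
    change (W k).ι ≫ σ ≫ q = (W k).ι ≫ 𝟙 _
    rw [reassoc_of% (hσ k), ha, Category.comp_id]
  -- the retraction
  let ρ : CommRingCat.of B ⟶ Γ(U.left, ⊤) := (Scheme.ΓSpecIso (.of B)).inv ≫ σ.appTop
  have hρ : φ ≫ ρ = 𝟙 _ := by
    have h1 : q.appTop = φ ≫ (Scheme.ΓSpecIso (.of B)).inv := by
      simp only [q, Scheme.Hom.comp_appTop]
      rw [Scheme.ΓSpecIso_inv_naturality]
      congr 1
      have h3 : U.left.isoSpec.hom.appTop ≫ U.left.isoSpec.inv.appTop = 𝟙 _ := by
        rw [← Scheme.Hom.comp_appTop, Iso.inv_hom_id]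
        rfl
      have h4 : U.left.isoSpec.hom.appTop = (Scheme.ΓSpecIso Γ(U.left, ⊤)).hom := by
        rw [Scheme.isoSpec_hom, Scheme.toSpecΓ_appTop]
      rw [h4] at h3
      rw [← cancel_epi (Scheme.ΓSpecIso Γ(U.left, ⊤)).hom, h3, Iso.hom_inv_id]
    have h2 : q.appTop ≫ σ.appTop = 𝟙 _ := by
      rw [← Scheme.Hom.comp_appTop, hσq]
      rfl
    rw [← h2, h1, Category.assoc]
  refine ⟨{ ρ.hom with commutes' := ?_ }⟩
  intro r
  exact congrArg (fun t => t.hom r) hρ

end Groth.Agent.Lib.Helper36.ProEtSite
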