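import Mathlib
import Groth.Agent.Lib.Helper36.ProEtSite

/-!
# Weakly contractible objects of the small pro-étale site (helper36)

An affine object of `X_proét` is weakly contractible iff its ring of functions is w-contractible.
-/

set_option autoImplicit false
set_option linter.style.haveILetI false
universe u

open CategoryTheory AlgebraicGeometry Limits Opposite

namespace Groth.Agent.Lib.Helper36.ProEtSite

variable {X : Scheme.{u}}

/-- sections of a sheaf over an empty object form a subsingleton -/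
theorem subsingleton_of_isEmpty (F : Sheaf (Scheme.ProEt.topology X) (Type (u + 1)))
    (Z : X.ProEt) [IsEmpty ↥Z.left] : Subsingleton (F.obj.obj (op Z)) := by
  have hF : Presieve.IsSheaf (Scheme.ProEt.topology X) F.obj :=
    (isSheaf_iff_isSheaf_of_type _ _).mp F.property
  have h1 := hF _ (Scheme.ProEt.bot_mem_topology Z)
  constructor
  intro a b
  apply h1.isSeparatedFor.ext
  intro Y f hf
  exact hf.elim

/-- Lifting along a morphism of sheaves can be checked on a "disjoint" cover. -/
theorem exists_lift_of_disjoint_cover {F G : Sheaf (Scheme.ProEt.topology X) (Type (u + 1))}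
    (φ : F ⟶ G) (U : X.ProEt) {κ : Type*} (V : κ → X.ProEt) (π : ∀ k, V k ⟶ U)
    (hcov : Sieve.generate (Presieve.ofArrows V π) ∈ Scheme.ProEt.topology X U)
    (hmono : ∀ k, Mono (π k))
    (hdisj : ∀ k l, k ≠ l → ∀ (Z : X.ProEt) (a : Z ⟶ V k) (b : Z ⟶ V l),
      a ≫ π k = b ≫ π l → IsEmpty ↥Z.left)
    (s : G.obj.obj (op U))
    (hs : ∀ k, ∃ t : F.obj.obj (op (V k)), φ.hom.app (op (V k)) t = G.obj.map (π k).op s) :
    ∃ t : F.obj.obj (op U), φ.hom.app (op U) t = s := by
  have hF : Presieve.IsSheaf (Scheme.ProEt.topology X) F.obj :=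
    (isSheaf_iff_isSheaf_of_type _ _).mp F.property
  have hG : Presieve.IsSheaf (Scheme.ProEt.topology X) G.obj :=
    (isSheaf_iff_isSheaf_of_type _ _).mp G.property
  have hF1 : Presieve.IsSheafFor F.obj (Presieve.ofArrows V π) :=
    (Presieve.isSheafFor_iff_generate _).mpr (hF _ hcov)
  have hG1 : Presieve.IsSheafFor G.obj (Presieve.ofArrows V π) :=
    (Presieve.isSheafFor_iff_generate _).mpr (hG _ hcov)
  choose t ht using hs
  have hcompat : Presieve.Arrows.Compatible F.obj π t := by
    intro k l Z gk gl hkl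
    rcases eq_or_ne k l with rfl | hne
    · have : gk = gl := by
        haveI := hmono k
        exact (cancel_mono (π k)).mp hkl
      rw [this]
    · haveI := hdisj k l hne Z gk gl hkl
      haveI := subsingleton_of_isEmpty F Z
      exact Subsingleton.elim _ _
  obtain ⟨t₀, ht₀, -⟩ := (Presieve.isSheafFor_arrows_iff _ _).mp hF1 t hcompat
  refine ⟨t₀, ?_⟩
  apply hG1.isSeparatedFor.ext
  rintro _ _ ⟨k⟩
  rw [← ht k, ← ht₀ k]
  exact (NatTrans.naturality_apply φ.hom (π k).op t₀).symm

/-- an open cover of `U.left` generates a covering sieve -/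
theorem generate_opens_mem_topology (U : X.ProEt) {κ : Type*} (W : κ → U.left.Opens)
    (hcov : (⋃ k, (W k : Set ↥U.left)) = Set.univ) :
    Sieve.generate (Presieve.ofArrows (fun k => objOver U (W k).ι)
      (fun k => homOver U (W k).ι)) ∈ Scheme.ProEt.topology X U := by
  have hoc : TopologicalSpace.IsOpenCover W := by
    apply TopologicalSpace.IsOpenCover.mk
    apply TopologicalSpace.Opens.ext
    rw [TopologicalSpace.Opens.coe_iSup, hcov]
    rfl
  apply generate_ofArrows_mem_topology U (fun k => (W k).toScheme) (fun k => (W k).ι)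
  exact Scheme.zariskiPrecoverage_le_propQCPrecoverage (P := @WeaklyEtale) _
    (U.left.openCoverOfIsOpenCover W hoc).mem₀

/-- a morphism in the small pro-étale site whose underlying morphism is mono is mono -/
theorem mono_of_mono_left {U V : X.ProEt} (g : V ⟶ U) [Mono g.left] : Mono g := by
  constructor
  intro Z a b hab
  apply MorphismProperty.Over.Hom.ext
  have h1 : (a ≫ g).left = (b ≫ g).left := by rw [hab]
  exact (cancel_mono g.left).mp h1

/-- Lifting along a morphism of sheaves can be checked on a partition into opens. -/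
theorem exists_lift_of_partition {F G : Sheaf (Scheme.ProEt.topology X) (Type (u + 1))}
    (φ : F ⟶ G) (U : X.ProEt) {κ : Type*} (W : κ → U.left.Opens)
    (hdisj : Pairwise (fun k l => Disjoint (W k : Set ↥U.left) (W l)))
    (hcov : (⋃ k, (W k : Set ↥U.left)) = Set.univ)
    (s : G.obj.obj (op U))
    (hs : ∀ k, ∃ t : F.obj.obj (op (objOver U (W k).ι)),
      φ.hom.app (op (objOver U (W k).ι)) t = G.obj.map (homOver U (W k).ι).op s) :
    ∃ t : F.obj.obj (op U), φ.hom.app (op U) t = s := by
  apply exists_lift_of_disjoint_cover φ U (fun k => objOver U (W k).ι)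
    (fun k => homOver U (W k).ι) (generate_opens_mem_topology U W hcov) ?_ ?_ s hs
  · intro k
    haveI : Mono (homOver U (W k).ι).left := inferInstanceAs (Mono (W k).ι)
    exact mono_of_mono_left _
  · intro k l hkl Z a b hab
    constructor
    intro z
    have h1 : (a ≫ homOver U (W k).ι).left = (b ≫ homOver U (W l).ι).left := by rw [hab]
    have h2 : a.left ≫ (W k).ι = b.left ≫ (W l).ι := h1
    have h3 : (W k).ι (a.left z) = (W l).ι (b.left z) := by
      have h6 : (a.left ≫ (W k).ι) z = (b.left ≫ (W l).ι) z := by rw [h2]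
      exact h6
    have h4 : (W k).ι (a.left z) ∈ (W k : Set ↥U.left) := (a.left z).2
    have h5 : (W l).ι (b.left z) ∈ (W l : Set ↥U.left) := (b.left z).2
    rw [h3] at h4
    exact Set.disjoint_iff.mp (hdisj hkl) ⟨h4, h5⟩

/-- An affine object with w-contractible ring of functions is weakly contractible. -/
theorem isWC_of_isWContractible (U : X.ProEt) [IsAffine U.left]
    (hU : EtPBC.IsWContractible ↥(Γ(U.left, ⊤))) : ProEtS.IsWC U := by
  intro F G φ hφ s
  have hls : Sheaf.IsLocallySurjective φ := (Sheaf.isLocallySurjective_iff_epi φ).mpr hφ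
  have hR := hls.imageSieve_mem s
  obtain ⟨n, W, -, hdisj, hcov, hW⟩ := exists_clopen_partition_mem_of_mem_topology U hU _ hR
  exact exists_lift_of_partition φ U W hdisj hcov s (fun k => hW k)

/-- A covering map to a weakly contractible object has a section. -/
theorem exists_section_of_isWC (U : X.ProEt) (hU : ProEtS.IsWC U) (V : X.ProEt) (g : V ⟶ U)
    (hg : Sieve.generate (Presieve.singleton g) ∈ Scheme.ProEt.topology X U) :
    ∃ σ : U ⟶ V, σ ≫ g = 𝟙 U := by
  let J := Scheme.ProEt.topology X
  let hV : Sheaf J (Type (u + 1)) := (GrothendieckTopology.uliftYoneda.{u + 1} J).obj V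
  let hU' : Sheaf J (Type (u + 1)) := (GrothendieckTopology.uliftYoneda.{u + 1} J).obj U
  let φ : hV ⟶ hU' := (GrothendieckTopology.uliftYoneda.{u + 1} J).map g
  have hls : Sheaf.IsLocallySurjective φ := by
    constructor
    intro Z s
    have h1 : (Sieve.generate (Presieve.singleton g)).pullback s.down ∈ J Z :=
      J.pullback_stable s.down hg
    refine J.superset_covering ?_ h1
    intro Z' f hf
    obtain ⟨Y', a, b, ⟨⟩, hab⟩ := hf
    rw [Presheaf.imageSieve_apply]
    refine ⟨⟨a⟩, ?_⟩
    apply ULift.ext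
    exact hab
  have hepi : Epi φ := (Sheaf.isLocallySurjective_iff_epi φ).mp hls
  obtain ⟨t, ht⟩ := hU hV hU' φ hepi ⟨𝟙 U⟩
  refine ⟨t.down, ?_⟩
  exact congrArg ULift.down ht

/-- a section of `Spec B → S` gives a retraction of `Γ(S) → B` -/
theorem nonempty_algHom_of_section {S : Scheme.{u}} [IsAffine S] (B : Type u) [CommRing B]
    [Algebra ↥(Γ(S, ⊤)) B] (σ : S ⟶ Spec (.of B))
    (hσ : σ ≫ (Spec.map (CommRingCat.ofHom (algebraMap ↥(Γ(S, ⊤)) B)) ≫ S.isoSpec.inv) = 𝟙 S) :
    Nonempty (B →ₐ[↥(Γ(S, ⊤))] ↥(Γ(S, ⊤))) := by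
  let φ : Γ(S, ⊤) ⟶ CommRingCat.of B := CommRingCat.ofHom (algebraMap _ B)
  let q : Spec (.of B) ⟶ S := Spec.map φ ≫ S.isoSpec.inv
  let ρ : CommRingCat.of B ⟶ Γ(S, ⊤) := (Scheme.ΓSpecIso (.of B)).inv ≫ σ.appTop
  have hρ : φ ≫ ρ = 𝟙 _ := by
    have h1 : q.appTop = φ ≫ (Scheme.ΓSpecIso (.of B)).inv := by
      simp only [q, Scheme.Hom.comp_appTop]
      rw [Scheme.ΓSpecIso_inv_naturality]
      congr 1
      have h3 : S.isoSpec.hom.appTop ≫ S.isoSpec.inv.appTop = 𝟙 _ := by
        rw [← Scheme.Hom.comp_appTop, Iso.inv_hom_id]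
        rfl
      have h4 : S.isoSpec.hom.appTop = (Scheme.ΓSpecIso Γ(S, ⊤)).hom := by
        rw [Scheme.isoSpec_hom, Scheme.toSpecΓ_appTop]
      rw [h4] at h3
      rw [← cancel_epi (Scheme.ΓSpecIso Γ(S, ⊤)).hom, h3, Iso.hom_inv_id]
    have h2 : q.appTop ≫ σ.appTop = 𝟙 _ := by
      rw [← Scheme.Hom.comp_appTop, hσ]
      rfl
    rw [← h2, h1, Category.assoc]
  refine ⟨{ ρ.hom with commutes' := ?_ }⟩
  intro r
  exact congrArg (fun t => t.hom r) hρ

/-- The ring of functions of an affine weakly contractible object is w-contractible. -/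
theorem isWContractible_of_isWC (U : X.ProEt) [IsAffine U.left] (hU : ProEtS.IsWC U) :
    EtPBC.IsWContractible ↥(Γ(U.left, ⊤)) := by
  intro B _ _ hff hwe
  let φ : Γ(U.left, ⊤) ⟶ CommRingCat.of B := CommRingCat.ofHom (algebraMap _ B)
  haveI : WeaklyEtale (Spec.map φ) := weaklyEtale_SpecMap_algebraMap _ B
  haveI : Surjective (Spec.map φ) := surjective_SpecMap_algebraMap _ B
  let q : Spec (.of B) ⟶ U.left := Spec.map φ ≫ U.left.isoSpec.inv
  haveI : WeaklyEtale q := inferInstanceAs (WeaklyEtale (Spec.map φ ≫ U.left.isoSpec.inv))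
  haveI : Surjective q := inferInstanceAs (Surjective (Spec.map φ ≫ U.left.isoSpec.inv))
  have hmem : Presieve.singleton q ∈ Scheme.proetalePrecoverage U.left :=
    Scheme.Hom.singleton_mem_propQCPrecoverage (P := @WeaklyEtale) inferInstance
  obtain ⟨σ, hσ⟩ := exists_section_of_isWC U hU (objOver U q) (homOver U q)
    (generate_singleton_mem_topology U q hmem)
  have hσq : σ.left ≫ q = 𝟙 _ := congrArg (fun t => t.left) hσ
  exact nonempty_algHom_of_section B σ.left hσq

/-- For an affine object of the small pro-étale site: the ring of functions is w-contractible iff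
the object is weakly contractible. -/
theorem isWContractible_iff_isWC (U : X.ProEt) [IsAffine U.left] :
    EtPBC.IsWContractible ↥(Γ(U.left, ⊤)) ↔ ProEtS.IsWC U :=
  ⟨isWC_of_isWContractible U, isWContractible_of_isWC U⟩

end Groth.Agent.Lib.Helper36.ProEtSite
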