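import Mathlib
import Groth.Prelude.Def_ProEtS
import Groth.Agent.Lib.Helper36.ClosedLiftAlg
import Groth.Agent.Lib.Helper36.ProEtSite
import Groth.Agent.Lib.Helper36.ProEtWC
import Groth.Agent.Lib.Helper36.WeaklyEtaleSch
import Groth.Agent.S0730

set_option autoImplicit false
set_option linter.style.haveILetI false
universe u
open CategoryTheory CategoryTheory.Limits AlgebraicGeometry Opposite

namespace Groth.Agent.Lib.Helper36.ClosedLiftGeom

open Groth.Agent.Lib.Helper36.ProEtSite Groth.Agent.Lib.Helper36.ClosedLift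

/-- morphism to an affine scheme given by a ring map on global sections -/
noncomputable def homOfΓ {X Y : Scheme.{u}} [IsAffine X] (φ : Γ(X, ⊤) ⟶ Γ(Y, ⊤)) : Y ⟶ X :=
  Y.toSpecΓ ≫ Spec.map φ ≫ X.isoSpec.inv

theorem isoSpec_inv_appTop' (X : Scheme.{u}) [IsAffine X] :
    X.isoSpec.inv.appTop = (Scheme.ΓSpecIso Γ(X, ⊤)).inv := by
  have h := congrArg Scheme.Hom.appTop (Scheme.isoSpec_inv_toSpecΓ X)
  rw [Scheme.Hom.comp_appTop, Scheme.toSpecΓ_appTop, Scheme.Hom.id_appTop] at h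
  rw [← cancel_epi (Scheme.ΓSpecIso Γ(X, ⊤)).hom, h, Iso.hom_inv_id]

@[simp]
theorem homOfΓ_appTop {X Y : Scheme.{u}} [IsAffine X] (φ : Γ(X, ⊤) ⟶ Γ(Y, ⊤)) :
    (homOfΓ φ).appTop = φ := by
  unfold homOfΓ
  rw [Scheme.Hom.comp_appTop, Scheme.Hom.comp_appTop, Scheme.toSpecΓ_appTop, isoSpec_inv_appTop',
    Category.assoc, Scheme.ΓSpecIso_naturality, Iso.inv_hom_id_assoc]

theorem homOfΓ_self {X Y : Scheme.{u}} [IsAffine X] (f : Y ⟶ X) : homOfΓ f.appTop = f :=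
  ext_of_isAffine (homOfΓ_appTop _)

theorem comp_homOfΓ {X Y Y' : Scheme.{u}} [IsAffine X] (g : Y' ⟶ Y) (φ : Γ(X, ⊤) ⟶ Γ(Y, ⊤)) :
    g ≫ homOfΓ φ = homOfΓ (φ ≫ g.appTop) :=
  ext_of_isAffine (by rw [Scheme.Hom.comp_appTop, homOfΓ_appTop, homOfΓ_appTop])

theorem homOfΓ_comp {X X' Y : Scheme.{u}} [IsAffine X] [IsAffine X'] (φ : Γ(X, ⊤) ⟶ Γ(Y, ⊤))
    (h : X ⟶ X') : homOfΓ φ ≫ h = homOfΓ (h.appTop ≫ φ) :=
  ext_of_isAffine (by rw [Scheme.Hom.comp_appTop, homOfΓ_appTop, homOfΓ_appTop])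

/-- morphism to a spectrum given by a ring map to global sections -/
noncomputable def toSpecOf {Y : Scheme.{u}} {R : CommRingCat.{u}} (φ : R ⟶ Γ(Y, ⊤)) :
    Y ⟶ Spec R := Y.toSpecΓ ≫ Spec.map φ

@[simp]
theorem toSpecOf_appTop {Y : Scheme.{u}} {R : CommRingCat.{u}} (φ : R ⟶ Γ(Y, ⊤)) :
    (Scheme.ΓSpecIso R).inv ≫ (toSpecOf φ).appTop = φ := by
  unfold toSpecOf
  rw [Scheme.Hom.comp_appTop, Scheme.toSpecΓ_appTop, ← Category.assoc,
    ← Scheme.ΓSpecIso_inv_naturality, Category.assoc, Iso.inv_hom_id, Category.comp_id]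

theorem toSpecOf_self {Y : Scheme.{u}} {R : CommRingCat.{u}} (f : Y ⟶ Spec R) :
    toSpecOf ((Scheme.ΓSpecIso R).inv ≫ f.appTop) = f := by
  apply ext_of_isAffine
  rw [← cancel_epi (Scheme.ΓSpecIso R).inv, toSpecOf_appTop]

theorem comp_toSpecOf {Y Y' : Scheme.{u}} {R : CommRingCat.{u}} (g : Y' ⟶ Y) (φ : R ⟶ Γ(Y, ⊤)) :
    g ≫ toSpecOf φ = toSpecOf (φ ≫ g.appTop) := by
  apply ext_of_isAffine
  rw [← cancel_epi (Scheme.ΓSpecIso R).inv, Scheme.Hom.comp_appTop, ← Category.assoc,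
    toSpecOf_appTop, toSpecOf_appTop]

theorem toSpecOf_comp_SpecMap {Y : Scheme.{u}} {R R' : CommRingCat.{u}} (φ : R ⟶ Γ(Y, ⊤))
    (ψ : R' ⟶ R) : toSpecOf φ ≫ Spec.map ψ = toSpecOf (ψ ≫ φ) := by
  unfold toSpecOf
  rw [Category.assoc, ← Spec.map_comp]

theorem toSpecOf_comp_isoSpec_inv {X Y : Scheme.{u}} [IsAffine X] (φ : Γ(X, ⊤) ⟶ Γ(Y, ⊤)) :
    toSpecOf φ ≫ X.isoSpec.inv = homOfΓ φ := by
  unfold toSpecOf homOfΓ
  rw [Category.assoc]

variable {Z X : Scheme.{u}} (i : Z ⟶ X) [IsClosedImmersion i]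

/-- Lifting along a closed immersion, up to retract. -/
theorem exists_lift_retract (V : X.ProEt) [IsAffine V.left] (W : Z.ProEt) [IsAffine W.left]
    (hW : EtPBC.IsWContractible ↥(Γ(W.left, ⊤))) (a : W ⟶ (ProEtS.bcP i).obj V) :
    ∃ (V' : X.ProEt) (p : V' ⟶ V) (a' : W ⟶ (ProEtS.bcP i).obj V')
      (q : (ProEtS.bcP i).obj V' ⟶ W),
      a' ≫ (ProEtS.bcP i).map p = a ∧ q ≫ a = (ProEtS.bcP i).map p ∧ a' ≫ q = 𝟙 W := by
  let T : Scheme.{u} := pullback V.hom i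
  let cl : T ⟶ V.left := pullback.fst V.hom i
  haveI : IsClosedImmersion cl := inferInstance
  haveI hTaff : IsAffine T := (IsClosedImmersion.isAffine_surjective_of_isAffine cl).1
  have hcl : Function.Surjective cl.appTop.hom :=
    (IsClosedImmersion.isAffine_surjective_of_isAffine cl).2
  let al : W.left ⟶ T := a.left
  haveI : WeaklyEtale al := weaklyEtale_left a
  have hfa : (letI := al.appTop.hom.toAlgebra; Algebra.WeaklyEtale Γ(T, ⊤) Γ(W.left, ⊤)) := by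
    rw [← Groth.Agent.Lib.Helper36.WE.weaklyEtale_SpecMap_iff]
    exact (MorphismProperty.arrow_mk_iso_iff @WeaklyEtale (arrowIsoSpecΓOfIsAffine al)).mp
      inferInstance
  obtain ⟨C, _, _, Cb', _, ψ, r, π, g, hwe, hrψ, hπ, hker, hg, hψ⟩ :=
    exists_lift_data Γ(V.left, ⊤) Γ(T, ⊤) Γ(W.left, ⊤) cl.appTop.hom hcl al.appTop.hom hfa hW
  let algDC : Γ(V.left, ⊤) ⟶ CommRingCat.of C :=
    CommRingCat.ofHom (algebraMap Γ(V.left, ⊤) C)
  let pl : Spec (.of C) ⟶ V.left := Spec.map algDC ≫ V.left.isoSpec.inv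
  haveI : WeaklyEtale (Spec.map algDC) := weaklyEtale_SpecMap_algebraMap _ C
  haveI : WeaklyEtale pl := inferInstanceAs (WeaklyEtale (Spec.map algDC ≫ V.left.isoSpec.inv))
  let V' : X.ProEt := objOver V pl
  let p : V' ⟶ V := homOver V pl
  let T' : Scheme.{u} := pullback (pl ≫ V.hom) i
  let fst' : T' ⟶ Spec (.of C) := pullback.fst (pl ≫ V.hom) i
  let snd' : T' ⟶ Z := pullback.snd (pl ≫ V.hom) i
  let up : T' ⟶ T := ((ProEtS.bcP i).map p).left
  have hup1 : up ≫ cl = fst' ≫ pl := (Groth.Agent.S0730.isPullback_bcP_map i p).w.symm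
  have hup2 : up ≫ pullback.snd V.hom i = snd' := MorphismProperty.Over.w ((ProEtS.bcP i).map p)
  have hWhom : al ≫ pullback.snd V.hom i = W.hom := MorphismProperty.Over.w a
  -- elementwise forms of the algebraic identities
  have e1 : ∀ x, π (algebraMap _ C x) = g (cl.appTop.hom x) := fun x => (congr($hg x)).symm
  have e2 : ∀ y, g y = ψ (al.appTop.hom y) := fun y => (congr($hψ y)).symm
  have e3 : ∀ y, r (ψ y) = y := fun y => congr($hrψ y)
  let rπ : CommRingCat.of C ⟶ Γ(W.left, ⊤) := CommRingCat.ofHom (r.comp π)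
  let α : W.left ⟶ Spec (.of C) := toSpecOf rπ
  have hα : α ≫ pl = al ≫ cl := by
    rw [← homOfΓ_self (al ≫ cl)]
    change toSpecOf rπ ≫ Spec.map algDC ≫ V.left.isoSpec.inv = _
    rw [← Category.assoc, toSpecOf_comp_SpecMap, toSpecOf_comp_isoSpec_inv,
      Scheme.Hom.comp_appTop]
    congr 1
    ext x
    change r (π (algebraMap _ C x)) = al.appTop.hom (cl.appTop.hom x)
    rw [e1, e2, e3]
  let a'l : W.left ⟶ T' := pullback.lift α W.hom (by
    rw [← Category.assoc, hα, Category.assoc, pullback.condition, ← Category.assoc, hWhom])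
  have ha'l1 : a'l ≫ fst' = α := pullback.lift_fst _ _ _
  have ha'l2 : a'l ≫ snd' = W.hom := pullback.lift_snd _ _ _
  let a' : W ⟶ (ProEtS.bcP i).obj V' := MorphismProperty.Over.homMk a'l ha'l2
  let κ₀ : CommRingCat.of C ⟶ Γ(T', ⊤) := (Scheme.ΓSpecIso (.of C)).inv ≫ fst'.appTop
  have hfst' : fst' = toSpecOf κ₀ := (toSpecOf_self fst').symm
  have hfp : fst' ≫ pl = homOfΓ (algDC ≫ κ₀) := by
    rw [hfst']
    change toSpecOf κ₀ ≫ Spec.map algDC ≫ V.left.isoSpec.inv = _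
    rw [← Category.assoc, toSpecOf_comp_SpecMap, toSpecOf_comp_isoSpec_inv]
  have hκ₀ : algDC ≫ κ₀ = cl.appTop ≫ up.appTop := by
    have h := congrArg Scheme.Hom.appTop hup1
    rw [hfp, homOfΓ_appTop, Scheme.Hom.comp_appTop] at h
    exact h.symm
  have hker' : RingHom.ker π ≤ RingHom.ker κ₀.hom := by
    rw [hker, Ideal.map_le_iff_le_comap]
    intro d hd
    rw [Ideal.mem_comap, RingHom.mem_ker]
    have h := congr($hκ₀ d)
    change κ₀.hom (algebraMap _ C d) = up.appTop.hom (cl.appTop.hom d) at h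
    rw [h, (RingHom.mem_ker).mp hd, map_zero]
  let κ : Cb' →+* Γ(T', ⊤) := π.liftOfSurjective hπ ⟨κ₀.hom, hker'⟩
  have hκ : ∀ c, κ (π c) = κ₀.hom c := fun c =>
    congr($(RingHom.liftOfRightInverse_comp π (Function.surjInv hπ) (Function.rightInverse_surjInv hπ) ⟨κ₀.hom, hker'⟩) c)
  let κ' : Γ(W.left, ⊤) ⟶ Γ(T', ⊤) := CommRingCat.ofHom (κ.comp ψ)
  let ql : T' ⟶ W.left := homOfΓ κ'
  have hq1 : ql ≫ al ≫ cl = fst' ≫ pl := by
    rw [hfp, homOfΓ_comp, Scheme.Hom.comp_appTop]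
    congr 1
    ext x
    change κ (ψ (al.appTop.hom (cl.appTop.hom x))) = κ₀.hom (algebraMap _ C x)
    rw [← e2, ← e1, hκ]
  have hqw : ql ≫ W.hom = snd' := by
    rw [← cancel_mono i, Category.assoc, ← hWhom, Category.assoc, ← pullback.condition,
      ← Category.assoc, ← Category.assoc, Category.assoc ql, hq1, Category.assoc]
    exact pullback.condition
  let q : (ProEtS.bcP i).obj V' ⟶ W := MorphismProperty.Over.homMk ql hqw
  refine ⟨V', p, a', q, ?_, ?_, ?_⟩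
  · apply MorphismProperty.Over.Hom.ext
    change a'l ≫ up = al
    apply pullback.hom_ext
    · change (a'l ≫ up) ≫ cl = al ≫ cl
      rw [Category.assoc, hup1, ← Category.assoc, ha'l1, hα]
    · rw [Category.assoc, hup2, ha'l2, hWhom]
  · apply MorphismProperty.Over.Hom.ext
    change ql ≫ al = up
    apply pullback.hom_ext
    · change (ql ≫ al) ≫ cl = up ≫ cl
      rw [Category.assoc, hq1, hup1]
    · rw [Category.assoc, hWhom, hqw, hup2]
  · apply MorphismProperty.Over.Hom.ext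
    change a'l ≫ ql = 𝟙 W.left
    apply ext_of_isAffine
    rw [comp_homOfΓ, homOfΓ_appTop, Scheme.Hom.id_appTop]
    have h1 : κ₀ ≫ a'l.appTop = rπ := by
      have h := congrArg Scheme.Hom.appTop ha'l1
      rw [Scheme.Hom.comp_appTop] at h
      change (Scheme.ΓSpecIso (.of C)).inv ≫ fst'.appTop ≫ a'l.appTop = _
      rw [h]
      exact toSpecOf_appTop rπ
    have h2 : ∀ y', a'l.appTop.hom (κ y') = r y' := by
      intro y'
      obtain ⟨c, rfl⟩ := hπ y'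
      rw [hκ]
      exact congr($h1 c)
    ext y
    change a'l.appTop.hom (κ (ψ y)) = y
    rw [h2, e3]

end Groth.Agent.Lib.Helper36.ClosedLiftGeom
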