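import Mathlib

set_option autoImplicit false
universe w v₁ v₂ u₁ u₂

open CategoryTheory CategoryTheory.Limits Opposite

namespace Groth.Agent.Lib.Helper36.LanAb

variable {C : Type u₁} [Category.{v₁} C] {D : Type u₂} [Category.{v₂} D] (u : C ⥤ D)
  {G : Cᵒᵖ ⥤ AddCommGrpCat.{w}} (E : Functor.LeftExtension u.op G)

/-- the element of the left Kan extension at `W` given by `a : W ⟶ u V` and `s ∈ G V` -/
def mk {W : D} {V : C} (a : W ⟶ u.obj V) (s : G.obj (op V)) : E.right.obj (op W) :=
  E.right.map a.op (E.hom.app (op V) s)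

theorem map_mk {W W' : D} (h : W' ⟶ W) {V : C} (a : W ⟶ u.obj V) (s : G.obj (op V)) :
    E.right.map h.op (mk u E a s) = mk u E (h ≫ a) s := by
  simp only [mk, op_comp, Functor.map_comp]
  rfl

theorem mk_comp_map {W : D} {V V' : C} (a : W ⟶ u.obj V') (b : V' ⟶ V) (s : G.obj (op V)) :
    mk u E (a ≫ u.map b) s = mk u E a (G.map b.op s) := by
  simp only [mk, op_comp, Functor.map_comp]
  have := NatTrans.naturality_apply E.hom b.op s
  change E.right.map a.op (E.right.map (u.map b).op (E.hom.app (op V) s)) = _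
  erw [← this]

theorem mk_zero {W : D} {V : C} (a : W ⟶ u.obj V) : mk u E a (0 : G.obj (op V)) = 0 := by
  simp [mk]

variable {u E}

theorem exists_mk_eq (hE : E.IsPointwiseLeftKanExtension) {W : D}
    [PreservesColimit (CostructuredArrow.proj u.op (op W) ⋙ G) (forget AddCommGrpCat.{w})]
    (x : E.right.obj (op W)) :
    ∃ (V : C) (a : W ⟶ u.obj V) (s : G.obj (op V)), mk u E a s = x := by
  obtain ⟨j, y, hy⟩ := Concrete.isColimit_exists_rep _ (hE (op W)) x
  exact ⟨j.left.unop, j.hom.unop, y, hy⟩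

end Groth.Agent.Lib.Helper36.LanAb
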