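import Mathlib
import Groth.Prelude.Def_ProEtW
import Groth.Agent.Lib.Helper36.IndZarIdLoc

set_option autoImplicit false
set_option linter.unusedSectionVars false
universe u

namespace Groth.Agent.Lib.Helper36.IndZar

open Topology Polynomial

theorem algebraicResidueExtensions_of_identifiesLocalRings (A B : Type u) [CommRing A] [CommRing B]
    [Algebra A B] (h : EtPBC.IdentifiesLocalRings A B) : ProEtW.AlgebraicResidueExtensions A B := by
  intro q hq
  constructor
  intro x
  obtain ⟨b, rfl⟩ := Ideal.Quotient.mk_surjective x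
  have hs := (localRingHom_surjective_iff (algebraMap A B) q).1 (h ⟨q, hq⟩).2 b 1
    (fun h1 => hq.ne_top ((Ideal.eq_top_iff_one _).2 h1))
  obtain ⟨a, u, w, hu, hw, hwe⟩ := hs
  rw [one_mul] at hwe
  have hdom : IsDomain (B ⧸ q) := Ideal.Quotient.isDomain q
  have hw' : (Ideal.Quotient.mk q w) ≠ 0 := by
    rw [Ne, Ideal.Quotient.eq_zero_iff_mem]
    exact hw
  have heq : Ideal.Quotient.mk q (algebraMap A B u) * Ideal.Quotient.mk q b =
      Ideal.Quotient.mk q (algebraMap A B a) := by
    have := congrArg (Ideal.Quotient.mk q) hwe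
    simp only [map_mul] at this
    exact (mul_left_cancel₀ hw' this).symm
  have hu' : (Ideal.Quotient.mk (q.comap (algebraMap A B)) u) ≠ 0 := by
    rw [Ne, Ideal.Quotient.eq_zero_iff_mem, Ideal.mem_comap]
    exact hu
  refine ⟨C (Ideal.Quotient.mk (q.comap (algebraMap A B)) u) * X -
    C (Ideal.Quotient.mk (q.comap (algebraMap A B)) a), ?_, ?_⟩
  · intro h0
    have := congrArg (fun P => Polynomial.coeff P 1) h0
    simp at this
    exact hu' this
  · simp only [map_sub, map_mul, aeval_C, aeval_X]
    have h1 : ∀ r : A, algebraMap (A ⧸ q.comap (algebraMap A B)) (B ⧸ q)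
        (Ideal.Quotient.mk _ r) = Ideal.Quotient.mk q (algebraMap A B r) := fun r => rfl
    rw [h1, h1, heq, sub_self]

end Groth.Agent.Lib.Helper36.IndZar
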