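import Mathlib
import Groth.Prelude.Def_ProEtW
import Groth.Agent.Lib.Helper36.SigmaLocAw
import Groth.Agent.Lib.Helper36.SigmaLocFib
import Groth.Agent.Lib.Helper36.FibProd3

set_option autoImplicit false
universe u

namespace Groth.Agent.Lib.Helper36.SigmaLoc

open Topology

section Pi0W

variable {A : Type u} [CommRing A] {T : Type u} [TopologicalSpace T] (π : T → PrimeSpectrum A)

/-- projection `W → T` -/
def prT : W π → T := fun w => w.1.2

theorem continuous_prT : Continuous (prT π) := continuous_snd.comp continuous_subtype_val

theorem mk_eq_mk_of_prT_eq [T1Space T] (w w' : W π) (h : prT π w = prT π w') :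
    (ConnectedComponents.mk w : ConnectedComponents (W π)) = ConnectedComponents.mk w' := by
  have h1 : w ⤳ clPt π (prT π w) :=
    (specializes_iff_W π _ _).mpr ⟨(PrimeSpectrum.le_iff_specializes _ _).mp (W_le π w), rfl⟩
  have h2 : w' ⤳ clPt π (prT π w') :=
    (specializes_iff_W π _ _).mpr ⟨(PrimeSpectrum.le_iff_specializes _ _).mp (W_le π w'), rfl⟩
  rw [← FibProd.mk_eq_of_specializes h1, ← FibProd.mk_eq_of_specializes h2, h]

/-- the induced map `π₀(W) → T` -/
noncomputable def pi0MapW [TotallyDisconnectedSpace T] : ConnectedComponents (W π) → T :=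
  (continuous_prT π).connectedComponentsLift

theorem pi0MapW_mk [TotallyDisconnectedSpace T] (w : W π) :
    pi0MapW π (ConnectedComponents.mk w) = w.1.2 :=
  (continuous_prT π).connectedComponentsLift_apply_coe w

theorem pi0MapW_bijective [T1Space T] [TotallyDisconnectedSpace T] :
    Function.Bijective (pi0MapW π) := by
  constructor
  · intro c c' h
    obtain ⟨w, rfl⟩ := ConnectedComponents.surjective_coe c
    obtain ⟨w', rfl⟩ := ConnectedComponents.surjective_coe c'
    rw [pi0MapW_mk, pi0MapW_mk] at h
    exact mk_eq_mk_of_prT_eq π w w' h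
  · intro t
    exact ⟨ConnectedComponents.mk (clPt π t), pi0MapW_mk π _⟩

/-- `π₀(W) ≃ₜ T` -/
noncomputable def pi0HomeoW [CompactSpace (W π)] [T2Space T] [TotallyDisconnectedSpace T] :
    ConnectedComponents (W π) ≃ₜ T :=
  Continuous.homeoOfEquivCompactToT2 (f := Equiv.ofBijective (pi0MapW π) (pi0MapW_bijective π))
    (continuous_prT π).connectedComponentsLift_continuous

end Pi0W

/-- a discrete copy of a type -/
structure Disc (α : Type u) : Type u where
  /-- the underlying element -/
  val : α

instance (α : Type u) : TopologicalSpace (Disc α) := ⊥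
instance (α : Type u) : DiscreteTopology (Disc α) := ⟨rfl⟩

variable (A : Type u) [CommRing A]

/-- an extremally disconnected cover of the constructible spectrum -/
abbrev TED : Type u := StoneCech (Disc (TCons A))

/-- the covering map -/
noncomputable def gED : TED A → TCons A :=
  stoneCechExtend (g := (Disc.val : Disc (TCons A) → TCons A)) continuous_of_discreteTopology

theorem continuous_gED : Continuous (gED A) := continuous_stoneCechExtend _

theorem surjective_gED : Function.Surjective (gED A) := fun c =>
  ⟨stoneCechUnit ⟨c⟩, stoneCechExtend_stoneCechUnit _ _⟩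

instance : ExtremallyDisconnected (TED A) :=
  CompactT2.Projective.extremallyDisconnected StoneCech.projective

/-- the map to the spectrum -/
noncomputable def πED : TED A → PrimeSpectrum A := πCons A ∘ gED A

theorem isClopen_πED (a : A) : IsClopen {t : TED A | a ∉ (πED A t).asIdeal} :=
  (isClopen_πCons A a).preimage (continuous_gED A)

/-- the ring -/
abbrev AED : Type u := Bw A (TED A) (SgW (πED A))

theorem hSgED (a : A) : IsOpen {t : TED A | a ∈ SgW (πED A) t} := (isClopen_πED A a).2

/-- the spectrum -/
noncomputable def homeoED : W (πED A) ≃ₜ PrimeSpectrum (AED A) := homeo (hSgED A)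

theorem isWLocal_AED : ProEtW.IsWLocal (PrimeSpectrum (AED A)) :=
  isWLocal_of_homeomorph (homeoED A)
    (isClosed_closedPoints_W (πED A) (fun a => (isClopen_πED A a).1))
    (existsUnique_W (πED A))

theorem faithfullyFlat_AED : Module.FaithfullyFlat A (AED A) := by
  apply Module.FaithfullyFlat.of_comap_surjective
  intro x
  obtain ⟨t, ht⟩ := surjective_gED A (WithTopology.toTopology _ x)
  refine ⟨Ψ (clPt (πED A) t), ?_⟩
  rw [comap_Ψ]
  change πCons A (gED A t) = x
  rw [ht]
  rfl

instance : CompactSpace (W (πED A)) := (homeoED A).symm.compactSpace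

theorem extremallyDisconnected_AED :
    ExtremallyDisconnected (ConnectedComponents (PrimeSpectrum (AED A))) :=
  extremallyDisconnected_of_homeo
    ((pi0Congr (homeoED A).symm).trans (pi0HomeoW (πED A))).symm

end Groth.Agent.Lib.Helper36.SigmaLoc
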