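import Mathlib
import Groth.Prelude.Def_ProEtW
import Groth.Agent.Lib.Helper36.SigmaLocED
import Groth.Agent.Lib.Helper36.SigmaLocFlat
import Groth.Agent.Lib.Helper36.IndZarIdLoc

set_option autoImplicit false
set_option linter.unusedSectionVars false
universe u

namespace Groth.Agent.Lib.Helper36.IndZar

open Topology
open Groth.Agent.Lib.Helper36.SigmaLoc

/-- a closed subspace of a w-local space is w-local (given it is spectral) -/
theorem isWLocal_of_isClosedEmbedding {X Y : Type u} [TopologicalSpace X] [TopologicalSpace Y]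
    [SpectralSpace X] (f : X → Y) (hf : IsClosedEmbedding f) (hY : ProEtW.IsWLocal Y) :
    ProEtW.IsWLocal X := by
  obtain ⟨-, hYc, hYu⟩ := hY
  have hcl : ∀ x : X, IsClosed ({x} : Set X) ↔ IsClosed ({f x} : Set Y) := by
    intro x
    constructor
    · intro h
      have := hf.isClosedMap _ h
      rwa [Set.image_singleton] at this
    · intro h
      have h1 : ({x} : Set X) = f ⁻¹' {f x} := by
        ext x'
        simp only [Set.mem_singleton_iff, Set.mem_preimage]
        exact ⟨fun h => by rw [h], fun h => hf.injective h⟩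
      rw [h1]
      exact h.preimage hf.continuous
  refine ⟨inferInstance, ?_, ?_⟩
  · have : {x : X | IsClosed ({x} : Set X)} = f ⁻¹' {y : Y | IsClosed ({y} : Set Y)} := by
      ext x
      exact hcl x
    rw [this]
    exact hYc.preimage hf.continuous
  · intro x
    obtain ⟨y, ⟨hy1, hy2⟩, hyu⟩ := hYu (f x)
    have hyr : y ∈ Set.range f := by
      have h1 : y ∈ closure ({f x} : Set Y) := hy2.mem_closure
      have h2 : closure ({f x} : Set Y) ⊆ Set.range f :=
        closure_minimal (by rintro _ rfl; exact ⟨x, rfl⟩) hf.isClosed_range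
      exact h2 h1
    obtain ⟨x', rfl⟩ := hyr
    refine ⟨x', ⟨(hcl x').2 hy1, hf.isInducing.specializes_iff.mp hy2⟩, ?_⟩
    rintro x'' ⟨h1, h2⟩
    apply hf.injective
    exact hyu (f x'') ⟨(hcl x'').1 h1, hf.isInducing.specializes_iff.mpr h2⟩

theorem isClosedEmbedding_comap_of_surjective {R S : Type u} [CommRing R] [CommRing S]
    (f : R →+* S) (hf : Function.Surjective f) : IsClosedEmbedding (PrimeSpectrum.comap f) :=
  PrimeSpectrum.isClosedEmbedding_comap_of_surjective S f hf

variable (A : Type u) [CommRing A]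

/-- retractions imply w-local -/
theorem isWLocal_of_hasIndZariskiRetractions (h : ProEtW.HasIndZariskiRetractions A) :
    ProEtW.IsWLocal (PrimeSpectrum A) := by
  obtain ⟨r⟩ := h (Aw A) (faithfullyFlat_Aw A) (isIndZariski A _ _)
  have hsurj : Function.Surjective r.toRingHom := fun a => ⟨algebraMap A (Aw A) a, r.commutes a⟩
  exact isWLocal_of_isClosedEmbedding _
    (isClosedEmbedding_comap_of_surjective r.toRingHom hsurj) (isWLocal_Aw A)

/-- the space of components -/
abbrev T0' : Type u := ConnectedComponents (PrimeSpectrum A)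

instance : T2Space (T0' A) := FibProd.t2Space_connectedComponents (X := PrimeSpectrum A)

/-- the ED cover of `π₀` -/
abbrev T1' : Type u := StoneCech (Disc (T0' A))

/-- the covering map -/
noncomputable def g1' : C(T1' A, T0' A) :=
  ⟨stoneCechExtend (g := (Disc.val : Disc (T0' A) → T0' A)) continuous_of_discreteTopology,
    continuous_stoneCechExtend _⟩

theorem surjective_g1' : Function.Surjective (g1' A) := fun c =>
  ⟨stoneCechUnit ⟨c⟩, stoneCechExtend_stoneCechUnit continuous_of_discreteTopology _⟩

instance : ExtremallyDisconnected (T1' A) :=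
  CompactT2.Projective.extremallyDisconnected StoneCech.projective

theorem hSg1' (a : A) : IsOpen {t | a ∈ SgFib (g1' A) t} := isOpen_SgFib (g1' A) a

/-- the ring -/
abbrev B1' : Type u := Bw A (T1' A) (SgFib (g1' A))

theorem faithfullyFlat_B1' : Module.FaithfullyFlat A (B1' A) := by
  apply Module.FaithfullyFlat.of_comap_surjective
  intro x
  obtain ⟨t, ht⟩ := surjective_g1' A (ConnectedComponents.mk x)
  have hmem : (x, t) ∈ Yw (SgFib (g1' A)) := by
    rw [Yw_SgFib]
    exact ht.symm
  exact ⟨Ψ ⟨(x, t), hmem⟩, comap_Ψ _⟩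

theorem exists_section_of_retraction (r : B1' A →ₐ[A] A) :
    ∃ σ : T0' A → T1' A, Continuous σ ∧ ∀ c, g1' A (σ c) = c := by
  let s : PrimeSpectrum A → PrimeSpectrum (B1' A) := PrimeSpectrum.comap r.toRingHom
  have hs : Continuous s := PrimeSpectrum.continuous_comap _
  have hs1 : ∀ x, PrimeSpectrum.comap (algebraMap A (B1' A)) (s x) = x := by
    intro x
    change PrimeSpectrum.comap (algebraMap A (B1' A)) (PrimeSpectrum.comap r.toRingHom x) = x
    rw [← PrimeSpectrum.comap_comp_apply]
    have : r.toRingHom.comp (algebraMap A (B1' A)) = RingHom.id A := by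
      ext a
      exact r.commutes a
    rw [this]
    rfl
  let k : PrimeSpectrum A → T1' A := fun x => ((homeo (hSg1' A)).symm (s x)).1.2
  have hk : Continuous k :=
    continuous_snd.comp (continuous_subtype_val.comp ((homeo (hSg1' A)).symm.continuous.comp hs))
  have hk1 : ∀ x, g1' A (k x) = ConnectedComponents.mk x := by
    intro x
    have h0 : ∀ p ∈ Yw (SgFib (g1' A)), ConnectedComponents.mk p.1 = g1' A p.2 := by
      intro p hp
      rw [Yw_SgFib] at hp
      exact hp
    have h1 := h0 _ ((homeo (hSg1' A)).symm (s x)).2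
    have h2 : ((homeo (hSg1' A)).symm (s x)).1.1 = x := by
      rw [homeo_symm_fst, hs1]
    have h3 : ConnectedComponents.mk ((homeo (hSg1' A)).symm (s x)).1.1 = g1' A (k x) := h1
    rw [h2] at h3
    exact h3.symm
  refine ⟨hk.connectedComponentsLift, hk.connectedComponentsLift_continuous, ?_⟩
  intro c
  obtain ⟨x, rfl⟩ := ConnectedComponents.surjective_coe c
  rw [Continuous.connectedComponentsLift_apply_coe]
  exact hk1 x

theorem extremallyDisconnected_of_hasIndZariskiRetractions
    (h : ProEtW.HasIndZariskiRetractions A) :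
    ExtremallyDisconnected (ConnectedComponents (PrimeSpectrum A)) := by
  obtain ⟨r⟩ := h (B1' A) (faithfullyFlat_B1' A) (isIndZariski A _ _)
  obtain ⟨σ, hσ, hgσ⟩ := exists_section_of_retraction A r
  apply CompactT2.Projective.extremallyDisconnected
  intro Y Z _ _ _ _ _ _ φ f hφ hf hfs
  obtain ⟨h', hh', hfh'⟩ := (StoneCech.projective (X := Disc (T0' A)))
    (hφ.comp (g1' A).continuous) hf hfs
  refine ⟨h' ∘ σ, hh'.comp hσ, ?_⟩
  funext c
  have := congrFun hfh' (σ c)
  simp only [Function.comp_apply] at this ⊢
  rw [this, hgσ]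

end Groth.Agent.Lib.Helper36.IndZar
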