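import Mathlib
import Groth.Prelude.Def_ProEtW
import Groth.Agent.Lib.Helper36.SigmaLocMain
import Groth.Agent.Lib.Helper36.SigmaLocED

set_option autoImplicit false
set_option linter.unusedSectionVars false
universe u

namespace Groth.Agent.Lib.Helper36.SigmaLoc

open Topology CategoryTheory CategoryTheory.Limits

/-- identification of local rings is stable under composition -/
theorem identifiesLocalRings_comp {A B C : Type u} [CommRing A] [CommRing B] [CommRing C]
    [Algebra A B] [Algebra B C] [Algebra A C] [IsScalarTower A B C]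
    (h1 : EtPBC.IdentifiesLocalRings A B) (h2 : EtPBC.IdentifiesLocalRings B C) :
    EtPBC.IdentifiesLocalRings A C := by
  intro q
  set F : A →+* C := (algebraMap B C).comp (algebraMap A B) with hF
  have hFeq : F = algebraMap A C := (IsScalarTower.algebraMap_eq A B C).symm
  have key : ∀ F' : A →+* C, F = F' →
      Function.Bijective (Localization.localRingHom (q.asIdeal.comap F) q.asIdeal F rfl) →
      Function.Bijective (Localization.localRingHom (q.asIdeal.comap F') q.asIdeal F' rfl) := by
    rintro _ rfl h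
    exact h
  apply key _ hFeq
  have hcomp := Localization.localRingHom_comp (I := q.asIdeal.comap F)
    (q.asIdeal.comap (algebraMap B C)) q.asIdeal (algebraMap A B) rfl (algebraMap B C) rfl
  rw [hcomp, RingHom.coe_comp]
  exact (h2 q).comp (h1 (PrimeSpectrum.comap (algebraMap B C) q))

section S0183

variable (A B : Type u) [CommRing A] [CommRing B] [Algebra A B]

/-- `π : (Spec B)_cons → Spec A` -/
def π1 : TCons B → PrimeSpectrum A := PrimeSpectrum.comap (algebraMap A B) ∘ πCons B

theorem isClopen_π1 (a : A) : IsClopen {t : TCons B | a ∉ (π1 A B t).asIdeal} :=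
  isClopen_πCons B (algebraMap A B a)

/-- the ring `B''`, ind-Zariski over `A` -/
abbrev B1 : Type u := Bw A (TCons B) (SgW (π1 A B))

theorem hSg1 (a : A) : IsOpen {t : TCons B | a ∈ SgW (π1 A B) t} := (isClopen_π1 A B a).2

/-- its spectrum -/
noncomputable def homeo1 : W (π1 A B) ≃ₜ PrimeSpectrum (B1 A B) := homeo (hSg1 A B)

theorem isWLocal_B1 : ProEtW.IsWLocal (PrimeSpectrum (B1 A B)) :=
  isWLocal_of_homeomorph (homeo1 A B)
    (isClosed_closedPoints_W (π1 A B) (fun a => (isClopen_π1 A B a).1))
    (existsUnique_W (π1 A B))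

/-- the composite algebra structure `A → B → B_w` -/
@[reducible] noncomputable def algebraAw : Algebra A (Aw B) :=
  ((algebraMap B (Aw B)).comp (algebraMap A B)).toAlgebra

attribute [local instance] algebraAw

theorem isScalarTower_Aw : IsScalarTower A B (Aw B) :=
  IsScalarTower.of_algebraMap_eq (fun _ => rfl)

attribute [local instance] isScalarTower_Aw

/-- the second projection `Spec B_w → (Spec B)_cons` -/
noncomputable def τ1 : PrimeSpectrum (Aw B) → TCons B := fun q => ((homeoW B).symm q).1.2

theorem continuous_τ1 : Continuous (τ1 B) :=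
  (continuous_snd.comp continuous_subtype_val).comp (homeoW B).symm.continuous

theorem hτ1 (q : PrimeSpectrum (Aw B)) (a : A) (ha : a ∈ SgW (π1 A B) (τ1 B q)) :
    algebraMap A (Aw B) a ∉ q.asIdeal := by
  intro hmem
  have h1 : algebraMap A B a ∈ (PrimeSpectrum.comap (algebraMap B (Aw B)) q).asIdeal := hmem
  rw [← homeo_symm_fst (hSgCons B) q] at h1
  exact ha (W_le (πCons B) ((homeoW B).symm q) h1)

/-- the comparison map -/
noncomputable def Φ1 : B1 A B →ₐ[A] Aw B := descAlgHom (τ1 B) (continuous_τ1 B) (hτ1 A B)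

theorem homeo1_symm_comap_Φ1 (q : PrimeSpectrum (Aw B)) :
    ((homeo1 A B).symm (PrimeSpectrum.comap (Φ1 A B).toRingHom q)).1 =
      (PrimeSpectrum.comap (algebraMap A (Aw B)) q, τ1 B q) := by
  have h1 : PrimeSpectrum.comap (Φ1 A B).toRingHom q =
      homeo1 A B ⟨(PrimeSpectrum.comap (algebraMap A (Aw B)) q, τ1 B q),
        mem_Yw_of_hτ (τ1 B) (hτ1 A B) q⟩ :=
    comap_descHom (τ1 B) (continuous_τ1 B) (hτ1 A B) q
  rw [h1, Homeomorph.symm_apply_apply]


instance : CompactSpace (W (π1 A B)) := (homeo1 A B).symm.compactSpace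

instance : CompactSpace (W (πCons B)) := (homeoW B).symm.compactSpace

theorem bijective_Φ1 (h : EtPBC.IdentifiesLocalRings A B) : Function.Bijective (Φ1 A B) := by
  let : Algebra (B1 A B) (Aw B) := (Φ1 A B).toRingHom.toAlgebra
  have : IsScalarTower A (B1 A B) (Aw B) :=
    IsScalarTower.of_algebraMap_eq (fun a => ((Φ1 A B).commutes a).symm)
  have hAw : EtPBC.IdentifiesLocalRings A (Aw B) :=
    identifiesLocalRings_comp h (identifiesLocalRings_Bw (hSgCons B))
  have hα : EtPBC.IdentifiesLocalRings A (B1 A B) := identifiesLocalRings_Bw (hSg1 A B)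
  have h1' : EtPBC.IdentifiesLocalRings (B1 A B) (Aw B) := identifiesLocalRings_of_comp hAw hα
  have h4' : ProEtW.IsWLocalMap (PrimeSpectrum.comap (algebraMap (B1 A B) (Aw B))) := by
    refine ⟨isSpectralMap_comap _, fun q hq => ?_⟩
    have hq' := (isClosed_singleton_iff_Aw B q).mp hq
    rw [← Homeomorph.apply_symm_apply (homeo1 A B)
      (PrimeSpectrum.comap (algebraMap (B1 A B) (Aw B)) q), isClosed_singleton_homeo,
      isClosed_singleton_iff_W]
    have e := homeo1_symm_comap_Φ1 A B q
    change ((homeo1 A B).symm (PrimeSpectrum.comap (Φ1 A B).toRingHom q)).1.1 =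
      π1 A B ((homeo1 A B).symm (PrimeSpectrum.comap (Φ1 A B).toRingHom q)).1.2
    rw [e]
    change PrimeSpectrum.comap (algebraMap A (Aw B)) q =
      PrimeSpectrum.comap (algebraMap A B) (πCons B (τ1 B q))
    have e2 : PrimeSpectrum.comap (algebraMap A (Aw B)) q =
        PrimeSpectrum.comap (algebraMap A B) (PrimeSpectrum.comap (algebraMap B (Aw B)) q) := rfl
    rw [e2, ← homeo_symm_fst (hSgCons B) q]
    exact congrArg _ hq'
  have h5' : Function.Bijective
      (PrimeSpectrum.continuous_comap (algebraMap (B1 A B) (Aw B))).connectedComponentsMap := by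
    let e₁ : _root_.ConnectedComponents (PrimeSpectrum (B1 A B)) ≃ₜ TCons B :=
      (pi0Congr (homeo1 A B).symm).trans (pi0HomeoW (π1 A B))
    let e₂ : _root_.ConnectedComponents (PrimeSpectrum (Aw B)) ≃ₜ TCons B :=
      (pi0Congr (homeoW B).symm).trans (pi0HomeoW (πCons B))
    have hcomp : (e₁ : _ → _) ∘
        (PrimeSpectrum.continuous_comap (algebraMap (B1 A B) (Aw B))).connectedComponentsMap =
        e₂ := by
      funext c
      obtain ⟨q, rfl⟩ := ConnectedComponents.surjective_coe c
      simp only [Function.comp_apply]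
      rw [Continuous.connectedComponentsMap_mk]
      change pi0MapW (π1 A B) (pi0Congr (homeo1 A B).symm
        (ConnectedComponents.mk (PrimeSpectrum.comap (Φ1 A B).toRingHom q))) =
        pi0MapW (πCons B) (pi0Congr (homeoW B).symm (ConnectedComponents.mk q))
      rw [pi0Congr_mk, pi0Congr_mk, pi0MapW_mk, pi0MapW_mk]
      exact congrArg Prod.snd (homeo1_symm_comap_Φ1 A B q)
    have hb : Function.Bijective ((e₁ : _ → _) ∘
        (PrimeSpectrum.continuous_comap (algebraMap (B1 A B) (Aw B))).connectedComponentsMap) := by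
      rw [hcomp]
      exact e₂.bijective
    exact (Function.Bijective.of_comp_iff' e₁.bijective _).mp hb
  exact Groth.Agent.S0699.result (B1 A B) (Aw B) h1' (isWLocal_B1 A B) (isWLocal_Aw B) h4' h5'

theorem isIndZariski_Aw_of_identifiesLocalRings (h : EtPBC.IdentifiesLocalRings A B) :
    EtPBC.IsIndZariski A (Aw B) :=
  isIndZariski_of_algEquiv (AlgEquiv.ofBijective (Φ1 A B) (bijective_Φ1 A B h))
    (isIndZariski A _ _)

end S0183

end Groth.Agent.Lib.Helper36.SigmaLoc
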