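import Mathlib
import Groth.Agent.Lib.Helper36.IndEtaleSpread

set_option autoImplicit false
set_option linter.style.haveILetI false
universe u

namespace Groth.Agent.Lib.Helper36.LocColim

open CategoryTheory CategoryTheory.Limits

variable {A : Type u} [CommRing A] (S : Submonoid A)

/-- Index category: elements of `S`, ordered by divisibility. -/
structure LocIdx (S : Submonoid A) : Type u where
  val : A
  mem : val ∈ S

instance : Preorder (LocIdx S) where
  le s t := s.val ∣ t.val
  le_refl s := dvd_refl _
  le_trans _ _ _ := dvd_trans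

instance : IsDirected (LocIdx S) (· ≤ ·) :=
  ⟨fun s t => ⟨⟨s.val * t.val, S.mul_mem s.mem t.mem⟩, dvd_mul_right _ _, dvd_mul_left _ _⟩⟩

instance : Nonempty (LocIdx S) := ⟨⟨1, S.one_mem⟩⟩

instance : IsFiltered (LocIdx S) := isFiltered_of_directed_le_nonempty _

variable {S}

theorem isUnit_of_dvd {s t : A} (h : s ∣ t) (n : Submonoid.powers s) :
    IsUnit (algebraMap A (Localization.Away t) n) := by
  obtain ⟨k, hk⟩ := n.2
  rw [← hk, map_pow]
  apply IsUnit.pow
  obtain ⟨c, rfl⟩ := h
  have := IsLocalization.Away.algebraMap_isUnit (S := Localization.Away (s * c)) (s * c)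
  rw [map_mul] at this
  exact isUnit_of_mul_isUnit_left this

/-- transition maps -/
noncomputable def trans {s t : A} (h : s ∣ t) : Localization.Away s →ₐ[A] Localization.Away t :=
  IsLocalization.liftAlgHom (M := Submonoid.powers s) (f := Algebra.ofId A (Localization.Away t))
    (isUnit_of_dvd h)

instance (s : A) (P : Type*) [CommRing P] [Algebra A P] :
    Subsingleton (Localization.Away s →ₐ[A] P) :=
  IsLocalization.algHom_subsingleton (Submonoid.powers s)

variable (S)

/-- the diagram `s ↦ A_s` -/
noncomputable def diag : LocIdx S ⥤ CommRingCat.{u} where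
  obj s := CommRingCat.of (Localization.Away s.val)
  map {s t} h := CommRingCat.ofHom (trans (leOfHom h)).toRingHom
  map_id s := by
    have : trans (leOfHom (𝟙 s)) = AlgHom.id A _ := Subsingleton.elim _ _
    rw [this]
    rfl
  map_comp {s t v} f g := by
    have : trans (leOfHom (f ≫ g)) = (trans (leOfHom g)).comp (trans (leOfHom f)) :=
      Subsingleton.elim _ _
    rw [this]
    rfl

variable (B : Type u) [CommRing B] [Algebra A B] [IsLocalization S B]

theorem isUnit_of_mem {s : A} (hs : s ∈ S) (n : Submonoid.powers s) :
    IsUnit (algebraMap A B n) := by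
  obtain ⟨k, hk⟩ := n.2
  rw [← hk, map_pow]
  exact (IsLocalization.map_units B (⟨s, hs⟩ : S)).pow k

/-- the cocone maps `A_s → S⁻¹A` -/
noncomputable def toLoc (s : LocIdx S) : Localization.Away s.val →ₐ[A] B :=
  IsLocalization.liftAlgHom (M := Submonoid.powers s.val) (f := Algebra.ofId A B)
    (isUnit_of_mem S B s.mem)

/-- the cocone -/
noncomputable def cocone : Cocone (diag S) where
  pt := CommRingCat.of B
  ι :=
    { app := fun s => CommRingCat.ofHom (toLoc S B s).toRingHom
      naturality := fun s t h => by
        have : (toLoc S B t).comp (trans (leOfHom h)) = toLoc S B s := Subsingleton.elim _ _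
        simp only [Functor.const_obj_obj, Functor.const_obj_map, Category.comp_id]
        rw [← this]
        rfl }

section Desc
variable {S} (c' : Cocone (diag S))

/-- the index `1` -/
def oneIdx : LocIdx S := ⟨1, S.one_mem⟩

/-- legs of a cocone, with explicit types -/
noncomputable def leg (s : LocIdx S) : Localization.Away s.val →+* c'.pt := (c'.ι.app s).hom

theorem leg_trans {s t : LocIdx S} (h : s ≤ t) :
    (leg c' t).comp (trans h).toRingHom = leg c' s := by
  have hnat := c'.w (homOfLE h)
  have := congrArg (fun f => f.hom) hnat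
  exact this

/-- structure map of a cocone point -/
noncomputable def baseHom : A →+* c'.pt :=
  (leg c' oneIdx).comp (algebraMap A (Localization.Away (1 : A)))

theorem baseHom_eq (s : LocIdx S) :
    (leg c' s).comp (algebraMap A (Localization.Away s.val)) = baseHom c' := by
  have h1 : (oneIdx : LocIdx S) ≤ s := one_dvd _
  unfold baseHom
  rw [← leg_trans c' h1, RingHom.comp_assoc]
  congr 1
  ext a
  exact ((trans h1).commutes a).symm

theorem isUnit_baseHom (s : S) : IsUnit (baseHom c' s) := by
  let s' : LocIdx S := ⟨s.1, s.2⟩
  rw [← baseHom_eq c' s']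
  change IsUnit ((leg c' s') (algebraMap A (Localization.Away s'.val) s'.val))
  exact (IsLocalization.Away.algebraMap_isUnit s'.val).map _

/-- the descent map -/
noncomputable def descHom : B →+* c'.pt :=
  IsLocalization.lift (M := S) (g := baseHom c') (isUnit_baseHom c')

theorem descHom_comp_toLoc (s : LocIdx S) :
    (descHom B c').comp (toLoc S B s).toRingHom = leg c' s := by
  apply IsLocalization.ringHom_ext (Submonoid.powers s.val)
  rw [RingHom.comp_assoc, baseHom_eq]
  ext a
  change (descHom B c') (toLoc S B s (algebraMap A _ a)) = _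
  rw [(toLoc S B s).commutes]
  exact IsLocalization.lift_eq _ _

theorem descHom_uniq (m' : B →+* c'.pt)
    (hm : m'.comp (toLoc S B oneIdx).toRingHom = leg c' oneIdx) : m' = descHom B c' := by
  apply IsLocalization.ringHom_ext S
  unfold descHom
  rw [IsLocalization.lift_comp]
  unfold baseHom
  rw [← hm]
  ext a
  change m' (algebraMap A B a) = m' (toLoc S B oneIdx (algebraMap A _ a))
  rw [(toLoc S B oneIdx).commutes]

end Desc

/-- `S⁻¹A` is the filtered colimit of the `A_s`, `s ∈ S`. -/
noncomputable def isColimitCocone : IsColimit (cocone S B) where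
  desc c' := CommRingCat.ofHom (descHom B c')
  fac c' s := by
    ext x
    exact congrArg (fun f => f x) (descHom_comp_toLoc B c' s)
  uniq c' m hm := by
    have key : m.hom = descHom B c' :=
      descHom_uniq (S := S) B c' m.hom (congrArg (fun f => f.hom) (hm oneIdx))
    ext x
    exact congrArg (fun f => f x) key


open Groth.Agent.Lib.Helper36.IndEt in
/-- Étale algebras over a localization `S⁻¹A` descend to some `A_s`, `s ∈ S`. -/
theorem exists_etale_descent (C : Type u) [CommRing C] [Algebra B C] [Algebra.Etale B C] :
    ∃ (s : LocIdx S) (T' : CommRingCat.{u})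
      (f' : CommRingCat.of (Localization.Away s.val) ⟶ T') (g : T' ⟶ CommRingCat.of C),
      IsPushout (CommRingCat.ofHom (toLoc S B s).toRingHom) f'
        (CommRingCat.ofHom (algebraMap B C)) g ∧ f'.hom.Etale := by
  have hf : etaleMP (CommRingCat.ofHom (algebraMap B C)) :=
    RingHom.etale_algebraMap.mpr inferInstance
  obtain ⟨j, T', f', g, hpo, hP⟩ :=
    MorphismProperty.PreIndSpreads.exists_isPushout (P := etaleMP.{u}) (isColimitCocone S B)
      (CommRingCat.ofHom (algebraMap B C)) hf
  exact ⟨j, T', f', g, hpo, hP⟩

end Groth.Agent.Lib.Helper36.LocColim
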