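import Mathlib
import Groth.Prelude.Def_PBC
import Groth.Agent.Lib.Helper36.LocColim

set_option autoImplicit false
set_option linter.style.haveILetI false
universe u

namespace Groth.Agent.Lib.Helper36.LocColim

open CategoryTheory CategoryTheory.Limits

variable {A : Type u} [CommRing A] (S : Submonoid A)
variable (B : Type u) [CommRing B] [Algebra A B] [IsLocalization S B]

/-- structure maps `A → A_s` as a natural transformation -/
noncomputable def structNat : (Functor.const (LocIdx S)).obj (CommRingCat.of A) ⟶ diag S where
  app s := CommRingCat.ofHom (algebraMap A (Localization.Away s.val))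
  naturality s t h := by
    simp only [Functor.const_obj_obj, Functor.const_obj_map, Category.id_comp]
    ext a
    exact ((trans (leOfHom h)).commutes a).symm

/-- Every localization is ind-Zariski. -/
theorem isIndZariski_of_isLocalization {A : Type u} [CommRing A] (S : Submonoid A)
    (B : Type u) [CommRing B] [Algebra A B] [IsLocalization S B] : EtPBC.IsIndZariski A B := by
  refine ⟨LocIdx S, inferInstance, inferInstance, Under.lift (diag S) (structNat S),
    Under.liftCocone (diag S) (structNat S) (cocone S B) (CommRingCat.ofHom (algebraMap A B))
      (fun s => ?_),
    Under.isColimitLiftCocone _ _ _ _ _ (isColimitCocone S B), fun s => ?_, ⟨Iso.refl _⟩⟩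
  · ext a
    exact (toLoc S B s).commutes a
  · have : (CommRingCat.ofHom (algebraMap A (Localization.Away s.val))).hom.toAlgebra =
        (inferInstance : Algebra A (Localization.Away s.val)) :=
      Algebra.algebra_ext _ _ (fun r => rfl)
    change @Algebra.IsLocalIso A (Localization.Away s.val) _ _
      (CommRingCat.ofHom (algebraMap A (Localization.Away s.val))).hom.toAlgebra
    rw [this]
    infer_instance

end Groth.Agent.Lib.Helper36.LocColim
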