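import Mathlib
import Groth.Prelude.Def_ProEtW
import Groth.Agent.Lib.Helper36.IndZarIdLoc
import Groth.Agent.Lib.Helper36.IndZarAlgRes
import Groth.Agent.Lib.Helper36.IndZarTop
import Groth.Agent.Lib.Helper36.IndZarForward
import Groth.Agent.Lib.Helper36.SigmaLocIdLoc
import Groth.Agent.Lib.Helper36.SpecMisc
import Groth.Agent.S0737
import Groth.Agent.S0698
import Groth.Agent.S0699

set_option autoImplicit false
set_option linter.unusedSectionVars false
universe u

namespace Groth.Agent.Lib.Helper36.IndZar

open Topology
open Groth.Agent.Lib.Helper36.SigmaLoc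

theorem hasIndZariskiRetractions_of_wLocal_extrDisc (A : Type u) [CommRing A]
    (hA : ProEtW.IsWLocal (PrimeSpectrum A))
    (hED : ExtremallyDisconnected (ConnectedComponents (PrimeSpectrum A))) :
    ProEtW.HasIndZariskiRetractions A := by
  intro B _ _ hff hind
  -- Step 1: the ideal of closed points
  set I := PrimeSpectrum.vanishingIdeal (ProEtW.closedPoints (PrimeSpectrum A)) with hI
  have hIrad : I.IsRadical := PrimeSpectrum.isRadical_vanishingIdeal _
  have hI0 : PrimeSpectrum.zeroLocus (I : Set A) = ProEtW.closedPoints (PrimeSpectrum A) := by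
    rw [hI, PrimeSpectrum.zeroLocus_vanishingIdeal_eq_closure]
    exact hA.2.1.closure_eq
  have hidAB := identifiesLocalRings_of_isIndZariski A B hind
  have halg := algebraicResidueExtensions_of_identifiesLocalRings A B hidAB
  obtain ⟨-, C, _, _, _, _, hBC, hbij, hC, hCA, hCcl⟩ :=
    Groth.Agent.S0737.result A B hA I hIrad hI0 halg
  have hidBC := identifiesLocalRings_of_isIndZariski B C hBC
  have hidAC : EtPBC.IdentifiesLocalRings A C := identifiesLocalRings_comp hidAB hidBC
  -- Step 4: surjectivity on π₀
  let fCA : PrimeSpectrum C → PrimeSpectrum A := PrimeSpectrum.comap (algebraMap A C)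
  have hfCA : Continuous fCA := PrimeSpectrum.continuous_comap _
  have hsurj0 : ∀ m : PrimeSpectrum A, IsClosed ({m} : Set (PrimeSpectrum A)) →
      ∃ c : PrimeSpectrum C, fCA c = m := by
    intro m hm
    obtain ⟨q, hq⟩ := PrimeSpectrum.comap_surjective_of_faithfullyFlat (A := A) (B := B) m
    have hmI : I ≤ m.asIdeal := by
      have : m ∈ PrimeSpectrum.zeroLocus (I : Set A) := by
        rw [hI0]
        exact hm
      exact this
    have hqI : I.map (algebraMap A B) ≤ q.asIdeal := by
      rw [Ideal.map_le_iff_le_comap]
      have : q.asIdeal.comap (algebraMap A B) = m.asIdeal := congrArg PrimeSpectrum.asIdeal hq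
      rw [this]
      exact hmI
    obtain ⟨c, hc⟩ := exists_comap_eq_of_bijective_quotientMap _ hbij q hqI
    refine ⟨c, ?_⟩
    change PrimeSpectrum.comap (algebraMap A C) c = m
    rw [IsScalarTower.algebraMap_eq A B C, PrimeSpectrum.comap_comp_apply, hc, hq]
  have hπsurj : Function.Surjective hfCA.connectedComponentsMap := by
    intro t
    obtain ⟨x, rfl⟩ := ConnectedComponents.surjective_coe t
    obtain ⟨m, hm, hxm⟩ := exists_closedPoint_mk_eq x
    obtain ⟨c, hc⟩ := hsurj0 m hm
    refine ⟨ConnectedComponents.mk c, ?_⟩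
    rw [Continuous.connectedComponentsMap_mk, hc, hxm]
  -- Step 5: a section
  have hT2A : T2Space (ConnectedComponents (PrimeSpectrum A)) :=
    FibProd.t2Space_connectedComponents (X := PrimeSpectrum A)
  have hT2C : T2Space (ConnectedComponents (PrimeSpectrum C)) :=
    FibProd.t2Space_connectedComponents (X := PrimeSpectrum C)
  obtain ⟨σ, hσ, hσid⟩ := (CompactT2.ExtremallyDisconnected.projective
    (A := ConnectedComponents (PrimeSpectrum A))) continuous_id
    hfCA.connectedComponentsMap_continuous hπsurj
  have hσid' : ∀ t, hfCA.connectedComponentsMap (σ t) = t := fun t => congrFun hσid t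
  -- Step 6: the closed set and the quotient
  have hZ : IsClosed (Set.range σ) := (isCompact_range hσ).isClosed
  obtain ⟨D, _, _, hCD, hCDsurj, hCDemb, hCDrange⟩ := Groth.Agent.S0698.result C (Set.range σ) hZ
  let : Algebra A D := ((algebraMap C D).comp (algebraMap A C)).toAlgebra
  have htower : IsScalarTower A C D := IsScalarTower.of_algebraMap_eq (fun _ => rfl)
  have hidCD := identifiesLocalRings_of_isIndZariski C D hCD
  have hidAD : EtPBC.IdentifiesLocalRings A D := identifiesLocalRings_comp hidAC hidCD
  have hclemb : IsClosedEmbedding (PrimeSpectrum.comap (algebraMap C D)) :=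
    PrimeSpectrum.isClosedEmbedding_comap_of_surjective D _ hCDsurj
  have hD : ProEtW.IsWLocal (PrimeSpectrum D) := isWLocal_of_isClosedEmbedding _ hclemb hC
  have hcomp : ∀ d : PrimeSpectrum D, PrimeSpectrum.comap (algebraMap A D) d =
      fCA (PrimeSpectrum.comap (algebraMap C D) d) := fun d => rfl
  have hDA : ProEtW.IsWLocalMap (PrimeSpectrum.comap (algebraMap A D)) := by
    refine ⟨isSpectralMap_comap _, ?_⟩
    intro d hd
    rw [hcomp]
    apply hCA.2
    have := hclemb.isClosedMap _ hd
    rwa [Set.image_singleton] at this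
  have hbijπ : Function.Bijective
      (PrimeSpectrum.continuous_comap (algebraMap A D)).connectedComponentsMap := by
    constructor
    · intro t t' htt'
      obtain ⟨d, rfl⟩ := ConnectedComponents.surjective_coe t
      obtain ⟨d', rfl⟩ := ConnectedComponents.surjective_coe t'
      rw [Continuous.connectedComponentsMap_mk, Continuous.connectedComponentsMap_mk,
        hcomp, hcomp] at htt'
      apply mk_eq_mk_of_embedding _ hCDemb (Set.range σ) hCDrange
      have hd : PrimeSpectrum.comap (algebraMap C D) d ∈ ConnectedComponents.mk ⁻¹' Set.range σ := by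
        rw [← hCDrange]
        exact ⟨d, rfl⟩
      have hd' : PrimeSpectrum.comap (algebraMap C D) d' ∈ ConnectedComponents.mk ⁻¹' Set.range σ := by
        rw [← hCDrange]
        exact ⟨d', rfl⟩
      obtain ⟨t, ht⟩ := hd
      obtain ⟨t', ht'⟩ := hd'
      have h1 : t = ConnectedComponents.mk (fCA (PrimeSpectrum.comap (algebraMap C D) d)) := by
        rw [← hσid' t, ht, Continuous.connectedComponentsMap_mk]
      have h2 : t' = ConnectedComponents.mk (fCA (PrimeSpectrum.comap (algebraMap C D) d')) := by
        rw [← hσid' t', ht', Continuous.connectedComponentsMap_mk]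
      rw [← ht, ← ht', h1, h2, htt']
    · intro t
      have : σ t ∈ Set.range σ := ⟨t, rfl⟩
      obtain ⟨c, hc⟩ := ConnectedComponents.surjective_coe (σ t)
      have hcr : c ∈ Set.range (PrimeSpectrum.comap (algebraMap C D)) := by
        rw [hCDrange, Set.mem_preimage, hc]
        exact this
      obtain ⟨d, rfl⟩ := hcr
      refine ⟨ConnectedComponents.mk d, ?_⟩
      rw [Continuous.connectedComponentsMap_mk, hcomp, ← Continuous.connectedComponentsMap_mk hfCA,
        hc, hσid']
  have hbijAD := Groth.Agent.S0699.result A D hidAD hA hD hDA hbijπ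
  let e : A ≃+* D := RingEquiv.ofBijective (algebraMap A D) hbijAD
  let r : B →+* A := e.symm.toRingHom.comp ((algebraMap C D).comp (algebraMap B C))
  refine ⟨{ toRingHom := r, commutes' := ?_ }⟩
  intro a
  change e.symm (algebraMap C D (algebraMap B C (algebraMap A B a))) = a
  rw [← IsScalarTower.algebraMap_apply A B C, ← IsScalarTower.algebraMap_apply A C D]
  exact e.symm_apply_apply a

end Groth.Agent.Lib.Helper36.IndZar
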