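import Mathlib
import Groth.Agent.Lib.Helper36.OlivierIdLoc
import Groth.Agent.Lib.Helper36.WLSquareMisc
import Groth.Agent.Lib.Helper36.WLSquareAlg
import Groth.Agent.S0700
import Groth.Agent.S0736
import Groth.Agent.S0737
import Groth.Agent.S0678
import Groth.Agent.S0675

/-!
# Characterisation of w-contractible rings (helper36)
-/

set_option autoImplicit false
set_option linter.style.haveILetI false
universe u

namespace Groth.Agent.Lib.Helper36.Olivier

open TensorProduct IsLocalRing Groth.Agent.Lib.Helper36.WE

/-- A flat algebra such that every maximal ideal of the base is the contraction of a prime is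
faithfully flat. -/
theorem faithfullyFlat_of_forall_maximal_exists_prime (A C : Type*) [CommRing A] [CommRing C]
    [Algebra A C] [Module.Flat A C]
    (h : ∀ m : Ideal A, m.IsMaximal → ∃ r : Ideal C, r.IsPrime ∧ r.comap (algebraMap A C) = m) :
    Module.FaithfullyFlat A C := by
  refine ⟨fun m hm => ?_⟩
  obtain ⟨r, hr, hrm⟩ := h m hm
  rw [Ideal.smul_top_eq_map]
  intro htop
  have h1 : m.map (algebraMap A C) ≤ r := by
    rw [Ideal.map_le_iff_le_comap, hrm]
  have h2 : (⊤ : Submodule A C) ≤ Submodule.restrictScalars A r := by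
    rw [← htop]
    exact h1
  have h3 : r = ⊤ := by
    rw [Ideal.eq_top_iff_one]
    exact h2 (Submodule.mem_top)
  exact hr.ne_top h3

/-- The hard direction of the characterisation of w-contractible rings. -/
theorem isWContractible_of_wLocal (A : Type u) [CommRing A]
    (hW : ProEtW.IsWLocal (PrimeSpectrum A))
    (hE : ExtremallyDisconnected (_root_.ConnectedComponents (PrimeSpectrum A)))
    (hS : ∀ (m : Ideal A) [m.IsMaximal],
      EtCoh.IsStrictlyHenselianLocalRing (Localization.AtPrime m)) :
    EtPBC.IsWContractible A := by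
  intro B _ _ hff hwe
  -- the ideal of closed points
  let I : Ideal A := PrimeSpectrum.vanishingIdeal (ProEtW.closedPoints (PrimeSpectrum A))
  have hI : I.IsRadical := PrimeSpectrum.isRadical_vanishingIdeal _
  have hI0 : PrimeSpectrum.zeroLocus (R := A) I = ProEtW.closedPoints (PrimeSpectrum A) := by
    rw [PrimeSpectrum.zeroLocus_vanishingIdeal_eq_closure]
    exact hW.2.1.closure_eq
  have halg : ProEtW.AlgebraicResidueExtensions A B :=
    Groth.Agent.Lib.Helper36.WLSquare.algebraicResidueExtensions_of_weaklyEtale A B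
  obtain ⟨-, C, _, _, _, tw, hzBC, hbij, hwC, hmap, hcl⟩ :=
    Groth.Agent.S0737.result A B hW I hI hI0 halg
  have hweBC : Algebra.WeaklyEtale B C := Groth.Agent.S0736.result B C
    (Groth.Agent.Lib.Helper36.WLSquare.isIndEtale_of_isIndZariski B C hzBC)
  have hweAC : Algebra.WeaklyEtale A C := Algebra.WeaklyEtale.trans A B C
  have hmax : ∀ n : Ideal C, n.IsMaximal → (n.comap (algebraMap A C)).IsMaximal := by
    intro n hn
    have h1 : IsClosed ({⟨n, hn.isPrime⟩} : Set (PrimeSpectrum C)) :=
      (PrimeSpectrum.isClosed_singleton_iff_isMaximal _).mpr hn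
    have h2 := hmap.2 _ h1
    exact (PrimeSpectrum.isClosed_singleton_iff_isMaximal _).mp h2
  have hid : EtPBC.IdentifiesLocalRings A C := identifiesLocalRings_of_weaklyEtale A C hmax hS
  have hzAC : EtPBC.IsIndZariski A C := Groth.Agent.S0700.result A C hid hW hwC hmap
  -- faithful flatness
  have hffAC : Module.FaithfullyFlat A C := by
    apply faithfullyFlat_of_forall_maximal_exists_prime
    intro m hm
    -- a prime of `B` over `m`
    obtain ⟨q, hq, hqm⟩ : ∃ q : Ideal B, q.IsPrime ∧ q.comap (algebraMap A B) = m := by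
      obtain ⟨q, hq⟩ := PrimeSpectrum.comap_surjective_of_faithfullyFlat (A := A) (B := B)
        ⟨m, hm.isPrime⟩
      exact ⟨q.asIdeal, q.2, congrArg PrimeSpectrum.asIdeal hq⟩
    let IB : Ideal B := I.map (algebraMap A B)
    let IC : Ideal C := IB.map (algebraMap B C)
    have hIm : I ≤ m := by
      have h1 : (⟨m, hm.isPrime⟩ : PrimeSpectrum A) ∈ ProEtW.closedPoints (PrimeSpectrum A) :=
        (PrimeSpectrum.isClosed_singleton_iff_isMaximal _).mpr hm
      rw [← hI0] at h1
      exact h1
    have hIBq : IB ≤ q := by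
      rw [Ideal.map_le_iff_le_comap, hqm]
      exact hIm
    let e : B ⧸ IB ≃+* C ⧸ IC := RingEquiv.ofBijective _ hbij
    let qbar : Ideal (B ⧸ IB) := q.map (Ideal.Quotient.mk IB)
    haveI hqbar : qbar.IsPrime := by
      apply Ideal.map_isPrime_of_surjective Ideal.Quotient.mk_surjective
      rw [Ideal.mk_ker]
      exact hIBq
    let r : Ideal C := (qbar.comap e.symm.toRingHom).comap (Ideal.Quotient.mk IC)
    refine ⟨r, inferInstance, ?_⟩
    have hrB : r.comap (algebraMap B C) = q := by
      ext b
      change e.symm (Ideal.Quotient.mk IC (algebraMap B C b)) ∈ qbar ↔ b ∈ q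
      have h1 : Ideal.Quotient.mk IC (algebraMap B C b) = e (Ideal.Quotient.mk IB b) := rfl
      rw [h1, RingEquiv.symm_apply_apply]
      constructor
      · intro hb
        have := Ideal.mem_comap.mpr hb
        rwa [Ideal.comap_map_of_surjective _ Ideal.Quotient.mk_surjective,
          ← RingHom.ker_eq_comap_bot, Ideal.mk_ker, sup_eq_left.mpr hIBq] at this
      · intro hb
        exact Ideal.mem_map_of_mem _ hb
    rw [IsScalarTower.algebraMap_eq A B C, ← Ideal.comap_comap, hrB, hqm]
  have hret : ProEtW.HasIndZariskiRetractions A := (Groth.Agent.S0678.result A).mpr ⟨hW, hE⟩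
  obtain ⟨σ⟩ := hret C hffAC hzAC
  exact ⟨σ.comp (IsScalarTower.toAlgHom A B C)⟩

/-- Characterisation of w-contractible rings. -/
theorem isWContractible_iff (A : Type u) [CommRing A] :
    EtPBC.IsWContractible A ↔
      (ProEtW.IsWLocal (PrimeSpectrum A) ∧
        ExtremallyDisconnected (_root_.ConnectedComponents (PrimeSpectrum A)) ∧
        ∀ (m : Ideal A) [m.IsMaximal],
          EtCoh.IsStrictlyHenselianLocalRing (Localization.AtPrime m)) := by
  constructor
  · intro h
    have hz : ProEtW.HasIndZariskiRetractions A := by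
      intro B _ _ hff hind
      exact h B hff (Groth.Agent.S0736.result A B
        (Groth.Agent.Lib.Helper36.WLSquare.isIndEtale_of_isIndZariski A B hind))
    have he : ProEtW.HasEtaleRetractions A := by
      intro B _ _ hff het
      exact h B hff inferInstance
    obtain ⟨h1, h2⟩ := (Groth.Agent.S0678.result A).mp hz
    exact ⟨h1, h2, fun m _ => Groth.Agent.S0675.result A he m⟩
  · rintro ⟨h1, h2, h3⟩
    exact isWContractible_of_wLocal A h1 h2 h3

end Groth.Agent.Lib.Helper36.Olivier
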