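import Mathlib
import Groth.Agent.Lib.Helper36.OlivierWC
import Groth.Agent.Lib.Helper36.WLSquareMain
import Groth.Agent.Lib.Helper36.SigmaLocED
import Groth.Agent.Lib.Helper36.FibProd3
import Groth.Agent.Lib.Helper36.SpecMisc
import Groth.Agent.Lib.Helper36.IndZarIdLoc
import Groth.Agent.S0697

/-!
# Existence of w-contractible covers (helper36)
-/

set_option autoImplicit false
set_option linter.style.haveILetI false
universe u

namespace Groth.Agent.Lib.Helper36.Olivier

open TensorProduct IsLocalRing Topology Groth.Agent.Lib.Helper36.WE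

/-- Base change of a w-local ring along a profinite space over `π₀`. -/
theorem exists_indZariski_wLocal_over_profinite (C : Type u) [CommRing C]
    (hC : ProEtW.IsWLocal (PrimeSpectrum C))
    (T : Type u) [TopologicalSpace T] [CompactSpace T] [T2Space T] [TotallyDisconnectedSpace T]
    (g : C(T, _root_.ConnectedComponents (PrimeSpectrum C))) :
    ∃ (D : Type u) (_ : CommRing D) (_ : Algebra C D), EtPBC.IsIndZariski C D ∧
      ProEtW.IsWLocal (PrimeSpectrum D) ∧
      ProEtW.IsWLocalMap (PrimeSpectrum.comap (algebraMap C D)) ∧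
      Nonempty (_root_.ConnectedComponents (PrimeSpectrum D) ≃ₜ T) ∧
      (Function.Surjective g → Function.Surjective (PrimeSpectrum.comap (algebraMap C D))) := by
  obtain ⟨D, _, _, e, hind, hcompat, hemb, hrange⟩ := Groth.Agent.S0697.result C T g
  refine ⟨D, inferInstance, inferInstance, hind, ?_, ?_, ⟨e⟩, ?_⟩
  · -- w-local
    let j : PrimeSpectrum D → PrimeSpectrum C × T := fun y =>
      (PrimeSpectrum.comap (algebraMap C D) y, e (_root_.ConnectedComponents.mk y))
    let h : PrimeSpectrum D ≃ₜ FibProd.Y g :=
      (hemb.toHomeomorph).trans (Homeomorph.setCongr hrange)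
    have hY := FibProd.isWLocal_Y g hC
    exact SigmaLoc.isWLocal_of_homeomorph h.symm hY.2.1 hY.2.2
  · refine ⟨SigmaLoc.isSpectralMap_comap _, fun y hy => ?_⟩
    let h : PrimeSpectrum D ≃ₜ FibProd.Y g :=
      (hemb.toHomeomorph).trans (Homeomorph.setCongr hrange)
    have h1 : IsClosed ({h y} : Set (FibProd.Y g)) := by
      rw [← Set.image_singleton, h.isClosed_image]
      exact hy
    exact (FibProd.isClosed_singleton_iff_Y g (h y)).mp h1
  · intro hg x
    obtain ⟨t, ht⟩ := hg (_root_.ConnectedComponents.mk x)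
    have hmem : (x, t) ∈ {p : PrimeSpectrum C × T | _root_.ConnectedComponents.mk p.1 = g p.2} :=
      ht.symm
    rw [← hrange] at hmem
    obtain ⟨y, hy⟩ := hmem
    exact ⟨y, congrArg Prod.fst hy⟩

/-- Every ring has a faithfully flat ind-étale w-contractible algebra. -/
theorem exists_wContractible_cover (A : Type u) [CommRing A] :
    ∃ (D : Type u) (_ : CommRing D) (_ : Algebra A D),
      Module.FaithfullyFlat A D ∧ EtPBC.IsIndEtale A D ∧ EtPBC.IsWContractible D := by
  -- Step 1: a w-local cover with strictly henselian local rings at closed points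
  have hid : ProEtW.AlgebraicResidueExtensions A A :=
    Groth.Agent.Lib.Helper36.WLSquare.algebraicResidueExtensions_of_weaklyEtale A A
  obtain ⟨C, -, _, -, _, -, -, -, -, -, hffAC, hindAC, -, -, hwC, -, -, -, -, -, hsh⟩ :=
    Groth.Agent.Lib.Helper36.WLSquare.main A A hid
  -- Step 2: an extremally disconnected cover of `π₀`
  haveI := hwC.1
  haveI : T2Space (_root_.ConnectedComponents (PrimeSpectrum C)) :=
    FibProd.t2Space_connectedComponents
  let P := _root_.ConnectedComponents (PrimeSpectrum C)
  let T := StoneCech (SigmaLoc.Disc P)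
  let g₀ : T → P :=
    stoneCechExtend (g := (SigmaLoc.Disc.val : SigmaLoc.Disc P → P)) continuous_of_discreteTopology
  have hg₀ : Continuous g₀ := continuous_stoneCechExtend _
  have hg₀s : Function.Surjective g₀ := fun c =>
    ⟨stoneCechUnit ⟨c⟩, stoneCechExtend_stoneCechUnit _ _⟩
  haveI : ExtremallyDisconnected T :=
    CompactT2.Projective.extremallyDisconnected StoneCech.projective
  let g : C(T, P) := ⟨g₀, hg₀⟩
  obtain ⟨D, _, _, hindCD, hwD, hmap, ⟨e⟩, hsurj⟩ :=
    exists_indZariski_wLocal_over_profinite C hwC T g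
  have hsurj' := hsurj hg₀s
  -- Step 3: `D` is w-contractible
  have hED : ExtremallyDisconnected (_root_.ConnectedComponents (PrimeSpectrum D)) :=
    extremallyDisconnected_of_homeo e.symm
  have hidCD : EtPBC.IdentifiesLocalRings C D :=
    Groth.Agent.Lib.Helper36.IndZar.identifiesLocalRings_of_isIndZariski C D hindCD
  have hshD : ∀ (n : Ideal D) [n.IsMaximal],
      EtCoh.IsStrictlyHenselianLocalRing (Localization.AtPrime n) := by
    intro n hn
    have h1 : IsClosed ({⟨n, hn.isPrime⟩} : Set (PrimeSpectrum D)) :=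
      (PrimeSpectrum.isClosed_singleton_iff_isMaximal _).mpr hn
    have h2 := hmap.2 _ h1
    haveI hm : (n.comap (algebraMap C D)).IsMaximal :=
      (PrimeSpectrum.isClosed_singleton_iff_isMaximal _).mp h2
    have hbij := hidCD ⟨n, hn.isPrime⟩
    exact Groth.Agent.Lib.Helper36.WLSquare.isStrictlyHenselianLocalRing_of_ringEquiv
      (hsh (n.comap (algebraMap C D))) (RingEquiv.ofBijective _ hbij)
  have hWC : EtPBC.IsWContractible D := isWContractible_of_wLocal D hwD hED hshD
  -- Step 4: `A → D` is faithfully flat and ind-étale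
  have hindCD' : EtPBC.IsIndEtale C D :=
    Groth.Agent.Lib.Helper36.WLSquare.isIndEtale_of_isIndZariski C D hindCD
  haveI hweCD : Algebra.WeaklyEtale C D := Groth.Agent.S0736.result C D hindCD'
  haveI hffCD : Module.FaithfullyFlat C D := Module.FaithfullyFlat.of_comap_surjective hsurj'
  letI algAD : Algebra A D := ((algebraMap C D).comp (algebraMap A C)).toAlgebra
  haveI tower : IsScalarTower A C D := IsScalarTower.of_algebraMap_eq (fun _ => rfl)
  exact ⟨D, inferInstance, algAD, Module.FaithfullyFlat.trans A C D,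
    Groth.Agent.Lib.Helper36.IndEt.isIndEtale_trans A C D hindAC hindCD', hWC⟩

end Groth.Agent.Lib.Helper36.Olivier
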