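import Mathlib
import Groth.Agent.Lib.Helper36.ProEtSite
import Groth.Agent.Lib.Helper36.OlivierCover
import Groth.Agent.S0736

set_option autoImplicit false
set_option linter.style.haveILetI false
universe u

open CategoryTheory AlgebraicGeometry Limits Opposite

namespace Groth.Agent.Lib.Helper36.ProEtSite

variable {X : Scheme.{u}}

/-- w-contractibility is invariant under ring isomorphisms -/
theorem isWContractible_of_ringEquiv {A A' : Type u} [CommRing A] [CommRing A'] (e : A ≃+* A')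
    (h : EtPBC.IsWContractible A) : EtPBC.IsWContractible A' := by
  intro B _ _ hff hwe
  letI : Algebra A A' := e.toRingHom.toAlgebra
  letI : Algebra A B := ((algebraMap A' B).comp e.toRingHom).toAlgebra
  haveI : IsScalarTower A A' B := IsScalarTower.of_algebraMap_eq (fun _ => rfl)
  let e' : A ≃ₐ[A] A' := AlgEquiv.ofBijective (Algebra.ofId A A') e.bijective
  haveI : Algebra.Etale A A' := Algebra.Etale.of_equiv e'
  haveI : Module.FaithfullyFlat A A' := Module.FaithfullyFlat.of_linearEquiv A A e'.symm.toLinearEquiv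
  haveI : Module.FaithfullyFlat A B := Module.FaithfullyFlat.trans A A' B
  haveI : Algebra.WeaklyEtale A B := Algebra.WeaklyEtale.trans A A' B
  obtain ⟨ρ⟩ := h B inferInstance inferInstance
  refine ⟨{ (e.toRingHom.comp ρ.toRingHom) with commutes' := ?_ }⟩
  intro a'
  change e (ρ (algebraMap A' B a')) = a'
  have h1 : algebraMap A' B a' = algebraMap A B (e.symm a') := by
    change _ = algebraMap A' B (e (e.symm a'))
    rw [e.apply_symm_apply]
  rw [h1, ρ.commutes]
  exact e.apply_symm_apply a'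

/-- Every object of the small pro-étale site is covered by affines with w-contractible rings. -/
theorem exists_cover_by_affine_wContractible (U : X.ProEt) :
    ∃ (ι : Type u) (V : ι → X.ProEt) (g : ∀ i, V i ⟶ U),
      Sieve.generate (Presieve.ofArrows V g) ∈ Scheme.ProEt.topology X U ∧
        ∀ i, IsAffine (V i).left ∧ EtPBC.IsWContractible ↥(Γ((V i).left, ⊤)) := by
  let 𝒰 : U.left.OpenCover := U.left.affineCover
  have hD : ∀ x : 𝒰.I₀, ∃ (D : Type u) (_ : CommRing D) (_ : Algebra ↥(Γ(𝒰.X x, ⊤)) D),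
      Module.FaithfullyFlat ↥(Γ(𝒰.X x, ⊤)) D ∧ Algebra.WeaklyEtale ↥(Γ(𝒰.X x, ⊤)) D ∧
        EtPBC.IsWContractible D := by
    intro x
    obtain ⟨D, _, _, h1, h2, h3⟩ :=
      Groth.Agent.Lib.Helper36.Olivier.exists_wContractible_cover ↥(Γ(𝒰.X x, ⊤))
    exact ⟨D, _, _, h1, Groth.Agent.S0736.result _ D h2, h3⟩
  choose D hDr hDa hff hwe hwc using hD
  haveI : ∀ x, IsAffine (𝒰.X x) := fun x => inferInstanceAs (IsAffine (U.left.affineCover.X x))
  let r : ∀ x : 𝒰.I₀, Spec (.of (D x)) ⟶ 𝒰.X x := fun x =>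
    Spec.map (CommRingCat.ofHom (algebraMap ↥(Γ(𝒰.X x, ⊤)) (D x))) ≫ (𝒰.X x).isoSpec.inv
  haveI hr1 : ∀ x, WeaklyEtale (r x) := fun x => by
    haveI := weaklyEtale_SpecMap_algebraMap ↥(Γ(𝒰.X x, ⊤)) (D x)
    exact inferInstanceAs (WeaklyEtale (Spec.map _ ≫ (𝒰.X x).isoSpec.inv))
  haveI hr2 : ∀ x, Surjective (r x) := fun x => by
    haveI := surjective_SpecMap_algebraMap ↥(Γ(𝒰.X x, ⊤)) (D x)
    exact inferInstanceAs (Surjective (Spec.map _ ≫ (𝒰.X x).isoSpec.inv))
  let f : ∀ x : 𝒰.I₀, Spec (.of (D x)) ⟶ U.left := fun x => r x ≫ 𝒰.f x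
  haveI hf : ∀ x, WeaklyEtale (f x) := fun x =>
    inferInstanceAs (WeaklyEtale (r x ≫ 𝒰.f x))
  refine ⟨𝒰.I₀, fun x => objOver U (f x), fun x => homOver U (f x), ?_, ?_⟩
  · apply generate_ofArrows_mem_topology U (fun x => Spec (.of (D x))) f
    refine ⟨?_, ?_⟩
    · -- quasi-compactness
      let E : PreZeroHypercover.{u} U.left := ⟨𝒰.I₀, fun x => Spec (.of (D x)), f⟩
      change E.presieve₀ ∈ Scheme.qcPrecoverage U.left
      rw [Scheme.presieve₀_mem_qcPrecoverage_iff]
      let F : ∀ x : 𝒰.I₀, PreZeroHypercover.{u} (𝒰.X x) := fun x =>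
        PreZeroHypercover.singleton (r x)
      haveI : ∀ x, QuasiCompactCover (F x) := fun x =>
        inferInstanceAs (QuasiCompactCover (PreZeroHypercover.singleton (r x)))
      haveI : QuasiCompactCover (𝒰.toPreZeroHypercover.bind F) := inferInstance
      exact QuasiCompactCover.of_hom (𝒱 := 𝒰.toPreZeroHypercover.bind F)
        { s₀ := fun p => p.1
          h₀ := fun p => 𝟙 _
          w₀ := fun p => (Category.id_comp _).trans rfl }
    · rw [Scheme.ofArrows_mem_precoverage_iff]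
      refine ⟨?_, fun x => hf x⟩
      intro y
      obtain ⟨z, hz⟩ := 𝒰.covers y
      obtain ⟨w, hw⟩ := (hr2 (𝒰.idx y)).surj z
      refine ⟨𝒰.idx y, w, ?_⟩
      rw [Scheme.Hom.comp_apply, hw, hz]
  · intro x
    refine ⟨inferInstanceAs (IsAffine (Spec (.of (D x)))), ?_⟩
    exact isWContractible_of_ringEquiv (Scheme.ΓSpecIso (.of (D x))).commRingCatIsoToRingEquiv.symm
      (hwc x)

end Groth.Agent.Lib.Helper36.ProEtSite
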