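import Mathlib
import Groth.Agent.Lib.Helper36.ProEtWC
import Groth.Agent.Lib.Helper36.ProEtCover

/-!
# Weakly contractible covers in the small pro-étale site (helper36)
-/

set_option autoImplicit false
set_option linter.style.haveILetI false
universe u

open CategoryTheory AlgebraicGeometry Limits Opposite

namespace Groth.Agent.Lib.Helper36.ProEtSite

variable {X : Scheme.{u}}

/-- an affine scheme has a surjective weakly étale cover by the spectrum of a w-contractible ring,
such that the singleton is a quasi-compact cover -/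
theorem exists_wContractible_cover_of_isAffine (Y : Scheme.{u}) [IsAffine Y] :
    ∃ (D : Type u) (_ : CommRing D) (r : Spec (.of D) ⟶ Y), WeaklyEtale r ∧ Surjective r ∧
      EtPBC.IsWContractible D := by
  obtain ⟨D, _, _, h1, h2, h3⟩ :=
    Groth.Agent.Lib.Helper36.Olivier.exists_wContractible_cover ↥(Γ(Y, ⊤))
  haveI : Algebra.WeaklyEtale ↥(Γ(Y, ⊤)) D := Groth.Agent.S0736.result _ D h2
  haveI := weaklyEtale_SpecMap_algebraMap ↥(Γ(Y, ⊤)) D
  haveI := surjective_SpecMap_algebraMap ↥(Γ(Y, ⊤)) D
  exact ⟨D, _, Spec.map (CommRingCat.ofHom (algebraMap ↥(Γ(Y, ⊤)) D)) ≫ Y.isoSpec.inv,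
    inferInstance, inferInstance, h3⟩

/-- the spectrum of a w-contractible ring, as an object of the pro-étale site, is weakly
contractible -/
theorem isWC_objOver_Spec (U : X.ProEt) (D : Type u) [CommRing D] (f : Spec (.of D) ⟶ U.left)
    [WeaklyEtale f] (hD : EtPBC.IsWContractible D) : ProEtS.IsWC (objOver U f) := by
  haveI : IsAffine (objOver U f).left := inferInstanceAs (IsAffine (Spec (.of D)))
  apply isWC_of_isWContractible
  exact isWContractible_of_ringEquiv (Scheme.ΓSpecIso (.of D)).commRingCatIsoToRingEquiv.symm hD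

/-- A quasi-compact object of the small pro-étale site is covered by a single affine weakly
contractible object. -/
theorem exists_cover_affine_weaklyContractible (U : X.ProEt) [CompactSpace ↥U.left] :
    ∃ (V : X.ProEt) (g : V ⟶ U),
      Sieve.generate (Presieve.singleton g) ∈ Scheme.ProEt.topology X U ∧ IsAffine V.left ∧
        ProEtS.IsWC V := by
  let 𝒰 : U.left.OpenCover := U.left.affineCover.finiteSubcover
  haveI : Finite 𝒰.I₀ := inferInstanceAs (Finite U.left.affineCover.finiteSubcover.I₀)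
  haveI : ∀ i, IsAffine (𝒰.X i) := fun i =>
    inferInstanceAs (IsAffine (U.left.affineCover.finiteSubcover.X i))
  let Y : Scheme.{u} := ∐ 𝒰.X
  let p : Y ⟶ U.left := Sigma.desc 𝒰.f
  haveI : IsAffine Y := inferInstanceAs (IsAffine (∐ 𝒰.X))
  haveI hp : WeaklyEtale p := IsZariskiLocalAtSource.sigmaDesc (fun i => inferInstance)
  obtain ⟨D, _, r, hr1, hr2, hD⟩ := exists_wContractible_cover_of_isAffine Y
  let f : Spec (.of D) ⟶ U.left := r ≫ p
  haveI : WeaklyEtale f := inferInstanceAs (WeaklyEtale (r ≫ p))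
  refine ⟨objOver U f, homOver U f, ?_, inferInstanceAs (IsAffine (Spec (.of D))),
    isWC_objOver_Spec U D f hD⟩
  apply generate_singleton_mem_topology U f
  refine ⟨?_, ?_⟩
  · -- quasi-compactness
    rw [← PreZeroHypercover.presieve₀_singleton.{_, _, 0}, Scheme.presieve₀_mem_qcPrecoverage_iff]
    haveI h1 : QuasiCompactCover (PreZeroHypercover.singleton.{0} p) :=
      QuasiCompactCover.of_hom (𝒱 := 𝒰.toPreZeroHypercover)
        { s₀ := fun _ => PUnit.unit
          h₀ := fun i => Sigma.ι 𝒰.X i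
          w₀ := fun i => Sigma.ι_desc 𝒰.f i }
    let F : ∀ x : (PreZeroHypercover.singleton.{0} p).I₀,
        PreZeroHypercover.{0} ((PreZeroHypercover.singleton.{0} p).X x) :=
      fun _ => PreZeroHypercover.singleton.{0} r
    haveI h2 : ∀ x, QuasiCompactCover (F x) := fun _ =>
      inferInstanceAs (QuasiCompactCover (PreZeroHypercover.singleton r))
    exact QuasiCompactCover.of_hom
      (𝒱 := (PreZeroHypercover.singleton.{0} p).bind F)
      { s₀ := fun _ => PUnit.unit
        h₀ := fun _ => 𝟙 _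
        w₀ := fun _ => (Category.id_comp _).trans rfl }
  · rw [Scheme.singleton_mem_precoverage_iff]
    refine ⟨?_, inferInstance⟩
    intro y
    obtain ⟨z, hz⟩ := 𝒰.covers y
    obtain ⟨w, hw⟩ := hr2.surj (Sigma.ι 𝒰.X (𝒰.idx y) z)
    refine ⟨w, ?_⟩
    rw [Scheme.Hom.comp_apply, hw, ← Scheme.Hom.comp_apply, Sigma.ι_desc, hz]

/-- a covering family of spectra of w-contractible rings -/
theorem exists_affine_wContractible_family (U : X.ProEt) :
    ∃ (ι : Type u) (D : ι → Type u) (_ : ∀ i, CommRing (D i))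
      (f : ∀ i, Spec (.of (D i)) ⟶ U.left) (_ : ∀ i, WeaklyEtale (f i)),
      Presieve.ofArrows (fun i => Spec (.of (D i))) f ∈ Scheme.proetalePrecoverage U.left ∧
      ∀ i, EtPBC.IsWContractible (D i) := by
  let 𝒰 : U.left.OpenCover := U.left.affineCover
  haveI : ∀ x, IsAffine (𝒰.X x) := fun x => inferInstanceAs (IsAffine (U.left.affineCover.X x))
  choose D hDr r hr1 hr2 hwc using fun x => exists_wContractible_cover_of_isAffine (𝒰.X x)
  let f : ∀ x : 𝒰.I₀, Spec (.of (D x)) ⟶ U.left := fun x => r x ≫ 𝒰.f x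
  haveI hf : ∀ x, WeaklyEtale (f x) := fun x => by
    haveI := hr1 x
    exact inferInstanceAs (WeaklyEtale (r x ≫ 𝒰.f x))
  refine ⟨𝒰.I₀, D, hDr, f, hf, ⟨?_, ?_⟩, hwc⟩
  · let E : PreZeroHypercover.{u} U.left := ⟨𝒰.I₀, fun x => Spec (.of (D x)), f⟩
    change E.presieve₀ ∈ Scheme.qcPrecoverage U.left
    rw [Scheme.presieve₀_mem_qcPrecoverage_iff]
    let F : ∀ x : 𝒰.I₀, PreZeroHypercover.{u} (𝒰.X x) := fun x =>
      PreZeroHypercover.singleton (r x)
    haveI : ∀ x, QuasiCompactCover (F x) := fun x => by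
      haveI := hr1 x
      haveI := hr2 x
      exact inferInstanceAs (QuasiCompactCover (PreZeroHypercover.singleton (r x)))
    haveI : QuasiCompactCover (𝒰.toPreZeroHypercover.bind F) := inferInstance
    exact QuasiCompactCover.of_hom (𝒱 := 𝒰.toPreZeroHypercover.bind F)
      { s₀ := fun p => p.1
        h₀ := fun p => 𝟙 _
        w₀ := fun p => (Category.id_comp _).trans rfl }
  · rw [Scheme.ofArrows_mem_precoverage_iff]
    refine ⟨?_, fun x => hf x⟩
    intro y
    obtain ⟨z, hz⟩ := 𝒰.covers y
    obtain ⟨w, hw⟩ := (hr2 (𝒰.idx y)).surj z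
    refine ⟨𝒰.idx y, w, ?_⟩
    rw [Scheme.Hom.comp_apply, hw, hz]

/-- weak contractibility of an object only depends on the underlying scheme up to isomorphism:
version for an open subscheme isomorphic to the spectrum of a w-contractible ring -/
theorem isWC_objOver_of_iso (V : X.ProEt) {T : Scheme.{u}} (j : T ⟶ V.left) [WeaklyEtale j]
    (D : Type u) [CommRing D] (e : Spec (.of D) ≅ T) (hD : EtPBC.IsWContractible D) :
    ProEtS.IsWC (objOver V j) := by
  haveI : IsAffine T := IsAffine.of_isIso e.inv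
  haveI : IsAffine (objOver V j).left := inferInstanceAs (IsAffine T)
  apply isWC_of_isWContractible
  change EtPBC.IsWContractible ↥(Γ(T, ⊤))
  have e1 : ↥(Γ(T, ⊤)) ≃+* ↥(Γ(Spec (.of D), ⊤)) :=
    (Scheme.Γ.mapIso e.op).commRingCatIsoToRingEquiv
  have e2 : ↥(Γ(Spec (.of D), ⊤)) ≃+* D := (Scheme.ΓSpecIso (.of D)).commRingCatIsoToRingEquiv
  exact isWContractible_of_ringEquiv (e1.trans e2).symm hD

/-- Every object of the small pro-étale site is covered by a single weakly contractible object. -/
theorem exists_cover_weaklyContractible (U : X.ProEt) :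
    ∃ (V : X.ProEt) (g : V ⟶ U),
      Sieve.generate (Presieve.singleton g) ∈ Scheme.ProEt.topology X U ∧ ProEtS.IsWC V := by
  obtain ⟨ι, D, _, f, _, hmem, hwc⟩ := exists_affine_wContractible_family U
  let T : ι → Scheme.{u} := fun i => Spec (.of (D i))
  let f₀ : (∐ T) ⟶ U.left := Sigma.desc f
  haveI : WeaklyEtale f₀ := IsZariskiLocalAtSource.sigmaDesc (fun i => inferInstance)
  refine ⟨objOver U f₀, homOver U f₀, ?_, ?_⟩
  · apply generate_singleton_mem_topology U f₀
    refine ⟨?_, ?_⟩
    · rw [← PreZeroHypercover.presieve₀_singleton.{_, _, 0},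
        Scheme.presieve₀_mem_qcPrecoverage_iff]
      let E : PreZeroHypercover.{u} U.left := ⟨ι, T, f⟩
      haveI : QuasiCompactCover E := Scheme.presieve₀_mem_qcPrecoverage_iff.mp hmem.1
      exact QuasiCompactCover.of_hom (𝒱 := E)
        { s₀ := fun _ => PUnit.unit
          h₀ := fun i => Sigma.ι T i
          w₀ := fun i => Sigma.ι_desc f i }
    · rw [Scheme.singleton_mem_precoverage_iff]
      refine ⟨?_, inferInstance⟩
      intro y
      obtain ⟨i, z, hz⟩ := ((Scheme.ofArrows_mem_precoverage_iff _).mp hmem.2).1 y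
      refine ⟨Sigma.ι T i z, ?_⟩
      rw [← Scheme.Hom.comp_apply, Sigma.ι_desc, hz]
  · intro F G φ hφ s
    let V := objOver U f₀
    let W : ι → V.left.Opens := fun i => (Sigma.ι T i).opensRange
    have hdisj : Pairwise (fun k l => Disjoint (W k : Set ↥V.left) (W l)) := by
      intro k l hkl
      have := disjoint_opensRange_sigmaι T k l hkl
      change Disjoint _ _
      rw [Set.disjoint_iff]
      rintro y ⟨hy1, hy2⟩
      exact (this.le_bot (show y ∈ (Sigma.ι T k).opensRange ⊓ (Sigma.ι T l).opensRange from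
        ⟨hy1, hy2⟩)).elim
    have hcov : (⋃ k, (W k : Set ↥V.left)) = Set.univ := by
      rw [Set.eq_univ_iff_forall]
      intro y
      exact Set.mem_iUnion.mpr ⟨(sigmaOpenCover T).idx y, (sigmaOpenCover T).covers y⟩
    apply exists_lift_of_partition φ V W hdisj hcov s
    intro k
    have hk : ProEtS.IsWC (objOver V (W k).ι) :=
      isWC_objOver_of_iso V (W k).ι (D k) (Sigma.ι T k).isoOpensRange (hwc k)
    exact hk F G φ hφ _

end Groth.Agent.Lib.Helper36.ProEtSite
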