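import Mathlib

set_option autoImplicit false
universe w v₁ v₂ u₁ u₂

open CategoryTheory CategoryTheory.Limits Opposite

namespace Groth.Agent.Lib.Helper36.LanProd

variable {C : Type u₁} [Category.{v₁} C] {D : Type u₂} [Category.{v₂} D] (u : C ⥤ D)
  {G : Cᵒᵖ ⥤ Type w} (E : Functor.LeftExtension u.op G)

/-- the element of the left Kan extension at `W` given by `a : W ⟶ u V` and `s ∈ G V` -/
def mk {W : D} {V : C} (a : W ⟶ u.obj V) (s : G.obj (op V)) : E.right.obj (op W) :=
  E.right.map a.op (E.hom.app (op V) s)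

theorem map_mk {W W' : D} (h : W' ⟶ W) {V : C} (a : W ⟶ u.obj V) (s : G.obj (op V)) :
    E.right.map h.op (mk u E a s) = mk u E (h ≫ a) s := by
  simp only [mk, op_comp, Functor.map_comp]
  rfl

theorem mk_comp_map {W : D} {V V' : C} (a : W ⟶ u.obj V') (b : V' ⟶ V) (s : G.obj (op V)) :
    mk u E (a ≫ u.map b) s = mk u E a (G.map b.op s) := by
  simp only [mk, op_comp, Functor.map_comp]
  have := NatTrans.naturality_apply E.hom b.op s
  change E.right.map a.op (E.right.map (u.map b).op (E.hom.app (op V) s)) = _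
  erw [← this]

variable {u E}

theorem exists_mk_eq (hE : E.IsPointwiseLeftKanExtension) {W : D} (x : E.right.obj (op W)) :
    ∃ (V : C) (a : W ⟶ u.obj V) (s : G.obj (op V)), mk u E a s = x := by
  obtain ⟨j, y, hy⟩ := Types.jointly_surjective_of_isColimit (hE (op W)) x
  exact ⟨j.left.unop, j.hom.unop, y, hy⟩

theorem exists_of_mk_eq_mk [RepresentablyFlat u] (hE : E.IsPointwiseLeftKanExtension) {W : D}
    {V V' : C} (a : W ⟶ u.obj V) (s : G.obj (op V)) (a' : W ⟶ u.obj V') (s' : G.obj (op V'))
    (h : mk u E a s = mk u E a' s') :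
    ∃ (V'' : C) (b : V'' ⟶ V) (b' : V'' ⟶ V') (c : W ⟶ u.obj V''),
      c ≫ u.map b = a ∧ c ≫ u.map b' = a' ∧ G.map b.op s = G.map b'.op s' := by
  let i : CostructuredArrow u.op (op W) := CostructuredArrow.mk (Y := op V) a.op
  let j : CostructuredArrow u.op (op W) := CostructuredArrow.mk (Y := op V') a'.op
  have h' : (E.coconeAt (op W)).ι.app i s = (E.coconeAt (op W)).ι.app j s' := h
  obtain ⟨k, f, g, hfg⟩ := (Types.FilteredColimit.isColimit_eq_iff _ (hE (op W))).mp h'
  refine ⟨k.left.unop, f.left.unop, g.left.unop, k.hom.unop, ?_, ?_, hfg⟩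
  · have := CostructuredArrow.w f
    exact congrArg Quiver.Hom.unop this
  · have := CostructuredArrow.w g
    exact congrArg Quiver.Hom.unop this

/-- **A left Kan extension along a flat functor turns coproducts into products**, provided the
source category has coproducts which the presheaf turns into products. -/
theorem bijective_of_cofan [RepresentablyFlat u] (hE : E.IsPointwiseLeftKanExtension)
    {κ : Type*} {W : D} {Wk : κ → D} (i : ∀ k, Wk k ⟶ W)
    (hc : IsColimit (Cofan.mk W i))
    (HC : ∀ V : κ → C, ∃ (S : C) (inj : ∀ k, V k ⟶ S),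
      (∀ (T : C) (m : ∀ k, V k ⟶ T), ∃ d : S ⟶ T, ∀ k, inj k ≫ d = m k) ∧
      Function.Bijective (fun s : G.obj (op S) => fun k => G.map (inj k).op s)) :
    Function.Bijective (fun x : E.right.obj (op W) => fun k => E.right.map (i k).op x) := by
  have hext : ∀ {T : D} (p q : W ⟶ T), (∀ k, i k ≫ p = i k ≫ q) → p = q := by
    intro T p q hpq
    exact Cofan.IsColimit.hom_ext hc p q hpq
  constructor
  · -- injectivity
    intro t t' htt
    obtain ⟨V, a, s, rfl⟩ := exists_mk_eq hE t
    obtain ⟨V', a', s', rfl⟩ := exists_mk_eq hE t'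
    have hk : ∀ k, mk u E (i k ≫ a) s = mk u E (i k ≫ a') s' := by
      intro k
      have := congrFun htt k
      simpa only [map_mk] using this
    choose V'' b b' c hc1 hc2 hc3 using fun k => exists_of_mk_eq_mk hE _ _ _ _ (hk k)
    obtain ⟨S, inj, hdesc, hbij⟩ := HC V''
    obtain ⟨d, hd⟩ := hdesc V b
    obtain ⟨d', hd'⟩ := hdesc V' b'
    let cc : W ⟶ u.obj S := Cofan.IsColimit.desc hc (fun k => c k ≫ u.map (inj k))
    have hcc : ∀ k, i k ≫ cc = c k ≫ u.map (inj k) := fun k =>
      Cofan.IsColimit.fac hc _ k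
    have h1 : cc ≫ u.map d = a := by
      apply hext
      intro k
      rw [← Category.assoc, hcc, Category.assoc, ← u.map_comp, hd, hc1]
    have h2 : cc ≫ u.map d' = a' := by
      apply hext
      intro k
      rw [← Category.assoc, hcc, Category.assoc, ← u.map_comp, hd', hc2]
    have h3 : G.map d.op s = G.map d'.op s' := by
      apply hbij.1
      funext k
      change G.map (inj k).op (G.map d.op s) = G.map (inj k).op (G.map d'.op s')
      rw [← Functor.map_comp_apply, ← Functor.map_comp_apply, ← op_comp, ← op_comp,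
        hd, hd', hc3]
    rw [← h1, ← h2, mk_comp_map, mk_comp_map, h3]
  · -- surjectivity
    intro t
    choose V a s hs using fun k => exists_mk_eq hE (t k)
    obtain ⟨S, inj, -, hbij⟩ := HC V
    obtain ⟨s₀, hs₀⟩ := hbij.2 s
    let aa : W ⟶ u.obj S := Cofan.IsColimit.desc hc (fun k => a k ≫ u.map (inj k))
    have haa : ∀ k, i k ≫ aa = a k ≫ u.map (inj k) := fun k =>
      Cofan.IsColimit.fac hc _ k
    refine ⟨mk u E aa s₀, ?_⟩
    funext k
    change E.right.map (i k).op (mk u E aa s₀) = t k
    rw [map_mk, haa, mk_comp_map, ← hs k]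
    congr 1
    exact congrFun hs₀ k

end Groth.Agent.Lib.Helper36.LanProd
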