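import Mathlib
import Groth.Agent.Lib.Helper36.ProEtWC

/-!
# Sheafification on affine weakly contractible objects of the small pro-étale site (helper36)
-/

set_option autoImplicit false
set_option linter.style.haveILetI false
universe u

open CategoryTheory AlgebraicGeometry Limits Opposite

namespace Groth.Agent.Lib.Helper36.ProEtSite

variable {X : Scheme.{u}}

/-- a partition of `U.left` into opens exhibits `U` as a coproduct in the small pro-étale site -/
theorem nonempty_isColimit_cofan_of_partition (U : X.ProEt) {κ : Type*} (W : κ → U.left.Opens)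
    (hdisj : Pairwise (fun k l => Disjoint (W k : Set ↥U.left) (W l)))
    (hcov : (⋃ k, (W k : Set ↥U.left)) = Set.univ) :
    Nonempty (IsColimit (Cofan.mk U (fun k => homOver U (W k).ι))) := by
  have hoc : TopologicalSpace.IsOpenCover W := by
    apply TopologicalSpace.IsOpenCover.mk
    apply TopologicalSpace.Opens.ext
    rw [TopologicalSpace.Opens.coe_iSup, hcov]
    rfl
  let 𝒰 : U.left.OpenCover := U.left.openCoverOfIsOpenCover W hoc
  have hex : ∀ t : Cofan (fun k => objOver U (W k).ι),
      ∃ σ : U.left ⟶ t.pt.left, ∀ k, (W k).ι ≫ σ = (t.inj k).left := fun t =>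
    exists_glue_of_pairwise_disjoint W hdisj hcov (fun k => (t.inj k).left)
  choose σ hσ using hex
  have hw : ∀ t : Cofan (fun k => objOver U (W k).ι), σ t ≫ t.pt.hom = U.hom := by
    intro t
    apply Scheme.Cover.hom_ext 𝒰
    intro k
    change (W k).ι ≫ σ t ≫ t.pt.hom = (W k).ι ≫ U.hom
    rw [reassoc_of% (hσ t k)]
    exact MorphismProperty.Over.w (t.inj k)
  refine ⟨Cofan.IsColimit.mk _ (fun t => MorphismProperty.Over.homMk (σ t) (hw t)) ?_ ?_⟩
  · intro t k
    apply MorphismProperty.Over.Hom.ext
    exact hσ t k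
  · intro t m hm
    apply MorphismProperty.Over.Hom.ext
    apply Scheme.Cover.hom_ext 𝒰
    intro k
    change (W k).ι ≫ m.left = (W k).ι ≫ σ t
    rw [hσ t k, ← hm k]
    rfl

/-- a presheaf preserving finite products turns finite partitions into products -/
theorem existsUnique_of_preservesFiniteProducts (F : X.ProEtᵒᵖ ⥤ Type (u + 1))
    [PreservesFiniteProducts F] (U : X.ProEt) {n : ℕ} (W : Fin n → U.left.Opens)
    (hdisj : Pairwise (fun k l => Disjoint (W k : Set ↥U.left) (W l)))
    (hcov : (⋃ k, (W k : Set ↥U.left)) = Set.univ)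
    (t : ∀ k, F.obj (op (objOver U (W k).ι))) :
    ∃! t₀ : F.obj (op U), ∀ k, F.map (homOver U (W k).ι).op t₀ = t k := by
  obtain ⟨hc⟩ := nonempty_isColimit_cofan_of_partition U W hdisj hcov
  haveI : PreservesLimitsOfShape (Discrete (Fin n)) F := PreservesFiniteProducts.preserves n
  have hlim := isLimitOfPreserves F (Cofan.IsColimit.op hc)
  have h1 := (Types.isLimit_iff _).mp ⟨hlim⟩ (fun j => t j.as) (by
    intro j j' f
    obtain rfl : j = j' := Discrete.ext (Discrete.eq_of_hom f)
    have : f = 𝟙 _ := Subsingleton.elim _ _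
    subst this
    simp)
  obtain ⟨x, hx, hxu⟩ := h1
  refine ⟨x, fun k => hx ⟨k⟩, fun y hy => hxu y (fun j => hy j.as)⟩

/-- On an affine weakly contractible object, a presheaf preserving finite products has the same
sections as its sheafification. -/
theorem bijective_toSheafify_app_of_isWC (F : X.ProEtᵒᵖ ⥤ Type (u + 1))
    [PreservesFiniteProducts F] (W : X.ProEt) [IsAffine W.left] (hW : ProEtS.IsWC W) :
    Function.Bijective ((toSheafify (Scheme.ProEt.topology X) F).app (op W)) := by
  have hA : EtPBC.IsWContractible ↥(Γ(W.left, ⊤)) := isWContractible_of_isWC W hW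
  let J := Scheme.ProEt.topology X
  let η := toSheafify J F
  constructor
  · intro a b hab
    haveI : Presheaf.IsLocallyInjective J η := inferInstance
    have hR : Presheaf.equalizerSieve (F := F) (X := op W) a b ∈ J W :=
      Presheaf.equalizerSieve_mem J η a b hab
    obtain ⟨n, Wk, -, hdisj, hcov, hWk⟩ :=
      exists_clopen_partition_mem_of_mem_topology W hA _ hR
    obtain ⟨t₀, -, huniq⟩ := existsUnique_of_preservesFiniteProducts F W Wk hdisj hcov
      (fun k => F.map (homOver W (Wk k).ι).op a)
    have h1 : a = t₀ := huniq a (fun k => rfl)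
    have h2 : b = t₀ := huniq b (fun k => ((Presheaf.equalizerSieve_apply (F := F) (X := op W)
      a b _ (homOver W (Wk k).ι)).mp (hWk k)).symm)
    rw [h1, h2]
  · intro s
    haveI : Presheaf.IsLocallySurjective J η := inferInstance
    have hR : Presheaf.imageSieve η s ∈ J W := Presheaf.imageSieve_mem J η s
    obtain ⟨n, Wk, -, hdisj, hcov, hWk⟩ :=
      exists_clopen_partition_mem_of_mem_topology W hA _ hR
    choose t ht using hWk
    obtain ⟨t₀, ht₀, -⟩ := existsUnique_of_preservesFiniteProducts F W Wk hdisj hcov t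
    refine ⟨t₀, ?_⟩
    have hG : Presieve.IsSheaf J (sheafify J F) :=
      (isSheaf_iff_isSheaf_of_type _ _).mp ((presheafToSheaf J _).obj F).property
    have hG1 : Presieve.IsSheafFor (sheafify J F)
        (Presieve.ofArrows (fun k => objOver W (Wk k).ι) (fun k => homOver W (Wk k).ι)) :=
      (Presieve.isSheafFor_iff_generate _).mpr (hG _ (generate_opens_mem_topology W Wk hcov))
    apply hG1.isSeparatedFor.ext
    rintro _ _ ⟨k⟩
    rw [← ht k, ← ht₀ k]
    exact (NatTrans.naturality_apply η (homOver W (Wk k).ι).op t₀).symm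

end Groth.Agent.Lib.Helper36.ProEtSite
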