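import Mathlib
import Groth.Agent.Lib.Helper36.ProEtSheafify
import Groth.Agent.Lib.Helper36.LanProd

/-!
# Left Kan extensions of pro-étale sheaves preserve finite products (helper36)
-/

set_option autoImplicit false
set_option linter.style.haveILetI false
universe u

open CategoryTheory AlgebraicGeometry Limits Opposite

namespace Groth.Agent.Lib.Helper36.ProEtSite

variable {X : Scheme.{u}}

/-- On an affine weakly contractible object `W`, a presheaf turning finite open partitions of `W`
into products has the same sections as its sheafification. -/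
theorem bijective_toSheafify_app_of_isWC' (F : X.ProEtᵒᵖ ⥤ Type (u + 1))
    (W : X.ProEt) [IsAffine W.left] (hW : ProEtS.IsWC W)
    (H : ∀ {n : ℕ} (Wk : Fin n → W.left.Opens),
      Pairwise (fun k l => Disjoint (Wk k : Set ↥W.left) (Wk l)) →
      (⋃ k, (Wk k : Set ↥W.left)) = Set.univ →
      ∀ t : ∀ k, F.obj (op (objOver W (Wk k).ι)),
        ∃! t₀ : F.obj (op W), ∀ k, F.map (homOver W (Wk k).ι).op t₀ = t k) :
    Function.Bijective ((toSheafify (Scheme.ProEt.topology X) F).app (op W)) := by
  have hA : EtPBC.IsWContractible ↥(Γ(W.left, ⊤)) := isWContractible_of_isWC W hW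
  let J := Scheme.ProEt.topology X
  let η := toSheafify J F
  constructor
  · intro a b hab
    haveI : Presheaf.IsLocallyInjective J η := inferInstance
    have hR : Presheaf.equalizerSieve (F := F) (X := op W) a b ∈ J W :=
      Presheaf.equalizerSieve_mem J η a b hab
    obtain ⟨n, Wk, -, hdisj, hcov, hWk⟩ :=
      exists_clopen_partition_mem_of_mem_topology W hA _ hR
    obtain ⟨t₀, -, huniq⟩ := H Wk hdisj hcov
      (fun k => F.map (homOver W (Wk k).ι).op a)
    have h1 : a = t₀ := huniq a (fun k => rfl)
    have h2 : b = t₀ := huniq b (fun k => ((Presheaf.equalizerSieve_apply (F := F) (X := op W)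
      a b _ (homOver W (Wk k).ι)).mp (hWk k)).symm)
    rw [h1, h2]
  · intro s
    haveI : Presheaf.IsLocallySurjective J η := inferInstance
    have hR : Presheaf.imageSieve η s ∈ J W := Presheaf.imageSieve_mem J η s
    obtain ⟨n, Wk, -, hdisj, hcov, hWk⟩ :=
      exists_clopen_partition_mem_of_mem_topology W hA _ hR
    choose t ht using hWk
    obtain ⟨t₀, ht₀, -⟩ := H Wk hdisj hcov t
    refine ⟨t₀, ?_⟩
    have hG : Presieve.IsSheaf J (sheafify J F) :=
      (isSheaf_iff_isSheaf_of_type _ _).mp ((presheafToSheaf J _).obj F).property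
    have hG1 : Presieve.IsSheafFor (sheafify J F)
        (Presieve.ofArrows (fun k => objOver W (Wk k).ι) (fun k => homOver W (Wk k).ι)) :=
      (Presieve.isSheafFor_iff_generate _).mpr (hG _ (generate_opens_mem_topology W Wk hcov))
    apply hG1.isSeparatedFor.ext
    rintro _ _ ⟨k⟩
    rw [← ht k, ← ht₀ k]
    exact (NatTrans.naturality_apply η (homOver W (Wk k).ι).op t₀).symm

/-- a jointly surjective family of open immersions into `U.left` from objects of the site generates
a covering sieve -/
theorem generate_ofArrows_mem_topology_of_isOpenImmersion (U : X.ProEt) {κ : Type*}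
    (V : κ → X.ProEt) (g : ∀ k, V k ⟶ U) [∀ k, IsOpenImmersion (g k).left]
    (hcov : ∀ x : U.left, ∃ k, x ∈ Set.range (g k).left) :
    Sieve.generate (Presieve.ofArrows V g) ∈ Scheme.ProEt.topology X U := by
  apply Precoverage.generate_mem_toGrothendieck
  change Presieve.map _ _ ∈ Scheme.proetalePrecoverage _
  erw [Presieve.map_ofArrows]
  apply Scheme.zariskiPrecoverage_le_propQCPrecoverage (P := @WeaklyEtale)
  exact (Scheme.ofArrows_mem_precoverage_iff _).mpr ⟨hcov, fun k => inferInstanceAs (IsOpenImmersion (g k).left)⟩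

/-- sheaf gluing along a "disjoint" cover -/
theorem existsUnique_of_disjoint_cover (G : Sheaf (Scheme.ProEt.topology X) (Type (u + 1)))
    (U : X.ProEt) {κ : Type*} (V : κ → X.ProEt) (π : ∀ k, V k ⟶ U)
    (hcov : Sieve.generate (Presieve.ofArrows V π) ∈ Scheme.ProEt.topology X U)
    (hmono : ∀ k, Mono (π k))
    (hdisj : ∀ k l, k ≠ l → ∀ (Z : X.ProEt) (a : Z ⟶ V k) (b : Z ⟶ V l),
      a ≫ π k = b ≫ π l → IsEmpty ↥Z.left)
    (t : ∀ k, G.obj.obj (op (V k))) :
    ∃! s : G.obj.obj (op U), ∀ k, G.obj.map (π k).op s = t k := by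
  have hG : Presieve.IsSheaf (Scheme.ProEt.topology X) G.obj :=
    (isSheaf_iff_isSheaf_of_type _ _).mp G.property
  have hG1 : Presieve.IsSheafFor G.obj (Presieve.ofArrows V π) :=
    (Presieve.isSheafFor_iff_generate _).mpr (hG _ hcov)
  have hcompat : Presieve.Arrows.Compatible G.obj π t := by
    intro k l Z gk gl hkl
    rcases eq_or_ne k l with rfl | hne
    · have : gk = gl := by
        haveI := hmono k
        exact (cancel_mono (π k)).mp hkl
      rw [this]
    · haveI := hdisj k l hne Z gk gl hkl
      haveI := subsingleton_of_isEmpty G Z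
      exact Subsingleton.elim _ _
  exact (Presieve.isSheafFor_arrows_iff _ _).mp hG1 t hcompat

section Coprod

variable {n : ℕ} (V : Fin n → X.ProEt)

instance weaklyEtale_sigmaDesc : WeaklyEtale (Sigma.desc (fun k => (V k).hom)) :=
  IsZariskiLocalAtSource.sigmaDesc (P := @WeaklyEtale) (fun _ => inferInstance)

/-- the coproduct of finitely many objects of the small pro-étale site -/
noncomputable def coprodObj : X.ProEt := Scheme.ProEt.mk (Sigma.desc (fun k => (V k).hom))

/-- the injections into the coproduct -/
noncomputable def coprodInj (k : Fin n) : V k ⟶ coprodObj V :=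
  MorphismProperty.Over.homMk (Sigma.ι (fun k => (V k).left) k) (by
    change Sigma.ι (fun k => (V k).left) k ≫ Sigma.desc (fun k => (V k).hom) = (V k).hom
    simp)

@[simp] theorem coprodInj_left (k : Fin n) :
    (coprodInj V k).left = Sigma.ι (fun k => (V k).left) k := rfl

/-- morphisms out of the coproduct -/
theorem exists_coprodDesc (T : X.ProEt) (m : ∀ k, V k ⟶ T) :
    ∃ d : coprodObj V ⟶ T, ∀ k, coprodInj V k ≫ d = m k := by
  refine ⟨MorphismProperty.Over.homMk (Sigma.desc (fun k => (m k).left)) ?_, ?_⟩
  · change Sigma.desc (fun k => (m k).left) ≫ T.hom = Sigma.desc (fun k => (V k).hom)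
    apply Sigma.hom_ext
    intro k
    rw [Sigma.ι_desc_assoc, Sigma.ι_desc]
    exact MorphismProperty.Over.w (m k)
  · intro k
    apply MorphismProperty.Over.Hom.ext
    change Sigma.ι (fun k => (V k).left) k ≫ Sigma.desc (fun k => (m k).left) = (m k).left
    simp

/-- sheaves turn finite coproducts into products -/
theorem bijective_sheaf_coprod (G : Sheaf (Scheme.ProEt.topology X) (Type (u + 1))) :
    Function.Bijective
      (fun s : G.obj.obj (op (coprodObj V)) => fun k => G.obj.map (coprodInj V k).op s) := by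
  have hcov : Sieve.generate (Presieve.ofArrows V (coprodInj V)) ∈
      Scheme.ProEt.topology X (coprodObj V) := by
    haveI : ∀ k, IsOpenImmersion (coprodInj V k).left := fun k =>
      inferInstanceAs (IsOpenImmersion (Sigma.ι (fun k => (V k).left) k))
    apply generate_ofArrows_mem_topology_of_isOpenImmersion
    intro x
    obtain ⟨k, y, hy⟩ := (sigmaOpenCover (fun k => (V k).left)).exists_eq x
    exact ⟨k, y, hy⟩
  have hmono : ∀ k, Mono (coprodInj V k) := fun k => by
    haveI : Mono (coprodInj V k).left :=
      inferInstanceAs (Mono (Sigma.ι (fun k => (V k).left) k))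
    exact mono_of_mono_left _
  have hdisj : ∀ k l, k ≠ l → ∀ (Z : X.ProEt) (a : Z ⟶ V k) (b : Z ⟶ V l),
      a ≫ coprodInj V k = b ≫ coprodInj V l → IsEmpty ↥Z.left := by
    intro k l hkl Z a b hab
    have h1 : a.left ≫ Sigma.ι (fun k => (V k).left) k = b.left ≫ Sigma.ι (fun k => (V k).left) l :=
      congrArg (fun m => m.left) hab
    exact isEmpty_of_commSq_sigmaι_of_ne ⟨h1⟩ hkl
  constructor
  · intro s s' hss
    obtain ⟨s₀, -, huniq⟩ := existsUnique_of_disjoint_cover G (coprodObj V) V (coprodInj V) hcov
      hmono hdisj (fun k => G.obj.map (coprodInj V k).op s)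
    rw [huniq s (fun k => rfl), huniq s' (fun k => (congrFun hss k).symm)]
  · intro t
    obtain ⟨s₀, hs₀, -⟩ := existsUnique_of_disjoint_cover G (coprodObj V) V (coprodInj V) hcov
      hmono hdisj t
    exact ⟨s₀, funext hs₀⟩

end Coprod

section Lan

variable {Y : Scheme.{u}} (f : X ⟶ Y)

instance representablyFlat_bcP : RepresentablyFlat (ProEtS.bcP f) := by
  haveI : PreservesFiniteLimits (ProEtS.bcP f) :=
    inferInstanceAs <| PreservesFiniteLimits (MorphismProperty.Over.pullback (@WeaklyEtale) ⊤ f)
  exact flat_of_preservesFiniteLimits _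

/-- The left Kan extension along base change of a sheaf of sets turns finite open partitions into
products. -/
theorem existsUnique_lan_of_partition (F : Sheaf (Scheme.ProEt.topology Y) (Type (u + 1)))
    (W : X.ProEt) {n : ℕ} (Wk : Fin n → W.left.Opens)
    (hdisj : Pairwise (fun k l => Disjoint (Wk k : Set ↥W.left) (Wk l)))
    (hcov : (⋃ k, (Wk k : Set ↥W.left)) = Set.univ)
    (t : ∀ k, ((ProEtS.bcP f).op.lan.obj F.obj).obj (op (objOver W (Wk k).ι))) :
    ∃! t₀ : ((ProEtS.bcP f).op.lan.obj F.obj).obj (op W),
      ∀ k, ((ProEtS.bcP f).op.lan.obj F.obj).map (homOver W (Wk k).ι).op t₀ = t k := by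
  obtain ⟨hc⟩ := nonempty_isColimit_cofan_of_partition W Wk hdisj hcov
  have hb := Groth.Agent.Lib.Helper36.LanProd.bijective_of_cofan (u := ProEtS.bcP f)
    (E := Functor.LeftExtension.mk _ ((ProEtS.bcP f).op.lanUnit.app F.obj))
    (Functor.isPointwiseLeftKanExtensionLeftKanExtensionUnit (ProEtS.bcP f).op F.obj)
    (fun k => homOver W (Wk k).ι) hc
    (fun V => ⟨coprodObj V, coprodInj V, exists_coprodDesc V, bijective_sheaf_coprod V F⟩)
  obtain ⟨t₀, ht₀⟩ := hb.2 t
  refine ⟨t₀, fun k => congrFun ht₀ k, fun y hy => hb.1 ?_⟩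
  funext k
  exact (hy k).trans (congrFun ht₀ k).symm

/-- **S7285**: on an affine weakly contractible object, the left Kan extension presheaf of a sheaf
along base change has the same sections as its sheafification. -/
theorem bijective_toSheafify_lan_app (F : Sheaf (Scheme.ProEt.topology Y) (Type (u + 1)))
    (W : X.ProEt) [IsAffine W.left] (hW : ProEtS.IsWC W) :
    Function.Bijective
      ((toSheafify (Scheme.ProEt.topology X) ((ProEtS.bcP f).op.lan.obj F.obj)).app (op W)) :=
  bijective_toSheafify_app_of_isWC' _ W hW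
    (fun Wk hdisj hcov t => existsUnique_lan_of_partition f F W Wk hdisj hcov t)

end Lan

end Groth.Agent.Lib.Helper36.ProEtSite
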