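import Mathlib
import Groth.Prelude.Def_ProEtS
import Groth.Agent.Lib.Helper36.ClosedLiftGeom
import Groth.Agent.Lib.Helper36.ProEtCover2
import Groth.Agent.Lib.Helper36.LanAb
import Groth.Agent.Lib.Helper36.ProEtLan

set_option autoImplicit false
set_option linter.style.haveILetI false
universe u
open CategoryTheory CategoryTheory.Limits AlgebraicGeometry Opposite

namespace Groth.Agent.Lib.Helper36.ClosedCounit

open Groth.Agent.Lib.Helper36.ProEtSite Groth.Agent.Lib.Helper36.ClosedLiftGeom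

variable {Z X : Scheme.{u}} (i : Z ⟶ X)

/-- Refinement of a morphism `U ⟶ (bcP i).obj V` by affine w-contractible objects mapping to
base changes of affine objects. -/
theorem mem_topology_of_forall_affine (U : Z.ProEt) (V : X.ProEt) (a : U ⟶ (ProEtS.bcP i).obj V)
    (R : Sieve U)
    (H : ∀ (W : Z.ProEt) (h : W ⟶ U) (_ : IsAffine W.left)
      (_ : EtPBC.IsWContractible ↥(Γ(W.left, ⊤))) (V₀ : X.ProEt) (_ : IsAffine V₀.left)
      (b : V₀ ⟶ V) (a₀ : W ⟶ (ProEtS.bcP i).obj V₀), a₀ ≫ (ProEtS.bcP i).map b = h ≫ a → R h) :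
    R ∈ Scheme.ProEt.topology Z U := by
  let J := Scheme.ProEt.topology Z
  let al : U.left ⟶ pullback V.hom i := a.left
  let φ : U.left ⟶ V.left := al ≫ pullback.fst V.hom i
  let UO : V.left.affineOpens → U.left.Opens := fun O => φ ⁻¹ᵁ O.1
  have hcov : (⋃ O, (UO O : Set ↥U.left)) = Set.univ := by
    apply Set.eq_univ_of_forall
    intro x
    obtain ⟨O, hO, hx, -⟩ := TopologicalSpace.Opens.isBasis_iff_nbhd.mp
      (V.left.isBasis_affineOpens) (show φ x ∈ (⊤ : V.left.Opens) from trivial)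
    exact Set.mem_iUnion.mpr ⟨⟨O, hO⟩, hx⟩
  have hS₁ := Groth.Agent.Lib.Helper36.ProEtSite.generate_opens_mem_topology U UO hcov
  refine J.transitive hS₁ R ?_
  rintro Y f ⟨Y', g, _, ⟨O⟩, rfl⟩
  rw [Sieve.pullback_comp]
  apply J.pullback_stable
  -- now the object `U' = objOver U (UO O).ι`
  let U' : Z.ProEt := objOver U (UO O).ι
  obtain ⟨ι, D, _, f, _, hmem, hwc⟩ := exists_affine_wContractible_family U'
  have hS₂ := generate_ofArrows_mem_topology U' (fun l => Spec (.of (D l))) f hmem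
  refine J.superset_covering ?_ hS₂
  rw [Sieve.generate_le_iff]
  rintro _ _ ⟨l⟩
  change R (homOver U' (f l) ≫ homOver U (UO O).ι)
  let W : Z.ProEt := objOver U' (f l)
  haveI hWaff : IsAffine W.left := inferInstanceAs (IsAffine (Spec (.of (D l))))
  have hWwc : EtPBC.IsWContractible ↥(Γ(W.left, ⊤)) :=
    Groth.Agent.Lib.Helper36.ProEtSite.isWContractible_of_ringEquiv
      (Scheme.ΓSpecIso (.of (D l))).commRingCatIsoToRingEquiv.symm (hwc l)
  let V₀ : X.ProEt := objOver V O.1.ι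
  haveI hV₀aff : IsAffine V₀.left := O.2
  let b : V₀ ⟶ V := homOver V O.1.ι
  let φO : (UO O).toScheme ⟶ O.1.toScheme := φ ∣_ O.1
  have hφO : φO ≫ O.1.ι = (UO O).ι ≫ φ := morphismRestrict_ι φ O.1
  let fl : Spec (.of (D l)) ⟶ (UO O).toScheme := f l
  have hUhom : al ≫ pullback.snd V.hom i = U.hom := MorphismProperty.Over.w a
  have hcond : (fl ≫ φO) ≫ O.1.ι ≫ V.hom = (fl ≫ (UO O).ι ≫ U.hom) ≫ i :=
    calc (fl ≫ φO) ≫ O.1.ι ≫ V.hom = fl ≫ (φO ≫ O.1.ι) ≫ V.hom := by simp only [Category.assoc]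
      _ = fl ≫ ((UO O).ι ≫ φ) ≫ V.hom := by rw [hφO]
      _ = fl ≫ (UO O).ι ≫ al ≫ (pullback.fst V.hom i ≫ V.hom) := by
        simp only [φ, Category.assoc]
      _ = fl ≫ (UO O).ι ≫ al ≫ (pullback.snd V.hom i ≫ i) := by rw [pullback.condition]
      _ = fl ≫ (UO O).ι ≫ (al ≫ pullback.snd V.hom i) ≫ i := by simp only [Category.assoc]
      _ = fl ≫ (UO O).ι ≫ U.hom ≫ i := by rw [hUhom]
      _ = (fl ≫ (UO O).ι ≫ U.hom) ≫ i := by simp only [Category.assoc]
  let a₀l : Spec (.of (D l)) ⟶ pullback (O.1.ι ≫ V.hom) i :=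
    pullback.lift (fl ≫ φO) (fl ≫ (UO O).ι ≫ U.hom) hcond
  have ha₀l1 : a₀l ≫ pullback.fst (O.1.ι ≫ V.hom) i = fl ≫ φO := pullback.lift_fst _ _ _
  have ha₀l2 : a₀l ≫ pullback.snd (O.1.ι ≫ V.hom) i = fl ≫ (UO O).ι ≫ U.hom :=
    pullback.lift_snd _ _ _
  let a₀ : W ⟶ (ProEtS.bcP i).obj V₀ := MorphismProperty.Over.homMk a₀l ha₀l2
  refine H W _ hWaff hWwc V₀ hV₀aff b a₀ ?_
  apply MorphismProperty.Over.Hom.ext
  let ub : pullback (O.1.ι ≫ V.hom) i ⟶ pullback V.hom i := ((ProEtS.bcP i).map b).left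
  have h1 : pullback.fst (O.1.ι ≫ V.hom) i ≫ O.1.ι = ub ≫ pullback.fst V.hom i :=
    (Groth.Agent.S0730.isPullback_bcP_map i b).w
  have h2 : ub ≫ pullback.snd V.hom i = pullback.snd (O.1.ι ≫ V.hom) i :=
    MorphismProperty.Over.w ((ProEtS.bcP i).map b)
  change a₀l ≫ ub = (fl ≫ (UO O).ι) ≫ al
  apply pullback.hom_ext
  · calc (a₀l ≫ ub) ≫ pullback.fst V.hom i = a₀l ≫ (ub ≫ pullback.fst V.hom i) := by
          simp only [Category.assoc]
      _ = (a₀l ≫ pullback.fst (O.1.ι ≫ V.hom) i) ≫ O.1.ι := by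
          rw [← h1]; simp only [Category.assoc]
      _ = fl ≫ (φO ≫ O.1.ι) := by rw [ha₀l1]; simp only [Category.assoc]
      _ = fl ≫ ((UO O).ι ≫ φ) := by rw [hφO]
      _ = ((fl ≫ (UO O).ι) ≫ al) ≫ pullback.fst V.hom i := by simp only [φ, Category.assoc]
  · calc (a₀l ≫ ub) ≫ pullback.snd V.hom i = a₀l ≫ (ub ≫ pullback.snd V.hom i) := by
          simp only [Category.assoc]
      _ = fl ≫ (UO O).ι ≫ U.hom := by rw [h2, ha₀l2]
      _ = fl ≫ (UO O).ι ≫ (al ≫ pullback.snd V.hom i) := by rw [hUhom]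
      _ = ((fl ≫ (UO O).ι) ≫ al) ≫ pullback.snd V.hom i := by simp only [Category.assoc]

section Counit

variable [ProEtS.PCont i]

instance : PreservesFilteredColimitsOfSize.{u, u + 1} (forget AddCommGrpCat.{u + 1}) :=
  preservesFilteredColimitsOfSize_shrink.{u + 1, u + 1, u, u + 1} _

/-- the presheaf-level counit -/
noncomputable abbrev preCounit (F : ProEtS.AbP Z) :
    (ProEtS.bcP i).op.lan.obj ((ProEtS.bcP i).op ⋙ F.obj) ⟶ F.obj :=
  ((ProEtS.bcP i).op.lanAdjunction AddCommGrpCat.{u + 1}).counit.app F.obj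

theorem isIso_counit_of_W (F : ProEtS.AbP Z)
    (h : (Scheme.ProEt.topology Z).W (preCounit i F)) :
    IsIso ((ProEtS.pullPushAdjP i).counit.app F) := by
  let adj' := Functor.sheafPullbackConstruction.sheafAdjunctionContinuous (ProEtS.bcP i)
    AddCommGrpCat.{u + 1} (Scheme.ProEt.topology X) (Scheme.ProEt.topology Z)
  have h1 := Adjunction.leftAdjointUniq_hom_app_counit (ProEtS.pullPushAdjP i) adj' F
  rw [← h1]
  suffices IsIso (adj'.counit.app F) from inferInstance
  have h2 : adj'.counit.app F =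
      (presheafToSheaf (Scheme.ProEt.topology Z) AddCommGrpCat.{u + 1}).map (preCounit i F) ≫
        (sheafificationAdjunction (Scheme.ProEt.topology Z) AddCommGrpCat.{u + 1}).counit.app F := by
    have := Adjunction.map_restrictFullyFaithful_counit_app
      (adj := ((ProEtS.bcP i).op.lanAdjunction AddCommGrpCat.{u + 1}).comp
        (sheafificationAdjunction (Scheme.ProEt.topology Z) AddCommGrpCat.{u + 1}))
      (hiC := fullyFaithfulSheafToPresheaf (Scheme.ProEt.topology X) AddCommGrpCat.{u + 1})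
      (hiD := Functor.FullyFaithful.id _)
      (L := Functor.sheafPullbackConstruction.sheafPullback (ProEtS.bcP i)
        AddCommGrpCat.{u + 1} (Scheme.ProEt.topology X) (Scheme.ProEt.topology Z))
      (R := (ProEtS.bcP i).sheafPushforwardContinuous AddCommGrpCat.{u + 1}
        (Scheme.ProEt.topology X) (Scheme.ProEt.topology Z))
      (comm1 := Iso.refl _) (comm2 := Iso.refl _) F
    refine this.trans ?_
    simp only [Iso.refl_inv, NatTrans.id_app, Adjunction.comp_counit_app]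
    erw [CategoryTheory.Functor.map_id, Category.id_comp, Category.id_comp]
  rw [h2]
  have h3 : IsIso ((presheafToSheaf (Scheme.ProEt.topology Z) AddCommGrpCat.{u + 1}).map
      (preCounit i F)) := (GrothendieckTopology.W_iff (Scheme.ProEt.topology Z) (preCounit i F)).mp h
  exact @IsIso.comp_isIso _ _ _ _ _ _ _ h3 inferInstance

open Groth.Agent.Lib.Helper36.LanAb

/-- the left Kan extension of `i_* F` along base change, as a left extension -/
noncomputable abbrev lanExt (F : ProEtS.AbP Z) :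
    Functor.LeftExtension (ProEtS.bcP i).op ((ProEtS.bcP i).op ⋙ F.obj) :=
  Functor.LeftExtension.mk _ ((ProEtS.bcP i).op.lanUnit.app ((ProEtS.bcP i).op ⋙ F.obj))

theorem preCounit_mk (F : ProEtS.AbP Z) {W : Z.ProEt} {V : X.ProEt}
    (a : W ⟶ (ProEtS.bcP i).obj V) (s : F.obj.obj (op ((ProEtS.bcP i).obj V))) :
    (preCounit i F).app (op W) (mk (ProEtS.bcP i) (lanExt i F) a s) = F.obj.map a.op s := by
  have h1 := Functor.lanUnit_app_app_lanAdjunction_counit_app_app (ProEtS.bcP i).op F.obj (op V)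
  have h2 := NatTrans.naturality_apply (preCounit i F) a.op
    (((ProEtS.bcP i).op.lanUnit.app ((ProEtS.bcP i).op ⋙ F.obj)).app (op V) s)
  refine h2.trans ?_
  congr 1
  exact congr($h1 s)

variable [IsClosedImmersion i]

theorem isLocallyInjective_preCounit (F : ProEtS.AbP Z) :
    Presheaf.IsLocallyInjective (Scheme.ProEt.topology Z) (preCounit i F) := by
  constructor
  intro U x y hxy
  obtain ⟨V, a, s, hs⟩ := exists_mk_eq (E := lanExt i F)
    (Functor.isPointwiseLeftKanExtensionLeftKanExtensionUnit _ _) (x - y)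
  have hcs : F.obj.map a.op s = 0 := by
    rw [← preCounit_mk, hs, map_sub, hxy, sub_self]
  apply mem_topology_of_forall_affine i U.unop V a
  intro W h hWaff hWwc V₀ hV₀aff b a₀ hab
  obtain ⟨V', p, a', q, h1, h2, h3⟩ := exists_lift_retract i V₀ W hWwc a₀
  change ((ProEtS.bcP i).op.lan.obj ((ProEtS.bcP i).op ⋙ F.obj)).map h.op x =
    ((ProEtS.bcP i).op.lan.obj ((ProEtS.bcP i).op ⋙ F.obj)).map h.op y
  rw [← sub_eq_zero, ← map_sub, ← hs]
  have e1 := map_mk (ProEtS.bcP i) (lanExt i F) h a s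
  refine e1.trans ?_
  rw [← hab, mk_comp_map, ← h1, mk_comp_map]
  have e2 : ((ProEtS.bcP i).op ⋙ F.obj).map p.op (((ProEtS.bcP i).op ⋙ F.obj).map b.op s) = 0 := by
    change F.obj.map ((ProEtS.bcP i).map p).op (F.obj.map ((ProEtS.bcP i).map b).op s) = 0
    rw [← h2, op_comp, Functor.map_comp, ConcreteCategory.comp_apply,
      ← ConcreteCategory.comp_apply (F.obj.map ((ProEtS.bcP i).map b).op), ← Functor.map_comp,
      ← op_comp, hab, op_comp, Functor.map_comp, ConcreteCategory.comp_apply, hcs, map_zero,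
      map_zero]
  rw [e2]
  exact mk_zero _ _ _

theorem isLocallySurjective_preCounit (F : ProEtS.AbP Z) :
    Presheaf.IsLocallySurjective (Scheme.ProEt.topology Z) (preCounit i F) := by
  constructor
  intro U t
  let V : X.ProEt := Scheme.ProEt.mk (𝟙 X)
  let al : U.left ⟶ pullback (𝟙 X) i := pullback.lift (U.hom ≫ i) U.hom (by simp)
  let a : U ⟶ (ProEtS.bcP i).obj V := MorphismProperty.Over.homMk al (pullback.lift_snd _ _ _)
  apply mem_topology_of_forall_affine i U V a
  intro W h hWaff hWwc V₀ hV₀aff b a₀ hab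
  obtain ⟨V', p, a', q, h1, h2, h3⟩ := exists_lift_retract i V₀ W hWwc a₀
  refine ⟨mk (ProEtS.bcP i) (lanExt i F) a' (F.obj.map q.op (F.obj.map h.op t)), ?_⟩
  rw [preCounit_mk, ← ConcreteCategory.comp_apply, ← Functor.map_comp, ← op_comp, h3, op_id,
    CategoryTheory.Functor.map_id]
  rfl

theorem isIso_counit (F : ProEtS.AbP Z) : IsIso ((ProEtS.pullPushAdjP i).counit.app F) := by
  apply isIso_counit_of_W
  haveI := isLocallyInjective_preCounit i F
  haveI := isLocallySurjective_preCounit i F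
  exact GrothendieckTopology.W_of_isLocallyBijective _ _

end Counit

end Groth.Agent.Lib.Helper36.ClosedCounit
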