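import Mathlib
import Groth.Prelude.Def_ProEtW
import Groth.Agent.Lib.Helper9.Hens.PairUniversal
import Groth.Agent.Lib.Helper9.Hens.IndEtale
import Groth.Agent.Lib.Helper3.EtaleLiftRel
import Groth.Agent.S0736
import Groth.Agent.S0176
import Groth.Agent.Lib.Helper36.IndEtale

set_option autoImplicit false
set_option linter.style.haveILetI false
universe u

namespace Groth.Agent.Lib.Helper36.HensLiftWC

open Groth.Agent.Lib.Helper9.Hens CategoryTheory CategoryTheory.Limits Groth.Agent.Lib.Helper36.IndEt

variable {A : Type u} [CommRing A] (I : Ideal A)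

/-- the henselization of `(A, I)` is faithfully flat when `I` is contained in the Jacobson
radical -/
theorem faithfullyFlat_pairHens (hI : I ≤ Ideal.jacobson ⊥) :
    Module.FaithfullyFlat A (PairHens A I) := by
  refine ⟨fun m hm => ?_⟩
  intro htop
  have hIm : I ≤ m := le_trans hI (sInf_le ⟨bot_le, hm⟩)
  have h1 : (1 : PairHens A I) ∈ m • (⊤ : Submodule A (PairHens A I)) := by
    rw [htop]; exact Submodule.mem_top
  rw [Ideal.smul_top_eq_map] at h1
  have h2 : (1 : PairHens A I) ∈ m.map (algebraMap A (PairHens A I)) := h1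
  have h3 := Ideal.mem_map_of_mem (PairHens.residue : PairHens A I →ₐ[A] A ⧸ I).toRingHom h2
  rw [Ideal.map_map] at h3
  have h4 : (PairHens.residue : PairHens A I →ₐ[A] A ⧸ I).toRingHom.comp
      (algebraMap A (PairHens A I)) = Ideal.Quotient.mk I := by
    ext a
    exact (PairHens.residue : PairHens A I →ₐ[A] A ⧸ I).commutes a
  rw [h4, map_one] at h3
  have h5 : m.map (Ideal.Quotient.mk I) = ⊤ := (Ideal.eq_top_iff_one _).mpr h3
  have h6 : (m.map (Ideal.Quotient.mk I)).comap (Ideal.Quotient.mk I) = m := by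
    rw [Ideal.comap_map_of_surjective _ Ideal.Quotient.mk_surjective]
    have : Ideal.comap (Ideal.Quotient.mk I) ⊥ = I := by
      rw [← RingHom.ker_eq_comap_bot, Ideal.mk_ker]
    rw [this, sup_eq_left.mpr hIm]
  rw [h5, Ideal.comap_top] at h6
  exact hm.ne_top h6.symm

/-- A w-contractible ring `A` with `I` in the Jacobson radical is a retract of the henselization of
`(A, I)`, compatibly with the residue maps. -/
theorem exists_retraction_pairHens (hA : EtPBC.IsWContractible A) (hI : I ≤ Ideal.jacobson ⊥) :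
    ∃ s : PairHens A I →ₐ[A] A, ∀ x, Ideal.Quotient.mk I (s x) = PairHens.residue x := by
  haveI := faithfullyFlat_pairHens I hI
  haveI : Algebra.WeaklyEtale A (PairHens A I) :=
    Groth.Agent.S0736.result A (PairHens A I) PairHens.isIndEtale
  obtain ⟨s⟩ := hA (PairHens A I) inferInstance inferInstance
  refine ⟨s, fun x => ?_⟩
  obtain ⟨a, ha⟩ := Ideal.Quotient.mk_surjective (PairHens.residue x)
  have h1 : x - algebraMap A (PairHens A I) a ∈ I.map (algebraMap A (PairHens A I)) := by
    rw [PairHens.mem_map_iff_residue_eq_zero, map_sub, AlgHom.commutes]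
    rw [← ha]
    exact sub_self _
  have h2 : s (x - algebraMap A (PairHens A I) a) ∈ I := by
    have h3 := Ideal.mem_map_of_mem s.toRingHom h1
    rw [Ideal.map_map] at h3
    have h4 : s.toRingHom.comp (algebraMap A (PairHens A I)) = RingHom.id A := by
      ext b
      exact s.commutes b
    rw [h4, Ideal.map_id] at h3
    exact h3
  rw [map_sub, AlgHom.commutes] at h2
  rw [← ha]
  exact Ideal.Quotient.eq.mpr h2

/-- For `A` w-contractible and `I` in the Jacobson radical, points of étale `A`-algebras in `A/I`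
lift uniquely to `A`. -/
theorem existsUnique_lift_etale (hA : EtPBC.IsWContractible A) (hI : I ≤ Ideal.jacobson ⊥)
    (E : Type u) [CommRing E] [Algebra A E] [Algebra.Etale A E] (τ : E →ₐ[A] A ⧸ I) :
    ∃! ρ : E →ₐ[A] A, (Ideal.Quotient.mkₐ A I).comp ρ = τ := by
  obtain ⟨s, hs⟩ := exists_retraction_pairHens I hA hI
  let C := PairHens A I
  let J : Ideal C := I.map (algebraMap A C)
  -- the point of `E` in `C/J`
  have hres : ∀ e : E, ∃ c : C, PairHens.residue c = τ e := fun e => PairHens.residue_surjective _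
  choose c hc using hres
  have hcJ : ∀ c₁ c₂ : C, PairHens.residue c₁ = PairHens.residue c₂ →
      Ideal.Quotient.mk J c₁ = Ideal.Quotient.mk J c₂ := by
    intro c₁ c₂ h
    rw [Ideal.Quotient.eq, PairHens.mem_map_iff_residue_eq_zero, map_sub, h, sub_self]
  let τ' : E →ₐ[A] C ⧸ J :=
    { toFun := fun e => Ideal.Quotient.mk J (c e)
      map_one' := by
        rw [← map_one (Ideal.Quotient.mk J)]
        apply hcJ
        rw [hc, map_one, map_one]
      map_mul' := fun x y => by
        rw [← map_mul (Ideal.Quotient.mk J)]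
        apply hcJ
        rw [hc, map_mul, map_mul, hc, hc]
      map_zero' := by
        rw [← map_zero (Ideal.Quotient.mk J)]
        apply hcJ
        rw [hc, map_zero, map_zero]
      map_add' := fun x y => by
        rw [← map_add (Ideal.Quotient.mk J)]
        apply hcJ
        rw [hc, map_add, map_add, hc, hc]
      commutes' := fun a => by
        change Ideal.Quotient.mk J (c (algebraMap A E a)) =
          Ideal.Quotient.mk J (algebraMap A C a)
        apply hcJ
        rw [hc, AlgHom.commutes, AlgHom.commutes] }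
  obtain ⟨g, hg⟩ := Groth.Agent.Lib.Helper3.exists_algHom_lift_of_etale_of_algebra E C J τ'
  have hg' : ∀ e, PairHens.residue (g e) = τ e := by
    intro e
    have h1 : Ideal.Quotient.mk J (g e) = Ideal.Quotient.mk J (c e) := congr($hg e)
    rw [Ideal.Quotient.eq, PairHens.mem_map_iff_residue_eq_zero, map_sub, sub_eq_zero] at h1
    rw [h1, hc]
  refine ⟨s.comp g, ?_, ?_⟩
  · ext e
    change Ideal.Quotient.mk I (s (g e)) = τ e
    rw [hs, hg']
  · intro ρ' hρ'
    apply Groth.Agent.Lib.Helper3.algHom_ext_of_comp_mk_eq I hI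
    rw [hρ']
    ext e
    change τ e = Ideal.Quotient.mk I (s (g e))
    rw [hs, hg']

/-- For `A` w-contractible and `I` in the Jacobson radical, points of ind-étale `A`-algebras in
`A/I` lift to `A`. -/
theorem exists_lift_indEtale (hA : EtPBC.IsWContractible A) (hI : I ≤ Ideal.jacobson ⊥)
    (B : Type u) [CommRing B] [Algebra A B] (hB : EtPBC.IsIndEtale A B) (τ : B →ₐ[A] A ⧸ I) :
    ∃ ρ : B →ₐ[A] A, (Ideal.Quotient.mkₐ A I).comp ρ = τ := by
  rw [isIndEtale_iff_ind] at hB
  obtain ⟨J, _, _, pres, hP⟩ := hB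
  letI alg : ∀ j, Algebra A (pres.diag.obj j).right := fun j => (pres.diag.obj j).hom.hom.toAlgebra
  haveI het : ∀ j, Algebra.Etale A (pres.diag.obj j).right := fun j => hP j
  -- the structure maps as algebra maps
  let leg : ∀ j, (pres.diag.obj j).right →ₐ[A] B := fun j =>
    ⟨(pres.ι.app j).right.hom, fun r => congrArg (fun m => m.hom r) (Under.w (pres.ι.app j))⟩
  let tr : ∀ {j k : J} (f : j ⟶ k), (pres.diag.obj j).right →ₐ[A] (pres.diag.obj k).right :=
    fun {j k} f => ⟨(pres.diag.map f).right.hom,
      fun r => congrArg (fun m => m.hom r) (Under.w (pres.diag.map f))⟩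
  have hleg : ∀ {j k : J} (f : j ⟶ k), (leg k).comp (tr f) = leg j := by
    intro j k f
    ext x
    exact congrArg (fun m => m.right.hom x) (pres.cocone.w f)
  have key : ∀ j, ∃! ρ : (pres.diag.obj j).right →ₐ[A] A,
      (Ideal.Quotient.mkₐ A I).comp ρ = τ.comp (leg j) :=
    fun j => existsUnique_lift_etale I hA hI _ _
  choose ρ hρ hρu using key
  have hcompat : ∀ {j k : J} (f : j ⟶ k), (ρ k).comp (tr f) = ρ j := by
    intro j k f
    apply hρu
    rw [← AlgHom.comp_assoc, hρ, AlgHom.comp_assoc, hleg]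
  let tgt : Under (CommRingCat.of A) := Under.mk (𝟙 (CommRingCat.of A))
  let s : Cocone pres.diag :=
    { pt := tgt
      ι :=
        { app := fun j => Under.homMk (CommRingCat.ofHom (ρ j).toRingHom) (by
            ext r
            exact (ρ j).commutes r)
          naturality := fun j k f => by
            ext x
            simp only [Functor.const_obj_obj, Functor.const_obj_map, Category.comp_id]
            exact congr($(hcompat f) x) } }
  let d := pres.isColimit.desc s
  have hd : ∀ j x, d.right.hom ((pres.ι.app j).right.hom x) = ρ j x := by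
    intro j x
    have := congrArg (fun m => m.right.hom x) (pres.isColimit.fac s j)
    exact this
  let ρB : B →ₐ[A] A := ⟨d.right.hom, fun r => congrArg (fun m => m.hom r) (Under.w d)⟩
  refine ⟨ρB, ?_⟩
  -- both sides are maps out of the colimit
  let tgt' : Under (CommRingCat.of A) := Under.mk (CommRingCat.ofHom (Ideal.Quotient.mk I))
  let m₁ : Under.mk (CommRingCat.ofHom (algebraMap A B)) ⟶ tgt' :=
    Under.homMk (CommRingCat.ofHom ((Ideal.Quotient.mkₐ A I).comp ρB).toRingHom) (by
      ext r
      exact ((Ideal.Quotient.mkₐ A I).comp ρB).commutes r)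
  let m₂ : Under.mk (CommRingCat.ofHom (algebraMap A B)) ⟶ tgt' :=
    Under.homMk (CommRingCat.ofHom τ.toRingHom) (by
      ext r
      exact τ.commutes r)
  have hm : m₁ = m₂ := by
    apply pres.isColimit.hom_ext
    intro j
    ext x
    change Ideal.Quotient.mk I (d.right.hom ((pres.ι.app j).right.hom x)) =
      τ ((pres.ι.app j).right.hom x)
    rw [hd]
    exact congr($(hρ j) x)
  ext b
  exact congrArg (fun m => m.right.hom b) hm

open TensorProduct in
/-- **Henselian lifting for w-contractible rings.** Let `A` be w-contractible, `I` an ideal in the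
Jacobson radical with `A/I` w-contractible. Every point in `A/I` of a weakly étale `A`-algebra `B`
lifts to a point in `A`. -/
theorem exists_lift_weaklyEtale (hA : EtPBC.IsWContractible A) (hI : I ≤ Ideal.jacobson ⊥)
    (hAI : EtPBC.IsWContractible (A ⧸ I))
    (B : Type u) [CommRing B] [Algebra A B] [Algebra.WeaklyEtale A B] (τ : B →ₐ[A] A ⧸ I) :
    ∃ ρ : B →ₐ[A] A, (Ideal.Quotient.mkₐ A I).comp ρ = τ := by
  obtain ⟨B', _, _, _, tower, hff, hindB, hindA⟩ := Groth.Agent.S0176.result A B
  haveI : Algebra.WeaklyEtale B B' := Groth.Agent.S0736.result B B' hindB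
  letI algBĀ : Algebra B (A ⧸ I) := τ.toRingHom.toAlgebra
  haveI : Module.FaithfullyFlat (A ⧸ I) ((A ⧸ I) ⊗[B] B') := inferInstance
  haveI : Algebra.WeaklyEtale (A ⧸ I) ((A ⧸ I) ⊗[B] B') := inferInstance
  obtain ⟨r⟩ := hAI ((A ⧸ I) ⊗[B] B') inferInstance inferInstance
  let incl : B' →ₐ[B] (A ⧸ I) ⊗[B] B' := Algebra.TensorProduct.includeRight
  let τ'₀ : B' →+* A ⧸ I := r.toRingHom.comp incl.toRingHom
  have hτ'₀ : ∀ b : B, τ'₀ (algebraMap B B' b) = τ b := by
    intro b
    change r (incl (algebraMap B B' b)) = τ b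
    rw [incl.commutes]
    have : algebraMap B ((A ⧸ I) ⊗[B] B') b = algebraMap (A ⧸ I) ((A ⧸ I) ⊗[B] B') (τ b) := by
      rw [Algebra.TensorProduct.algebraMap_apply, Algebra.TensorProduct.algebraMap_apply]
      rfl
    rw [this, r.commutes]
    rfl
  let τ' : B' →ₐ[A] A ⧸ I :=
    { τ'₀ with
      commutes' := fun a => by
        change τ'₀ (algebraMap A B' a) = algebraMap A (A ⧸ I) a
        rw [IsScalarTower.algebraMap_apply A B B', hτ'₀, τ.commutes] }
  obtain ⟨ρ', hρ'⟩ := exists_lift_indEtale I hA hI B' hindA τ'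
  refine ⟨ρ'.comp (IsScalarTower.toAlgHom A B B'), ?_⟩
  ext b
  have h1 := congr($hρ' (algebraMap B B' b))
  change Ideal.Quotient.mk I (ρ' (algebraMap B B' b)) = τ b
  exact h1.trans (hτ'₀ b)

end Groth.Agent.Lib.Helper36.HensLiftWC
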