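import Mathlib
import Groth.Agent.Lib.Helper36.SpecMisc
import Groth.Agent.Lib.Helper36.WLSquareMisc

/-!
# Quasi-finite finitely presented algebras over rings with extremally disconnected Hausdorff
spectrum and separably closed residue fields (helper36)

The spectrum of such an algebra is again extremally disconnected: the projection is locally (on
clopen pieces) injective with clopen image, by Chevalley's theorem applied to the complement of the
diagonal in the tensor square.
-/

set_option autoImplicit false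
set_option linter.style.haveILetI false
universe u

namespace Groth.Agent.Lib.Helper36.QFED

open TensorProduct PrimeSpectrum

/-- constructible subsets of a compact Hausdorff space are clopen -/
theorem isClopen_of_isConstructible {X : Type*} [TopologicalSpace X] [CompactSpace X] [T2Space X]
    {s : Set X} (hs : Topology.IsConstructible s) : IsClopen s := by
  induction hs using Topology.IsConstructible.empty_union_induction with
  | open_retrocompact U hUo hUc => exact ⟨hUc.isCompact.isClosed, hUo⟩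
  | union s hs t ht h1 h2 => exact h1.union h2
  | compl s hs h => exact h.compl

variable (A B : Type u) [CommRing A] [CommRing B] [Algebra A B]

/-- for a quasi-finite algebra over a ring all of whose primes are closed points, all primes of
the algebra are closed points -/
theorem isClosed_singleton_of_quasiFinite [Algebra.QuasiFinite A B]
    (hA : ∀ x : PrimeSpectrum A, IsClosed ({x} : Set (PrimeSpectrum A))) (y : PrimeSpectrum B) :
    IsClosed ({y} : Set (PrimeSpectrum B)) := by
  let π := comap (algebraMap A B)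
  let F : Set (PrimeSpectrum B) := π ⁻¹' {π y}
  have hF : IsClosed F := (hA (π y)).preimage (continuous_comap _)
  have hd : _root_.IsDiscrete F := Algebra.QuasiFinite.isDiscrete_comap_preimage_singleton (π y)
  haveI : DiscreteTopology F := hd.to_subtype
  have h1 : IsClosed (Subtype.val '' ({⟨y, rfl⟩} : Set F)) :=
    hF.isClosedEmbedding_subtypeVal.isClosedMap _ (isClosed_discrete _)
  simpa using h1

/-- under the same hypotheses the spectrum is Hausdorff -/
theorem t2Space_of_quasiFinite [Algebra.QuasiFinite A B]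
    (hA : ∀ x : PrimeSpectrum A, IsClosed ({x} : Set (PrimeSpectrum A))) :
    T2Space (PrimeSpectrum B) := by
  have h1 := Groth.Agent.Lib.Helper36.SigmaLoc.isProfinite_zeroLocus (⊥ : Ideal B)
    (fun q _ => isClosed_singleton_of_quasiFinite A B hA q)
  have h2 : zeroLocus (R := B) ((⊥ : Ideal B) : Set B) = Set.univ := by
    simp
  haveI := h1.2.1
  let e : (zeroLocus (R := B) ((⊥ : Ideal B) : Set B)) ≃ₜ PrimeSpectrum B :=
    (Homeomorph.setCongr h2).trans (Homeomorph.Set.univ _)
  exact e.symm.isEmbedding.t2Space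

/-- A prime of `B ⊗[A] B` lying over `(y, y)`, where `κ(y)/κ(x)` is a finitely generated extension
of a separably closed field, contains the kernel of the multiplication map. -/
theorem kaehlerIdeal_le_of_comap_eq [Algebra.FiniteType A B] (x : Ideal A) [x.IsMaximal]
    (hx : @IsSepClosed (A ⧸ x) (Ideal.Quotient.field x)) (y : Ideal B) [y.IsMaximal] [y.LiesOver x]
    (P : Ideal (B ⊗[A] B)) [P.IsPrime]
    (h1 : P.comap (algebraMap B (B ⊗[A] B)) = y)
    (h2 : P.comap (Algebra.TensorProduct.includeRight (R := A) (A := B) (B := B)).toRingHom = y) :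
    KaehlerDifferential.ideal A B ≤ P := by
  letI : Field (A ⧸ x) := Ideal.Quotient.field x
  letI : Field (B ⧸ y) := Ideal.Quotient.field y
  haveI : IsSepClosed (A ⧸ x) := hx
  haveI : Algebra.FiniteType A (B ⧸ y) :=
    Algebra.FiniteType.of_surjective (Ideal.Quotient.mkₐ A y) Ideal.Quotient.mk_surjective
  haveI : Algebra.FiniteType (A ⧸ x) (B ⧸ y) :=
    Algebra.FiniteType.of_restrictScalars_finiteType A (A ⧸ x) (B ⧸ y)
  haveI : Module.Finite (A ⧸ x) (B ⧸ y) := finite_of_finite_type_of_isJacobsonRing _ _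
  haveI : Algebra.IsAlgebraic (A ⧸ x) (B ⧸ y) := Algebra.IsAlgebraic.of_finite _ _
  haveI : IsPurelyInseparable (A ⧸ x) (B ⧸ y) := inferInstance
  let q := ringExpChar (A ⧸ x)
  haveI : ExpChar (A ⧸ x) q := ringExpChar.expChar _
  -- the ring map `A ⧸ x → D ⧸ P`
  have hxP : ∀ a ∈ x, (Ideal.Quotient.mk P).comp (algebraMap A (B ⊗[A] B)) a = 0 := by
    intro a ha
    rw [RingHom.comp_apply, Ideal.Quotient.eq_zero_iff_mem]
    have h3 : algebraMap A B a ∈ y := by
      have : a ∈ y.under A := by
        rw [← Ideal.LiesOver.over (P := y) (p := x)]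
        exact ha
      exact this
    rw [IsScalarTower.algebraMap_apply A B (B ⊗[A] B)]
    rw [← h1] at h3
    exact h3
  let ψ : A ⧸ x →+* (B ⊗[A] B) ⧸ P := Ideal.Quotient.lift x _ hxP
  haveI : ExpChar ((B ⊗[A] B) ⧸ P) q := expChar_of_injective_ringHom ψ.injective q
  rw [← KaehlerDifferential.span_range_eq_ideal, Ideal.span_le]
  rintro _ ⟨b, rfl⟩
  obtain ⟨n, ā, hā⟩ := IsPurelyInseparable.pow_mem (A ⧸ x) q (Ideal.Quotient.mk y b)
  obtain ⟨a, rfl⟩ := Ideal.Quotient.mk_surjective ā
  have hc : b ^ q ^ n - algebraMap A B a ∈ y := by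
    rw [← Ideal.Quotient.eq_zero_iff_mem, map_sub, map_pow, sub_eq_zero, ← hā]
    rfl
  set c := b ^ q ^ n - algebraMap A B a with hcdef
  have hb : b ^ q ^ n = algebraMap A B a + c := by rw [hcdef]; ring
  change (1 : B) ⊗ₜ[A] b - b ⊗ₜ[A] (1 : B) ∈ P
  apply Ideal.IsPrime.mem_of_pow_mem inferInstance (q ^ n)
  rw [← Ideal.Quotient.eq_zero_iff_mem, map_pow, map_sub, sub_pow_expChar_pow, ← map_pow, ← map_pow,
    ← map_sub, Ideal.Quotient.eq_zero_iff_mem]
  rw [Algebra.TensorProduct.tmul_pow, Algebra.TensorProduct.tmul_pow, one_pow, hb,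
    TensorProduct.tmul_add, TensorProduct.add_tmul]
  have h5 : (1 : B) ⊗ₜ[A] (algebraMap A B a) = (algebraMap A B a) ⊗ₜ[A] (1 : B) := by
    rw [Algebra.algebraMap_eq_smul_one, TensorProduct.tmul_smul, TensorProduct.smul_tmul']
  have h6 : (1 : B) ⊗ₜ[A] c ∈ P := by
    have : c ∈ P.comap (Algebra.TensorProduct.includeRight (R := A) (A := B) (B := B)).toRingHom := by
      rw [h2]; exact hc
    exact this
  have h7 : c ⊗ₜ[A] (1 : B) ∈ P := by
    have : c ∈ P.comap (algebraMap B (B ⊗[A] B)) := by
      rw [h1]; exact hc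
    exact this
  rw [h5]
  have : (algebraMap A B) a ⊗ₜ[A] (1 : B) + (1 : B) ⊗ₜ[A] c -
      ((algebraMap A B) a ⊗ₜ[A] (1 : B) + c ⊗ₜ[A] (1 : B)) = (1 : B) ⊗ₜ[A] c - c ⊗ₜ[A] (1 : B) := by
    ring
  rw [this]
  exact P.sub_mem h6 h7

/-- the residue field at a maximal ideal with separably closed residue field -/
theorem isSepClosed_quotient (x : Ideal A) [x.IsMaximal] (h : IsSepClosed x.ResidueField) :
    @IsSepClosed (A ⧸ x) (Ideal.Quotient.field x) := by
  letI : Field (A ⧸ x) := Ideal.Quotient.field x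
  let e : (A ⧸ x) ≃+* x.ResidueField :=
    RingEquiv.ofBijective (algebraMap (A ⧸ x) x.ResidueField)
      (Ideal.bijective_algebraMap_quotient_residueField x)
  exact WLSquare.isSepClosed_of_ringEquiv e.symm

theorem isClopen_image_comap_of_isConstructible [Algebra.FinitePresentation A B]
    [T2Space (PrimeSpectrum A)] {V : Set (PrimeSpectrum B)} (hV : Topology.IsConstructible V) :
    IsClopen (comap (algebraMap A B) '' V) := by
  apply isClopen_of_isConstructible
  apply isConstructible_comap_image _ hV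
  exact (RingHom.finitePresentation_algebraMap).mpr inferInstance

theorem isClopen_image_comap [Algebra.FinitePresentation A B] [T2Space (PrimeSpectrum A)]
    {V : Set (PrimeSpectrum B)} (hV : IsClopen V) :
    IsClopen (comap (algebraMap A B) '' V) := by
  obtain ⟨e, -, rfl⟩ := PrimeSpectrum.isClopen_iff.mp hV
  apply isClopen_of_isConstructible
  apply isConstructible_comap_image
  · exact (RingHom.finitePresentation_algebraMap).mpr inferInstance
  · exact isConstructible_basicOpen

/-- basic opens of a Hausdorff spectrum are clopen -/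
theorem isClopen_basicOpen [T2Space (PrimeSpectrum B)] (f : B) :
    IsClopen (basicOpen f : Set (PrimeSpectrum B)) :=
  ⟨(isCompact_basicOpen f).isClosed, (basicOpen f).isOpen⟩

/-- separation of points by clopens -/
theorem exists_isClopen_sep [T2Space (PrimeSpectrum B)] (y y' : PrimeSpectrum B) (h : y ≠ y') :
    ∃ U : Set (PrimeSpectrum B), IsClopen U ∧ y ∈ U ∧ y' ∉ U := by
  have hmax : y'.asIdeal.IsMaximal := (isClosed_singleton_iff_isMaximal y').mp isClosed_singleton
  have hnle : ¬ y'.asIdeal ≤ y.asIdeal := by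
    intro hle
    exact h (PrimeSpectrum.ext (hmax.eq_of_le y.isPrime.ne_top hle)).symm
  obtain ⟨f, hf1, hf2⟩ := Set.not_subset.mp hnle
  exact ⟨basicOpen f, isClopen_basicOpen B f, hf2, fun h' => h' hf1⟩

/-- clopen neighbourhood basis -/
theorem exists_isClopen_subset [T2Space (PrimeSpectrum B)] (O : Set (PrimeSpectrum B))
    (hO : IsOpen O) (z : PrimeSpectrum B) (hz : z ∈ O) :
    ∃ W : Set (PrimeSpectrum B), IsClopen W ∧ z ∈ W ∧ W ⊆ O := by
  obtain ⟨_, ⟨f, rfl⟩, hzf, hfO⟩ :=
    PrimeSpectrum.isTopologicalBasis_basic_opens.exists_subset_of_mem_open hz hO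
  exact ⟨basicOpen f, isClopen_basicOpen B f, hzf, hfO⟩

/-- local injectivity -/
theorem exists_isClopen_injOn [Algebra.QuasiFinite A B] [Algebra.FinitePresentation A B]
    [T2Space (PrimeSpectrum A)] [T2Space (PrimeSpectrum B)]
    (hres : ∀ p : PrimeSpectrum A, IsSepClosed p.asIdeal.ResidueField) (y : PrimeSpectrum B) :
    ∃ V : Set (PrimeSpectrum B), IsClopen V ∧ y ∈ V ∧ Set.InjOn (comap (algebraMap A B)) V := by
  classical
  let π := comap (algebraMap A B)
  let x := π y
  have hmaxA : ∀ x : PrimeSpectrum A, x.asIdeal.IsMaximal := fun x =>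
    (isClosed_singleton_iff_isMaximal x).mp isClosed_singleton
  have hmaxB : ∀ y : PrimeSpectrum B, y.asIdeal.IsMaximal := fun y =>
    (isClosed_singleton_iff_isMaximal y).mp isClosed_singleton
  -- Step a: a clopen neighbourhood of `y` meeting the fibre only in `y`
  have hFfin : (π ⁻¹' {x}).Finite := Algebra.QuasiFinite.finite_comap_preimage_singleton x
  let F' : Set (PrimeSpectrum B) := π ⁻¹' {x} \ {y}
  have hF'fin : F'.Finite := hFfin.subset Set.sdiff_subset
  have hsep : ∀ y' ∈ F', ∃ U : Set (PrimeSpectrum B), IsClopen U ∧ y ∈ U ∧ y' ∉ U :=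
    fun y' hy' => exists_isClopen_sep B y y' (fun h => hy'.2 h.symm)
  choose! U hUcl hUy hUy' using hsep
  let V₀ : Set (PrimeSpectrum B) := ⋂ y' ∈ F', U y'
  have hV₀cl : IsClopen V₀ := hF'fin.isClopen_biInter (fun y' hy' => hUcl y' hy')
  have hyV₀ : y ∈ V₀ := Set.mem_iInter₂.mpr (fun y' hy' => hUy y' hy')
  have hV₀F : ∀ z ∈ V₀, π z = x → z = y := by
    intro z hz hzx
    by_contra hne
    have hzF' : z ∈ F' := ⟨hzx, hne⟩
    exact hUy' z hzF' (Set.mem_iInter₂.mp hz z hzF')
  obtain ⟨e, he, hV₀e⟩ := PrimeSpectrum.isClopen_iff.mp hV₀cl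
  have hmemV₀ : ∀ z : PrimeSpectrum B, z ∈ V₀ ↔ e ∉ z.asIdeal := by
    intro z
    rw [hV₀e]
    rfl
  -- the tensor square
  let D := B ⊗[A] B
  let ε : D := e ⊗ₜ[A] e
  let Jμ : Ideal D := KaehlerDifferential.ideal A B
  obtain ⟨s, hs⟩ := KaehlerDifferential.ideal_fg A B
  let U₂ : Set (PrimeSpectrum D) := (basicOpen ε : Set (PrimeSpectrum D)) ∩ (zeroLocus (Jμ : Set D))ᶜ
  have hU₂ : Topology.IsConstructible U₂ := by
    refine isConstructible_basicOpen.inter ?_
    have h1 : zeroLocus (Jμ : Set D) = zeroLocus (s : Set D) := by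
      change zeroLocus ((KaehlerDifferential.ideal A B : Ideal D) : Set D) = _
      rw [← hs, zeroLocus_span]
    rw [h1]
    exact (isRetrocompact_zeroLocus_compl s.finite_toSet).isConstructible
      (isClosed_zeroLocus _).isOpen_compl
  haveI : Algebra.FinitePresentation B D :=
    inferInstanceAs (Algebra.FinitePresentation B (B ⊗[A] B))
  haveI : Algebra.FinitePresentation A D := Algebra.FinitePresentation.trans A B D
  let I₂ : Set (PrimeSpectrum A) := comap (algebraMap A D) '' U₂
  have hI₂ : IsClopen I₂ := isClopen_image_comap_of_isConstructible A D hU₂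
  -- general facts about primes of `D`
  have hcomp1 : ∀ P : PrimeSpectrum D, π (comap (algebraMap B D) P) = comap (algebraMap A D) P := by
    intro P
    apply PrimeSpectrum.ext
    ext a
    change algebraMap B D (algebraMap A B a) ∈ P.asIdeal ↔ algebraMap A D a ∈ P.asIdeal
    rw [← IsScalarTower.algebraMap_apply]
  have hcomp2 : ∀ P : PrimeSpectrum D,
      π (comap (Algebra.TensorProduct.includeRight (R := A) (A := B) (B := B)).toRingHom P) =
        comap (algebraMap A D) P := by
    intro P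
    apply PrimeSpectrum.ext
    ext a
    change (1 : B) ⊗ₜ[A] (algebraMap A B a) ∈ P.asIdeal ↔ algebraMap A D a ∈ P.asIdeal
    have : (1 : B) ⊗ₜ[A] (algebraMap A B a) = algebraMap A D a := by
      rw [Algebra.TensorProduct.algebraMap_apply, Algebra.algebraMap_eq_smul_one,
        TensorProduct.tmul_smul, TensorProduct.smul_tmul']
    rw [this]
  have hε : ∀ P : PrimeSpectrum D, ε ∉ P.asIdeal ↔
      (e ∉ (comap (algebraMap B D) P).asIdeal ∧
        e ∉ (comap (Algebra.TensorProduct.includeRight (R := A) (A := B) (B := B)).toRingHom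
          P).asIdeal) := by
    intro P
    have h1 : ε = (e ⊗ₜ[A] (1 : B)) * ((1 : B) ⊗ₜ[A] e) := by
      rw [Algebra.TensorProduct.tmul_mul_tmul, mul_one, one_mul]
    rw [h1, P.isPrime.mul_mem_iff_mem_or_mem, not_or]
    rfl
  -- Claim 1
  have hx : x ∉ I₂ := by
    rintro ⟨P, ⟨hPε, hPJ⟩, hPx⟩
    have hPε' := (hε P).mp hPε
    have hq₁ : comap (algebraMap B D) P = y :=
      hV₀F _ ((hmemV₀ _).mpr hPε'.1) ((hcomp1 P).trans hPx)
    have hq₂ : comap (Algebra.TensorProduct.includeRight (R := A) (A := B) (B := B)).toRingHom P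
        = y := hV₀F _ ((hmemV₀ _).mpr hPε'.2) ((hcomp2 P).trans hPx)
    haveI := hmaxA x
    haveI := hmaxB y
    haveI : y.asIdeal.LiesOver x.asIdeal := ⟨rfl⟩
    have h3 := kaehlerIdeal_le_of_comap_eq A B x.asIdeal
      (isSepClosed_quotient A x.asIdeal (hres x)) y.asIdeal P.asIdeal
      (congrArg PrimeSpectrum.asIdeal hq₁) (congrArg PrimeSpectrum.asIdeal hq₂)
    exact hPJ ((mem_zeroLocus _ _).mpr h3)
  -- Claim 2
  refine ⟨V₀ ∩ π ⁻¹' I₂ᶜ, hV₀cl.inter (hI₂.compl.preimage (continuous_comap _)), ⟨hyV₀, hx⟩, ?_⟩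
  rintro q₁ ⟨hq₁V, hq₁I⟩ q₂ ⟨hq₂V, hq₂I⟩ hq
  by_contra hne
  obtain ⟨P, hP1, hP2⟩ := WLSquare.exists_prime_tensorProduct A B B q₁ q₂ hq
  apply hq₁I
  refine ⟨P, ⟨?_, ?_⟩, ?_⟩
  · apply (hε P).mpr
    rw [hP1, hP2]
    exact ⟨(hmemV₀ _).mp hq₁V, (hmemV₀ _).mp hq₂V⟩
  · intro hPJ
    apply hne
    have hJP : Jμ ≤ P.asIdeal := (mem_zeroLocus _ _).mp hPJ
    apply PrimeSpectrum.ext
    ext b
    have hb : (1 : B) ⊗ₜ[A] b - b ⊗ₜ[A] (1 : B) ∈ P.asIdeal := by
      apply hJP
      change _ ∈ KaehlerDifferential.ideal A B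
      rw [← KaehlerDifferential.span_range_eq_ideal]
      exact Ideal.subset_span ⟨b, rfl⟩
    have h1 : b ∈ q₁.asIdeal ↔ b ⊗ₜ[A] (1 : B) ∈ P.asIdeal := by
      rw [← hP1]
      rfl
    have h2 : b ∈ q₂.asIdeal ↔ (1 : B) ⊗ₜ[A] b ∈ P.asIdeal := by
      rw [← hP2]
      rfl
    rw [h1, h2]
    constructor
    · intro h
      have := P.asIdeal.add_mem hb h
      rwa [sub_add_cancel] at this
    · intro h
      have := P.asIdeal.sub_mem h hb
      rwa [sub_sub_cancel] at this
  · rw [← hcomp1 P, hP1]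

/-- closures of open subsets of a clopen on which the projection is injective are open -/
theorem isOpen_closure_of_injOn [Algebra.FinitePresentation A B] [T2Space (PrimeSpectrum A)]
    [T2Space (PrimeSpectrum B)] [ExtremallyDisconnected (PrimeSpectrum A)]
    {V : Set (PrimeSpectrum B)} (hV : IsClopen V)
    (hinj : Set.InjOn (comap (algebraMap A B)) V) (O : Set (PrimeSpectrum B)) (hO : IsOpen O)
    (hOV : O ⊆ V) : IsOpen (closure O) := by
  let π := comap (algebraMap A B)
  have hπO : IsOpen (π '' O) := by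
    rw [isOpen_iff_forall_mem_open]
    rintro _ ⟨z, hz, rfl⟩
    obtain ⟨W, hWcl, hzW, hWO⟩ := exists_isClopen_subset B O hO z hz
    exact ⟨π '' W, Set.image_mono hWO, (isClopen_image_comap A B hWcl).2, ⟨z, hzW, rfl⟩⟩
  let T := closure (π '' O)
  have hT : IsOpen T := ExtremallyDisconnected.open_closure _ hπO
  have heq : closure O = V ∩ π ⁻¹' T := by
    apply Set.Subset.antisymm
    · intro z hz
      refine ⟨closure_minimal hOV hV.1 hz, ?_⟩
      exact image_closure_subset_closure_image (continuous_comap _) ⟨z, hz, rfl⟩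
    · rintro z ⟨hzV, hzT⟩
      by_contra hzc
      have hopen : IsOpen ((closure O)ᶜ ∩ V) := isClosed_closure.isOpen_compl.inter hV.2
      obtain ⟨W, hWcl, hzW, hWsub⟩ := exists_isClopen_subset B _ hopen z ⟨hzc, hzV⟩
      have hπW : IsOpen (π '' W) := (isClopen_image_comap A B hWcl).2
      obtain ⟨_, ⟨w, hwW, rfl⟩, ⟨o, hoO, hwo⟩⟩ :=
        mem_closure_iff.mp hzT (π '' W) hπW ⟨z, hzW, rfl⟩
      have hwV : w ∈ V := (hWsub hwW).2
      have hoV : o ∈ V := hOV hoO
      have : o = w := hinj hoV hwV hwo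
      subst this
      exact (hWsub hwW).1 (subset_closure hoO)
  rw [heq]
  exact hV.2.inter (hT.preimage (continuous_comap _))

/-- main theorem -/
theorem extremallyDisconnected_of_quasiFinite [Algebra.QuasiFinite A B]
    [Algebra.FinitePresentation A B]
    (hres : ∀ p : PrimeSpectrum A, IsSepClosed p.asIdeal.ResidueField)
    [T2Space (PrimeSpectrum A)] [ExtremallyDisconnected (PrimeSpectrum A)] :
    ExtremallyDisconnected (PrimeSpectrum B) := by
  haveI : T2Space (PrimeSpectrum B) := t2Space_of_quasiFinite A B (fun x => isClosed_singleton)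
  constructor
  intro O hO
  choose V hVcl hyV hVinj using exists_isClopen_injOn A B hres
  obtain ⟨t, ht⟩ := isCompact_univ.elim_finite_subcover V (fun y => (hVcl y).2)
    (fun y _ => Set.mem_iUnion.mpr ⟨y, hyV y⟩)
  have hO' : O = ⋃ y ∈ t, O ∩ V y := by
    ext z
    simp only [Set.mem_iUnion, Set.mem_inter_iff, exists_and_left, exists_prop]
    constructor
    · intro hz
      obtain ⟨y, hyt, hzy⟩ := Set.mem_iUnion₂.mp (ht (Set.mem_univ z))
      exact ⟨hz, y, hyt, hzy⟩
    · exact fun h => h.1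
  rw [hO']
  have hcl : closure (⋃ y ∈ t, O ∩ V y) = ⋃ y ∈ t, closure (O ∩ V y) :=
    t.finite_toSet.closure_biUnion (fun y => O ∩ V y)
  rw [hcl]
  apply isOpen_biUnion
  intro y _
  exact isOpen_closure_of_injOn A B (hVcl y) (hVinj y) _ (hO.inter (hVcl y).2)
    Set.inter_subset_right

end Groth.Agent.Lib.Helper36.QFED
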