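import Mathlib
import Groth.Prelude.Def_ProEtW
import Groth.Agent.S0180
import Groth.Agent.Lib.Helper36.FibProd3

set_option autoImplicit false
set_option linter.unusedSectionVars false
universe u

namespace Groth.Agent.Lib.Helper36.WLoc

open Topology

variable {Y : Type u} [TopologicalSpace Y] (hY : ProEtW.IsWLocal Y)

/-- the subspace of closed points -/
abbrev Yc (Y : Type u) [TopologicalSpace Y] : Type u := {y : Y // IsClosed ({y} : Set Y)}

include hY in
theorem compactSpace_Yc : CompactSpace (Yc Y) := by
  have := hY.1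
  exact isCompact_iff_compactSpace.mp hY.2.1.isCompact

/-- closed points map homeomorphically onto `π₀` -/
noncomputable def homeoYc : Yc Y ≃ₜ ConnectedComponents Y :=
  haveI := hY.1
  haveI := compactSpace_Yc hY
  haveI : T2Space (ConnectedComponents Y) := FibProd.t2Space_connectedComponents
  Continuous.homeoOfEquivCompactToT2
    (f := Equiv.ofBijective (fun y : Yc Y => ConnectedComponents.mk y.1)
      (Groth.Agent.S0180.result Y hY.2.1 hY.2.2))
    (ConnectedComponents.continuous_coe.comp continuous_subtype_val)

theorem homeoYc_apply (y : Yc Y) : homeoYc hY y = ConnectedComponents.mk y.1 := rfl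

include hY in
theorem t2Space_Yc : T2Space (Yc Y) :=
  haveI := hY.1
  haveI : T2Space (ConnectedComponents Y) := FibProd.t2Space_connectedComponents
  (homeoYc hY).symm.t2Space

/-- the retraction onto closed points -/
noncomputable def cl : Y → Yc Y := fun y => (homeoYc hY).symm (ConnectedComponents.mk y)

theorem continuous_cl : Continuous (cl hY) :=
  (homeoYc hY).symm.continuous.comp ConnectedComponents.continuous_coe

theorem cl_eq_of_specializes {y z : Y} (hz : IsClosed ({z} : Set Y)) (h : y ⤳ z) :
    cl hY y = ⟨z, hz⟩ := by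
  rw [cl, Homeomorph.symm_apply_eq, homeoYc_apply]
  exact (FibProd.mk_eq_of_specializes h).symm

theorem cl_of_isClosed {y : Y} (hy : IsClosed ({y} : Set Y)) : cl hY y = ⟨y, hy⟩ :=
  cl_eq_of_specializes hY hy specializes_rfl

theorem specializes_cl (y : Y) : y ⤳ (cl hY y).1 := by
  obtain ⟨z, ⟨hz, hyz⟩, -⟩ := hY.2.2 y
  rw [cl_eq_of_specializes hY hz hyz]
  exact hyz

theorem cl_cl (y : Y) : cl hY (cl hY y).1 = cl hY y := by
  rw [cl_of_isClosed hY (cl hY y).2]

end Groth.Agent.Lib.Helper36.WLoc
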