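import Mathlib
import Groth.Prelude.Def_EtBase
import Groth.Prelude.Def_ProEtW
import Groth.Agent.Lib.Helper9.HensK.FiniteLocal
import Groth.Agent.Lib.Helper36.WLSquareMisc
import Groth.Agent.Lib.Helper36.OlivierLocal
import Groth.Agent.Lib.Helper36.WLocSpace
import Groth.Agent.Lib.Helper36.QuasiFiniteED

/-!
# Finite finitely presented algebras over w-contractible rings (helper36)
-/

set_option autoImplicit false
set_option linter.style.haveILetI false
universe u

namespace Groth.Agent.Lib.Helper36.FinWC

open TensorProduct IsLocalRing PrimeSpectrum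

section SH

attribute [local instance] Algebra.TensorProduct.rightAlgebra

/-- finite algebra over a ring whose local ring at `m` is strictly henselian: the local rings at
maximal ideals over `m` are strictly henselian -/
theorem isStrictlyHenselian_localization_of_finite (A B : Type u) [CommRing A] [CommRing B]
    [Algebra A B] [Module.Finite A B] (m : Ideal A) [m.IsMaximal]
    (hm : EtCoh.IsStrictlyHenselianLocalRing (Localization.AtPrime m))
    (n : Ideal B) [n.IsMaximal] (hnm : n.comap (algebraMap A B) = m) :
    EtCoh.IsStrictlyHenselianLocalRing (Localization.AtPrime n) := by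
  obtain ⟨hH, hS⟩ := hm
  let R := Localization.AtPrime m
  let T := B ⊗[A] R
  let M : Submonoid B := Algebra.algebraMapSubmonoid B m.primeCompl
  haveI hloc : IsLocalization M T := IsLocalization.tensor R m.primeCompl
  haveI hfin : Module.Finite R T := Groth.Agent.Lib.Helper9.HensK.finite_tensor_right A B R
  -- the prime of `T` over `n`
  have hdisj : Disjoint (M : Set B) (n : Set B) := by
    rw [Set.disjoint_left]
    rintro _ ⟨a, ha, rfl⟩ hmem
    apply ha
    rw [← hnm]
    exact hmem
  let q : Ideal T := n.map (algebraMap B T)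
  haveI hqp : q.IsPrime := IsLocalization.isPrime_of_isPrime_disjoint M T n inferInstance hdisj
  have hqn : q.comap (algebraMap B T) = n :=
    IsLocalization.under_map_of_isPrime_disjoint M T inferInstance hdisj
  -- `q` is maximal
  have hqR : q.comap (algebraMap R T) = maximalIdeal R := by
    have h1 : maximalIdeal R ≤ q.comap (algebraMap R T) := by
      rw [← Localization.AtPrime.map_eq_maximalIdeal, Ideal.map_le_iff_le_comap]
      intro a ha
      rw [Ideal.mem_comap, Ideal.mem_comap]
      have h2 : algebraMap R T (algebraMap A R a) = algebraMap B T (algebraMap A B a) := by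
        rw [← IsScalarTower.algebraMap_apply, ← IsScalarTower.algebraMap_apply]
      rw [h2, ← Ideal.mem_comap, hqn]
      have h3 : a ∈ n.comap (algebraMap A B) := hnm ▸ ha
      exact h3
    exact ((maximalIdeal.isMaximal R).eq_of_le (Ideal.comap_ne_top _ hqp.ne_top) h1).symm
  haveI hqmax : q.IsMaximal := by
    apply Ideal.isMaximal_of_isIntegral_of_isMaximal_comap (R := R) q
    rw [hqR]
    exact maximalIdeal.isMaximal R
  -- the localization at `q` is a quotient of `T`
  have hsurj : Function.Surjective (algebraMap T (Localization.AtPrime q)) :=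
    Groth.Agent.Lib.Helper3.algebraMap_localization_surjective_of_finite R T q
  haveI hfin2 : Module.Finite R (Localization.AtPrime q) :=
    Module.Finite.of_surjective
      (IsScalarTower.toAlgHom R T (Localization.AtPrime q)).toLinearMap hsurj
  haveI hH2 : HenselianLocalRing (Localization.AtPrime q) :=
    Groth.Agent.Lib.Helper9.HensK.henselianLocalRing_of_isIntegral R (Localization.AtPrime q)
  haveI hlh : IsLocalHom (algebraMap R (Localization.AtPrime q)) :=
    Groth.Agent.Lib.Helper9.HensK.isLocalHom_of_finite R (Localization.AtPrime q)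
  haveI : Algebra.IsAlgebraic (ResidueField R) (ResidueField (Localization.AtPrime q)) :=
    Algebra.IsAlgebraic.of_finite _ _
  have hS2 : IsSepClosed (ResidueField (Localization.AtPrime q)) :=
    Algebra.IsAlgebraic.isSepClosed (F := ResidueField R)
  have hSH : EtCoh.IsStrictlyHenselianLocalRing (Localization.AtPrime q) := ⟨hH2, hS2⟩
  -- identify with the localization of `B` at `n`
  haveI hat : IsLocalization.AtPrime (Localization.AtPrime q) n := by
    have h1 : IsLocalization (q.comap (algebraMap B T)).primeCompl (Localization.AtPrime q) :=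
      IsLocalization.isLocalization_isLocalization_atPrime_isLocalization M
        (Localization.AtPrime q) q
    have hp : (q.comap (algebraMap B T)).primeCompl = n.primeCompl := by
      ext x
      rw [Ideal.mem_primeCompl_iff, Ideal.mem_primeCompl_iff, hqn]
    change IsLocalization n.primeCompl (Localization.AtPrime q)
    rw [← hp]
    exact h1
  let e : Localization.AtPrime q ≃ₐ[B] Localization.AtPrime n :=
    IsLocalization.algEquiv n.primeCompl _ _
  exact Groth.Agent.Lib.Helper36.WLSquare.isStrictlyHenselianLocalRing_of_ringEquiv hSH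
    e.toRingEquiv

end SH

section WL

variable (A B : Type u) [CommRing A] [CommRing B] [Algebra A B] [Algebra.IsIntegral A B]

theorem isClosed_singleton_iff_comap (y : PrimeSpectrum B) :
    IsClosed ({y} : Set (PrimeSpectrum B)) ↔
      IsClosed ({comap (algebraMap A B) y} : Set (PrimeSpectrum A)) := by
  rw [isClosed_singleton_iff_isMaximal, isClosed_singleton_iff_isMaximal]
  constructor
  · intro h
    exact Ideal.isMaximal_comap_of_isIntegral_of_isMaximal (R := A) y.asIdeal
  · intro h
    exact Ideal.isMaximal_of_isIntegral_of_isMaximal_comap (R := A) y.asIdeal h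

/-- an integral algebra over a w-local ring with henselian local rings at maximal ideals has
w-local spectrum -/
theorem isWLocal_of_isIntegral (hW : ProEtW.IsWLocal (PrimeSpectrum A))
    (hS : ∀ (m : Ideal A) [m.IsMaximal], HenselianLocalRing (Localization.AtPrime m)) :
    ProEtW.IsWLocal (PrimeSpectrum B) := by
  refine ⟨inferInstance, ?_, ?_⟩
  · have h1 : {y : PrimeSpectrum B | IsClosed ({y} : Set (PrimeSpectrum B))} =
        comap (algebraMap A B) ⁻¹' {x | IsClosed ({x} : Set (PrimeSpectrum A))} := by
      ext y
      exact isClosed_singleton_iff_comap A B y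
    rw [h1]
    exact hW.2.1.preimage (continuous_comap _)
  · intro y
    obtain ⟨n, hn, hyn⟩ := Ideal.exists_le_maximal y.asIdeal y.2.ne_top
    refine ⟨⟨n, hn.isPrime⟩, ⟨(isClosed_singleton_iff_isMaximal _).mpr hn,
      (le_iff_specializes y ⟨n, hn.isPrime⟩).mp hyn⟩, ?_⟩
    -- uniqueness: all closed specializations of `y` lie over the same maximal ideal `m`
    let x := comap (algebraMap A B) y
    obtain ⟨x₀, ⟨hx₀c, hx₀s⟩, hx₀u⟩ := hW.2.2 x
    let m : Ideal A := x₀.asIdeal
    haveI hm : m.IsMaximal := (isClosed_singleton_iff_isMaximal _).mp hx₀c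
    have hover : ∀ z : PrimeSpectrum B, IsClosed ({z} : Set (PrimeSpectrum B)) → y ⤳ z →
        z.asIdeal.comap (algebraMap A B) = m := by
      intro z hzc hyz
      have h1 : comap (algebraMap A B) z = x₀ :=
        hx₀u _ ⟨(isClosed_singleton_iff_comap A B z).mp hzc,
          hyz.map (continuous_comap _)⟩
      exact congrArg PrimeSpectrum.asIdeal h1
    let q : Ideal B := y.asIdeal
    let D := B ⧸ q
    haveI : IsDomain D := Ideal.Quotient.isDomain q
    let R := Localization.AtPrime m
    haveI := hS m
    -- elements outside `m` are units in `D`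
    have hunit : ∀ s : m.primeCompl, IsUnit (algebraMap A D s) := by
      intro s
      by_contra hnu
      obtain ⟨N, hN, hsN⟩ := exists_max_ideal_of_mem_nonunits (mem_nonunits_iff.mpr hnu)
      let n' : Ideal B := N.comap (Ideal.Quotient.mk q)
      haveI hn' : n'.IsMaximal := Ideal.comap_isMaximal_of_surjective _ Ideal.Quotient.mk_surjective
      have hqn' : q ≤ n' := by
        intro b hb
        change Ideal.Quotient.mk q b ∈ N
        rw [Ideal.Quotient.eq_zero_iff_mem.mpr hb]
        exact N.zero_mem
      have h1 := hover ⟨n', hn'.isPrime⟩ ((isClosed_singleton_iff_isMaximal _).mpr hn')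
        ((le_iff_specializes y ⟨n', hn'.isPrime⟩).mp hqn')
      have h2 : (s : A) ∈ n'.comap (algebraMap A B) := hsN
      rw [h1] at h2
      exact s.2 h2
    letI : Algebra R D := (IsLocalization.lift (M := m.primeCompl) (g := algebraMap A D)
      hunit).toAlgebra
    haveI : IsScalarTower A R D := IsScalarTower.of_algebraMap_eq (fun a => by
      change _ = IsLocalization.lift (M := m.primeCompl) (g := algebraMap A D) hunit _
      rw [IsLocalization.lift_eq])
    haveI : Algebra.IsIntegral A D := inferInstance
    haveI : Algebra.IsIntegral R D := Algebra.IsIntegral.tower_top (R := A)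
    haveI : IsLocalRing D :=
      Groth.Agent.Lib.Helper36.Olivier.isLocalRing_of_isIntegral_of_isDomain R D
    have hkey : ∀ z : PrimeSpectrum B, IsClosed ({z} : Set (PrimeSpectrum B)) → y ⤳ z →
        z.asIdeal = (maximalIdeal D).comap (Ideal.Quotient.mk q) := by
      intro z hzc hyz
      have hqz : q ≤ z.asIdeal := (le_iff_specializes y z).mpr hyz
      haveI hzm : z.asIdeal.IsMaximal := (isClosed_singleton_iff_isMaximal _).mp hzc
      have h1 : (z.asIdeal.map (Ideal.Quotient.mk q)).IsMaximal :=
        Ideal.IsMaximal.map_of_surjective_of_ker_le Ideal.Quotient.mk_surjective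
          (by rw [Ideal.mk_ker]; exact hqz)
      rw [← IsLocalRing.eq_maximalIdeal h1,
        Ideal.comap_map_of_surjective _ Ideal.Quotient.mk_surjective,
        ← RingHom.ker_eq_comap_bot, Ideal.mk_ker, sup_eq_left.mpr hqz]
    rintro z ⟨hzc, hyz⟩
    apply PrimeSpectrum.ext
    rw [hkey z hzc hyz]
    exact (hkey ⟨n, hn.isPrime⟩ ((isClosed_singleton_iff_isMaximal _).mpr hn)
      ((le_iff_specializes y ⟨n, hn.isPrime⟩).mp hyn)).symm

end WL

section ED

/-- the spectrum of a quotient, as a subspace -/
noncomputable def homeoOfSurjective {R S : Type u} [CommRing R] [CommRing S] (f : R →+* S)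
    (hf : Function.Surjective f) (Z : Set (PrimeSpectrum R))
    (hZ : Set.range (comap f) = Z) : PrimeSpectrum S ≃ₜ Z :=
  (isClosedEmbedding_comap_of_surjective S f hf).isEmbedding.toHomeomorph.trans
    (Homeomorph.setCongr hZ)

theorem homeoOfSurjective_apply {R S : Type u} [CommRing R] [CommRing S] (f : R →+* S)
    (hf : Function.Surjective f) (Z : Set (PrimeSpectrum R))
    (hZ : Set.range (comap f) = Z) (p : PrimeSpectrum S) :
    (homeoOfSurjective f hf Z hZ p : PrimeSpectrum R) = comap f p := rfl

/-- residue fields of a quotient -/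
theorem isSepClosed_residueField_of_surjective {R S : Type u} [CommRing R] [CommRing S]
    (f : R →+* S) (hf : Function.Surjective f) (p : Ideal S) [p.IsMaximal]
    (h : IsSepClosed (p.comap f).ResidueField) : IsSepClosed p.ResidueField := by
  haveI hmax : (p.comap f).IsMaximal := Ideal.comap_isMaximal_of_surjective f hf
  have h1 := Groth.Agent.Lib.Helper36.QFED.isSepClosed_quotient R (p.comap f) h
  letI : Field (R ⧸ p.comap f) := Ideal.Quotient.field _
  letI : Field (S ⧸ p) := Ideal.Quotient.field _
  let e : (R ⧸ p.comap f) ≃+* (S ⧸ p) :=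
    RingEquiv.ofBijective (Ideal.quotientMap p f le_rfl)
      ⟨Ideal.quotientMap_injective, Ideal.quotientMap_surjective hf⟩
  haveI h2 : IsSepClosed (S ⧸ p) := Groth.Agent.Lib.Helper36.WLSquare.isSepClosed_of_ringEquiv e
  let e' : (S ⧸ p) ≃+* p.ResidueField :=
    RingEquiv.ofBijective (algebraMap (S ⧸ p) p.ResidueField)
      (Ideal.bijective_algebraMap_quotient_residueField p)
  exact Groth.Agent.Lib.Helper36.WLSquare.isSepClosed_of_ringEquiv e'

/-- `π₀` of a finite finitely presented algebra over a w-local ring with extremally disconnected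
`π₀` and separably closed residue fields at closed points is extremally disconnected -/
theorem extremallyDisconnected_connectedComponents_of_finite (A B : Type u) [CommRing A]
    [CommRing B] [Algebra A B] [Module.Finite A B] [Algebra.FinitePresentation A B]
    (hW : ProEtW.IsWLocal (PrimeSpectrum A))
    (hE : ExtremallyDisconnected (_root_.ConnectedComponents (PrimeSpectrum A)))
    (hS : ∀ (m : Ideal A) [m.IsMaximal], IsSepClosed m.ResidueField)
    (hWB : ProEtW.IsWLocal (PrimeSpectrum B)) :
    ExtremallyDisconnected (_root_.ConnectedComponents (PrimeSpectrum B)) := by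
  let I : Ideal A := vanishingIdeal {x : PrimeSpectrum A | IsClosed ({x} : Set (PrimeSpectrum A))}
  have hI0 : zeroLocus (R := A) I = {x : PrimeSpectrum A | IsClosed ({x} : Set (PrimeSpectrum A))} := by
    rw [zeroLocus_vanishingIdeal_eq_closure]
    exact hW.2.1.closure_eq
  let A₀ := A ⧸ I
  have hrange : Set.range (comap (Ideal.Quotient.mk I)) =
      {x : PrimeSpectrum A | IsClosed ({x} : Set (PrimeSpectrum A))} := by
    rw [range_comap_of_surjective _ _ Ideal.Quotient.mk_surjective, Ideal.mk_ker, hI0]
  haveI := hW.1
  haveI : T2Space (_root_.ConnectedComponents (PrimeSpectrum A)) :=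
    Groth.Agent.Lib.Helper36.FibProd.t2Space_connectedComponents
  let eA : PrimeSpectrum A₀ ≃ₜ _root_.ConnectedComponents (PrimeSpectrum A) :=
    (homeoOfSurjective (Ideal.Quotient.mk I) Ideal.Quotient.mk_surjective _ hrange).trans
      (Groth.Agent.Lib.Helper36.WLoc.homeoYc hW)
  haveI : T2Space (PrimeSpectrum A₀) := eA.symm.t2Space
  haveI : ExtremallyDisconnected (PrimeSpectrum A₀) := extremallyDisconnected_of_homeo eA.symm
  have hres : ∀ p : PrimeSpectrum A₀, IsSepClosed p.asIdeal.ResidueField := by
    intro p
    haveI : p.asIdeal.IsMaximal := (isClosed_singleton_iff_isMaximal p).mp isClosed_singleton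
    haveI : (p.asIdeal.comap (Ideal.Quotient.mk I)).IsMaximal :=
      Ideal.comap_isMaximal_of_surjective _ Ideal.Quotient.mk_surjective
    exact isSepClosed_residueField_of_surjective (Ideal.Quotient.mk I)
      Ideal.Quotient.mk_surjective p.asIdeal (hS _)
  let B₀ := A₀ ⊗[A] B
  haveI : ExtremallyDisconnected (PrimeSpectrum B₀) :=
    Groth.Agent.Lib.Helper36.QFED.extremallyDisconnected_of_quasiFinite A₀ B₀ hres
  let g : B →+* B₀ := (Algebra.TensorProduct.includeRight : B →ₐ[A] A₀ ⊗[A] B).toRingHom
  have hg : Function.Surjective g :=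
    Algebra.TensorProduct.includeRight_surjective (R := A) (S := A₀) (T := B)
      Ideal.Quotient.mk_surjective
  have hrangeB : Set.range (comap g) =
      {y : PrimeSpectrum B | IsClosed ({y} : Set (PrimeSpectrum B))} := by
    apply Set.Subset.antisymm
    · rintro _ ⟨P, rfl⟩
      change IsClosed _
      rw [isClosed_singleton_iff_comap A B]
      have h1 : comap (algebraMap A B) (comap g P) =
          comap (Ideal.Quotient.mk I) (comap (algebraMap A₀ B₀) P) := by
        apply PrimeSpectrum.ext
        ext a
        change g (algebraMap A B a) ∈ P.asIdeal ↔ algebraMap A₀ B₀ (Ideal.Quotient.mk I a) ∈ P.asIdeal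
        have h2 : g (algebraMap A B a) = algebraMap A₀ B₀ (Ideal.Quotient.mk I a) := by
          change (Algebra.TensorProduct.includeRight : B →ₐ[A] A₀ ⊗[A] B) (algebraMap A B a) = _
          rw [AlgHom.commutes, IsScalarTower.algebraMap_apply A A₀ B₀]
          rfl
        rw [h2]
      rw [h1]
      have h3 : comap (Ideal.Quotient.mk I) (comap (algebraMap A₀ B₀) P) ∈
          Set.range (comap (Ideal.Quotient.mk I)) := Set.mem_range_self _
      rw [hrange] at h3
      exact h3
    · intro y hy
      rw [range_comap_of_surjective _ _ hg]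
      have hn : y.asIdeal.IsMaximal := (isClosed_singleton_iff_isMaximal y).mp hy
      let n := y.asIdeal
      have hIn : I ≤ n.comap (algebraMap A B) := by
        have h1 : comap (algebraMap A B) y ∈
            {x : PrimeSpectrum A | IsClosed ({x} : Set (PrimeSpectrum A))} :=
          (isClosed_singleton_iff_comap A B y).mp hy
        rw [← hI0] at h1
        exact h1
      let φ₁ : A₀ →ₐ[A] B ⧸ n := Ideal.Quotient.liftₐ I (Algebra.ofId A (B ⧸ n)) (by
        intro a ha
        have h1 := hIn ha
        rw [Ideal.mem_comap] at h1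
        change algebraMap A (B ⧸ n) a = 0
        rw [IsScalarTower.algebraMap_apply A B (B ⧸ n)]
        exact Ideal.Quotient.eq_zero_iff_mem.mpr h1)
      let φ : B₀ →ₐ[A] B ⧸ n :=
        Algebra.TensorProduct.lift φ₁ (Ideal.Quotient.mkₐ A n) (fun _ _ => Commute.all _ _)
      intro b hb
      have h1 : φ (g b) = Ideal.Quotient.mk n b := by
        change φ ((1 : A₀) ⊗ₜ[A] b) = _
        rw [Algebra.TensorProduct.lift_tmul, map_one, one_mul]
        rfl
      have h2 : g b = 0 := hb
      rw [h2, map_zero] at h1
      exact Ideal.Quotient.eq_zero_iff_mem.mp h1.symm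
  let eB : PrimeSpectrum B₀ ≃ₜ _root_.ConnectedComponents (PrimeSpectrum B) :=
    (homeoOfSurjective g hg _ hrangeB).trans (Groth.Agent.Lib.Helper36.WLoc.homeoYc hWB)
  exact extremallyDisconnected_of_homeo eB

end ED

end Groth.Agent.Lib.Helper36.FinWC
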