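import Mathlib
import Groth.Prelude.Def_ProEtS
import Groth.Agent.S0679
import Groth.Agent.Lib.Helper36.ProEtCover2
import Groth.Agent.Lib.Helper36.ProEtWC

set_option autoImplicit false
set_option linter.style.haveILetI false
open CategoryTheory CategoryTheory.Limits AlgebraicGeometry Opposite
universe u

namespace Groth.Agent.Lib.Helper36.ProEtPush

open Groth.Agent.Lib.Helper36.ProEtSite

/-- scheme-level form of S0679 -/
theorem isWContractible_of_isFinite {P S : Scheme.{u}} [IsAffine S] (g : P ⟶ S) [IsFinite g]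
    [LocallyOfFinitePresentation g] (hS : EtPBC.IsWContractible ↥(Γ(S, ⊤))) :
    ∃ _ : IsAffine P, EtPBC.IsWContractible ↥(Γ(P, ⊤)) := by
  haveI hP : IsAffine P := isAffine_of_isAffineHom g
  refine ⟨hP, ?_⟩
  letI : Algebra ↥(Γ(S, ⊤)) ↥(Γ(P, ⊤)) := g.appTop.hom.toAlgebra
  haveI : Module.Finite ↥(Γ(S, ⊤)) ↥(Γ(P, ⊤)) := g.finite_appTop
  haveI : Algebra.FinitePresentation ↥(Γ(S, ⊤)) ↥(Γ(P, ⊤)) :=
    (HasRingHomProperty.iff_of_isAffine (P := @LocallyOfFinitePresentation)).mp inferInstance
  exact Groth.Agent.S0679.result _ _ hS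

variable {Z X : Scheme.{u}} (f : Z ⟶ X)

/-- base change of an affine w-contractible object along a finite l.f.p. morphism is weakly
contractible -/
theorem isWC_bcP_obj [IsFinite f] [LocallyOfFinitePresentation f] (W : X.ProEt) [IsAffine W.left]
    (hW : EtPBC.IsWContractible ↥(Γ(W.left, ⊤))) : ProEtS.IsWC ((ProEtS.bcP f).obj W) := by
  obtain ⟨hP, hwc⟩ := isWContractible_of_isFinite (S := W.left)
    (pullback.fst W.hom f : pullback W.hom f ⟶ W.left) hW
  haveI : IsAffine ((ProEtS.bcP f).obj W).left := hP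
  exact (isWContractible_iff_isWC _).mp hwc

/-- epimorphisms of abelian sheaves are surjective on weakly contractible objects -/
theorem surjective_app_of_isWC {F G : ProEtS.AbP X} (φ : F ⟶ G) [Epi φ] (U : X.ProEt)
    (hU : ProEtS.IsWC U) : Function.Surjective (φ.hom.app (op U)) := by
  haveI : Sheaf.IsLocallySurjective φ := (Sheaf.isLocallySurjective_iff_epi' _ φ).mpr inferInstance
  have h := hU _ _ ((sheafCompose (Scheme.ProEt.topology X) (forget AddCommGrpCat.{u + 1})).map φ)
    inferInstance
  exact h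

/-- pushforward along a finite locally finitely presented morphism preserves epimorphisms -/
theorem epi_pushP_map [IsFinite f] [LocallyOfFinitePresentation f] [ProEtS.PCont f]
    {F G : ProEtS.AbP Z} (φ : F ⟶ G) [Epi φ] : Epi ((ProEtS.pushP f).map φ) := by
  rw [← Sheaf.isLocallySurjective_iff_epi' _]
  constructor
  intro V s
  obtain ⟨ι, D, _, fam, _, hmem, hwc⟩ := exists_affine_wContractible_family V
  refine (Scheme.ProEt.topology X).superset_covering ?_
    (generate_ofArrows_mem_topology V _ fam hmem)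
  rw [Sieve.generate_le_iff]
  rintro _ _ ⟨i⟩
  have hW : ProEtS.IsWC ((ProEtS.bcP f).obj (objOver V (fam i))) := by
    haveI : IsAffine (objOver V (fam i)).left := inferInstanceAs (IsAffine (Spec (.of (D i))))
    apply isWC_bcP_obj
    exact isWContractible_of_ringEquiv
      (Scheme.ΓSpecIso (.of (D i))).commRingCatIsoToRingEquiv.symm (hwc i)
  obtain ⟨t, ht⟩ := surjective_app_of_isWC φ _ hW
    (G.obj.map ((ProEtS.bcP f).map (homOver V (fam i))).op s)
  exact ⟨t, ht⟩

end Groth.Agent.Lib.Helper36.ProEtPush
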