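import Mathlib
import Groth.Prelude.Def_EtBase
import Groth.Prelude.Def_ProEtW
import Groth.Agent.Lib.Helper36.FiniteWContr
import Groth.Agent.Lib.Helper36.OlivierWC

set_option autoImplicit false
set_option linter.style.haveILetI false
universe u

namespace Groth.Agent.Lib.Helper36.FinWC

open TensorProduct IsLocalRing PrimeSpectrum Topology

theorem extremallyDisconnected_of_isOpenEmbedding {X Y : Type*} [TopologicalSpace X]
    [TopologicalSpace Y] [ExtremallyDisconnected Y] {f : X → Y} (hf : IsOpenEmbedding f) :
    ExtremallyDisconnected X := by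
  constructor
  intro U hU
  rw [hf.isInducing.closure_eq_preimage_closure_image]
  exact (ExtremallyDisconnected.open_closure _ (hf.isOpenMap U hU)).preimage hf.continuous

/-- the quotient of a w-contractible ring by an ideal whose zero locus has quasi-compact complement
is w-contractible -/
theorem isWContractible_quotient (A : Type u) [CommRing A] (J : Ideal A)
    (hJ : IsCompact ((zeroLocus (J : Set A))ᶜ : Set (PrimeSpectrum A)))
    (h : EtPBC.IsWContractible A) : EtPBC.IsWContractible (A ⧸ J) := by
  obtain ⟨hW, hE, hS⟩ := (Groth.Agent.Lib.Helper36.Olivier.isWContractible_iff A).mp h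
  haveI : Algebra.IsIntegral A (A ⧸ J) := inferInstance
  have hWB : ProEtW.IsWLocal (PrimeSpectrum (A ⧸ J)) :=
    isWLocal_of_isIntegral A (A ⧸ J) hW (fun m _ => (hS m).1)
  refine (Groth.Agent.Lib.Helper36.Olivier.isWContractible_iff (A ⧸ J)).mpr ⟨hWB, ?_, ?_⟩
  · haveI := hW.1
    haveI : T2Space (_root_.ConnectedComponents (PrimeSpectrum A)) :=
      Groth.Agent.Lib.Helper36.FibProd.t2Space_connectedComponents
    haveI : T2Space (WLoc.Yc (PrimeSpectrum A)) := WLoc.t2Space_Yc hW
    haveI : ExtremallyDisconnected (WLoc.Yc (PrimeSpectrum A)) :=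
      extremallyDisconnected_of_homeo (WLoc.homeoYc hW).symm
    let c : PrimeSpectrum (A ⧸ J) → PrimeSpectrum A := comap (algebraMap A (A ⧸ J))
    have hc : IsClosedEmbedding c :=
      isClosedEmbedding_comap_of_surjective _ _ Ideal.Quotient.mk_surjective
    let g : WLoc.Yc (PrimeSpectrum (A ⧸ J)) → WLoc.Yc (PrimeSpectrum A) :=
      fun y => ⟨c y.1, (isClosed_singleton_iff_comap A (A ⧸ J) y.1).mp y.2⟩
    have hgc : Continuous g :=
      (hc.continuous.comp continuous_subtype_val).subtype_mk _
    have hge : IsEmbedding g := by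
      apply IsEmbedding.of_comp hgc continuous_subtype_val
      exact hc.isEmbedding.comp IsEmbedding.subtypeVal
    have hrc : Set.range c = zeroLocus (J : Set A) := by
      have h1 := range_comap_of_surjective (A ⧸ J) (Ideal.Quotient.mk J)
        Ideal.Quotient.mk_surjective
      rw [Ideal.mk_ker] at h1
      exact h1
    have hrange : Set.range g = {x | x.1 ∈ zeroLocus (J : Set A)} := by
      ext x
      constructor
      · rintro ⟨y, rfl⟩
        change c y.1 ∈ zeroLocus (J : Set A)
        rw [← hrc]
        exact Set.mem_range_self _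
      · intro hx
        have h1 : x.1 ∈ Set.range c := by
          rw [hrc]
          exact hx
        obtain ⟨y, hy⟩ := h1
        have hyc : IsClosed ({y} : Set (PrimeSpectrum (A ⧸ J))) := by
          rw [isClosed_singleton_iff_comap A (A ⧸ J) y]
          change IsClosed {c y}
          rw [hy]
          exact x.2
        exact ⟨⟨y, hyc⟩, Subtype.ext hy⟩
    have hopen : IsOpen (Set.range g) := by
      rw [hrange, ← isClosed_compl_iff]
      have h1 : IsCompact ({x : WLoc.Yc (PrimeSpectrum A) | x.1 ∈ zeroLocus (J : Set A)}ᶜ) := by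
        have h2 : {x : WLoc.Yc (PrimeSpectrum A) | x.1 ∈ zeroLocus (J : Set A)}ᶜ =
            Subtype.val ⁻¹' ((zeroLocus (J : Set A))ᶜ ∩
              {x : PrimeSpectrum A | IsClosed ({x} : Set (PrimeSpectrum A))}) := by
          ext x
          simp only [Set.mem_compl_iff, Set.mem_ofPred_eq, Set.mem_preimage, Set.mem_inter_iff]
          exact ⟨fun hx => ⟨hx, x.2⟩, fun hx => hx.1⟩
        rw [h2]
        apply IsEmbedding.subtypeVal.isCompact_preimage_iff (by
          rw [Subtype.range_val]
          exact Set.inter_subset_right) |>.mpr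
        exact hJ.inter_right hW.2.1
      exact h1.isClosed
    haveI : ExtremallyDisconnected (WLoc.Yc (PrimeSpectrum (A ⧸ J))) :=
      extremallyDisconnected_of_isOpenEmbedding ⟨hge, hopen⟩
    exact extremallyDisconnected_of_homeo (WLoc.homeoYc hWB)
  · intro n hn
    haveI : (n.comap (algebraMap A (A ⧸ J))).IsMaximal :=
      Ideal.isMaximal_comap_of_isIntegral_of_isMaximal (R := A) n
    exact isStrictlyHenselian_localization_of_finite A (A ⧸ J) _ (hS _) n rfl

end Groth.Agent.Lib.Helper36.FinWC
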