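import Mathlib
import Groth.Prelude.Def_ProEtS
import Groth.Agent.Lib.Helper36.ProEtPush
import Groth.Agent.Lib.Helper36.QuotientWContr

set_option autoImplicit false
set_option linter.style.haveILetI false
open CategoryTheory CategoryTheory.Limits AlgebraicGeometry Opposite PrimeSpectrum
universe u

namespace Groth.Agent.Lib.Helper36.ProEtPush

open Groth.Agent.Lib.Helper36.ProEtSite

variable {Z X : Scheme.{u}}

/-- pushforward preserves epimorphisms as soon as base change preserves affine weakly contractible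
objects -/
theorem epi_pushP_map_of_isWC (f : Z ⟶ X) [ProEtS.PCont f]
    (H : ∀ (W : X.ProEt) [IsAffine W.left], EtPBC.IsWContractible ↥(Γ(W.left, ⊤)) →
      ProEtS.IsWC ((ProEtS.bcP f).obj W))
    {F G : ProEtS.AbP Z} (φ : F ⟶ G) [Epi φ] : Epi ((ProEtS.pushP f).map φ) := by
  rw [← Sheaf.isLocallySurjective_iff_epi' _]
  constructor
  intro V s
  obtain ⟨ι, D, _, fam, _, hmem, hwc⟩ := exists_affine_wContractible_family V
  refine (Scheme.ProEt.topology X).superset_covering ?_
    (generate_ofArrows_mem_topology V _ fam hmem)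
  rw [Sieve.generate_le_iff]
  rintro _ _ ⟨i⟩
  have hW : ProEtS.IsWC ((ProEtS.bcP f).obj (objOver V (fam i))) := by
    haveI : IsAffine (objOver V (fam i)).left := inferInstanceAs (IsAffine (Spec (.of (D i))))
    apply H
    exact isWContractible_of_ringEquiv
      (Scheme.ΓSpecIso (.of (D i))).commRingCatIsoToRingEquiv.symm (hwc i)
  obtain ⟨t, ht⟩ := surjective_app_of_isWC φ _ hW
    (G.obj.map ((ProEtS.bcP f).map (homOver V (fam i))).op s)
  exact ⟨t, ht⟩

theorem exact_pushP_of_isWC (f : Z ⟶ X) [ProEtS.PCont f]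
    (H : ∀ (W : X.ProEt) [IsAffine W.left], EtPBC.IsWContractible ↥(Γ(W.left, ⊤)) →
      ProEtS.IsWC ((ProEtS.bcP f).obj W)) :
    PreservesFiniteLimits (ProEtS.pushP f) ∧ PreservesFiniteColimits (ProEtS.pushP f) := by
  haveI hlim : PreservesFiniteLimits (ProEtS.pushP f) :=
    haveI := (ProEtS.pullPushAdjP f).rightAdjoint_preservesLimits
    ⟨fun _ _ _ => inferInstance⟩
  refine ⟨hlim, ?_⟩
  rw [Functor.preservesFiniteColimits_iff_forall_exact_map_and_epi]
  intro S hS
  refine ⟨((Functor.preservesFiniteLimits_iff_forall_exact_map_and_mono _).mp hlim S hS).1, ?_⟩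
  haveI := hS.epi_g
  exact epi_pushP_map_of_isWC f H S.g

theorem isRetrocompact_preimage {X Y : Scheme.{u}} (f : X ⟶ Y) {t : Set Y} (ht : IsOpen t)
    (ht' : IsRetrocompact t) : IsRetrocompact (f ⁻¹' t) :=
  IsRetrocompact_iff_isSpectralMap_subtypeVal.mpr
    (quasiCompact_iff_isSpectralMap.mp
    (MorphismProperty.of_isPullback (P := @QuasiCompact)
    (isPullback_morphismRestrict f ⟨t, ht⟩)
    (quasiCompact_iff_isSpectralMap.mpr (IsRetrocompact_iff_isSpectralMap_subtypeVal.mp ht'))))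

theorem isCompact_compl_zeroLocus_ker {P S : Scheme.{u}} [IsAffine P] [IsAffine S] (g : P ⟶ S)
    (hsurj : Function.Surjective g.appTop.hom)
    (hc : IsCompact (Set.range g)ᶜ) :
    IsCompact ((zeroLocus ((RingHom.ker g.appTop.hom : Ideal ↥(Γ(S, ⊤))) : Set ↥(Γ(S, ⊤))))ᶜ :
      Set (PrimeSpectrum ↥(Γ(S, ⊤)))) := by
  let e : ↥S ≃ₜ PrimeSpectrum ↥(Γ(S, ⊤)) := S.isoSpec.hom.homeomorph
  have h1 : e '' (Set.range g)ᶜ = (zeroLocus ((RingHom.ker g.appTop.hom : Ideal ↥(Γ(S, ⊤))) :
      Set ↥(Γ(S, ⊤))))ᶜ := by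
    rw [Set.image_compl_eq e.bijective, ← range_comap_of_surjective _ _ hsurj]
    congr 1
    rw [← Set.range_comp]
    have h2 : (e ∘ g : ↥P → PrimeSpectrum ↥(Γ(S, ⊤))) =
        (comap g.appTop.hom) ∘ P.isoSpec.hom := by
      funext x
      have h3 := Scheme.isoSpec_hom_naturality g
      have h4 := congrArg (fun φ : P ⟶ Spec Γ(S, ⊤) => φ x) h3
      exact h4.symm
    rw [h2]
    have h5 : Function.Surjective (P.isoSpec.hom : ↥P → PrimeSpectrum ↥(Γ(P, ⊤))) :=
      P.isoSpec.hom.homeomorph.surjective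
    exact h5.range_comp _
  rw [← h1]
  exact hc.image e.continuous

/-- scheme-level form of `isWContractible_quotient` -/
theorem isWContractible_of_isClosedImmersion {P S : Scheme.{u}} [IsAffine S] (g : P ⟶ S)
    [IsClosedImmersion g] (hc : IsCompact (Set.range g)ᶜ)
    (hS : EtPBC.IsWContractible ↥(Γ(S, ⊤))) :
    ∃ _ : IsAffine P, EtPBC.IsWContractible ↥(Γ(P, ⊤)) := by
  obtain ⟨hP, hsurj⟩ := IsClosedImmersion.isAffine_surjective_of_isAffine g
  refine ⟨hP, ?_⟩
  have hsurj' : Function.Surjective g.appTop.hom := hsurj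
  have h1 := Groth.Agent.Lib.Helper36.FinWC.isWContractible_quotient ↥(Γ(S, ⊤))
    (RingHom.ker g.appTop.hom) (isCompact_compl_zeroLocus_ker g hsurj' hc) hS
  exact isWContractible_of_ringEquiv (RingHom.quotientKerEquivOfSurjective hsurj') h1

theorem isWC_bcP_obj_of_isClosedImmersion (i : Z ⟶ X) [IsClosedImmersion i]
    (hr : IsRetrocompact (Set.range i)ᶜ) (W : X.ProEt) [IsAffine W.left]
    (hW : EtPBC.IsWContractible ↥(Γ(W.left, ⊤))) : ProEtS.IsWC ((ProEtS.bcP i).obj W) := by
  have hc : IsCompact (Set.range (pullback.fst W.hom i : pullback W.hom i ⟶ W.left))ᶜ := by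
    have h1 : Set.range (pullback.fst W.hom i : pullback W.hom i ⟶ W.left) =
        W.hom ⁻¹' Set.range i := Scheme.Pullback.range_fst W.hom i
    rw [h1, ← Set.preimage_compl]
    have h2 := isRetrocompact_preimage W.hom i.isClosedEmbedding.isClosed_range.isOpen_compl hr
    haveI : CompactSpace ↥((𝟭 Scheme).obj W.left) := inferInstanceAs (CompactSpace ↥W.left)
    have h3 := h2 isCompact_univ isOpen_univ
    rwa [Set.inter_univ] at h3
  obtain ⟨hP, hwc⟩ := isWContractible_of_isClosedImmersion (S := W.left)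
    (pullback.fst W.hom i : pullback W.hom i ⟶ W.left) hc hW
  haveI : IsAffine ((ProEtS.bcP i).obj W).left := hP
  exact (isWContractible_iff_isWC _).mp hwc

end Groth.Agent.Lib.Helper36.ProEtPush
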