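import Mathlib
import Groth.Prelude.Def_ProEtS
import Groth.Agent.Lib.Helper36.HensLiftWC
import Groth.Agent.Lib.Helper36.ClosedCounit
import Groth.Agent.Lib.Helper36.ProEtPush2
import Groth.Agent.Lib.Helper36.ProEtSheafify

set_option autoImplicit false
set_option linter.style.haveILetI false
universe u
open CategoryTheory CategoryTheory.Limits AlgebraicGeometry Opposite

namespace Groth.Agent.Lib.Helper36.ClosedHens

open Groth.Agent.Lib.Helper36.ProEtSite Groth.Agent.Lib.Helper36.ClosedLiftGeom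
  Groth.Agent.Lib.Helper36.HensLiftWC

/-- ring-level henselian lifting, for a general surjection -/
theorem exists_lift_weaklyEtale' {A Ab : Type u} [CommRing A] [CommRing Ab]
    (hA : EtPBC.IsWContractible A) (φ : A →+* Ab) (hφ : Function.Surjective φ)
    (hker : RingHom.ker φ ≤ Ideal.jacobson ⊥) (hAb : EtPBC.IsWContractible Ab)
    (B : Type u) [CommRing B] [Algebra A B] [Algebra.WeaklyEtale A B] (τ : B →+* Ab)
    (hτ : τ.comp (algebraMap A B) = φ) :
    ∃ ρ : B →ₐ[A] A, φ.comp ρ.toRingHom = τ := by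
  let I := RingHom.ker φ
  let e : A ⧸ I ≃+* Ab := RingHom.quotientKerEquivOfSurjective hφ
  have he : ∀ a : A, e (Ideal.Quotient.mk I a) = φ a := fun a => rfl
  have hAI : EtPBC.IsWContractible (A ⧸ I) := isWContractible_of_ringEquiv e.symm hAb
  let τ' : B →ₐ[A] A ⧸ I :=
    { (e.symm.toRingHom.comp τ) with
      commutes' := fun a => by
        change e.symm (τ (algebraMap A B a)) = Ideal.Quotient.mk I a
        rw [e.symm_apply_eq, he]
        exact congr($hτ a) }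
  obtain ⟨ρ, hρ⟩ := exists_lift_weaklyEtale I hA hker hAI B τ'
  refine ⟨ρ, ?_⟩
  ext b
  have h1 : Ideal.Quotient.mk I (ρ b) = e.symm (τ b) := congr($hρ b)
  change φ (ρ b) = τ b
  rw [← he, h1, e.apply_symm_apply]

/-- If every point of the affine scheme `S` specialises to a point of the closed subscheme `P`,
the ideal of `P` lies in the Jacobson radical. -/
theorem ker_le_jacobson_of_specializes {P S : Scheme.{u}} [IsAffine P] [IsAffine S] (g : P ⟶ S)
    (hsp : ∀ v : ↥S, ∃ z ∈ Set.range g, v ⤳ z) :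
    RingHom.ker g.appTop.hom ≤ Ideal.jacobson ⊥ := by
  let e : ↥S ≃ₜ PrimeSpectrum ↥(Γ(S, ⊤)) := S.isoSpec.hom.homeomorph
  refine le_sInf ?_
  rintro m ⟨-, hm⟩
  let pm : PrimeSpectrum ↥(Γ(S, ⊤)) := ⟨m, hm.isPrime⟩
  obtain ⟨z, ⟨t, rfl⟩, hz⟩ := hsp (e.symm pm)
  have h1 : pm ⤳ e (g t) := by
    have := (e.isInducing.specializes_iff).mpr hz
    rwa [e.apply_symm_apply] at this
  have h2 : m ≤ (e (g t)).asIdeal := (PrimeSpectrum.le_iff_specializes pm _).mpr h1
  have h3 : m = (e (g t)).asIdeal := hm.eq_of_le (e (g t)).2.ne_top h2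
  have h4 : e (g t) = PrimeSpectrum.comap g.appTop.hom (P.isoSpec.hom t) := by
    have h5 := Scheme.isoSpec_hom_naturality g
    have h6 := congrArg (fun ψ : P ⟶ Spec Γ(S, ⊤) => ψ t) h5
    exact h6.symm
  rw [h3, h4]
  intro x hx
  change g.appTop.hom x ∈ (P.isoSpec.hom t).asIdeal
  rw [(RingHom.mem_ker).mp hx]
  exact Ideal.zero_mem _

variable {Z X : Scheme.{u}} (i : Z ⟶ X) [IsClosedImmersion i]

/-- **Henselian lifting, affine case.** Let `V₁` be an affine object of `X_proét` with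
w-contractible ring of functions all of whose points specialise into `Z`, such that `V₁ ×_X Z` has
w-contractible ring of functions. A morphism `c : V ⟶ V₁` from an affine object with a section `a`
over `Z` has a section inducing `a`. -/
theorem exists_section_affine (V₁ V : X.ProEt) [IsAffine V₁.left] [IsAffine V.left]
    (hV₁ : EtPBC.IsWContractible ↥(Γ(V₁.left, ⊤)))
    (hT : ∃ _ : IsAffine (pullback V₁.hom i), EtPBC.IsWContractible ↥(Γ(pullback V₁.hom i, ⊤)))
    (hsp : ∀ v : ↥V₁.left, ∃ z : ↥V₁.left, V₁.hom z ∈ Set.range i ∧ v ⤳ z)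
    (c : V ⟶ V₁) (a : (ProEtS.bcP i).obj V₁ ⟶ (ProEtS.bcP i).obj V)
    (hac : a ≫ (ProEtS.bcP i).map c = 𝟙 _) :
    ∃ b : V₁ ⟶ V, b ≫ c = 𝟙 V₁ ∧ (ProEtS.bcP i).map b = a := by
  obtain ⟨hT₁aff, hT₁wc⟩ := hT
  let T₁ : Scheme.{u} := pullback V₁.hom i
  let cl₁ : T₁ ⟶ V₁.left := pullback.fst V₁.hom i
  let TV : Scheme.{u} := pullback V.hom i
  let clV : TV ⟶ V.left := pullback.fst V.hom i
  haveI : IsClosedImmersion cl₁ := inferInstance
  haveI : IsClosedImmersion clV := inferInstance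
  haveI : IsAffine T₁ := hT₁aff
  haveI hTVaff : IsAffine TV := (IsClosedImmersion.isAffine_surjective_of_isAffine clV).1
  have hsurj : Function.Surjective cl₁.appTop.hom :=
    (IsClosedImmersion.isAffine_surjective_of_isAffine cl₁).2
  have hker : RingHom.ker cl₁.appTop.hom ≤ Ideal.jacobson ⊥ := by
    apply ker_le_jacobson_of_specializes cl₁
    intro v
    obtain ⟨z, hz, hvz⟩ := hsp v
    refine ⟨z, ?_, hvz⟩
    have h1 : Set.range cl₁ = V₁.hom ⁻¹' Set.range i := Scheme.Pullback.range_fst V₁.hom i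
    rw [h1]
    exact hz
  let cl : V.left ⟶ V₁.left := c.left
  haveI : WeaklyEtale cl := weaklyEtale_left c
  letI algAB : Algebra ↥(Γ(V₁.left, ⊤)) ↥(Γ(V.left, ⊤)) := cl.appTop.hom.toAlgebra
  haveI hwe : Algebra.WeaklyEtale ↥(Γ(V₁.left, ⊤)) ↥(Γ(V.left, ⊤)) := by
    change (letI := cl.appTop.hom.toAlgebra; Algebra.WeaklyEtale ↥(Γ(V₁.left, ⊤)) ↥(Γ(V.left, ⊤)))
    rw [← Groth.Agent.Lib.Helper36.WE.weaklyEtale_SpecMap_iff]
    exact (MorphismProperty.arrow_mk_iso_iff @WeaklyEtale (arrowIsoSpecΓOfIsAffine cl)).mp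
      inferInstance
  let al : T₁ ⟶ TV := a.left
  let uc : TV ⟶ T₁ := ((ProEtS.bcP i).map c).left
  have huc : clV ≫ cl = uc ≫ cl₁ := (Groth.Agent.S0730.isPullback_bcP_map i c).w
  have hal : al ≫ uc = 𝟙 T₁ := congrArg (fun m => m.left) hac
  let τ : ↥(Γ(V.left, ⊤)) →+* ↥(Γ(T₁, ⊤)) := al.appTop.hom.comp clV.appTop.hom
  have hτ : τ.comp (algebraMap ↥(Γ(V₁.left, ⊤)) ↥(Γ(V.left, ⊤))) = cl₁.appTop.hom := by
    have h1 : al ≫ clV ≫ cl = cl₁ := by
      rw [huc, ← Category.assoc, hal, Category.id_comp]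
    have h2 := congrArg (fun m => m.appTop.hom) h1
    simp only [Scheme.Hom.comp_appTop, CommRingCat.hom_comp] at h2
    rw [← h2]
    rfl
  obtain ⟨ρ, hρ⟩ := exists_lift_weaklyEtale' hV₁ cl₁.appTop.hom hsurj hker hT₁wc
    ↥(Γ(V.left, ⊤)) τ hτ
  let ρc : Γ(V.left, ⊤) ⟶ Γ(V₁.left, ⊤) := CommRingCat.ofHom ρ.toRingHom
  let σ : V₁.left ⟶ V.left := homOfΓ ρc
  have hσc : σ ≫ cl = 𝟙 V₁.left := by
    apply ext_of_isAffine
    rw [Scheme.Hom.comp_appTop, homOfΓ_appTop, Scheme.Hom.id_appTop]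
    ext x
    exact ρ.commutes x
  have hσw : σ ≫ V.hom = V₁.hom := by
    have h1 : cl ≫ V₁.hom = V.hom := MorphismProperty.Over.w c
    rw [← h1, ← Category.assoc, hσc, Category.id_comp]
  let b : V₁ ⟶ V := MorphismProperty.Over.homMk σ hσw
  refine ⟨b, ?_, ?_⟩
  · apply MorphismProperty.Over.Hom.ext
    exact hσc
  · apply MorphismProperty.Over.Hom.ext
    let ub : T₁ ⟶ TV := ((ProEtS.bcP i).map b).left
    change ub = al
    have hub : cl₁ ≫ σ = ub ≫ clV := (Groth.Agent.S0730.isPullback_bcP_map i b).w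
    apply pullback.hom_ext
    · change ub ≫ clV = al ≫ clV
      rw [← hub]
      apply ext_of_isAffine
      rw [Scheme.Hom.comp_appTop, homOfΓ_appTop, Scheme.Hom.comp_appTop]
      ext x
      exact congr($hρ x)
    · have h1 : ub ≫ pullback.snd V.hom i = pullback.snd V₁.hom i :=
        MorphismProperty.Over.w ((ProEtS.bcP i).map b)
      have h2 : al ≫ pullback.snd V.hom i = pullback.snd V₁.hom i := MorphismProperty.Over.w a
      rw [h1, h2]

omit [IsClosedImmersion i] in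
/-- A morphism from an affine object with w-contractible ring of functions to a base change
`V ×_X Z` factors through the base change of an affine object over `V`. -/
theorem exists_affine_refinement (T : Z.ProEt) [IsAffine T.left]
    (hT : EtPBC.IsWContractible ↥(Γ(T.left, ⊤))) (V : X.ProEt)
    (a : T ⟶ (ProEtS.bcP i).obj V) :
    ∃ (V' : X.ProEt) (_ : IsAffine V'.left) (f : V' ⟶ V) (a' : T ⟶ (ProEtS.bcP i).obj V'),
      a' ≫ (ProEtS.bcP i).map f = a := by
  let R : Sieve T :=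
    { arrows := fun Y h => ∃ (V₀ : X.ProEt) (_ : IsAffine V₀.left) (b : V₀ ⟶ V)
        (a₀ : Y ⟶ (ProEtS.bcP i).obj V₀), a₀ ≫ (ProEtS.bcP i).map b = h ≫ a
      downward_closed := by
        rintro Y Y' h ⟨V₀, hV₀, b, a₀, hab⟩ g
        exact ⟨V₀, hV₀, b, g ≫ a₀, by rw [Category.assoc, hab, Category.assoc]⟩ }
  have hR : R ∈ Scheme.ProEt.topology Z T :=
    Groth.Agent.Lib.Helper36.ClosedCounit.mem_topology_of_forall_affine i T V a R
      (fun W h _ _ V₀ hV₀ b a₀ hab => ⟨V₀, hV₀, b, a₀, hab⟩)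
  obtain ⟨n, Tk, -, hdisj, hcov, hTk⟩ := exists_clopen_partition_mem_of_mem_topology T hT R hR
  choose V₀ hV₀aff b a₀ hab using hTk
  haveI : ∀ k, IsAffine (V₀ k).left := hV₀aff
  haveI : IsAffine (coprodObj V₀).left :=
    inferInstanceAs (IsAffine (∐ fun k => (V₀ k).left))
  obtain ⟨f, hf⟩ := exists_coprodDesc V₀ V b
  obtain ⟨hc⟩ := nonempty_isColimit_cofan_of_partition T Tk hdisj hcov
  let a' : T ⟶ (ProEtS.bcP i).obj (coprodObj V₀) :=
    Cofan.IsColimit.desc hc (fun k => a₀ k ≫ (ProEtS.bcP i).map (coprodInj V₀ k))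
  have ha' : ∀ k, homOver T (Tk k).ι ≫ a' = a₀ k ≫ (ProEtS.bcP i).map (coprodInj V₀ k) :=
    fun k => Cofan.IsColimit.fac hc _ k
  refine ⟨coprodObj V₀, inferInstance, f, a', ?_⟩
  apply Cofan.IsColimit.hom_ext hc
  intro k
  change homOver T (Tk k).ι ≫ a' ≫ (ProEtS.bcP i).map f = homOver T (Tk k).ι ≫ a
  rw [← Category.assoc, ha', Category.assoc, ← Functor.map_comp, hf, hab]

/-- **Henselian lifting.** Let `V₁` be an affine object of `X_proét` with w-contractible ring of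
functions all of whose points specialise into `Z`, such that `V₁ ×_X Z` has w-contractible ring
of functions. A morphism `c : V ⟶ V₁` with a section `a` over `Z` has a section inducing `a`. -/
theorem exists_section (V₁ V : X.ProEt) [IsAffine V₁.left]
    (hV₁ : EtPBC.IsWContractible ↥(Γ(V₁.left, ⊤)))
    (hT : ∃ _ : IsAffine (pullback V₁.hom i), EtPBC.IsWContractible ↥(Γ(pullback V₁.hom i, ⊤)))
    (hsp : ∀ v : ↥V₁.left, ∃ z : ↥V₁.left, V₁.hom z ∈ Set.range i ∧ v ⤳ z)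
    (c : V ⟶ V₁) (a : (ProEtS.bcP i).obj V₁ ⟶ (ProEtS.bcP i).obj V)
    (hac : a ≫ (ProEtS.bcP i).map c = 𝟙 _) :
    ∃ b : V₁ ⟶ V, b ≫ c = 𝟙 V₁ ∧ (ProEtS.bcP i).map b = a := by
  obtain ⟨hTaff, hTwc⟩ := hT
  haveI : IsAffine ((ProEtS.bcP i).obj V₁).left := hTaff
  obtain ⟨V', hV'aff, f, a', ha'⟩ :=
    exists_affine_refinement i ((ProEtS.bcP i).obj V₁) hTwc V a
  haveI := hV'aff
  obtain ⟨b', hb'1, hb'2⟩ := exists_section_affine i V₁ V' hV₁ ⟨hTaff, hTwc⟩ hsp (f ≫ c) a' (by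
    rw [Functor.map_comp, ← Category.assoc, ha', hac])
  refine ⟨b' ≫ f, ?_, ?_⟩
  · rw [Category.assoc, hb'1]
  · rw [Functor.map_comp, hb'2, ha']

end Groth.Agent.Lib.Helper36.ClosedHens
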