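import Mathlib
import Groth.Prelude.Def_ProEtW
import Groth.Agent.Lib.Helper36.HensLiftWC
import Groth.Agent.Lib.Helper9.HensK.IndEtale
import Groth.Agent.Lib.Helper36.ProEtCover

/-!
# Lifting points of weakly étale algebras over henselian pairs (helper36)
-/

set_option autoImplicit false
set_option linter.style.haveILetI false
universe u

namespace Groth.Agent.Lib.Helper36.HensLiftH

open Groth.Agent.Lib.Helper9.HensK CategoryTheory CategoryTheory.Limits
  Groth.Agent.Lib.Helper36.IndEt Polynomial

/-- The colimit of pointed étale algebras is henselian along the kernel of its residue map. -/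
theorem henselianRing_ptColim (A : Type u) [CommRing A] (K : Type u) [CommRing K] [Algebra A K] :
    HenselianRing (PtColim A K)
      (RingHom.ker (PtColim.residue : PtColim A K →ₐ[A] K).toRingHom) where
  jac := PtColim.ker_residue_le_jacobson
  is_henselian := by
    intro f hf a₀ h₁ h₂
    let res : PtColim A K →+* K := (PtColim.residue : PtColim A K →ₐ[A] K).toRingHom
    let J : Ideal (PtColim A K) := RingHom.ker res
    let ψ : PtColim A K ⧸ J →+* K := Ideal.Quotient.lift J res (fun x hx => hx)
    have hψ : ∀ x, ψ (Ideal.Quotient.mk J x) = res x := fun x => Ideal.Quotient.lift_mk J res _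
    have e1 : (f.map res).eval (res a₀) = 0 := by
      rw [Polynomial.eval_map_apply]
      exact h₁
    have e2 : IsUnit ((f.derivative.map res).eval (res a₀)) := by
      rw [Polynomial.eval_map_apply, ← hψ]
      exact h₂.map ψ
    obtain ⟨a, ha1, ha2⟩ := PtColim.exists_root f hf (res a₀) e1 e2
    refine ⟨a, ha1, ?_⟩
    change res (a - a₀) = 0
    rw [map_sub, sub_eq_zero]
    exact ha2

/-- transport of the henselian property along a ring isomorphism -/
theorem henselianRing_of_ringEquiv {A A' : Type*} [CommRing A] [CommRing A'] (e : A ≃+* A')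
    (I : Ideal A) (I' : Ideal A') (h : ∀ a, e a ∈ I' ↔ a ∈ I) [HenselianRing A I] :
    HenselianRing A' I' where
  jac := by
    intro x hx
    obtain ⟨a, rfl⟩ := e.surjective x
    have ha : a ∈ Ideal.jacobson (⊥ : Ideal A) := HenselianRing.jac ((h a).mp hx)
    rw [Ideal.mem_jacobson_bot] at ha ⊢
    intro y
    obtain ⟨b, rfl⟩ := e.surjective y
    have h1 := (ha b).map e
    rwa [map_add, map_mul, map_one] at h1
  is_henselian := by
    intro f hf a₀ h₁ h₂
    let es : A' →+* A := e.symm.toRingHom
    let g : A[X] := f.map es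
    have hg : g.Monic := hf.map es
    have hI' : ∀ x : A', x ∈ I' ↔ es x ∈ I := by
      intro x
      rw [← h (es x)]
      change x ∈ I' ↔ e (e.symm x) ∈ I'
      rw [e.apply_symm_apply]
    have e1 : g.eval (es a₀) ∈ I := by
      rw [Polynomial.eval_map_apply, ← hI']
      exact h₁
    have hle : I' ≤ I.comap es := fun x hx => (hI' x).mp hx
    let ψ : A' ⧸ I' →+* A ⧸ I := Ideal.quotientMap I es hle
    have e2 : IsUnit (Ideal.Quotient.mk I (g.derivative.eval (es a₀))) := by
      have h3 : g.derivative = f.derivative.map es := Polynomial.derivative_map f es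
      rw [h3, Polynomial.eval_map_apply]
      have h4 := h₂.map ψ
      rwa [Ideal.quotientMap_mk] at h4
    obtain ⟨a, ha1, ha2⟩ := HenselianRing.is_henselian g hg (es a₀) e1 e2
    refine ⟨e a, ?_, ?_⟩
    · have h5 : f = g.map e.toRingHom := by
        rw [Polynomial.map_map]
        have : e.toRingHom.comp es = RingHom.id A' := by
          ext x
          exact e.apply_symm_apply x
        rw [this, Polynomial.map_id]
      rw [Polynomial.IsRoot.def, h5]
      change (g.map e.toRingHom).eval (e.toRingHom a) = 0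
      rw [Polynomial.eval_map_apply, ha1, map_zero]
    · rw [hI', map_sub]
      change e.symm (e a) - es a₀ ∈ I
      rw [e.symm_apply_apply]
      exact ha2

variable {A : Type u} [CommRing A] (I : Ideal A)

/-- Over a henselian pair, points of ind-étale `A`-algebras in `A/I` lift to `A`. -/
theorem exists_lift_indEtale [HenselianRing A I]
    (B : Type u) [CommRing B] [Algebra A B] (hB : EtPBC.IsIndEtale A B) (τ : B →ₐ[A] A ⧸ I) :
    ∃ ρ : B →ₐ[A] A, (Ideal.Quotient.mkₐ A I).comp ρ = τ := by
  rw [isIndEtale_iff_ind] at hB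
  obtain ⟨J, _, _, pres, hP⟩ := hB
  letI alg : ∀ j, Algebra A (pres.diag.obj j).right := fun j => (pres.diag.obj j).hom.hom.toAlgebra
  haveI het : ∀ j, Algebra.Etale A (pres.diag.obj j).right := fun j => hP j
  -- the structure maps as algebra maps
  let leg : ∀ j, (pres.diag.obj j).right →ₐ[A] B := fun j =>
    ⟨(pres.ι.app j).right.hom, fun r => congrArg (fun m => m.hom r) (Under.w (pres.ι.app j))⟩
  let tr : ∀ {j k : J} (f : j ⟶ k), (pres.diag.obj j).right →ₐ[A] (pres.diag.obj k).right :=
    fun {j k} f => ⟨(pres.diag.map f).right.hom,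
      fun r => congrArg (fun m => m.hom r) (Under.w (pres.diag.map f))⟩
  have hleg : ∀ {j k : J} (f : j ⟶ k), (leg k).comp (tr f) = leg j := by
    intro j k f
    ext x
    exact congrArg (fun m => m.right.hom x) (pres.cocone.w f)
  have key : ∀ j, ∃! ρ : (pres.diag.obj j).right →ₐ[A] A,
      (Ideal.Quotient.mkₐ A I).comp ρ = τ.comp (leg j) :=
    fun j => Groth.Agent.Lib.Helper3.existsUnique_algHom_lift_of_etale _ A I _
  choose ρ hρ hρu using key
  have hcompat : ∀ {j k : J} (f : j ⟶ k), (ρ k).comp (tr f) = ρ j := by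
    intro j k f
    apply hρu
    rw [← AlgHom.comp_assoc, hρ, AlgHom.comp_assoc, hleg]
  let tgt : Under (CommRingCat.of A) := Under.mk (𝟙 (CommRingCat.of A))
  let s : Cocone pres.diag :=
    { pt := tgt
      ι :=
        { app := fun j => Under.homMk (CommRingCat.ofHom (ρ j).toRingHom) (by
            ext r
            exact (ρ j).commutes r)
          naturality := fun j k f => by
            ext x
            simp only [Functor.const_obj_obj, Functor.const_obj_map, Category.comp_id]
            exact congr($(hcompat f) x) } }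
  let d := pres.isColimit.desc s
  have hd : ∀ j x, d.right.hom ((pres.ι.app j).right.hom x) = ρ j x := by
    intro j x
    have := congrArg (fun m => m.right.hom x) (pres.isColimit.fac s j)
    exact this
  let ρB : B →ₐ[A] A := ⟨d.right.hom, fun r => congrArg (fun m => m.hom r) (Under.w d)⟩
  refine ⟨ρB, ?_⟩
  -- both sides are maps out of the colimit
  let tgt' : Under (CommRingCat.of A) := Under.mk (CommRingCat.ofHom (Ideal.Quotient.mk I))
  let m₁ : Under.mk (CommRingCat.ofHom (algebraMap A B)) ⟶ tgt' :=
    Under.homMk (CommRingCat.ofHom ((Ideal.Quotient.mkₐ A I).comp ρB).toRingHom) (by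
      ext r
      exact ((Ideal.Quotient.mkₐ A I).comp ρB).commutes r)
  let m₂ : Under.mk (CommRingCat.ofHom (algebraMap A B)) ⟶ tgt' :=
    Under.homMk (CommRingCat.ofHom τ.toRingHom) (by
      ext r
      exact τ.commutes r)
  have hm : m₁ = m₂ := by
    apply pres.isColimit.hom_ext
    intro j
    ext x
    change Ideal.Quotient.mk I (d.right.hom ((pres.ι.app j).right.hom x)) =
      τ ((pres.ι.app j).right.hom x)
    rw [hd]
    exact congr($(hρ j) x)
  ext b
  exact congrArg (fun m => m.right.hom b) hm

open TensorProduct in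
/-- **Henselian lifting.** Let `(A, I)` be a henselian pair with `A/I` w-contractible. Every point
in `A/I` of a weakly étale `A`-algebra `B` lifts to a point in `A`. -/
theorem exists_lift_weaklyEtale [HenselianRing A I]
    (hAI : EtPBC.IsWContractible (A ⧸ I))
    (B : Type u) [CommRing B] [Algebra A B] [Algebra.WeaklyEtale A B] (τ : B →ₐ[A] A ⧸ I) :
    ∃ ρ : B →ₐ[A] A, (Ideal.Quotient.mkₐ A I).comp ρ = τ := by
  obtain ⟨B', _, _, _, tower, hff, hindB, hindA⟩ := Groth.Agent.S0176.result A B
  haveI : Algebra.WeaklyEtale B B' := Groth.Agent.S0736.result B B' hindB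
  letI algBĀ : Algebra B (A ⧸ I) := τ.toRingHom.toAlgebra
  haveI : Module.FaithfullyFlat (A ⧸ I) ((A ⧸ I) ⊗[B] B') := inferInstance
  haveI : Algebra.WeaklyEtale (A ⧸ I) ((A ⧸ I) ⊗[B] B') := inferInstance
  obtain ⟨r⟩ := hAI ((A ⧸ I) ⊗[B] B') inferInstance inferInstance
  let incl : B' →ₐ[B] (A ⧸ I) ⊗[B] B' := Algebra.TensorProduct.includeRight
  let τ'₀ : B' →+* A ⧸ I := r.toRingHom.comp incl.toRingHom
  have hτ'₀ : ∀ b : B, τ'₀ (algebraMap B B' b) = τ b := by
    intro b
    change r (incl (algebraMap B B' b)) = τ b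
    rw [incl.commutes]
    have : algebraMap B ((A ⧸ I) ⊗[B] B') b = algebraMap (A ⧸ I) ((A ⧸ I) ⊗[B] B') (τ b) := by
      rw [Algebra.TensorProduct.algebraMap_apply, Algebra.TensorProduct.algebraMap_apply]
      rfl
    rw [this, r.commutes]
    rfl
  let τ' : B' →ₐ[A] A ⧸ I :=
    { τ'₀ with
      commutes' := fun a => by
        change τ'₀ (algebraMap A B' a) = algebraMap A (A ⧸ I) a
        rw [IsScalarTower.algebraMap_apply A B B', hτ'₀, τ.commutes] }
  obtain ⟨ρ', hρ'⟩ := exists_lift_indEtale I B' hindA τ'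
  refine ⟨ρ'.comp (IsScalarTower.toAlgHom A B B'), ?_⟩
  ext b
  have h1 := congr($hρ' (algebraMap B B' b))
  change Ideal.Quotient.mk I (ρ' (algebraMap B B' b)) = τ b
  exact h1.trans (hτ'₀ b)

open Groth.Agent.Lib.Helper36.ProEtSite in
/-- ring-level henselian lifting, for a general surjection -/
theorem exists_lift_weaklyEtale' {A Ab : Type u} [CommRing A] [CommRing Ab]
    (φ : A →+* Ab) (hφ : Function.Surjective φ)
    (hH : HenselianRing A (RingHom.ker φ)) (hAb : EtPBC.IsWContractible Ab)
    (B : Type u) [CommRing B] [Algebra A B] [Algebra.WeaklyEtale A B] (τ : B →+* Ab)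
    (hτ : τ.comp (algebraMap A B) = φ) :
    ∃ ρ : B →ₐ[A] A, φ.comp ρ.toRingHom = τ := by
  let I := RingHom.ker φ
  let e : A ⧸ I ≃+* Ab := RingHom.quotientKerEquivOfSurjective hφ
  have he : ∀ a : A, e (Ideal.Quotient.mk I a) = φ a := fun a => rfl
  have hAI : EtPBC.IsWContractible (A ⧸ I) := isWContractible_of_ringEquiv e.symm hAb
  let τ' : B →ₐ[A] A ⧸ I :=
    { (e.symm.toRingHom.comp τ) with
      commutes' := fun a => by
        change e.symm (τ (algebraMap A B a)) = Ideal.Quotient.mk I a
        rw [e.symm_apply_eq, he]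
        exact congr($hτ a) }
  haveI : HenselianRing A I := hH
  obtain ⟨ρ, hρ⟩ := exists_lift_weaklyEtale I hAI B τ'
  refine ⟨ρ, ?_⟩
  ext b
  have h1 : Ideal.Quotient.mk I (ρ b) = e.symm (τ b) := congr($hρ b)
  change φ (ρ b) = τ b
  rw [← he, h1, e.apply_symm_apply]

end Groth.Agent.Lib.Helper36.HensLiftH
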