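import Mathlib
import Groth.Prelude.Def_ProEtS
import Groth.Agent.Lib.Helper36.ClosedLiftGeom
import Groth.Agent.Lib.Helper36.HensLiftH
import Groth.Agent.Lib.Helper36.OlivierCover

/-!
# Henselian lifts of objects of the pro-étale site of a closed subscheme (helper36)
-/

set_option autoImplicit false
set_option linter.style.haveILetI false
universe u
open CategoryTheory CategoryTheory.Limits AlgebraicGeometry Opposite

namespace Groth.Agent.Lib.Helper36.ClosedHensLift

open Groth.Agent.Lib.Helper36.ProEtSite Groth.Agent.Lib.Helper36.ClosedLift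
  Groth.Agent.Lib.Helper36.ClosedLiftGeom Groth.Agent.Lib.Helper36.IndEt
  Groth.Agent.Lib.Helper36.IndEtLift Groth.Agent.Lib.Helper9.HensK
  Groth.Agent.Lib.Helper36.HensLiftH

/-- Every weakly étale algebra `B` over `Ab` has a faithfully flat ind-étale w-contractible cover
which is ind-étale over `Ab`. -/
theorem exists_wc_indEtale_cover (Ab B : Type u) [CommRing Ab] [CommRing B] [Algebra Ab B]
    [Algebra.WeaklyEtale Ab B] :
    ∃ (D : Type u) (_ : CommRing D) (_ : Algebra B D) (_ : Algebra Ab D)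
      (_ : IsScalarTower Ab B D),
      Module.FaithfullyFlat B D ∧ EtPBC.IsIndEtale B D ∧ EtPBC.IsIndEtale Ab D ∧
        EtPBC.IsWContractible D := by
  obtain ⟨B', _, _, _, tower, hff, hindB, hindA⟩ := Groth.Agent.S0176.result Ab B
  obtain ⟨D, _, _, h1, h2, h3⟩ := Groth.Agent.Lib.Helper36.Olivier.exists_wContractible_cover B'
  letI algBD : Algebra B D := ((algebraMap B' D).comp (algebraMap B B')).toAlgebra
  letI algAD : Algebra Ab D := ((algebraMap B' D).comp (algebraMap Ab B')).toAlgebra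
  haveI : IsScalarTower B B' D := IsScalarTower.of_algebraMap_eq' rfl
  haveI : IsScalarTower Ab B' D := IsScalarTower.of_algebraMap_eq' rfl
  haveI tw : IsScalarTower Ab B D := IsScalarTower.of_algebraMap_eq (fun x => by
    change algebraMap B' D (algebraMap Ab B' x) =
      algebraMap B' D (algebraMap B B' (algebraMap Ab B x))
    rw [← IsScalarTower.algebraMap_apply Ab B B'])
  exact ⟨D, inferInstance, algBD, algAD, tw, Module.FaithfullyFlat.trans B B' D,
    isIndEtale_trans B B' D hindB h2, isIndEtale_trans Ab B' D hindA h2, h3⟩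

/-- The algebraic input for henselian lifting along closed immersions: for a surjection `D → Db`
and an ind-étale `Db`-algebra `Cb`, there is a weakly étale `D`-algebra `C`, henselian along the
kernel of a surjection `C → Cb` which identifies `Cb` with the reduction of `C`. -/
theorem exists_hens_data (D Db Cb : Type u) [CommRing D] [CommRing Db] [CommRing Cb]
    (fcl : D →+* Db) (hcl : Function.Surjective fcl) (fa : Db →+* Cb)
    (hfa : letI := fa.toAlgebra; EtPBC.IsIndEtale Db Cb) :
    ∃ (C : Type u) (_ : CommRing C) (_ : Algebra D C) (π : C →+* Cb),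
      Algebra.WeaklyEtale D C ∧ Function.Surjective π ∧
      RingHom.ker π = (RingHom.ker fcl).map (algebraMap D C) ∧
      fa.comp fcl = π.comp (algebraMap D C) ∧ HenselianRing C (RingHom.ker π) := by
  letI := fa.toAlgebra
  let K : Ideal D := RingHom.ker fcl
  let e : D ⧸ K ≃+* Db := RingHom.quotientKerEquivOfSurjective hcl
  have he : ∀ d : D, e (Ideal.Quotient.mk K d) = fcl d := fun d => rfl
  letI algQDb : Algebra (D ⧸ K) Db := e.toRingHom.toAlgebra
  letI algQ : Algebra (D ⧸ K) Cb := ((algebraMap Db Cb).comp e.toRingHom).toAlgebra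
  haveI : IsScalarTower (D ⧸ K) Db Cb := IsScalarTower.of_algebraMap_eq' rfl
  have hind : EtPBC.IsIndEtale (D ⧸ K) Cb :=
    isIndEtale_of_bijective_base (D ⧸ K) Db Cb e.bijective hfa
  letI algD : Algebra D Cb := ((algebraMap (D ⧸ K) Cb).comp (Ideal.Quotient.mk K)).toAlgebra
  haveI : IsScalarTower D (D ⧸ K) Cb := IsScalarTower.of_algebraMap_eq' rfl
  obtain ⟨ε, hε⟩ := nonempty_algEquiv_quotient_ptColim D K Cb hind
  let C := PtColim D Cb
  let π : C →+* Cb := (PtColim.residue : C →ₐ[D] Cb).toRingHom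
  have hπ : ∀ x : C, π x = ε (Ideal.Quotient.mk _ x) := fun x => (hε x).symm
  refine ⟨C, inferInstance, inferInstance, π,
    Groth.Agent.S0736.result D C PtColim.isIndEtale, ?_, ?_, ?_, henselianRing_ptColim D Cb⟩
  · intro y
    obtain ⟨z, hz⟩ := ε.surjective y
    obtain ⟨x, rfl⟩ := Ideal.Quotient.mk_surjective z
    exact ⟨x, (hπ x).trans hz⟩
  · ext x
    rw [RingHom.mem_ker, hπ, map_eq_zero_iff _ ε.injective, Ideal.Quotient.eq_zero_iff_mem]
  · ext d
    change algebraMap Db Cb (fcl d) = PtColim.residue (algebraMap D C d)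
    rw [AlgHom.commutes]
    rfl

variable {Z X : Scheme.{u}} (i : Z ⟶ X) [IsClosedImmersion i]

/-- **Henselian lifting of objects along a closed immersion.** Let `V` be an affine object of
`X_proét` and `W` an affine object of `Z_proét` with a morphism `a : W ⟶ V ×_X Z` which is
ind-étale on rings of functions. Then `W` is the base change of an affine object `V'` over `V`
which is henselian along `W`. -/
theorem exists_hens_lift (V : X.ProEt) [IsAffine V.left] (W : Z.ProEt) [IsAffine W.left]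
    (a : W ⟶ (ProEtS.bcP i).obj V)
    (hind : letI := (a.left.appTop).hom.toAlgebra;
      EtPBC.IsIndEtale ↥(Γ(((ProEtS.bcP i).obj V).left, ⊤)) ↥(Γ(W.left, ⊤))) :
    ∃ (V' : X.ProEt) (_ : IsAffine V'.left) (p : V' ⟶ V) (e : W ≅ (ProEtS.bcP i).obj V'),
      e.hom ≫ (ProEtS.bcP i).map p = a ∧
      HenselianRing ↥(Γ(V'.left, ⊤)) (RingHom.ker (pullback.fst V'.hom i).appTop.hom) := by
  let T : Scheme.{u} := pullback V.hom i
  let cl : T ⟶ V.left := pullback.fst V.hom i
  haveI : IsClosedImmersion cl := inferInstance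
  haveI hTaff : IsAffine T := (IsClosedImmersion.isAffine_surjective_of_isAffine cl).1
  have hcl : Function.Surjective cl.appTop.hom :=
    (IsClosedImmersion.isAffine_surjective_of_isAffine cl).2
  let al : W.left ⟶ T := a.left
  obtain ⟨C, _, _, π, hwe, hπ, hker, hg, hHens⟩ :=
    exists_hens_data Γ(V.left, ⊤) Γ(T, ⊤) Γ(W.left, ⊤) cl.appTop.hom hcl al.appTop.hom hind
  let algDC : Γ(V.left, ⊤) ⟶ CommRingCat.of C :=
    CommRingCat.ofHom (algebraMap Γ(V.left, ⊤) C)
  let pl : Spec (.of C) ⟶ V.left := Spec.map algDC ≫ V.left.isoSpec.inv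
  haveI : WeaklyEtale (Spec.map algDC) := weaklyEtale_SpecMap_algebraMap _ C
  haveI : WeaklyEtale pl := inferInstanceAs (WeaklyEtale (Spec.map algDC ≫ V.left.isoSpec.inv))
  let V' : X.ProEt := objOver V pl
  let p : V' ⟶ V := homOver V pl
  let T' : Scheme.{u} := pullback (pl ≫ V.hom) i
  let fst' : T' ⟶ Spec (.of C) := pullback.fst (pl ≫ V.hom) i
  let snd' : T' ⟶ Z := pullback.snd (pl ≫ V.hom) i
  let up : T' ⟶ T := ((ProEtS.bcP i).map p).left
  have hup1 : up ≫ cl = fst' ≫ pl := (Groth.Agent.S0730.isPullback_bcP_map i p).w.symm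
  have hup2 : up ≫ pullback.snd V.hom i = snd' := MorphismProperty.Over.w ((ProEtS.bcP i).map p)
  have hWhom : al ≫ pullback.snd V.hom i = W.hom := MorphismProperty.Over.w a
  -- elementwise forms of the algebraic identities
  have e1 : ∀ x, π (algebraMap _ C x) = al.appTop.hom (cl.appTop.hom x) :=
    fun x => (congr($hg x)).symm
  let rπ : CommRingCat.of C ⟶ Γ(W.left, ⊤) := CommRingCat.ofHom π
  let α : W.left ⟶ Spec (.of C) := toSpecOf rπ
  have hα : α ≫ pl = al ≫ cl := by
    rw [← homOfΓ_self (al ≫ cl)]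
    change toSpecOf rπ ≫ Spec.map algDC ≫ V.left.isoSpec.inv = _
    rw [← Category.assoc, toSpecOf_comp_SpecMap, toSpecOf_comp_isoSpec_inv,
      Scheme.Hom.comp_appTop]
    congr 1
    ext x
    change π (algebraMap _ C x) = al.appTop.hom (cl.appTop.hom x)
    rw [e1]
  let a'l : W.left ⟶ T' := pullback.lift α W.hom (by
    rw [← Category.assoc, hα, Category.assoc, pullback.condition, ← Category.assoc, hWhom])
  have ha'l1 : a'l ≫ fst' = α := pullback.lift_fst _ _ _
  have ha'l2 : a'l ≫ snd' = W.hom := pullback.lift_snd _ _ _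
  let a' : W ⟶ (ProEtS.bcP i).obj V' := MorphismProperty.Over.homMk a'l ha'l2
  let κ₀ : CommRingCat.of C ⟶ Γ(T', ⊤) := (Scheme.ΓSpecIso (.of C)).inv ≫ fst'.appTop
  have hfst' : fst' = toSpecOf κ₀ := (toSpecOf_self fst').symm
  have hfp : fst' ≫ pl = homOfΓ (algDC ≫ κ₀) := by
    rw [hfst']
    change toSpecOf κ₀ ≫ Spec.map algDC ≫ V.left.isoSpec.inv = _
    rw [← Category.assoc, toSpecOf_comp_SpecMap, toSpecOf_comp_isoSpec_inv]
  have hκ₀ : algDC ≫ κ₀ = cl.appTop ≫ up.appTop := by
    have h := congrArg Scheme.Hom.appTop hup1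
    rw [hfp, homOfΓ_appTop, Scheme.Hom.comp_appTop] at h
    exact h.symm
  have hker' : RingHom.ker π ≤ RingHom.ker κ₀.hom := by
    rw [hker, Ideal.map_le_iff_le_comap]
    intro d hd
    rw [Ideal.mem_comap, RingHom.mem_ker]
    have h := congr($hκ₀ d)
    change κ₀.hom (algebraMap _ C d) = up.appTop.hom (cl.appTop.hom d) at h
    rw [h, (RingHom.mem_ker).mp hd, map_zero]
  let κ : Γ(W.left, ⊤) →+* Γ(T', ⊤) := π.liftOfSurjective hπ ⟨κ₀.hom, hker'⟩
  have hκ : ∀ c, κ (π c) = κ₀.hom c := fun c =>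
    congr($(RingHom.liftOfRightInverse_comp π (Function.surjInv hπ) (Function.rightInverse_surjInv hπ) ⟨κ₀.hom, hker'⟩) c)
  let κ' : Γ(W.left, ⊤) ⟶ Γ(T', ⊤) := CommRingCat.ofHom κ
  let ql : T' ⟶ W.left := homOfΓ κ'
  have hq1 : ql ≫ al ≫ cl = fst' ≫ pl := by
    rw [hfp, homOfΓ_comp, Scheme.Hom.comp_appTop]
    congr 1
    ext x
    change κ (al.appTop.hom (cl.appTop.hom x)) = κ₀.hom (algebraMap _ C x)
    rw [← e1, hκ]
  have hqw : ql ≫ W.hom = snd' := by
    rw [← cancel_mono i, Category.assoc, ← hWhom, Category.assoc, ← pullback.condition,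
      ← Category.assoc, ← Category.assoc, Category.assoc ql, hq1, Category.assoc]
    exact pullback.condition
  let q : (ProEtS.bcP i).obj V' ⟶ W := MorphismProperty.Over.homMk ql hqw
  have h1 : κ₀ ≫ a'l.appTop = rπ := by
    have h := congrArg Scheme.Hom.appTop ha'l1
    rw [Scheme.Hom.comp_appTop] at h
    change (Scheme.ΓSpecIso (.of C)).inv ≫ fst'.appTop ≫ a'l.appTop = _
    rw [h]
    exact toSpecOf_appTop rπ
  have h2 : ∀ y, a'l.appTop.hom (κ y) = y := by
    intro y
    obtain ⟨c, rfl⟩ := hπ y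
    rw [hκ]
    exact congr($h1 c)
  have haq : a'l ≫ ql = 𝟙 W.left := by
    apply ext_of_isAffine
    rw [comp_homOfΓ, homOfΓ_appTop, Scheme.Hom.id_appTop]
    ext y
    change a'l.appTop.hom (κ y) = y
    rw [h2]
  have hqa : ql ≫ a'l = 𝟙 T' := by
    apply pullback.hom_ext
    · change (ql ≫ a'l) ≫ fst' = 𝟙 T' ≫ fst'
      rw [Category.assoc, ha'l1, Category.id_comp, hfst']
      change ql ≫ toSpecOf rπ = _
      rw [comp_toSpecOf, homOfΓ_appTop]
      congr 1
      ext c
      exact hκ c
    · change (ql ≫ a'l) ≫ snd' = 𝟙 T' ≫ snd'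
      rw [Category.assoc, ha'l2, Category.id_comp, hqw]
  let e : W ≅ (ProEtS.bcP i).obj V' :=
    { hom := a'
      inv := q
      hom_inv_id := by
        apply MorphismProperty.Over.Hom.ext
        exact haq
      inv_hom_id := by
        apply MorphismProperty.Over.Hom.ext
        exact hqa }
  haveI hV'aff : IsAffine V'.left := inferInstanceAs (IsAffine (Spec (.of C)))
  refine ⟨V', hV'aff, p, e, ?_, ?_⟩
  · apply MorphismProperty.Over.Hom.ext
    change a'l ≫ up = al
    apply pullback.hom_ext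
    · change (a'l ≫ up) ≫ cl = al ≫ cl
      rw [Category.assoc, hup1, ← Category.assoc, ha'l1, hα]
    · rw [Category.assoc, hup2, ha'l2, hWhom]
  · change HenselianRing ↥(Γ(Spec (.of C), ⊤)) (RingHom.ker fst'.appTop.hom)
    let eΓ : C ≃+* ↥(Γ(Spec (.of C), ⊤)) :=
      (Scheme.ΓSpecIso (.of C)).symm.commRingCatIsoToRingEquiv
    haveI := hHens
    apply henselianRing_of_ringEquiv eΓ (RingHom.ker π)
    intro c
    rw [RingHom.mem_ker, RingHom.mem_ker]
    change κ₀.hom c = 0 ↔ π c = 0
    rw [← hκ]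
    constructor
    · intro h
      have := congrArg a'l.appTop.hom h
      rwa [h2, map_zero] at this
    · intro h
      rw [h, map_zero]

end Groth.Agent.Lib.Helper36.ClosedHensLift
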