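import Mathlib
import Groth.Prelude.Def_ProEtS
import Groth.Agent.Lib.Helper36.ProEtLan
import Groth.Agent.Lib.Helper36.LanAb
import Groth.Agent.Lib.Helper36.ClosedHens

set_option autoImplicit false
set_option linter.style.haveILetI false
universe u
open CategoryTheory CategoryTheory.Limits AlgebraicGeometry Opposite

namespace Groth.Agent.Lib.Helper36.PullSections

open Groth.Agent.Lib.Helper36.ProEtSite

instance : PreservesFilteredColimitsOfSize.{u, u + 1} (forget AddCommGrpCat.{u + 1}) :=
  preservesFilteredColimitsOfSize_shrink.{u + 1, u + 1, u, u + 1} _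

variable {X Y : Scheme.{u}} (f : X ⟶ Y)

/-- the left Kan extension of an abelian sheaf along base change, as a left extension -/
noncomputable abbrev lanExt (F : ProEtS.AbP Y) :
    Functor.LeftExtension (ProEtS.bcP f).op F.obj :=
  Functor.LeftExtension.mk _ ((ProEtS.bcP f).op.lanUnit.app F.obj)

/-- The left Kan extension along base change of an abelian sheaf turns finite open partitions into
products. -/
theorem existsUnique_lanAb_of_partition (F : ProEtS.AbP Y)
    (W : X.ProEt) {n : ℕ} (Wk : Fin n → W.left.Opens)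
    (hdisj : Pairwise (fun k l => Disjoint (Wk k : Set ↥W.left) (Wk l)))
    (hcov : (⋃ k, (Wk k : Set ↥W.left)) = Set.univ)
    (t : ∀ k, ((ProEtS.bcP f).op.lan.obj F.obj).obj (op (objOver W (Wk k).ι))) :
    ∃! t₀ : ((ProEtS.bcP f).op.lan.obj F.obj).obj (op W),
      ∀ k, ((ProEtS.bcP f).op.lan.obj F.obj).map (homOver W (Wk k).ι).op t₀ = t k := by
  obtain ⟨hc⟩ := nonempty_isColimit_cofan_of_partition W Wk hdisj hcov
  let G : Sheaf (Scheme.ProEt.topology Y) (Type (u + 1)) :=
    (sheafCompose (Scheme.ProEt.topology Y) (forget AddCommGrpCat.{u + 1})).obj F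
  let E' := (Functor.LeftExtension.postcompose₂ (ProEtS.bcP f).op F.obj
    (forget AddCommGrpCat.{u + 1})).obj (lanExt f F)
  have hE' : E'.IsPointwiseLeftKanExtension :=
    (Functor.isPointwiseLeftKanExtensionLeftKanExtensionUnit (ProEtS.bcP f).op F.obj).postcompose
      (forget AddCommGrpCat.{u + 1})
  have hb := Groth.Agent.Lib.Helper36.LanProd.bijective_of_cofan (u := ProEtS.bcP f)
    (E := E') hE' (fun k => homOver W (Wk k).ι) hc
    (fun V => ⟨coprodObj V, coprodInj V, exists_coprodDesc V, bijective_sheaf_coprod V G⟩)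
  obtain ⟨t₀, ht₀⟩ := hb.2 t
  refine ⟨t₀, fun k => congrFun ht₀ k, fun y hy => hb.1 ?_⟩
  funext k
  exact (hy k).trans (congrFun ht₀ k).symm

/-- On an affine weakly contractible object, an abelian presheaf turning finite open partitions
into products has the same sections as its sheafification. -/
theorem bijective_toSheafify_app_ab (P : X.ProEtᵒᵖ ⥤ AddCommGrpCat.{u + 1})
    (W : X.ProEt) [IsAffine W.left] (hW : ProEtS.IsWC W)
    (H : ∀ {n : ℕ} (Wk : Fin n → W.left.Opens),
      Pairwise (fun k l => Disjoint (Wk k : Set ↥W.left) (Wk l)) →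
      (⋃ k, (Wk k : Set ↥W.left)) = Set.univ →
      ∀ t : ∀ k, P.obj (op (objOver W (Wk k).ι)),
        ∃! t₀ : P.obj (op W), ∀ k, P.map (homOver W (Wk k).ι).op t₀ = t k) :
    Function.Bijective ((toSheafify (Scheme.ProEt.topology X) P).app (op W)) := by
  let J := Scheme.ProEt.topology X
  let Fg := forget AddCommGrpCat.{u + 1}
  have h1 : Function.Bijective ((toSheafify J (P ⋙ Fg)).app (op W)) :=
    bijective_toSheafify_app_of_isWC' (P ⋙ Fg) W hW (fun Wk hdisj hcov t => H Wk hdisj hcov t)
  have h2 := congrArg (fun α => α.app (op W)) (sheafComposeIso_hom_fac J Fg P)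
  have h3 : Function.Bijective ((sheafifyComposeIso J Fg P).hom.app (op W)) := by
    rw [← isIso_iff_bijective]
    infer_instance
  have h4 : ∀ x, (toSheafify J P).app (op W) x =
      (sheafifyComposeIso J Fg P).hom.app (op W) ((toSheafify J (P ⋙ Fg)).app (op W) x) :=
    fun x => (congrArg (fun m => m x) h2).symm
  constructor
  · intro x y hxy
    rw [h4, h4] at hxy
    exact h1.1 (h3.1 hxy)
  · intro y
    obtain ⟨z, hz⟩ := h3.2 y
    obtain ⟨x, hx⟩ := h1.2 z
    exact ⟨x, by rw [h4, hx, hz]⟩

section LanAbZero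

open Groth.Agent.Lib.Helper36.LanAb

universe w v₁ v₂ u₁ u₂

variable {C : Type u₁} [Category.{v₁} C] {D : Type u₂} [Category.{v₂} D] {u' : C ⥤ D}
  {G : Cᵒᵖ ⥤ AddCommGrpCat.{w}} {E : Functor.LeftExtension u'.op G}

/-- an element `mk a s` of a left Kan extension along a flat functor vanishes iff `s` vanishes
after restriction along a morphism of the index category -/
theorem exists_of_mk_eq_zero (hE : E.IsPointwiseLeftKanExtension) {W : D}
    [IsFiltered (CostructuredArrow u'.op (op W))]
    [PreservesColimit (CostructuredArrow.proj u'.op (op W) ⋙ G) (forget AddCommGrpCat.{w})]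
    {V : C} (a : W ⟶ u'.obj V) (s : G.obj (op V)) (h : mk u' E a s = 0) :
    ∃ (V' : C) (a' : W ⟶ u'.obj V') (g : V' ⟶ V), a' ≫ u'.map g = a ∧ G.map g.op s = 0 := by
  let j : CostructuredArrow u'.op (op W) := CostructuredArrow.mk (Y := op V) a.op
  have h' : (E.coconeAt (op W)).ι.app j s = (E.coconeAt (op W)).ι.app j 0 := by
    rw [map_zero]
    exact h
  obtain ⟨k, f, g, hfg⟩ := (Concrete.isColimit_rep_eq_iff_exists _ (hE (op W)) _ _).mp h'
  refine ⟨k.left.unop, k.hom.unop, f.left.unop, ?_, ?_⟩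
  · have := CostructuredArrow.w f
    exact congrArg Quiver.Hom.unop this
  · have h2 : (CostructuredArrow.proj u'.op (op W) ⋙ G).map g (0 : G.obj (op V)) = 0 := map_zero _
    exact hfg.trans h2

end LanAbZero

section Crux

open Groth.Agent.Lib.Helper36.LanAb Groth.Agent.Lib.Helper36.ClosedHens

variable {Z X : Scheme.{u}} (i : Z ⟶ X) [IsClosedImmersion i]

/-- Let `V₁` be an affine object of `X_proét` with w-contractible ring of functions all of whose
points specialise into `Z`, such that `V₁ ×_X Z` has w-contractible ring of functions. Then the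
presheaf-level unit `F(V₁) → (Lan F)(V₁ ×_X Z)` is bijective. -/
theorem bijective_lanUnit_app (V₁ : X.ProEt) [IsAffine V₁.left]
    (hV₁ : EtPBC.IsWContractible ↥(Γ(V₁.left, ⊤)))
    (hT : ∃ _ : IsAffine (pullback V₁.hom i), EtPBC.IsWContractible ↥(Γ(pullback V₁.hom i, ⊤)))
    (hsp : ∀ v : ↥V₁.left, ∃ z : ↥V₁.left, V₁.hom z ∈ Set.range i ∧ v ⤳ z)
    (F : ProEtS.AbP X) :
    Function.Bijective (((ProEtS.bcP i).op.lanUnit.app F.obj).app (op V₁)) := by
  let uu := ProEtS.bcP i
  let E := lanExt i F
  have hE : E.IsPointwiseLeftKanExtension :=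
    Functor.isPointwiseLeftKanExtensionLeftKanExtensionUnit (ProEtS.bcP i).op F.obj
  have hmk : ∀ x : F.obj.obj (op V₁),
      ((ProEtS.bcP i).op.lanUnit.app F.obj).app (op V₁) x = mk uu E (𝟙 (uu.obj V₁)) x := by
    intro x
    change _ = E.right.map (𝟙 (uu.obj V₁)).op (E.hom.app (op V₁) x)
    rw [op_id, CategoryTheory.Functor.map_id]
    rfl
  constructor
  · rw [injective_iff_map_eq_zero]
    intro x hx
    rw [hmk] at hx
    obtain ⟨V', a', c, hac, hcx⟩ := exists_of_mk_eq_zero hE (𝟙 (uu.obj V₁)) x hx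
    obtain ⟨b, hb, -⟩ := exists_section i V₁ V' hV₁ hT hsp c a' hac
    have h1 : F.obj.map b.op (F.obj.map c.op x) = x := by
      rw [← ConcreteCategory.comp_apply, ← Functor.map_comp, ← op_comp, hb, op_id,
        CategoryTheory.Functor.map_id]
      rfl
    rw [← h1, hcx, map_zero]
  · intro p
    obtain ⟨V, a, s, rfl⟩ := exists_mk_eq hE p
    -- a common refinement of `(V, a)` and `(V₁, 𝟙)`
    let S₁ : StructuredArrow (uu.obj V₁) uu := StructuredArrow.mk a
    let S₂ : StructuredArrow (uu.obj V₁) uu := StructuredArrow.mk (𝟙 (uu.obj V₁))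
    let S' := IsCofiltered.min S₁ S₂
    let f : S'.right ⟶ V := (IsCofiltered.minToLeft S₁ S₂).right
    let c : S'.right ⟶ V₁ := (IsCofiltered.minToRight S₁ S₂).right
    have hf : S'.hom ≫ uu.map f = a := StructuredArrow.w (IsCofiltered.minToLeft S₁ S₂)
    have hc : S'.hom ≫ uu.map c = 𝟙 _ := StructuredArrow.w (IsCofiltered.minToRight S₁ S₂)
    obtain ⟨b, hb1, hb2⟩ := exists_section i V₁ S'.right hV₁ hT hsp c S'.hom hc
    refine ⟨F.obj.map (b ≫ f).op s, ?_⟩
    rw [hmk]
    have h1 := mk_comp_map uu E (𝟙 (uu.obj V₁)) (b ≫ f) s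
    rw [← h1, Category.id_comp, Functor.map_comp, hb2, hf]

variable [ProEtS.PCont i]

/-- the unit of the explicit adjunction, evaluated on sections -/
theorem unit_app_hom_app (F : ProEtS.AbP X) (V : X.ProEt) (x : F.obj.obj (op V)) :
    ((Functor.sheafPullbackConstruction.sheafAdjunctionContinuous (ProEtS.bcP i)
      AddCommGrpCat.{u + 1} (Scheme.ProEt.topology X) (Scheme.ProEt.topology Z)).unit.app F).hom.app
        (op V) x =
      (toSheafify (Scheme.ProEt.topology Z) ((ProEtS.bcP i).op.lan.obj F.obj)).app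
        (op ((ProEtS.bcP i).obj V)) (((ProEtS.bcP i).op.lanUnit.app F.obj).app (op V) x) := by
  have := Adjunction.map_restrictFullyFaithful_unit_app
    (adj := ((ProEtS.bcP i).op.lanAdjunction AddCommGrpCat.{u + 1}).comp
      (sheafificationAdjunction (Scheme.ProEt.topology Z) AddCommGrpCat.{u + 1}))
    (hiC := fullyFaithfulSheafToPresheaf (Scheme.ProEt.topology X) AddCommGrpCat.{u + 1})
    (hiD := Functor.FullyFaithful.id _)
    (L := Functor.sheafPullbackConstruction.sheafPullback (ProEtS.bcP i)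
      AddCommGrpCat.{u + 1} (Scheme.ProEt.topology X) (Scheme.ProEt.topology Z))
    (R := (ProEtS.bcP i).sheafPushforwardContinuous AddCommGrpCat.{u + 1}
      (Scheme.ProEt.topology X) (Scheme.ProEt.topology Z))
    (comm1 := Iso.refl _) (comm2 := Iso.refl _) F
  have h2 := congrArg (fun m => m.app (op V) x) this
  refine h2.trans ?_
  simp only [Iso.refl_hom, NatTrans.id_app, Adjunction.comp_unit_app]
  rfl

/-- **Sections of `i⁻¹ F` over a henselian w-contractible object.** -/
theorem bijective_unit_app (V₁ : X.ProEt) [IsAffine V₁.left]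
    (hV₁ : EtPBC.IsWContractible ↥(Γ(V₁.left, ⊤)))
    (hT : ∃ _ : IsAffine (pullback V₁.hom i), EtPBC.IsWContractible ↥(Γ(pullback V₁.hom i, ⊤)))
    (hsp : ∀ v : ↥V₁.left, ∃ z : ↥V₁.left, V₁.hom z ∈ Set.range i ∧ v ⤳ z)
    (F : ProEtS.AbP X) :
    Function.Bijective (((ProEtS.pullPushAdjP i).unit.app F).hom.app (op V₁)) := by
  let adj' := Functor.sheafPullbackConstruction.sheafAdjunctionContinuous (ProEtS.bcP i)
    AddCommGrpCat.{u + 1} (Scheme.ProEt.topology X) (Scheme.ProEt.topology Z)
  -- first for the explicit adjunction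
  have h1 : Function.Bijective ((adj'.unit.app F).hom.app (op V₁)) := by
    obtain ⟨hTaff, hTwc⟩ := hT
    haveI : IsAffine ((ProEtS.bcP i).obj V₁).left := hTaff
    have hWC : ProEtS.IsWC ((ProEtS.bcP i).obj V₁) := (isWContractible_iff_isWC _).mp hTwc
    have hA := bijective_toSheafify_app_ab ((ProEtS.bcP i).op.lan.obj F.obj)
      ((ProEtS.bcP i).obj V₁) hWC
      (fun Wk hdisj hcov t => existsUnique_lanAb_of_partition i F _ Wk hdisj hcov t)
    have hC := bijective_lanUnit_app i V₁ hV₁ ⟨hTaff, hTwc⟩ hsp F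
    have h3 : ((adj'.unit.app F).hom.app (op V₁) : _ → _) =
        (toSheafify (Scheme.ProEt.topology Z) ((ProEtS.bcP i).op.lan.obj F.obj)).app
          (op ((ProEtS.bcP i).obj V₁)) ∘ ((ProEtS.bcP i).op.lanUnit.app F.obj).app (op V₁) := by
      funext x
      exact unit_app_hom_app i F V₁ x
    rw [h3]
    exact hA.comp hC
  have h4 := Adjunction.unit_leftAdjointUniq_hom_app (ProEtS.pullPushAdjP i) adj' F
  let θ := (Adjunction.leftAdjointUniq (ProEtS.pullPushAdjP i) adj').hom.app F
  have h5 : Function.Bijective (((ProEtS.pushP i).map θ).hom.app (op V₁)) := by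
    have : IsIso (((ProEtS.pushP i).map θ).hom.app (op V₁)) := by
      change IsIso (((sheafSections (Scheme.ProEt.topology X) AddCommGrpCat.{u + 1}).obj
        (op V₁)).map ((ProEtS.pushP i).map θ))
      infer_instance
    exact ConcreteCategory.bijective_of_isIso _
  have h6 : ((adj'.unit.app F).hom.app (op V₁) : _ → _) =
      ((ProEtS.pushP i).map θ).hom.app (op V₁) ∘
        ((ProEtS.pullPushAdjP i).unit.app F).hom.app (op V₁) := by
    funext x
    exact (congrArg (fun m => m.hom.app (op V₁) x) h4).symm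
  rw [h6] at h1
  exact (Function.Bijective.of_comp_iff' h5 _).mp h1

end Crux

end Groth.Agent.Lib.Helper36.PullSections
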