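import Mathlib
import Groth.Prelude.Def_ProEtS
import Groth.Agent.Lib.Helper36.PullSections
import Groth.Agent.Lib.Helper36.HensLiftH

/-!
# Sections of `i⁻¹ F` over the closed fibre of a henselian object (helper36)
-/

set_option autoImplicit false
set_option linter.style.haveILetI false
universe u
open CategoryTheory CategoryTheory.Limits AlgebraicGeometry Opposite

namespace Groth.Agent.Lib.Helper36.ClosedHensSections

open Groth.Agent.Lib.Helper36.ProEtSite Groth.Agent.Lib.Helper36.ClosedLiftGeom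
  Groth.Agent.Lib.Helper36.HensLiftH Groth.Agent.Lib.Helper36.ClosedHens
  Groth.Agent.Lib.Helper36.LanAb Groth.Agent.Lib.Helper36.PullSections

variable {Z X : Scheme.{u}} (i : Z ⟶ X) [IsClosedImmersion i]

/-- **Henselian lifting, affine case.** Let `V₁` be an affine object of `X_proét`, henselian along
`V₁ ×_X Z`, such that `V₁ ×_X Z` has w-contractible ring of functions. A morphism `c : V ⟶ V₁`
from an affine object with a section `a` over `Z` has a section inducing `a`. -/
theorem exists_section_affine (V₁ V : X.ProEt) [IsAffine V₁.left] [IsAffine V.left]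
    (hH : HenselianRing ↥(Γ(V₁.left, ⊤)) (RingHom.ker (pullback.fst V₁.hom i).appTop.hom))
    (hT : ∃ _ : IsAffine (pullback V₁.hom i), EtPBC.IsWContractible ↥(Γ(pullback V₁.hom i, ⊤)))
    (c : V ⟶ V₁) (a : (ProEtS.bcP i).obj V₁ ⟶ (ProEtS.bcP i).obj V)
    (hac : a ≫ (ProEtS.bcP i).map c = 𝟙 _) :
    ∃ b : V₁ ⟶ V, b ≫ c = 𝟙 V₁ ∧ (ProEtS.bcP i).map b = a := by
  obtain ⟨hT₁aff, hT₁wc⟩ := hT
  let T₁ : Scheme.{u} := pullback V₁.hom i
  let cl₁ : T₁ ⟶ V₁.left := pullback.fst V₁.hom i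
  let TV : Scheme.{u} := pullback V.hom i
  let clV : TV ⟶ V.left := pullback.fst V.hom i
  haveI : IsClosedImmersion cl₁ := inferInstance
  haveI : IsClosedImmersion clV := inferInstance
  haveI : IsAffine T₁ := hT₁aff
  haveI hTVaff : IsAffine TV := (IsClosedImmersion.isAffine_surjective_of_isAffine clV).1
  have hsurj : Function.Surjective cl₁.appTop.hom :=
    (IsClosedImmersion.isAffine_surjective_of_isAffine cl₁).2
  let cl : V.left ⟶ V₁.left := c.left
  haveI : WeaklyEtale cl := weaklyEtale_left c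
  letI algAB : Algebra ↥(Γ(V₁.left, ⊤)) ↥(Γ(V.left, ⊤)) := cl.appTop.hom.toAlgebra
  haveI hwe : Algebra.WeaklyEtale ↥(Γ(V₁.left, ⊤)) ↥(Γ(V.left, ⊤)) := by
    change (letI := cl.appTop.hom.toAlgebra; Algebra.WeaklyEtale ↥(Γ(V₁.left, ⊤)) ↥(Γ(V.left, ⊤)))
    rw [← Groth.Agent.Lib.Helper36.WE.weaklyEtale_SpecMap_iff]
    exact (MorphismProperty.arrow_mk_iso_iff @WeaklyEtale (arrowIsoSpecΓOfIsAffine cl)).mp
      inferInstance
  let al : T₁ ⟶ TV := a.left
  let uc : TV ⟶ T₁ := ((ProEtS.bcP i).map c).left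
  have huc : clV ≫ cl = uc ≫ cl₁ := (Groth.Agent.S0730.isPullback_bcP_map i c).w
  have hal : al ≫ uc = 𝟙 T₁ := congrArg (fun m => m.left) hac
  let τ : ↥(Γ(V.left, ⊤)) →+* ↥(Γ(T₁, ⊤)) := al.appTop.hom.comp clV.appTop.hom
  have hτ : τ.comp (algebraMap ↥(Γ(V₁.left, ⊤)) ↥(Γ(V.left, ⊤))) = cl₁.appTop.hom := by
    have h1 : al ≫ clV ≫ cl = cl₁ := by
      rw [huc, ← Category.assoc, hal, Category.id_comp]
    have h2 := congrArg (fun m => m.appTop.hom) h1
    simp only [Scheme.Hom.comp_appTop, CommRingCat.hom_comp] at h2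
    rw [← h2]
    rfl
  obtain ⟨ρ, hρ⟩ := exists_lift_weaklyEtale' cl₁.appTop.hom hsurj hH hT₁wc
    ↥(Γ(V.left, ⊤)) τ hτ
  let ρc : Γ(V.left, ⊤) ⟶ Γ(V₁.left, ⊤) := CommRingCat.ofHom ρ.toRingHom
  let σ : V₁.left ⟶ V.left := homOfΓ ρc
  have hσc : σ ≫ cl = 𝟙 V₁.left := by
    apply ext_of_isAffine
    rw [Scheme.Hom.comp_appTop, homOfΓ_appTop, Scheme.Hom.id_appTop]
    ext x
    exact ρ.commutes x
  have hσw : σ ≫ V.hom = V₁.hom := by
    have h1 : cl ≫ V₁.hom = V.hom := MorphismProperty.Over.w c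
    rw [← h1, ← Category.assoc, hσc, Category.id_comp]
  let b : V₁ ⟶ V := MorphismProperty.Over.homMk σ hσw
  refine ⟨b, ?_, ?_⟩
  · apply MorphismProperty.Over.Hom.ext
    exact hσc
  · apply MorphismProperty.Over.Hom.ext
    let ub : T₁ ⟶ TV := ((ProEtS.bcP i).map b).left
    change ub = al
    have hub : cl₁ ≫ σ = ub ≫ clV := (Groth.Agent.S0730.isPullback_bcP_map i b).w
    apply pullback.hom_ext
    · change ub ≫ clV = al ≫ clV
      rw [← hub]
      apply ext_of_isAffine
      rw [Scheme.Hom.comp_appTop, homOfΓ_appTop, Scheme.Hom.comp_appTop]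
      ext x
      exact congr($hρ x)
    · have h1 : ub ≫ pullback.snd V.hom i = pullback.snd V₁.hom i :=
        MorphismProperty.Over.w ((ProEtS.bcP i).map b)
      have h2 : al ≫ pullback.snd V.hom i = pullback.snd V₁.hom i := MorphismProperty.Over.w a
      rw [h1, h2]

/-- **Henselian lifting.** Let `V₁` be an affine object of `X_proét`, henselian along `V₁ ×_X Z`,
such that `V₁ ×_X Z` has w-contractible ring of functions. A morphism `c : V ⟶ V₁` with a section
`a` over `Z` has a section inducing `a`. -/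
theorem exists_section (V₁ V : X.ProEt) [IsAffine V₁.left]
    (hH : HenselianRing ↥(Γ(V₁.left, ⊤)) (RingHom.ker (pullback.fst V₁.hom i).appTop.hom))
    (hT : ∃ _ : IsAffine (pullback V₁.hom i), EtPBC.IsWContractible ↥(Γ(pullback V₁.hom i, ⊤)))
    (c : V ⟶ V₁) (a : (ProEtS.bcP i).obj V₁ ⟶ (ProEtS.bcP i).obj V)
    (hac : a ≫ (ProEtS.bcP i).map c = 𝟙 _) :
    ∃ b : V₁ ⟶ V, b ≫ c = 𝟙 V₁ ∧ (ProEtS.bcP i).map b = a := by
  obtain ⟨hTaff, hTwc⟩ := hT
  haveI : IsAffine ((ProEtS.bcP i).obj V₁).left := hTaff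
  obtain ⟨V', hV'aff, f, a', ha'⟩ :=
    exists_affine_refinement i ((ProEtS.bcP i).obj V₁) hTwc V a
  haveI := hV'aff
  obtain ⟨b', hb'1, hb'2⟩ := exists_section_affine i V₁ V' hH ⟨hTaff, hTwc⟩ (f ≫ c) a' (by
    rw [Functor.map_comp, ← Category.assoc, ha', hac])
  refine ⟨b' ≫ f, ?_, ?_⟩
  · rw [Category.assoc, hb'1]
  · rw [Functor.map_comp, hb'2, ha']

/-- Let `V₁` be an affine object of `X_proét`, henselian along `V₁ ×_X Z`, such that `V₁ ×_X Z`
has w-contractible ring of functions. Then the presheaf-level unit `F(V₁) → (Lan F)(V₁ ×_X Z)` is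
bijective. -/
theorem bijective_lanUnit_app (V₁ : X.ProEt) [IsAffine V₁.left]
    (hH : HenselianRing ↥(Γ(V₁.left, ⊤)) (RingHom.ker (pullback.fst V₁.hom i).appTop.hom))
    (hT : ∃ _ : IsAffine (pullback V₁.hom i), EtPBC.IsWContractible ↥(Γ(pullback V₁.hom i, ⊤)))
    (F : ProEtS.AbP X) :
    Function.Bijective (((ProEtS.bcP i).op.lanUnit.app F.obj).app (op V₁)) := by
  let uu := ProEtS.bcP i
  let E := lanExt i F
  have hE : E.IsPointwiseLeftKanExtension :=
    Functor.isPointwiseLeftKanExtensionLeftKanExtensionUnit (ProEtS.bcP i).op F.obj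
  have hmk : ∀ x : F.obj.obj (op V₁),
      ((ProEtS.bcP i).op.lanUnit.app F.obj).app (op V₁) x = mk uu E (𝟙 (uu.obj V₁)) x := by
    intro x
    change _ = E.right.map (𝟙 (uu.obj V₁)).op (E.hom.app (op V₁) x)
    rw [op_id, CategoryTheory.Functor.map_id]
    rfl
  constructor
  · rw [injective_iff_map_eq_zero]
    intro x hx
    rw [hmk] at hx
    obtain ⟨V', a', c, hac, hcx⟩ := exists_of_mk_eq_zero hE (𝟙 (uu.obj V₁)) x hx
    obtain ⟨b, hb, -⟩ := exists_section i V₁ V' hH hT c a' hac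
    have h1 : F.obj.map b.op (F.obj.map c.op x) = x := by
      rw [← ConcreteCategory.comp_apply, ← Functor.map_comp, ← op_comp, hb, op_id,
        CategoryTheory.Functor.map_id]
      rfl
    rw [← h1, hcx, map_zero]
  · intro p
    obtain ⟨V, a, s, rfl⟩ := exists_mk_eq hE p
    -- a common refinement of `(V, a)` and `(V₁, 𝟙)`
    let S₁ : StructuredArrow (uu.obj V₁) uu := StructuredArrow.mk a
    let S₂ : StructuredArrow (uu.obj V₁) uu := StructuredArrow.mk (𝟙 (uu.obj V₁))
    let S' := IsCofiltered.min S₁ S₂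
    let f : S'.right ⟶ V := (IsCofiltered.minToLeft S₁ S₂).right
    let c : S'.right ⟶ V₁ := (IsCofiltered.minToRight S₁ S₂).right
    have hf : S'.hom ≫ uu.map f = a := StructuredArrow.w (IsCofiltered.minToLeft S₁ S₂)
    have hc : S'.hom ≫ uu.map c = 𝟙 _ := StructuredArrow.w (IsCofiltered.minToRight S₁ S₂)
    obtain ⟨b, hb1, hb2⟩ := exists_section i V₁ S'.right hH hT c S'.hom hc
    refine ⟨F.obj.map (b ≫ f).op s, ?_⟩
    rw [hmk]
    have h1 := mk_comp_map uu E (𝟙 (uu.obj V₁)) (b ≫ f) s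
    rw [← h1, Category.id_comp, Functor.map_comp, hb2, hf]

variable [ProEtS.PCont i]

/-- **Sections of `i⁻¹ F` over the closed fibre of a henselian object.** -/
theorem bijective_unit_app (V₁ : X.ProEt) [IsAffine V₁.left]
    (hH : HenselianRing ↥(Γ(V₁.left, ⊤)) (RingHom.ker (pullback.fst V₁.hom i).appTop.hom))
    (hT : ∃ _ : IsAffine (pullback V₁.hom i), EtPBC.IsWContractible ↥(Γ(pullback V₁.hom i, ⊤)))
    (F : ProEtS.AbP X) :
    Function.Bijective (((ProEtS.pullPushAdjP i).unit.app F).hom.app (op V₁)) := by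
  let adj' := Functor.sheafPullbackConstruction.sheafAdjunctionContinuous (ProEtS.bcP i)
    AddCommGrpCat.{u + 1} (Scheme.ProEt.topology X) (Scheme.ProEt.topology Z)
  -- first for the explicit adjunction
  have h1 : Function.Bijective ((adj'.unit.app F).hom.app (op V₁)) := by
    obtain ⟨hTaff, hTwc⟩ := hT
    haveI : IsAffine ((ProEtS.bcP i).obj V₁).left := hTaff
    have hWC : ProEtS.IsWC ((ProEtS.bcP i).obj V₁) := (isWContractible_iff_isWC _).mp hTwc
    have hA := bijective_toSheafify_app_ab ((ProEtS.bcP i).op.lan.obj F.obj)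
      ((ProEtS.bcP i).obj V₁) hWC
      (fun Wk hdisj hcov t => existsUnique_lanAb_of_partition i F _ Wk hdisj hcov t)
    have hC := bijective_lanUnit_app i V₁ hH ⟨hTaff, hTwc⟩ F
    have h3 : ((adj'.unit.app F).hom.app (op V₁) : _ → _) =
        (toSheafify (Scheme.ProEt.topology Z) ((ProEtS.bcP i).op.lan.obj F.obj)).app
          (op ((ProEtS.bcP i).obj V₁)) ∘ ((ProEtS.bcP i).op.lanUnit.app F.obj).app (op V₁) := by
      funext x
      exact unit_app_hom_app i F V₁ x
    rw [h3]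
    exact hA.comp hC
  have h4 := Adjunction.unit_leftAdjointUniq_hom_app (ProEtS.pullPushAdjP i) adj' F
  let θ := (Adjunction.leftAdjointUniq (ProEtS.pullPushAdjP i) adj').hom.app F
  have h5 : Function.Bijective (((ProEtS.pushP i).map θ).hom.app (op V₁)) := by
    have : IsIso (((ProEtS.pushP i).map θ).hom.app (op V₁)) := by
      change IsIso (((sheafSections (Scheme.ProEt.topology X) AddCommGrpCat.{u + 1}).obj
        (op V₁)).map ((ProEtS.pushP i).map θ))
      infer_instance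
    exact ConcreteCategory.bijective_of_isIso _
  have h6 : ((adj'.unit.app F).hom.app (op V₁) : _ → _) =
      ((ProEtS.pushP i).map θ).hom.app (op V₁) ∘
        ((ProEtS.pullPushAdjP i).unit.app F).hom.app (op V₁) := by
    funext x
    exact (congrArg (fun m => m.hom.app (op V₁) x) h4).symm
  rw [h6] at h1
  exact (Function.Bijective.of_comp_iff' h5 _).mp h1

end Groth.Agent.Lib.Helper36.ClosedHensSections
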