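import Mathlib
import Groth.Prelude.Def_ProEtS
import Groth.Agent.Lib.Helper36.ClosedHensSections
import Groth.Agent.Lib.Helper36.LanProd

/-!
# Sections of `i⁻¹ F` over the closed fibre of a henselian object, for sheaves of sets (helper36)
-/

set_option autoImplicit false
set_option linter.style.haveILetI false
universe u
open CategoryTheory CategoryTheory.Limits AlgebraicGeometry Opposite

namespace Groth.Agent.Lib.Helper36.ClosedHensSectionsType

open Groth.Agent.Lib.Helper36.ProEtSite Groth.Agent.Lib.Helper36.ClosedLiftGeom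
  Groth.Agent.Lib.Helper36.ClosedHensSections Groth.Agent.Lib.Helper36.LanProd

variable {Z X : Scheme.{u}} (i : Z ⟶ X) [IsClosedImmersion i]

/-- Let `V₁` be an affine object of `X_proét`, henselian along `V₁ ×_X Z`, such that `V₁ ×_X Z`
has w-contractible ring of functions. Then the presheaf-level unit `F(V₁) → (Lan F)(V₁ ×_X Z)` is
bijective, for sheaves of sets `F`. -/
theorem bijective_lanUnit_app (V₁ : X.ProEt) [IsAffine V₁.left]
    (hH : HenselianRing ↥(Γ(V₁.left, ⊤)) (RingHom.ker (pullback.fst V₁.hom i).appTop.hom))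
    (hT : ∃ _ : IsAffine (pullback V₁.hom i), EtPBC.IsWContractible ↥(Γ(pullback V₁.hom i, ⊤)))
    (F : Sheaf (Scheme.ProEt.topology X) (Type (u + 1))) :
    Function.Bijective (((ProEtS.bcP i).op.lanUnit.app F.obj).app (op V₁)) := by
  let uu := ProEtS.bcP i
  let E : Functor.LeftExtension (ProEtS.bcP i).op F.obj :=
    Functor.LeftExtension.mk _ ((ProEtS.bcP i).op.lanUnit.app F.obj)
  have hE : E.IsPointwiseLeftKanExtension :=
    Functor.isPointwiseLeftKanExtensionLeftKanExtensionUnit (ProEtS.bcP i).op F.obj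
  have hmk : ∀ x : F.obj.obj (op V₁),
      ((ProEtS.bcP i).op.lanUnit.app F.obj).app (op V₁) x = mk uu E (𝟙 (uu.obj V₁)) x := by
    intro x
    change _ = E.right.map (𝟙 (uu.obj V₁)).op (E.hom.app (op V₁) x)
    rw [op_id, CategoryTheory.Functor.map_id]
    rfl
  constructor
  · intro x x' hx
    rw [hmk, hmk] at hx
    let j : CostructuredArrow uu.op (op (uu.obj V₁)) :=
      CostructuredArrow.mk (Y := op V₁) (𝟙 (uu.obj V₁)).op
    have h' : (E.coconeAt (op (uu.obj V₁))).ι.app j x = (E.coconeAt (op (uu.obj V₁))).ι.app j x' :=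
      hx
    obtain ⟨k, f, hf⟩ := (Types.FilteredColimit.isColimit_eq_iff' (hE (op (uu.obj V₁)))
      (i := j) (show F.obj.obj (op V₁) from x) (show F.obj.obj (op V₁) from x')).mp h'
    let V' : X.ProEt := k.left.unop
    let a' : uu.obj V₁ ⟶ uu.obj V' := k.hom.unop
    let c : V' ⟶ V₁ := f.left.unop
    have hac : a' ≫ uu.map c = 𝟙 _ := by
      have := CostructuredArrow.w f
      exact congrArg Quiver.Hom.unop this
    have hcx : F.obj.map c.op x = F.obj.map c.op x' := hf
    obtain ⟨b, hb, -⟩ := exists_section i V₁ V' hH hT c a' hac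
    have h1 : ∀ y : F.obj.obj (op V₁), F.obj.map b.op (F.obj.map c.op y) = y := by
      intro y
      have h2 : c.op ≫ b.op = 𝟙 (op V₁) := by rw [← op_comp, hb, op_id]
      have h3 := congrArg (fun m => m y) (F.obj.map_comp c.op b.op)
      rw [h2, CategoryTheory.Functor.map_id] at h3
      exact h3.symm
    rw [← h1 x, hcx, h1 x']
  · intro p
    obtain ⟨V, a, s, rfl⟩ := exists_mk_eq hE p
    -- a common refinement of `(V, a)` and `(V₁, 𝟙)`
    let S₁ : StructuredArrow (uu.obj V₁) uu := StructuredArrow.mk a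
    let S₂ : StructuredArrow (uu.obj V₁) uu := StructuredArrow.mk (𝟙 (uu.obj V₁))
    let S' := IsCofiltered.min S₁ S₂
    let f : S'.right ⟶ V := (IsCofiltered.minToLeft S₁ S₂).right
    let c : S'.right ⟶ V₁ := (IsCofiltered.minToRight S₁ S₂).right
    have hf : S'.hom ≫ uu.map f = a := StructuredArrow.w (IsCofiltered.minToLeft S₁ S₂)
    have hc : S'.hom ≫ uu.map c = 𝟙 _ := StructuredArrow.w (IsCofiltered.minToRight S₁ S₂)
    obtain ⟨b, hb1, hb2⟩ := exists_section i V₁ S'.right hH hT c S'.hom hc
    refine ⟨F.obj.map (b ≫ f).op s, ?_⟩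
    rw [hmk]
    have h1 := mk_comp_map uu E (𝟙 (uu.obj V₁)) (b ≫ f) s
    rw [← h1, Category.id_comp, Functor.map_comp, hb2, hf]

variable [ProEtS.PCont i]

omit [IsClosedImmersion i] in
/-- the unit of the explicit adjunction, evaluated on sections -/
theorem unit_app_hom_app (F : Sheaf (Scheme.ProEt.topology X) (Type (u + 1))) (V : X.ProEt)
    (x : F.obj.obj (op V)) :
    ((Functor.sheafPullbackConstruction.sheafAdjunctionContinuous (ProEtS.bcP i)
      (Type (u + 1)) (Scheme.ProEt.topology X) (Scheme.ProEt.topology Z)).unit.app F).hom.app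
        (op V) x =
      (toSheafify (Scheme.ProEt.topology Z) ((ProEtS.bcP i).op.lan.obj F.obj)).app
        (op ((ProEtS.bcP i).obj V)) (((ProEtS.bcP i).op.lanUnit.app F.obj).app (op V) x) := by
  have := Adjunction.map_restrictFullyFaithful_unit_app
    (adj := ((ProEtS.bcP i).op.lanAdjunction (Type (u + 1))).comp
      (sheafificationAdjunction (Scheme.ProEt.topology Z) (Type (u + 1))))
    (hiC := fullyFaithfulSheafToPresheaf (Scheme.ProEt.topology X) (Type (u + 1)))
    (hiD := Functor.FullyFaithful.id _)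
    (L := Functor.sheafPullbackConstruction.sheafPullback (ProEtS.bcP i)
      (Type (u + 1)) (Scheme.ProEt.topology X) (Scheme.ProEt.topology Z))
    (R := (ProEtS.bcP i).sheafPushforwardContinuous (Type (u + 1))
      (Scheme.ProEt.topology X) (Scheme.ProEt.topology Z))
    (comm1 := Iso.refl _) (comm2 := Iso.refl _) F
  have h2 := congrArg (fun m => m.app (op V) x) this
  refine h2.trans ?_
  simp only [Iso.refl_hom, NatTrans.id_app, Adjunction.comp_unit_app]
  rfl

/-- **Sections of `i⁻¹ F` over the closed fibre of a henselian object**, for sheaves of sets. -/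
theorem bijective_unit_app (V₁ : X.ProEt) [IsAffine V₁.left]
    (hH : HenselianRing ↥(Γ(V₁.left, ⊤)) (RingHom.ker (pullback.fst V₁.hom i).appTop.hom))
    (hT : ∃ _ : IsAffine (pullback V₁.hom i), EtPBC.IsWContractible ↥(Γ(pullback V₁.hom i, ⊤)))
    (F : Sheaf (Scheme.ProEt.topology X) (Type (u + 1))) :
    Function.Bijective ((((ProEtS.bcP i).sheafAdjunctionContinuous (Type (u + 1))
      (Scheme.ProEt.topology X) (Scheme.ProEt.topology Z)).unit.app F).hom.app (op V₁)) := by
  let adj := (ProEtS.bcP i).sheafAdjunctionContinuous (Type (u + 1))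
      (Scheme.ProEt.topology X) (Scheme.ProEt.topology Z)
  let adj' := Functor.sheafPullbackConstruction.sheafAdjunctionContinuous (ProEtS.bcP i)
    (Type (u + 1)) (Scheme.ProEt.topology X) (Scheme.ProEt.topology Z)
  let Ψ := (ProEtS.bcP i).sheafPushforwardContinuous (Type (u + 1))
      (Scheme.ProEt.topology X) (Scheme.ProEt.topology Z)
  -- first for the explicit adjunction
  have h1 : Function.Bijective ((adj'.unit.app F).hom.app (op V₁)) := by
    obtain ⟨hTaff, hTwc⟩ := hT
    haveI : IsAffine ((ProEtS.bcP i).obj V₁).left := hTaff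
    have hWC : ProEtS.IsWC ((ProEtS.bcP i).obj V₁) := (isWContractible_iff_isWC _).mp hTwc
    have hA := bijective_toSheafify_lan_app i F ((ProEtS.bcP i).obj V₁) hWC
    have hC := bijective_lanUnit_app i V₁ hH ⟨hTaff, hTwc⟩ F
    have h3 : ((adj'.unit.app F).hom.app (op V₁) : _ → _) =
        (toSheafify (Scheme.ProEt.topology Z) ((ProEtS.bcP i).op.lan.obj F.obj)).app
          (op ((ProEtS.bcP i).obj V₁)) ∘ ((ProEtS.bcP i).op.lanUnit.app F.obj).app (op V₁) := by
      funext x
      exact unit_app_hom_app i F V₁ x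
    rw [h3]
    exact hA.comp hC
  have h4 := Adjunction.unit_leftAdjointUniq_hom_app adj adj' F
  let θ := (Adjunction.leftAdjointUniq adj adj').hom.app F
  have h5 : Function.Bijective ((Ψ.map θ).hom.app (op V₁)) := by
    have : IsIso ((Ψ.map θ).hom.app (op V₁)) := by
      change IsIso (((sheafSections (Scheme.ProEt.topology X) (Type (u + 1))).obj
        (op V₁)).map (Ψ.map θ))
      infer_instance
    exact (isIso_iff_bijective _).mp this
  have h6 : ((adj'.unit.app F).hom.app (op V₁) : _ → _) =
      (Ψ.map θ).hom.app (op V₁) ∘ (adj.unit.app F).hom.app (op V₁) := by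
    funext x
    exact (congrArg (fun m => m.hom.app (op V₁) x) h4).symm
  rw [h6] at h1
  exact (Function.Bijective.of_comp_iff' h5 _).mp h1

end Groth.Agent.Lib.Helper36.ClosedHensSectionsType
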