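import Mathlib
import Groth.Agent.Lib.Helper71.FlatKer

set_option autoImplicit false
set_option linter.style.haveILetI false
universe u

namespace Groth.Agent.Lib.Helper36.WEProd

open TensorProduct

/-- the first projection of a product of rings is flat -/
theorem flat_fst (B C : Type*) [CommRing B] [CommRing C] : (RingHom.fst B C).Flat := by
  letI : Algebra (B × C) B := (RingHom.fst B C).toAlgebra
  change Module.Flat (B × C) B
  let i : B →ₗ[B × C] (B × C) :=
    { toFun := fun b => (b, 0)
      map_add' := fun b b' => by ext <;> simp
      map_smul' := fun p b => by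
        ext
        · rfl
        · simp }
  let r : (B × C) →ₗ[B × C] B :=
    { toFun := fun p => p.1
      map_add' := fun _ _ => rfl
      map_smul' := fun _ _ => rfl }
  exact Module.Flat.of_retract i r (by ext b; rfl)

/-- the second projection of a product of rings is flat -/
theorem flat_snd (B C : Type*) [CommRing B] [CommRing C] : (RingHom.snd B C).Flat := by
  letI : Algebra (B × C) C := (RingHom.snd B C).toAlgebra
  change Module.Flat (B × C) C
  let i : C →ₗ[B × C] (B × C) :=
    { toFun := fun c => (0, c)
      map_add' := fun b b' => by ext <;> simp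
      map_smul' := fun p b => by
        ext
        · simp
        · rfl }
  let r : (B × C) →ₗ[B × C] C :=
    { toFun := fun p => p.2
      map_add' := fun _ _ => rfl
      map_smul' := fun _ _ => rfl }
  exact Module.Flat.of_retract i r (by ext b; rfl)

/-- a ring map to a product is flat if both components are -/
theorem flat_of_fst_snd {R S₁ S₂ : Type*} [CommRing R] [CommRing S₁] [CommRing S₂]
    (φ : R →+* S₁ × S₂) (h₁ : ((RingHom.fst S₁ S₂).comp φ).Flat)
    (h₂ : ((RingHom.snd S₁ S₂).comp φ).Flat) : φ.Flat := by
  letI a1 : Algebra R S₁ := ((RingHom.fst S₁ S₂).comp φ).toAlgebra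
  letI a2 : Algebra R S₂ := ((RingHom.snd S₁ S₂).comp φ).toAlgebra
  have f1 : Module.Flat R S₁ := h₁
  have f2 : Module.Flat R S₂ := h₂
  have hprod : Module.Flat R (S₁ × S₂) := Groth.Agent.Lib.Helper71.flat_prod
  have halg : φ.toAlgebra = (Prod.algebra R S₁ S₂) :=
    Algebra.algebra_ext _ _ (fun r => rfl)
  change @Module.Flat R (S₁ × S₂) _ _ φ.toAlgebra.toModule
  rw [halg]
  exact hprod

/-- A binary product of weakly étale algebras is weakly étale. -/
theorem weaklyEtale_prod (A B C : Type*) [CommRing A] [CommRing B] [CommRing C] [Algebra A B]
    [Algebra A C] [Algebra.WeaklyEtale A B] [Algebra.WeaklyEtale A C] :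
    Algebra.WeaklyEtale A (B × C) where
  flat := Groth.Agent.Lib.Helper71.flat_prod
  flat_lmul' := by
    apply flat_of_fst_snd
    · have h : (RingHom.fst B C).comp (Algebra.TensorProduct.lmul' A (S := B × C)).toRingHom =
          ((Algebra.TensorProduct.lmul' A (S := B)).comp
            (Algebra.TensorProduct.map (AlgHom.fst A B C) (AlgHom.fst A B C))).toRingHom := by
        have : (AlgHom.fst A B C).comp (Algebra.TensorProduct.lmul' A (S := B × C)) =
          (Algebra.TensorProduct.lmul' A (S := B)).comp
            (Algebra.TensorProduct.map (AlgHom.fst A B C) (AlgHom.fst A B C)) := by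
          ext <;> simp
        exact congrArg AlgHom.toRingHom this
      rw [h]
      exact RingHom.Flat.comp
        (RingHom.Flat.tensorProductMap (f := AlgHom.fst A B C) (g := AlgHom.fst A B C)
          (flat_fst B C) (flat_fst B C))
        (Algebra.WeaklyEtale.flat_lmul' A B)
    · have h : (RingHom.snd B C).comp (Algebra.TensorProduct.lmul' A (S := B × C)).toRingHom =
          ((Algebra.TensorProduct.lmul' A (S := C)).comp
            (Algebra.TensorProduct.map (AlgHom.snd A B C) (AlgHom.snd A B C))).toRingHom := by
        have : (AlgHom.snd A B C).comp (Algebra.TensorProduct.lmul' A (S := B × C)) =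
          (Algebra.TensorProduct.lmul' A (S := C)).comp
            (Algebra.TensorProduct.map (AlgHom.snd A B C) (AlgHom.snd A B C)) := by
          ext <;> simp
        exact congrArg AlgHom.toRingHom this
      rw [h]
      exact RingHom.Flat.comp
        (RingHom.Flat.tensorProductMap (f := AlgHom.snd A B C) (g := AlgHom.snd A B C)
          (flat_snd B C) (flat_snd B C))
        (Algebra.WeaklyEtale.flat_lmul' A C)

end Groth.Agent.Lib.Helper36.WEProd
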