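import Mathlib
import Groth.Prelude.Def_ProEtW
import Groth.Agent.Lib.Helper36.EtaleRetract
import Groth.Agent.Lib.Helper36.WEProd

set_option autoImplicit false
set_option linter.style.haveILetI false
universe u

namespace Groth.Agent.Lib.Helper36.EtRetr

open PrimeSpectrum

/-- finite product of principal localizations -/
abbrev PiAway {A : Type u} [CommRing A] (E : Finset A) : Type u :=
  ∀ f : E, Localization.Away (f : A)

theorem one_eq_sum_smul {A : Type u} [CommRing A] (E : Finset A) [DecidableEq E] :
    (1 : PiAway E) = ∑ f : E, (f : A) •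
    (Pi.single f (IsLocalization.Away.invSelf (S := Localization.Away (f : A)) (f : A)) :
      PiAway E) := by
  funext g
  rw [Finset.sum_apply, Finset.sum_eq_single g]
  · rw [Pi.smul_apply, Pi.single_eq_same, Pi.one_apply, Algebra.smul_def,
      IsLocalization.Away.mul_invSelf]
  · intro b _ hb
    rw [Pi.smul_apply, Pi.single_eq_of_ne' hb, smul_zero]
  · intro hg
    exact absurd (Finset.mem_univ g) hg

/-- From a retraction of `C × D` whose idempotent `(0,1)` lands in `I`, get an `A`-algebra map
`C → T` whenever `I T ⊆ rad T`. -/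
theorem algHom_of_prod_retraction {A : Type*} [CommRing A] {C D : Type*} [CommRing C] [CommRing D]
    [Algebra A C] [Algebra A D] (σ : (C × D) →ₐ[A] A) (I : Ideal A) (he : σ (0, 1) ∈ I)
    (T : Type*) [CommRing T] [Algebra A T]
    (hT : I.map (algebraMap A T) ≤ Ideal.jacobson ⊥) : Nonempty (C →ₐ[A] T) := by
  let ψ₀ : (C × D) →ₐ[A] T := (Algebra.ofId A T).comp σ
  have hψ₀ : ψ₀ (0, 1) = 0 := by
    apply idem_eq_zero_of_mem_jacobson
    · change ψ₀ (0, 1) * ψ₀ (0, 1) = ψ₀ (0, 1)
      rw [← map_mul]
      simp
    · apply hT
      exact Ideal.mem_map_of_mem _ he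
  have hψ₁ : ψ₀ (1, 0) = 1 := by
    have : ((1 : C), (0 : D)) = 1 - (0, 1) := by
      ext <;> simp
    rw [this, map_sub, map_one, hψ₀, sub_zero]
  refine ⟨{ toFun := fun b => ψ₀ (b, 0)
            map_one' := hψ₁
            map_mul' := fun b b' => by rw [← map_mul]; simp
            map_zero' := by rw [show ((0 : C), (0 : D)) = 0 from rfl, map_zero]
            map_add' := fun b b' => by rw [← map_add]; simp
            commutes' := fun a => ?_ }⟩
  have : (algebraMap A C a, (0 : D)) = a • ((1 : C), (0 : D)) := by
    ext <;> simp [Algebra.smul_def]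
  change ψ₀ (algebraMap A C a, 0) = _
  rw [this, map_smul, hψ₁, Algebra.smul_def, mul_one]

/-- **Key lemma, w-contractible version.**  Let `A` be w-contractible, `C` a weakly étale
`A`-algebra and `E` a finite subset of `A` with `V(E)` contained in the image of `Spec C`.  Then `C`
maps, as an `A`-algebra, to every `A`-algebra `T` such that `(E) T` lies in the Jacobson radical. -/
theorem exists_algHom_of_zeroLocus_subset_we {A : Type u} [CommRing A]
    (h : EtPBC.IsWContractible A) (C : Type u) [CommRing C] [Algebra A C]
    [Algebra.WeaklyEtale A C] (E : Finset A)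
    (hE : zeroLocus (E : Set A) ⊆ Set.range (comap (algebraMap A C)))
    (T : Type*) [CommRing T] [Algebra A T]
    (hT : (Ideal.span (E : Set A)).map (algebraMap A T) ≤ Ideal.jacobson ⊥) :
    Nonempty (C →ₐ[A] T) := by
  classical
  let D := PiAway E
  haveI : Algebra.Etale A D := inferInstance
  haveI : Algebra.WeaklyEtale A D := inferInstance
  haveI : Algebra.WeaklyEtale A (C × D) := WEProd.weaklyEtale_prod A C D
  have hsurj : Function.Surjective (comap (algebraMap A (C × D))) := by
    intro p
    by_cases hp : p ∈ zeroLocus (E : Set A)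
    · obtain ⟨q, rfl⟩ := hE hp
      refine ⟨comap (RingHom.fst C D) q, ?_⟩
      rw [← PrimeSpectrum.comap_comp_apply]
      rfl
    · rw [mem_zeroLocus, Set.not_subset] at hp
      obtain ⟨f, hfE, hfp⟩ := hp
      have : p ∈ Set.range (comap (algebraMap A (Localization.Away f))) := by
        rw [localization_away_comap_range (Localization.Away f) f]
        exact hfp
      obtain ⟨q, rfl⟩ := this
      refine ⟨comap ((Pi.evalRingHom (fun f : E => Localization.Away (f : A)) ⟨f, hfE⟩).comp
        (RingHom.snd C D)) q, ?_⟩
      rw [← PrimeSpectrum.comap_comp_apply]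
      rfl
  haveI : Module.FaithfullyFlat A (C × D) := Module.FaithfullyFlat.of_comap_surjective hsurj
  obtain ⟨σ⟩ := h (C × D) inferInstance inferInstance
  have he : σ (0, 1) ∈ Ideal.span (E : Set A) := by
    have h1 : ((0 : C), (1 : D)) = ∑ f : E, (f : A) • ((0 : C),
        (Pi.single f (IsLocalization.Away.invSelf (S := Localization.Away (f : A)) (f : A)) : D)) := by
      ext1
      · rw [Prod.fst_sum]
        simp
      · rw [Prod.snd_sum]
        exact one_eq_sum_smul E
    rw [h1, map_sum]
    refine Ideal.sum_mem _ (fun f _ => ?_)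
    rw [map_smul, smul_eq_mul]
    exact Ideal.mul_mem_right _ _ (Ideal.subset_span f.2)
  exact algHom_of_prod_retraction σ _ he T hT

end Groth.Agent.Lib.Helper36.EtRetr
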