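import Mathlib
import Groth.Prelude.Def_ProEtW
import Groth.Agent.Lib.Helper36.WContrRetract
import Groth.Agent.Lib.Helper9.HensK.IndEtale
import Groth.Agent.Lib.Helper9.HensK.Basic
import Groth.Agent.S0736

set_option autoImplicit false
set_option linter.style.haveILetI false
universe u

namespace Groth.Agent.Lib.Helper36.DecRing

open PrimeSpectrum Groth.Agent.Lib.Helper36.EtRetr Groth.Agent.Lib.Helper9.HensK

/-- Decomposition of the spectrum of a w-contractible ring with respect to a closed subset with
quasi-compact complement: there is an idempotent `e` such that `D(1-e)` misses `V(E)` and every point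
of `D(e)` specialises to a point of `V(E)`. -/
theorem exists_idempotent_dec {A : Type u} [CommRing A] (h : EtPBC.IsWContractible A)
    (E : Finset A) :
    ∃ e : A, IsIdempotentElem e ∧ (1 - e) ∈ Ideal.span (E : Set A) ∧
      ∀ p : PrimeSpectrum A, e ∉ p.asIdeal →
        ∃ p' : PrimeSpectrum A, p.asIdeal ≤ p'.asIdeal ∧ (E : Set A) ⊆ p'.asIdeal := by
  classical
  let I : Ideal A := Ideal.span (E : Set A)
  let K := A ⧸ I
  let C := PtColim A K
  let D := PiAway E
  haveI : Algebra.WeaklyEtale A C := Groth.Agent.S0736.result A C PtColim.isIndEtale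
  haveI : Algebra.Etale A D := inferInstance
  haveI : Algebra.WeaklyEtale A D := inferInstance
  haveI : Algebra.WeaklyEtale A (C × D) := WEProd.weaklyEtale_prod A C D
  let res : C →ₐ[A] K := PtColim.residue
  have hsurj : Function.Surjective (comap (algebraMap A (C × D))) := by
    intro p
    by_cases hp : p ∈ zeroLocus (E : Set A)
    · -- `p` comes from `Spec K → Spec C`
      have hIp : I ≤ p.asIdeal := Ideal.span_le.mpr hp
      let q₀ : PrimeSpectrum K := ⟨p.asIdeal.map (Ideal.Quotient.mk I),
        Ideal.map_isPrime_of_surjective Ideal.Quotient.mk_surjective (by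
          rw [Ideal.mk_ker]; exact hIp)⟩
      refine ⟨comap (RingHom.fst C D) (comap res.toRingHom q₀), ?_⟩
      rw [← PrimeSpectrum.comap_comp_apply, ← PrimeSpectrum.comap_comp_apply]
      ext a
      change res (algebraMap A C a) ∈ q₀.asIdeal ↔ a ∈ p.asIdeal
      rw [AlgHom.commutes]
      change Ideal.Quotient.mk I a ∈ p.asIdeal.map (Ideal.Quotient.mk I) ↔ _
      rw [Ideal.mem_map_iff_of_surjective _ Ideal.Quotient.mk_surjective]
      constructor
      · rintro ⟨b, hb, hba⟩
        have : b - a ∈ I := Ideal.Quotient.eq.mp hba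
        have h2 : a = b - (b - a) := by ring
        rw [h2]
        exact Ideal.sub_mem _ hb (hIp this)
      · intro ha
        exact ⟨a, ha, rfl⟩
    · rw [mem_zeroLocus, Set.not_subset] at hp
      obtain ⟨f, hfE, hfp⟩ := hp
      have : p ∈ Set.range (comap (algebraMap A (Localization.Away f))) := by
        rw [localization_away_comap_range (Localization.Away f) f]
        exact hfp
      obtain ⟨q, rfl⟩ := this
      refine ⟨comap ((Pi.evalRingHom (fun f : E => Localization.Away (f : A)) ⟨f, hfE⟩).comp
        (RingHom.snd C D)) q, ?_⟩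
      rw [← PrimeSpectrum.comap_comp_apply]
      rfl
  haveI : Module.FaithfullyFlat A (C × D) := Module.FaithfullyFlat.of_comap_surjective hsurj
  obtain ⟨σ⟩ := h (C × D) inferInstance inferInstance
  have he01 : σ (0, 1) ∈ I := by
    have h1 : ((0 : C), (1 : D)) = ∑ f : E, (f : A) • ((0 : C),
        (Pi.single f (IsLocalization.Away.invSelf (S := Localization.Away (f : A)) (f : A)) : D)) := by
      ext1
      · rw [Prod.fst_sum]
        simp
      · rw [Prod.snd_sum]
        exact one_eq_sum_smul E
    rw [h1, map_sum]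
    refine Ideal.sum_mem _ (fun f _ => ?_)
    rw [map_smul, smul_eq_mul]
    exact Ideal.mul_mem_right _ _ (Ideal.subset_span f.2)
  have hsum : σ (1, 0) + σ (0, 1) = 1 := by
    rw [← map_add]
    have : ((1 : C), (0 : D)) + (0, 1) = 1 := by ext <;> simp
    rw [this, map_one]
  have hidem : IsIdempotentElem (σ (1, 0)) := by
    change σ (1, 0) * σ (1, 0) = σ (1, 0)
    rw [← map_mul]
    simp
  refine ⟨σ (1, 0), hidem, ?_, ?_⟩
  · have : 1 - σ (1, 0) = σ (0, 1) := by rw [← hsum]; ring
    rw [this]
    exact he01
  · intro p hp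
    -- the ring map `C → A/p`, `c ↦ σ (c, 0)`
    let mk := Ideal.Quotient.mk p.asIdeal
    haveI : p.asIdeal.IsPrime := p.2
    have hmk1 : mk (σ (1, 0)) = 1 := by
      have h1 : mk (σ (1, 0)) * mk (σ (1, 0)) = mk (σ (1, 0)) := by
        rw [← map_mul, hidem.eq]
      have h2 : mk (σ (1, 0)) ≠ 0 := by
        rw [Ne, Ideal.Quotient.eq_zero_iff_mem]
        exact hp
      have h3 : mk (σ (1, 0)) * (mk (σ (1, 0)) - 1) = 0 := by
        rw [mul_sub, h1, mul_one, sub_self]
      rcases mul_eq_zero.mp h3 with h4 | h4
      · exact absurd h4 h2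
      · exact sub_eq_zero.mp h4
    let σ₁ : C →+* A ⧸ p.asIdeal :=
      { toFun := fun c => mk (σ (c, 0))
        map_one' := hmk1
        map_mul' := fun c c' => by
          rw [← map_mul, ← map_mul]
          simp
        map_zero' := by
          rw [show ((0 : C), (0 : D)) = 0 from rfl, map_zero, map_zero]
        map_add' := fun c c' => by
          rw [← map_add, ← map_add]
          simp }
    have hσ₁alg : ∀ a : A, σ₁ (algebraMap A C a) = mk a := by
      intro a
      change mk (σ (algebraMap A C a, 0)) = mk a
      have h1 : (algebraMap A C a, (0 : D)) = a • ((1 : C), (0 : D)) := by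
        ext <;> simp [Algebra.smul_def]
      rw [h1, map_smul, smul_eq_mul, map_mul, hmk1, mul_one]
    let q : Ideal C := RingHom.ker σ₁
    have hq : q ≠ ⊤ := by
      intro hqt
      have : (1 : C) ∈ q := hqt ▸ Submodule.mem_top
      rw [RingHom.mem_ker, map_one] at this
      exact one_ne_zero this
    obtain ⟨m, hm, hqm⟩ := Ideal.exists_le_maximal q hq
    have hjac : RingHom.ker res.toRingHom ≤ m := by
      refine le_trans PtColim.ker_residue_le_jacobson ?_
      exact sInf_le ⟨bot_le, hm⟩
    refine ⟨⟨m.comap (algebraMap A C), Ideal.comap_isPrime _ _⟩, ?_, ?_⟩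
    · intro a ha
      change algebraMap A C a ∈ m
      apply hqm
      rw [RingHom.mem_ker, hσ₁alg, Ideal.Quotient.eq_zero_iff_mem]
      exact ha
    · intro f hf
      change algebraMap A C f ∈ m
      apply hjac
      rw [RingHom.mem_ker]
      change res (algebraMap A C f) = 0
      rw [AlgHom.commutes]
      exact Ideal.Quotient.eq_zero_iff_mem.mpr (Ideal.subset_span hf)

end Groth.Agent.Lib.Helper36.DecRing
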