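import Mathlib
import Groth.Agent.Lib.Helper36.DecRing
import Groth.Prelude.Def_ProEtS
import Groth.Agent.Lib.Helper36.ProEtLan
import Groth.Agent.Lib.Helper36.ProEtCover2

set_option autoImplicit false
set_option linter.style.haveILetI false
universe u
open CategoryTheory CategoryTheory.Limits AlgebraicGeometry Opposite

namespace Groth.Agent.Lib.Helper36.ProEtDec

open Groth.Agent.Lib.Helper36.DecRing Groth.Agent.Lib.Helper36.ProEtSite

/-- Decomposition of an affine scheme with w-contractible ring of functions with respect to a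
closed subset `K` with quasi-compact complement: a clopen partition `W₁ ⊔ W₂` with `W₂` disjoint
from `K` and every point of `W₁` specialising to a point of `K`. -/
theorem exists_clopen_dec (S : Scheme.{u}) [IsAffine S]
    (hS : EtPBC.IsWContractible ↥(Γ(S, ⊤))) (K : Set ↥S) (hK : IsClosed K)
    (hKc : IsCompact Kᶜ) :
    ∃ W₁ W₂ : S.Opens, ((W₁ : Set ↥S) ∪ W₂ = Set.univ) ∧ Disjoint (W₁ : Set ↥S) W₂ ∧
      (W₂ : Set ↥S) ⊆ Kᶜ ∧ (∀ w ∈ W₁, ∃ z ∈ K, w ⤳ z) ∧ IsAffineOpen W₁ := by
  let e : ↥S ≃ₜ PrimeSpectrum ↥(Γ(S, ⊤)) := S.isoSpec.hom.homeomorph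
  have h1 : IsCompact (e '' Kᶜ) ∧ IsOpen (e '' Kᶜ) :=
    ⟨hKc.image e.continuous, e.isOpenMap _ hK.isOpen_compl⟩
  obtain ⟨E, hE⟩ := PrimeSpectrum.isCompact_isOpen_iff.mp h1
  have hE' : ∀ x : ↥S, x ∈ K ↔ (E : Set ↥(Γ(S, ⊤))) ⊆ (e x).asIdeal := by
    intro x
    have : e x ∈ (PrimeSpectrum.zeroLocus (E : Set ↥(Γ(S, ⊤))))ᶜ ↔ e x ∈ e '' Kᶜ := by rw [hE]
    rw [Set.mem_compl_iff, PrimeSpectrum.mem_zeroLocus, e.injective.mem_set_image,
      Set.mem_compl_iff] at this
    exact (not_iff_not.mp this).symm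
  obtain ⟨ε, hidem, hε, hsp⟩ := exists_idempotent_dec hS E
  refine ⟨S.isoSpec.hom ⁻¹ᵁ (PrimeSpectrum.basicOpen ε),
    S.isoSpec.hom ⁻¹ᵁ (PrimeSpectrum.basicOpen (1 - ε)), ?_, ?_, ?_, ?_, ?_⟩
  · apply Set.eq_univ_of_forall
    intro x
    by_cases hx : ε ∈ (e x).asIdeal
    · right
      change (1 - ε) ∉ (e x).asIdeal
      intro h2
      have : (1 : ↥(Γ(S, ⊤))) ∈ (e x).asIdeal := by
        have := Ideal.add_mem _ hx h2
        rwa [add_sub_cancel] at this
      exact (e x).2.ne_top ((Ideal.eq_top_iff_one _).mpr this)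
    · left
      exact hx
  · rw [Set.disjoint_left]
    intro x hx1 hx2
    have h1 : ε ∉ (e x).asIdeal := hx1
    have h2 : (1 - ε) ∉ (e x).asIdeal := hx2
    have h3 : ε * (1 - ε) ∈ (e x).asIdeal := by
      rw [mul_sub, mul_one, hidem.eq, sub_self]
      exact Ideal.zero_mem _
    rcases (e x).2.mem_or_mem h3 with h4 | h4
    · exact h1 h4
    · exact h2 h4
  · intro x hx hxK
    have h2 : (1 - ε) ∉ (e x).asIdeal := hx
    apply h2
    have h3 : Ideal.span (E : Set ↥(Γ(S, ⊤))) ≤ (e x).asIdeal :=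
      Ideal.span_le.mpr ((hE' x).mp hxK)
    exact h3 hε
  · intro w hw
    have h1 : ε ∉ (e w).asIdeal := hw
    obtain ⟨p', hle, hEp'⟩ := hsp (e w) h1
    refine ⟨e.symm p', ?_, ?_⟩
    · rw [hE', e.apply_symm_apply]
      exact hEp'
    · rw [← e.isInducing.specializes_iff, e.apply_symm_apply, ← PrimeSpectrum.le_iff_specializes]
      exact hle
  · rw [Scheme.isoSpec_hom, Scheme.toSpecΓ_preimage_basicOpen]
    exact (isAffineOpen_top S).basicOpen ε

variable {X : Scheme.{u}}

/-- sheaf gluing along a partition into opens -/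
theorem existsUnique_of_partition (G : Sheaf (Scheme.ProEt.topology X) (Type (u + 1)))
    (U : X.ProEt) {κ : Type*} (W : κ → U.left.Opens)
    (hdisj : Pairwise (fun k l => Disjoint (W k : Set ↥U.left) (W l)))
    (hcov : (⋃ k, (W k : Set ↥U.left)) = Set.univ)
    (t : ∀ k, G.obj.obj (op (objOver U (W k).ι))) :
    ∃! s : G.obj.obj (op U), ∀ k, G.obj.map (homOver U (W k).ι).op s = t k := by
  apply existsUnique_of_disjoint_cover G U (fun k => objOver U (W k).ι)
    (fun k => homOver U (W k).ι) (generate_opens_mem_topology U W hcov) ?_ ?_ t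
  · intro k
    haveI : Mono (homOver U (W k).ι).left := inferInstanceAs (Mono (W k).ι)
    exact mono_of_mono_left _
  · intro k l hkl Z a b hab
    constructor
    intro z
    have h1 : (a ≫ homOver U (W k).ι).left = (b ≫ homOver U (W l).ι).left := by rw [hab]
    have h2 : a.left ≫ (W k).ι = b.left ≫ (W l).ι := h1
    have h3 : (W k).ι (a.left z) = (W l).ι (b.left z) := by
      have h6 : (a.left ≫ (W k).ι) z = (b.left ≫ (W l).ι) z := by rw [h2]
      exact h6
    have h4 : (W k).ι (a.left z) ∈ (W k : Set ↥U.left) := (a.left z).2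
    have h5 : (W l).ι (b.left z) ∈ (W l : Set ↥U.left) := (b.left z).2
    rw [h3] at h4
    exact Set.disjoint_iff.mp (hdisj hkl) ⟨h4, h5⟩

/-- For an abelian sheaf `Q` and a partition `W = W₁ ⊔ W₂` into opens such that `Q(W₁) = 0`, the
restriction `Q(W) → Q(W₂)` is bijective. -/
theorem bijective_restrict_of_subsingleton (Q : ProEtS.AbP X) (W : X.ProEt)
    (W₁ W₂ : W.left.Opens) (hcov : (W₁ : Set ↥W.left) ∪ W₂ = Set.univ)
    (hdisj : Disjoint (W₁ : Set ↥W.left) W₂)
    (h₁ : Subsingleton (Q.obj.obj (op (objOver W W₁.ι)))) :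
    Function.Bijective (Q.obj.map (homOver W W₂.ι).op) := by
  let G : Sheaf (Scheme.ProEt.topology X) (Type (u + 1)) :=
    (sheafCompose (Scheme.ProEt.topology X) (forget AddCommGrpCat.{u + 1})).obj Q
  let Wk : Bool → W.left.Opens := fun b => if b then W₂ else W₁
  have hdisj' : Pairwise (fun k l => Disjoint (Wk k : Set ↥W.left) (Wk l)) := by
    intro k l hkl
    cases k <;> cases l
    · exact absurd rfl hkl
    · exact hdisj
    · exact hdisj.symm
    · exact absurd rfl hkl
  have hcov' : (⋃ k, (Wk k : Set ↥W.left)) = Set.univ := by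
    apply Set.eq_univ_of_forall
    intro x
    have hx : x ∈ (W₁ : Set ↥W.left) ∪ W₂ := hcov ▸ Set.mem_univ x
    rcases hx with hx | hx
    · exact Set.mem_iUnion.mpr ⟨false, hx⟩
    · exact Set.mem_iUnion.mpr ⟨true, hx⟩
  have key := existsUnique_of_partition G W Wk hdisj' hcov'
  constructor
  · intro a b hab
    let t : ∀ k, G.obj.obj (op (objOver W (Wk k).ι)) :=
      fun k => G.obj.map (homOver W (Wk k).ι).op a
    obtain ⟨s, -, hs⟩ := key t
    have ha : a = s := hs a (fun k => rfl)
    have hb : b = s := hs b (fun k => by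
      cases k
      · exact @Subsingleton.elim _ h₁ _ _
      · exact hab.symm)
    rw [ha, hb]
  · intro y
    let t : ∀ k, G.obj.obj (op (objOver W (Wk k).ι)) := fun k =>
      match k with
      | true => y
      | false => (0 : Q.obj.obj (op (objOver W W₁.ι)))
    obtain ⟨s, hs, -⟩ := key t
    exact ⟨s, hs true⟩

/-- a sieve containing all morphisms from affine objects with w-contractible ring of functions is
covering -/
theorem mem_topology_of_forall_wc (V : X.ProEt) (R : Sieve V)
    (H : ∀ (W : X.ProEt) (h : W ⟶ V) (_ : IsAffine W.left)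
      (_ : EtPBC.IsWContractible ↥(Γ(W.left, ⊤))), R h) :
    R ∈ Scheme.ProEt.topology X V := by
  obtain ⟨ι, D, _, f, _, hmem, hwc⟩ := exists_affine_wContractible_family V
  have hS := generate_ofArrows_mem_topology V (fun l => Spec (.of (D l))) f hmem
  refine (Scheme.ProEt.topology X).superset_covering ?_ hS
  rw [Sieve.generate_le_iff]
  rintro _ _ ⟨l⟩
  haveI hWaff : IsAffine (objOver V (f l)).left := inferInstanceAs (IsAffine (Spec (.of (D l))))
  exact H _ _ hWaff (isWContractible_of_ringEquiv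
      (Scheme.ΓSpecIso (.of (D l))).commRingCatIsoToRingEquiv.symm (hwc l))

/-- a morphism of abelian sheaves which is bijective on sections over affine objects with
w-contractible ring of functions is an isomorphism -/
theorem isIso_of_bijective_of_wc {F G : ProEtS.AbP X} (φ : F ⟶ G)
    (H : ∀ (W : X.ProEt) (_ : IsAffine W.left) (_ : EtPBC.IsWContractible ↥(Γ(W.left, ⊤))),
      Function.Bijective (φ.hom.app (op W))) : IsIso φ := by
  rw [← Sheaf.isLocallyBijective_iff_isIso (A := AddCommGrpCat.{u + 1})]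
  constructor
  · constructor
    intro V x y hxy
    apply mem_topology_of_forall_wc
    intro W h hWaff hWwc
    apply (H W hWaff hWwc).1
    have h1 := NatTrans.naturality_apply φ.hom h.op x
    have h2 := NatTrans.naturality_apply φ.hom h.op y
    exact h1.trans ((congrArg _ hxy).trans h2.symm)
  · constructor
    intro V s
    apply mem_topology_of_forall_wc
    intro W h hWaff hWwc
    exact (H W hWaff hWwc).2 _

/-- A functor to abelian pro-étale sheaves preserves limits of a given shape as soon as its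
composition with all the functors of sections over affine objects with w-contractible ring of
functions do. -/
theorem preservesLimitsOfShape_of_sections {𝒜 : Type*} [Category 𝒜] (L : 𝒜 ⥤ ProEtS.AbP X)
    (J : Type u) [SmallCategory J]
    (H : ∀ (W : X.ProEt) (_ : IsAffine W.left) (_ : EtPBC.IsWContractible ↥(Γ(W.left, ⊤))),
      PreservesLimitsOfShape J (L ⋙ (sheafSections (Scheme.ProEt.topology X)
        AddCommGrpCat.{u + 1}).obj (op W))) :
    PreservesLimitsOfShape J L := by
  constructor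
  intro K
  constructor
  intro c hc
  let d := L.mapCone c
  let hℓ := limit.isLimit (K ⋙ L)
  let κ : d.pt ⟶ limit (K ⋙ L) := hℓ.lift d
  suffices IsIso κ from ⟨IsLimit.ofPointIso hℓ⟩
  apply isIso_of_bijective_of_wc
  intro W hWaff hWwc
  let Γ := (sheafSections (Scheme.ProEt.topology X) AddCommGrpCat.{u + 1}).obj (op W)
  haveI := H W hWaff hWwc
  haveI : PreservesLimitsOfShape J Γ :=
    inferInstanceAs (PreservesLimitsOfShape J (sheafToPresheaf (Scheme.ProEt.topology X)
      AddCommGrpCat.{u + 1} ⋙ (evaluation _ _).obj (op W)))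
  have t1 : IsLimit ((L ⋙ Γ).mapCone c) := isLimitOfPreserves (L ⋙ Γ) hc
  have t2 : IsLimit (Γ.mapCone (limit.cone (K ⋙ L))) := isLimitOfPreserves Γ hℓ
  have hκ : Γ.map κ = t2.lift ((L ⋙ Γ).mapCone c) := by
    apply t2.uniq ((L ⋙ Γ).mapCone c)
    intro j
    change Γ.map κ ≫ Γ.map ((limit.cone (K ⋙ L)).π.app j) = Γ.map (L.map (c.π.app j))
    rw [← Γ.map_comp]
    congr 1
    exact hℓ.fac d j
  have hiso : IsIso (Γ.map κ) := by
    rw [hκ]
    exact (IsLimit.conePointUniqueUpToIso t1 t2).isIso_hom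
  exact ConcreteCategory.bijective_of_isIso (Γ.map κ)

end Groth.Agent.Lib.Helper36.ProEtDec
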