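import Mathlib
import Groth.Prelude.Def_ProEtS
import Groth.Agent.Lib.Helper36.ClosedHensLift
import Groth.Agent.Lib.Helper36.ClosedHensSections
import Groth.Agent.Lib.Helper36.ProEtDec

/-!
# `i⁻¹` commutes with limits for a closed immersion `i` (helper36)
-/

set_option autoImplicit false
set_option linter.style.haveILetI false
universe u
open CategoryTheory CategoryTheory.Limits AlgebraicGeometry Opposite

namespace Groth.Agent.Lib.Helper36.ClosedPullLim

open Groth.Agent.Lib.Helper36.ProEtSite Groth.Agent.Lib.Helper36.ClosedLiftGeom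
  Groth.Agent.Lib.Helper36.ClosedHensLift Groth.Agent.Lib.Helper36.ClosedHensSections
  Groth.Agent.Lib.Helper36.ClosedCounit

section Pred

variable {X : Scheme.{u}} (P : X.ProEt → Prop)
  (hP : ∀ (V : X.ProEt) (R : Sieve V), (∀ (W : X.ProEt) (h : W ⟶ V), P W → R h) →
    R ∈ Scheme.ProEt.topology X V)

include hP in
/-- a morphism of abelian sheaves which is bijective on sections over a generating family of
objects is an isomorphism -/
theorem isIso_of_bijective_of_pred {F G : ProEtS.AbP X} (φ : F ⟶ G)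
    (H : ∀ (W : X.ProEt), P W → Function.Bijective (φ.hom.app (op W))) : IsIso φ := by
  rw [← Sheaf.isLocallyBijective_iff_isIso (A := AddCommGrpCat.{u + 1})]
  constructor
  · constructor
    intro V x y hxy
    apply hP
    intro W h hW
    apply (H W hW).1
    have h1 := NatTrans.naturality_apply φ.hom h.op x
    have h2 := NatTrans.naturality_apply φ.hom h.op y
    exact h1.trans ((congrArg _ hxy).trans h2.symm)
  · constructor
    intro V s
    apply hP
    intro W h hW
    exact (H W hW).2 _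

include hP in
/-- A functor to abelian pro-étale sheaves preserves limits of a given shape as soon as its
composition with all the functors of sections over a generating family of objects do. -/
theorem preservesLimitsOfShape_of_sections_pred {𝒜 : Type*} [Category 𝒜] (L : 𝒜 ⥤ ProEtS.AbP X)
    (J : Type u) [SmallCategory J]
    (H : ∀ (W : X.ProEt), P W →
      PreservesLimitsOfShape J (L ⋙ (sheafSections (Scheme.ProEt.topology X)
        AddCommGrpCat.{u + 1}).obj (op W))) :
    PreservesLimitsOfShape J L := by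
  constructor
  intro K
  constructor
  intro c hc
  let d := L.mapCone c
  let hℓ := limit.isLimit (K ⋙ L)
  let κ : d.pt ⟶ limit (K ⋙ L) := hℓ.lift d
  suffices IsIso κ from ⟨IsLimit.ofPointIso hℓ⟩
  apply isIso_of_bijective_of_pred P hP
  intro W hW
  let Γ := (sheafSections (Scheme.ProEt.topology X) AddCommGrpCat.{u + 1}).obj (op W)
  haveI := H W hW
  haveI : PreservesLimitsOfShape J Γ :=
    inferInstanceAs (PreservesLimitsOfShape J (sheafToPresheaf (Scheme.ProEt.topology X)
      AddCommGrpCat.{u + 1} ⋙ (evaluation _ _).obj (op W)))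
  have t1 : IsLimit ((L ⋙ Γ).mapCone c) := isLimitOfPreserves (L ⋙ Γ) hc
  have t2 : IsLimit (Γ.mapCone (limit.cone (K ⋙ L))) := isLimitOfPreserves Γ hℓ
  have hκ : Γ.map κ = t2.lift ((L ⋙ Γ).mapCone c) := by
    apply t2.uniq ((L ⋙ Γ).mapCone c)
    intro j
    change Γ.map κ ≫ Γ.map ((limit.cone (K ⋙ L)).π.app j) = Γ.map (L.map (c.π.app j))
    rw [← Γ.map_comp]
    congr 1
    exact hℓ.fac d j
  have hiso : IsIso (Γ.map κ) := by
    rw [hκ]
    exact (IsLimit.conePointUniqueUpToIso t1 t2).isIso_hom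
  exact ConcreteCategory.bijective_of_isIso (Γ.map κ)

end Pred

theorem SpecMap_isoSpec_inv_appTop {Y : Scheme.{u}} [IsAffine Y] {R : CommRingCat.{u}}
    (φ : Γ(Y, ⊤) ⟶ R) :
    (Spec.map φ ≫ Y.isoSpec.inv).appTop = φ ≫ (Scheme.ΓSpecIso R).inv := by
  rw [Scheme.Hom.comp_appTop, isoSpec_inv_appTop', Scheme.ΓSpecIso_inv_naturality]

variable {Z X : Scheme.{u}} (i : Z ⟶ X) [IsClosedImmersion i]

/-- objects of `Z_proét` which are closed fibres of henselian affine objects of `X_proét`, with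
w-contractible rings of functions -/
def IsHensObj (T : Z.ProEt) : Prop :=
  ∃ (V₁ : X.ProEt) (_ : IsAffine V₁.left),
    HenselianRing ↥(Γ(V₁.left, ⊤)) (RingHom.ker (pullback.fst V₁.hom i).appTop.hom) ∧
    (∃ _ : IsAffine (pullback V₁.hom i), EtPBC.IsWContractible ↥(Γ(pullback V₁.hom i, ⊤))) ∧
    Nonempty (T ≅ (ProEtS.bcP i).obj V₁)

/-- The closed fibres of henselian affine objects generate `Z_proét`. -/
theorem mem_topology_of_forall_hens (U : Z.ProEt) (R : Sieve U)
    (H : ∀ (T : Z.ProEt) (h : T ⟶ U), IsHensObj i T → R h) :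
    R ∈ Scheme.ProEt.topology Z U := by
  let J := Scheme.ProEt.topology Z
  let Vtop : X.ProEt := Scheme.ProEt.mk (𝟙 X)
  let al : U.left ⟶ pullback (𝟙 X) i := pullback.lift (U.hom ≫ i) U.hom (by
    rw [Category.comp_id])
  let a : U ⟶ (ProEtS.bcP i).obj Vtop :=
    MorphismProperty.Over.homMk al (pullback.lift_snd _ _ _)
  have hS : J.close R ∈ J U := by
    apply mem_topology_of_forall_affine i U Vtop a
    intro W h hWaff hWwc V₀ hV₀aff b a₀ hab
    change R.pullback h ∈ J W
    -- the rings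
    let T₀ : Scheme.{u} := ((ProEtS.bcP i).obj V₀).left
    let cl₀ : T₀ ⟶ V₀.left := pullback.fst V₀.hom i
    haveI : IsClosedImmersion cl₀ := inferInstanceAs (IsClosedImmersion (pullback.fst V₀.hom i))
    haveI hT₀aff : IsAffine T₀ := (IsClosedImmersion.isAffine_surjective_of_isAffine cl₀).1
    let a₀l : W.left ⟶ T₀ := a₀.left
    haveI : WeaklyEtale a₀l := weaklyEtale_left a₀
    letI algAB : Algebra ↥(Γ(T₀, ⊤)) ↥(Γ(W.left, ⊤)) := a₀l.appTop.hom.toAlgebra
    haveI hwe : Algebra.WeaklyEtale ↥(Γ(T₀, ⊤)) ↥(Γ(W.left, ⊤)) := by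
      change (letI := a₀l.appTop.hom.toAlgebra; Algebra.WeaklyEtale ↥(Γ(T₀, ⊤)) ↥(Γ(W.left, ⊤)))
      rw [← Groth.Agent.Lib.Helper36.WE.weaklyEtale_SpecMap_iff]
      exact (MorphismProperty.arrow_mk_iso_iff @WeaklyEtale (arrowIsoSpecΓOfIsAffine a₀l)).mp
        inferInstance
    obtain ⟨D, _, _, _, tower, hff, hindB, hindA, hDwc⟩ :=
      exists_wc_indEtale_cover ↥(Γ(T₀, ⊤)) ↥(Γ(W.left, ⊤))
    haveI : Algebra.WeaklyEtale ↥(Γ(W.left, ⊤)) D := Groth.Agent.S0736.result _ D hindB
    let φ : Γ(W.left, ⊤) ⟶ CommRingCat.of D := CommRingCat.ofHom (algebraMap ↥(Γ(W.left, ⊤)) D)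
    let r : Spec (.of D) ⟶ W.left := Spec.map φ ≫ W.left.isoSpec.inv
    haveI : WeaklyEtale (Spec.map φ) := weaklyEtale_SpecMap_algebraMap _ D
    haveI : Surjective (Spec.map φ) := surjective_SpecMap_algebraMap _ D
    haveI hr1 : WeaklyEtale r := inferInstanceAs (WeaklyEtale (Spec.map φ ≫ W.left.isoSpec.inv))
    haveI hr2 : Surjective r := inferInstanceAs (Surjective (Spec.map φ ≫ W.left.isoSpec.inv))
    let W' : Z.ProEt := objOver W r
    let g : W' ⟶ W := homOver W r
    have hcov : Sieve.generate (Presieve.singleton g) ∈ J W := by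
      apply generate_singleton_mem_topology W r
      refine ⟨?_, ?_⟩
      · rw [← PreZeroHypercover.presieve₀_singleton.{_, _, 0},
          Scheme.presieve₀_mem_qcPrecoverage_iff]
        exact inferInstanceAs (QuasiCompactCover (PreZeroHypercover.singleton.{0} r))
      · rw [Scheme.singleton_mem_precoverage_iff]
        exact ⟨fun y => hr2.surj y, inferInstance⟩
    refine J.superset_covering ?_ hcov
    rw [Sieve.generate_le_iff]
    rintro _ _ ⟨⟩
    change R (g ≫ h)
    apply H
    -- `W'` is a henselian closed fibre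
    haveI hW'aff : IsAffine W'.left := inferInstanceAs (IsAffine (Spec (.of D)))
    have hind' : @EtPBC.IsIndEtale ↥(Γ(((ProEtS.bcP i).obj V₀).left, ⊤)) ↥(Γ(W'.left, ⊤)) _ _
        ((g ≫ a₀).left.appTop).hom.toAlgebra := by
      letI alg' : Algebra ↥(Γ(T₀, ⊤)) ↥(Γ(Spec (.of D), ⊤)) :=
        ((g ≫ a₀).left.appTop).hom.toAlgebra
      have hga : (g ≫ a₀).left.appTop = a₀l.appTop ≫ φ ≫ (Scheme.ΓSpecIso (.of D)).inv := by
        change (r ≫ a₀l).appTop = _
        rw [Scheme.Hom.comp_appTop, SpecMap_isoSpec_inv_appTop]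
      let eD : D ≃ₐ[↥(Γ(T₀, ⊤))] ↥(Γ(Spec (.of D), ⊤)) :=
        { (Scheme.ΓSpecIso (.of D)).symm.commRingCatIsoToRingEquiv with
          commutes' := fun x => by
            change (Scheme.ΓSpecIso (.of D)).inv.hom (algebraMap ↥(Γ(T₀, ⊤)) D x) =
              ((g ≫ a₀).left.appTop).hom x
            rw [hga, IsScalarTower.algebraMap_apply ↥(Γ(T₀, ⊤)) ↥(Γ(W.left, ⊤)) D]
            rfl }
      change @EtPBC.IsIndEtale ↥(Γ(T₀, ⊤)) ↥(Γ(Spec (.of D), ⊤)) _ _ alg'
      exact Groth.Agent.Lib.Helper9.HensK.isIndEtale_of_algEquiv eD hindA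
    obtain ⟨V', hV'aff, p, e, -, hHens⟩ := exists_hens_lift i V₀ W' (g ≫ a₀) hind'
    haveI := hV'aff
    let T' : Scheme.{u} := pullback V'.hom i
    let cl' : T' ⟶ V'.left := pullback.fst V'.hom i
    haveI : IsClosedImmersion cl' := inferInstanceAs (IsClosedImmersion (pullback.fst V'.hom i))
    haveI hT'aff : IsAffine T' := (IsClosedImmersion.isAffine_surjective_of_isAffine cl').1
    refine ⟨V', hV'aff, hHens, ⟨hT'aff, ?_⟩, ⟨e⟩⟩
    let el : Spec (.of D) ≅ T' := (MorphismProperty.Over.forget _ _ _ ⋙ Over.forget _).mapIso e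
    have e1 : ↥(Γ(T', ⊤)) ≃+* ↥(Γ(Spec (.of D), ⊤)) :=
      (Scheme.Γ.mapIso el.op).commRingCatIsoToRingEquiv
    have e2 : ↥(Γ(Spec (.of D), ⊤)) ≃+* D := (Scheme.ΓSpecIso (.of D)).commRingCatIsoToRingEquiv
    exact isWContractible_of_ringEquiv (e1.trans e2).symm hDwc
  exact J.transitive hS R (fun Y f hf => hf)

variable [ProEtS.PCont i]

/-- sections of `i⁻¹` over a henselian closed fibre commute with limits -/
theorem preservesLimitsOfShape_sections (J : Type u) [SmallCategory J] (T : Z.ProEt)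
    (hT : IsHensObj i T) :
    PreservesLimitsOfShape J (ProEtS.pullP i ⋙
      (sheafSections (Scheme.ProEt.topology Z) AddCommGrpCat.{u + 1}).obj (op T)) := by
  obtain ⟨V₁, hV₁aff, hH, hTV, ⟨e⟩⟩ := hT
  haveI := hV₁aff
  let ΓT := (sheafSections (Scheme.ProEt.topology Z) AddCommGrpCat.{u + 1}).obj (op T)
  let Γu := (sheafSections (Scheme.ProEt.topology Z) AddCommGrpCat.{u + 1}).obj
    (op ((ProEtS.bcP i).obj V₁))
  let ΓV := (sheafSections (Scheme.ProEt.topology X) AddCommGrpCat.{u + 1}).obj (op V₁)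
  let θ : ProEtS.pullP i ⋙ Γu ⟶ ProEtS.pullP i ⋙ ΓT :=
    Functor.whiskerLeft (ProEtS.pullP i)
      ((sheafSections (Scheme.ProEt.topology Z) AddCommGrpCat.{u + 1}).map e.hom.op)
  let ρ : ΓV ⟶ ProEtS.pullP i ⋙ Γu :=
    Functor.whiskerRight (ProEtS.pullPushAdjP i).unit ΓV
  haveI hθ : IsIso θ := by
    haveI : IsIso ((sheafSections (Scheme.ProEt.topology Z) AddCommGrpCat.{u + 1}).map e.hom.op) :=
      inferInstance
    infer_instance
  haveI hρ : IsIso ρ := by
    apply (config := { allowSynthFailures := true }) NatIso.isIso_of_isIso_app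
    intro F
    change IsIso (((ProEtS.pullPushAdjP i).unit.app F).hom.app (op V₁))
    exact (ConcreteCategory.isIso_iff_bijective _).mpr (bijective_unit_app i V₁ hH hTV F)
  haveI : PreservesLimitsOfShape J ΓV :=
    inferInstanceAs (PreservesLimitsOfShape J (sheafToPresheaf (Scheme.ProEt.topology X)
      AddCommGrpCat.{u + 1} ⋙ (evaluation _ _).obj (op V₁)))
  haveI : PreservesLimitsOfShape J (ProEtS.pullP i ⋙ Γu) :=
    preservesLimitsOfShape_of_natIso (asIso ρ)
  exact preservesLimitsOfShape_of_natIso (asIso θ)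

/-- **`i⁻¹` commutes with limits** for a closed immersion `i`. -/
theorem preservesLimitsOfShape_pullP (J : Type u) [SmallCategory J] :
    PreservesLimitsOfShape J (ProEtS.pullP i) :=
  preservesLimitsOfShape_of_sections_pred (IsHensObj i)
    (fun V R hR => mem_topology_of_forall_hens i V R hR) (ProEtS.pullP i) J
    (fun T hT => preservesLimitsOfShape_sections i J T hT)

end Groth.Agent.Lib.Helper36.ClosedPullLim
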