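import Mathlib
import Groth.Prelude.Def_ProEtS
import Groth.Agent.Lib.Helper36.ClosedPullLim
import Groth.Agent.Lib.Helper36.ClosedHensSectionsType

/-!
# The left adjoint `i_#` of `i⁻¹` on pro-étale sheaves of sets, for a closed immersion (helper36)
-/

set_option autoImplicit false
set_option linter.style.haveILetI false
universe u
open CategoryTheory CategoryTheory.Limits AlgebraicGeometry Opposite

namespace Groth.Agent.Lib.Helper36.ClosedShriek

open Groth.Agent.Lib.Helper36.ProEtSite Groth.Agent.Lib.Helper36.ClosedPullLim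
  Groth.Agent.Lib.Helper36.ClosedHensSectionsType

variable {Z X : Scheme.{u}} (i : Z ⟶ X) [IsClosedImmersion i]

/-- the full subcategory of `Z_proét` of closed fibres of henselian affine objects -/
abbrev Hens : Type (u + 1) := ObjectProperty.FullSubcategory (IsHensObj i)

/-- the inclusion of the henselian closed fibres -/
abbrev ιH : Hens i ⥤ Z.ProEt := ObjectProperty.ι (IsHensObj i)

instance isCoverDense_ιH : (ιH i).IsCoverDense (Scheme.ProEt.topology Z) where
  is_cover U := by
    apply mem_topology_of_forall_hens i U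
    intro T h hT
    exact ⟨⟨⟨T, hT⟩, 𝟙 T, h, Category.id_comp h⟩⟩

/-- restriction of sheaves of sets to the henselian closed fibres -/
noncomputable abbrev restr :
    Sheaf (Scheme.ProEt.topology Z) (Type (u + 1)) ⥤ ((Hens i)ᵒᵖ ⥤ Type (u + 1)) :=
  sheafToPresheaf _ _ ⋙ (Functor.whiskeringLeft _ _ _).obj (ιH i).op

instance full_restr : (restr i).Full where
  map_surjective {G G'} α := by
    obtain ⟨β, hβ⟩ := (Functor.whiskerLeft_obj_map_bijective_of_isCoverDense
      (K := Scheme.ProEt.topology Z) (ιH i) G.obj G'.obj G'.property).2 α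
    exact ⟨⟨β⟩, hβ⟩

instance faithful_restr : (restr i).Faithful where
  map_injective {G G'} f g h := by
    apply Sheaf.hom_ext
    exact (Functor.whiskerLeft_obj_map_bijective_of_isCoverDense
      (K := Scheme.ProEt.topology Z) (ιH i) G.obj G'.obj G'.property).1 h

variable [ProEtS.PCont i]

/-- the inverse image functor on sheaves of sets -/
noncomputable abbrev Φ : Sheaf (Scheme.ProEt.topology X) (Type (u + 1)) ⥤
    Sheaf (Scheme.ProEt.topology Z) (Type (u + 1)) :=
  (ProEtS.bcP i).sheafPullback (Type (u + 1)) (Scheme.ProEt.topology X) (Scheme.ProEt.topology Z)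

/-- The partial left adjoint of `i⁻¹` followed by restriction is defined on representables. -/
theorem leftAdjointObjIsDefined_uliftYoneda (T : Hens i) :
    (Φ i ⋙ restr i).leftAdjointObjIsDefined (uliftYoneda.{u + 1}.obj T) := by
  obtain ⟨V₁, hV₁aff, hH, hTV, ⟨e⟩⟩ := T.property
  haveI := hV₁aff
  let adj := (ProEtS.bcP i).sheafAdjunctionContinuous (Type (u + 1))
      (Scheme.ProEt.topology X) (Scheme.ProEt.topology Z)
  let hV : Sheaf (Scheme.ProEt.topology X) (Type (u + 1)) :=
    (GrothendieckTopology.uliftYoneda.{u + 1} (Scheme.ProEt.topology X)).obj V₁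
  -- the bijection on sections
  let σ : ∀ F : Sheaf (Scheme.ProEt.topology X) (Type (u + 1)),
      F.obj.obj (op V₁) → ((Φ i).obj F).obj.obj (op T.obj) :=
    fun F x => ((Φ i).obj F).obj.map e.hom.op ((adj.unit.app F).hom.app (op V₁) x)
  have hσ : ∀ F, Function.Bijective (σ F) := by
    intro F
    have h1 := bijective_unit_app i V₁ hH hTV F
    have h2 : Function.Bijective (((Φ i).obj F).obj.map e.hom.op) := by
      rw [← isIso_iff_bijective]
      infer_instance
    exact h2.comp h1
  have hσnat : ∀ {F F' : Sheaf (Scheme.ProEt.topology X) (Type (u + 1))} (g : F ⟶ F')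
      (x : F.obj.obj (op V₁)),
      σ F' (g.hom.app (op V₁) x) = ((Φ i).map g).hom.app (op T.obj) (σ F x) := by
    intro F F' g x
    have h1 := congrArg (fun m => m.hom.app (op V₁) x) (adj.unit.naturality g)
    have h2 := NatTrans.naturality_apply ((Φ i).map g).hom e.hom.op
      ((adj.unit.app F).hom.app (op V₁) x)
    change ((Φ i).obj F').obj.map e.hom.op ((adj.unit.app F').hom.app (op V₁)
      (g.hom.app (op V₁) x)) = _
    refine Eq.trans ?_ h2.symm
    congr 1
  let yX : ∀ F : Sheaf (Scheme.ProEt.topology X) (Type (u + 1)),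
      (hV.obj ⟶ F.obj) ≃ F.obj.obj (op V₁) :=
    fun F => uliftYonedaEquiv.{u + 1} (X := V₁) (F := F.obj)
  let yZ : ∀ F : Sheaf (Scheme.ProEt.topology X) (Type (u + 1)),
      (uliftYoneda.{u + 1}.obj T ⟶ (restr i).obj ((Φ i).obj F)) ≃
        ((Φ i).obj F).obj.obj (op T.obj) :=
    fun F => uliftYonedaEquiv.{u + 1} (X := T) (F := (restr i).obj ((Φ i).obj F))
  refine Functor.CorepresentableBy.isCorepresentable (X := hV) ?_
  exact
    { homEquiv := fun {F} =>
        ((fullyFaithfulSheafToPresheaf _ _).homEquiv (X := hV) (Y := F)).trans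
          ((yX F).trans ((Equiv.ofBijective (σ F) (hσ F)).trans (yZ F).symm))
      homEquiv_comp := fun {F F'} g f => by
        change (yZ F').symm (σ F' (yX F' (f.hom ≫ g.hom))) =
          (yZ F).symm (σ F (yX F f.hom)) ≫ (restr i).map ((Φ i).map g)
        have h1 : yX F' (f.hom ≫ g.hom) = g.hom.app (op V₁) (yX F f.hom) :=
          uliftYonedaEquiv_comp.{u + 1} f.hom g.hom
        have h2 : (yZ F).symm (σ F (yX F f.hom)) ≫ (restr i).map ((Φ i).map g) =
            (yZ F').symm (((restr i).map ((Φ i).map g)).app (op T) (σ F (yX F f.hom))) :=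
          uliftYonedaEquiv_symm_comp.{u + 1} (C := Hens i) (F := (restr i).obj ((Φ i).obj F))
            (G := (restr i).obj ((Φ i).obj F')) (X := op T) (σ F (yX F f.hom))
            ((restr i).map ((Φ i).map g))
        rw [h1, h2, hσnat]
        rfl }

/-- The partial left adjoint of `i⁻¹` followed by restriction is defined everywhere. -/
theorem leftAdjointObjIsDefined_restr (P : (Hens i)ᵒᵖ ⥤ Type (u + 1)) :
    (Φ i ⋙ restr i).leftAdjointObjIsDefined P := by
  have hc := Presheaf.colimitOfRepresentable.{u + 1} P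
  exact Functor.leftAdjointObjIsDefined_of_isColimit (F := Φ i ⋙ restr i) hc
    (fun j => leftAdjointObjIsDefined_uliftYoneda i j.unop.1.unop)

theorem isRightAdjoint_comp_restr : (Φ i ⋙ restr i).IsRightAdjoint := by
  apply Functor.isRightAdjoint_of_leftAdjointObjIsDefined_eq_top
  ext P
  simp only [Pi.top_apply, Prop.top_eq_true, iff_true]
  exact leftAdjointObjIsDefined_restr i P

/-- **`i⁻¹` on sheaves of sets has a left adjoint**, for a closed immersion `i`. -/
theorem isRightAdjoint_Φ : (Φ i).IsRightAdjoint := by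
  haveI := isRightAdjoint_comp_restr i
  let L' := (Φ i ⋙ restr i).leftAdjoint
  let adj : L' ⊣ Φ i ⋙ restr i := Adjunction.ofIsRightAdjoint _
  let hR : (restr i).FullyFaithful := Functor.FullyFaithful.ofFullyFaithful _
  exact (adj.restrictFullyFaithful hR (Functor.FullyFaithful.id _) (L := restr i ⋙ L')
    (R := Φ i) (Functor.rightUnitor _).symm (Functor.leftUnitor _)).isRightAdjoint

end Groth.Agent.Lib.Helper36.ClosedShriek
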