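import Mathlib
import Groth.Agent.Lib.Helper5.AdjDerived
import Groth.Agent.Lib.Helper6.ExactDC

/-!
# Derived version of "fully faithful exact right adjoint"

`adj : L ⊣ R` an adjunction between exact functors of abelian categories with invertible counit;
`J` a further functor out of the target of `R` with `J ∘ R = 0`, `L` and `J` jointly conservative.
Then `R.mapDerivedCategory` is fully faithful and its essential image consists of the complexes all
of whose cohomology objects are killed by `J`.
-/

set_option autoImplicit false
set_option linter.unusedSectionVars false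
universe w₁ w₂ v₁ v₂ v₃ u₁ u₂ u₃
open CategoryTheory CategoryTheory.Limits

namespace Groth.Agent.Lib.Helper36.DerivedRecoll

open Groth.Agent.Lib.Helper5 Groth.Agent.Lib.Helper6

variable {A : Type u₁} [Category.{v₁} A] [Abelian A] [HasDerivedCategory.{w₁} A]
  {B : Type u₂} [Category.{v₂} B] [Abelian B] [HasDerivedCategory.{w₂} B]
  {C : Type u₃} [Category.{v₃} C]
  {L : B ⥤ A} {R : A ⥤ B} [L.Additive] [R.Additive]
  [PreservesFiniteLimits L] [PreservesFiniteColimits L]
  [PreservesFiniteLimits R] [PreservesFiniteColimits R] (adj : L ⊣ R)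

lemma isIso_counit_app_Q [IsIso adj.counit] (M : CochainComplex A ℤ) :
    IsIso ((mapDerivedCategoryAdj adj).counit.app (DerivedCategory.Q.obj M)) := by
  let _ : CatCommSq (L.mapHomologicalComplex (ComplexShape.up ℤ)) DerivedCategory.Q
      DerivedCategory.Q L.mapDerivedCategory := ⟨L.mapDerivedCategoryFactors.symm⟩
  let _ : CatCommSq (R.mapHomologicalComplex (ComplexShape.up ℤ)) DerivedCategory.Q
      DerivedCategory.Q R.mapDerivedCategory := ⟨R.mapDerivedCategoryFactors.symm⟩
  have h := Adjunction.localization_counit_app (mapHomologicalComplexAdj adj (ComplexShape.up ℤ))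
    DerivedCategory.Q (HomologicalComplex.quasiIso B (ComplexShape.up ℤ)) DerivedCategory.Q
    (HomologicalComplex.quasiIso A (ComplexShape.up ℤ)) L.mapDerivedCategory R.mapDerivedCategory M
  have h1 : IsIso ((mapHomologicalComplexAdj adj (ComplexShape.up ℤ)).counit.app M) := by
    have : ∀ n, IsIso (((mapHomologicalComplexAdj adj (ComplexShape.up ℤ)).counit.app M).f n) := by
      intro n
      change IsIso (adj.counit.app (M.X n))
      infer_instance
    exact HomologicalComplex.Hom.isIso_of_components _
  change IsIso (((mapHomologicalComplexAdj adj (ComplexShape.up ℤ)).localization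
    DerivedCategory.Q (HomologicalComplex.quasiIso B (ComplexShape.up ℤ)) DerivedCategory.Q
    (HomologicalComplex.quasiIso A (ComplexShape.up ℤ)) L.mapDerivedCategory
    R.mapDerivedCategory).counit.app (DerivedCategory.Q.obj M))
  rw [h]
  infer_instance

instance isIso_counit_derived [IsIso adj.counit] : IsIso (mapDerivedCategoryAdj adj).counit := by
  have : ∀ M, IsIso ((mapDerivedCategoryAdj adj).counit.app M) := by
    intro M
    let e : DerivedCategory.Q.obj (DerivedCategory.Q.objPreimage M) ≅ M :=
      DerivedCategory.Q.objObjPreimageIso M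
    rw [← NatTrans.isIso_app_iff_of_iso _ e]
    exact isIso_counit_app_Q adj _
  exact NatIso.isIso_of_isIso_app _

theorem full_faithful [IsIso adj.counit] :
    R.mapDerivedCategory.Full ∧ R.mapDerivedCategory.Faithful :=
  ⟨(mapDerivedCategoryAdj adj).fullyFaithfulROfIsIsoCounit.full,
    (mapDerivedCategoryAdj adj).fullyFaithfulROfIsIsoCounit.faithful⟩

lemma isIso_of_isZero {D : Type*} [Category D] {X Y : D} (f : X ⟶ Y) (hX : IsZero X)
    (hY : IsZero Y) : IsIso f :=
  ⟨⟨hY.to_ X, hX.eq_of_src _ _, hY.eq_of_src _ _⟩⟩

variable (J : B ⥤ C) (hz : ∀ M : A, IsZero (J.obj (R.obj M)))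
  (hcons : ∀ {F F' : B} (f : F ⟶ F'), IsIso (L.map f) → IsIso (J.map f) → IsIso f)

include hz hcons in
theorem essImage_iff [IsIso adj.counit] (K : DerivedCategory B) :
    R.mapDerivedCategory.essImage K ↔
      ∀ n : ℤ, IsZero (J.obj ((DerivedCategory.homologyFunctor B n).obj K)) := by
  constructor
  · rintro ⟨M, ⟨e⟩⟩ n
    have e1 : (DerivedCategory.homologyFunctor B n).obj K ≅
        R.obj ((DerivedCategory.homologyFunctor A n).obj M) :=
      (DerivedCategory.homologyFunctor B n).mapIso e.symm ≪≫ (ExactDC.homologyIso R n).app M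
    exact IsZero.of_iso (hz _) (J.mapIso e1)
  · intro h
    let adjD := mapDerivedCategoryAdj adj
    let u := adjD.unit.app K
    suffices hu : IsIso u from ⟨L.mapDerivedCategory.obj K, ⟨(asIso u).symm⟩⟩
    rw [DerivedCategory.isIso_iff]
    intro n
    apply hcons
    · -- `L (H^n u) ≅ H^n (LD u)` and `LD u` is an isomorphism
      have hLu : IsIso (L.mapDerivedCategory.map u) := by
        have ht := adjD.left_triangle_components K
        have : IsIso (L.mapDerivedCategory.map u ≫ adjD.counit.app (L.mapDerivedCategory.obj K)) := by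
          rw [ht]; exact IsIso.id _
        exact IsIso.of_isIso_comp_right _ (adjD.counit.app (L.mapDerivedCategory.obj K))
      have h1 : IsIso ((DerivedCategory.homologyFunctor A n).map (L.mapDerivedCategory.map u)) :=
        inferInstance
      rw [ExactDC.homology_map_eq] at h1
      have h2 : IsIso (L.map ((DerivedCategory.homologyFunctor B n).map u) ≫
          (ExactDC.homologyIso L n).inv.app _) :=
        @IsIso.of_isIso_comp_left _ _ _ _ _ ((ExactDC.homologyIso L n).hom.app K) _ inferInstance h1
      exact IsIso.of_isIso_comp_right _ ((ExactDC.homologyIso L n).inv.app _)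
    · apply isIso_of_isZero _ (h n)
      have e1 : (DerivedCategory.homologyFunctor B n).obj
          (R.mapDerivedCategory.obj (L.mapDerivedCategory.obj K)) ≅
          R.obj ((DerivedCategory.homologyFunctor A n).obj (L.mapDerivedCategory.obj K)) :=
        (ExactDC.homologyIso R n).app _
      exact IsZero.of_iso (hz _) (J.mapIso e1)

end Groth.Agent.Lib.Helper36.DerivedRecoll
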