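import Mathlib
import Groth.Prelude.Def_EtBase
import Groth.Agent.Lib.Helper43.EtLift
import Groth.Agent.Lib.Helper43.EtOpenSub

/-!
# Base change along a closed immersion is a dense subsite functor

For a closed immersion `i : Z ⟶ X`, the base change functor `EtCoh.bc i : X.Etale ⥤ Z.Etale` is
cover-dense, locally full and locally faithful for the étale topology on `Z`.  Hence
(Mathlib's comparison lemma) sheaves on `Z_ét` are the sheaves on `X.Etale` for the topology induced
from `Z`, and `i_*` is fully faithful for any coefficient category with enough limits.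
-/

set_option autoImplicit false
universe u
open CategoryTheory CategoryTheory.Limits AlgebraicGeometry Opposite

namespace Groth.Agent.Lib.Helper36.EtClosedDense

open Groth.Agent.Lib.Helper43

variable {Z X : Scheme.{u}} (i : Z ⟶ X)

/-- base change along a closed immersion is cover-dense -/
instance isCoverDense_bc [IsClosedImmersion i] :
    (EtCoh.bc i).IsCoverDense Z.smallEtaleTopology where
  is_cover U := by
    rw [EtOpenSub.mem_smallEtaleTopology_iff']
    intro x
    obtain ⟨V, h, h1, h2, y, hy⟩ := EtLift.lift_at i U x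
    exact ⟨(EtCoh.bc i).obj V, MorphismProperty.Over.homMk h h1, y,
      ⟨⟨V, 𝟙 _, MorphismProperty.Over.homMk h h1, Category.id_comp _⟩⟩, hy⟩

/-- base change is locally faithful (for any morphism) -/
instance isLocallyFaithful_bc : (EtCoh.bc i).IsLocallyFaithful Z.smallEtaleTopology where
  functorPushforward_equalizer_mem {U V} f₁ f₂ e := by
    have h1 : (Sieve.equalizer f₁ f₂) (equalizer.ι f₁ f₂) := equalizer.condition f₁ f₂
    have h2 : IsIso ((EtCoh.bc i).map (equalizer.ι f₁ f₂)) := by
      have e1 := equalizerComparison_comp_π f₁ f₂ (EtCoh.bc i)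
      have : IsIso (equalizer.ι ((EtCoh.bc i).map f₁) ((EtCoh.bc i).map f₂)) := equalizer.ι_of_eq e
      rw [← e1]
      infer_instance
    have h3 : (Sieve.functorPushforward (EtCoh.bc i) (Sieve.equalizer f₁ f₂))
        ((EtCoh.bc i).map (equalizer.ι f₁ f₂)) := Sieve.image_mem_functorPushforward _ _ h1
    have h4 : Sieve.functorPushforward (EtCoh.bc i) (Sieve.equalizer f₁ f₂) = ⊤ := by
      rw [← Sieve.id_mem_iff_eq_top]
      have := (Sieve.functorPushforward (EtCoh.bc i) (Sieve.equalizer f₁ f₂)).downward_closed h3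
        (inv ((EtCoh.bc i).map (equalizer.ι f₁ f₂)))
      rwa [IsIso.inv_hom_id] at this
    rw [h4]
    exact Z.smallEtaleTopology.top_mem _

lemma bc_map_left_fst {U V : X.Etale} (g : V ⟶ U) :
    ((EtCoh.bc i).map g).left ≫ pullback.fst U.hom i = pullback.fst V.hom i ≫ g.left := by
  dsimp [EtCoh.bc]
  exact pullback.lift_fst _ _ _

lemma bc_map_left_snd {U V : X.Etale} (g : V ⟶ U) :
    ((EtCoh.bc i).map g).left ≫ pullback.snd U.hom i = pullback.snd V.hom i := by
  dsimp [EtCoh.bc]
  exact pullback.lift_snd _ _ _

/-- base change along a closed immersion is locally full -/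
instance isLocallyFull_bc [IsClosedImmersion i] :
    (EtCoh.bc i).IsLocallyFull Z.smallEtaleTopology where
  functorPushforward_imageSieve_mem {V V'} a := by
    rw [EtOpenSub.mem_smallEtaleTopology_iff']
    intro x
    let G := EtCoh.bc i
    let P : X.Etale := V ⨯ V'
    let e : G.obj P ≅ G.obj V ⨯ G.obj V' := PreservesLimitPair.iso G V V'
    let γ : G.obj V ⟶ G.obj P := prod.lift (𝟙 _) a ≫ e.inv
    have he1 : e.hom ≫ prod.fst = G.map prod.fst := by
      rw [PreservesLimitPair.iso_hom]; exact prodComparison_fst G V V'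
    have he2 : e.hom ≫ prod.snd = G.map prod.snd := by
      rw [PreservesLimitPair.iso_hom]; exact prodComparison_snd G V V'
    have hγ1 : γ ≫ G.map prod.fst = 𝟙 _ := by
      rw [← he1]
      simp only [γ, Category.assoc, Iso.inv_hom_id_assoc]
      exact prod.lift_fst _ _
    have hγ2 : γ ≫ G.map prod.snd = a := by
      rw [← he2]
      simp only [γ, Category.assoc, Iso.inv_hom_id_assoc]
      exact prod.lift_snd _ _
    -- the closed immersion `P_Z → P`
    let PL : Scheme.{u} := P.left
    let ph : PL ⟶ X := P.hom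
    let GP : Scheme.{u} := pullback ph i
    let iP : GP ⟶ PL := pullback.fst ph i
    let GV : Scheme.{u} := pullback V.hom i
    let γl : GV ⟶ GP := γ.left
    have hγl_et : Etale γl := inferInstanceAs (Etale γ.left)
    have hγw : γl ≫ pullback.snd ph i = pullback.snd V.hom i := MorphismProperty.Over.w γ
    let VB : GP.Etale := Scheme.Etale.mk γl
    let x' : VB.left := x
    obtain ⟨W, h, h1, h2, p, hp⟩ := EtLift.lift_at iP VB x'
    let WL : Scheme.{u} := W.left
    let wh : WL ⟶ PL := W.hom
    have hwh_et : Etale wh := W.prop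
    have hph_et : Etale ph := P.prop
    let h₀ : pullback wh iP ⟶ GV := h
    have h1' : h₀ ≫ γl = pullback.snd wh iP := h1
    let T : X.Etale := Scheme.Etale.mk (wh ≫ ph)
    let g : T ⟶ P := MorphismProperty.Over.homMk wh rfl
    have hcond : (pullback.fst (wh ≫ ph) i ≫ wh) ≫ ph = pullback.snd (wh ≫ ph) i ≫ i :=
      (Category.assoc _ _ _).trans pullback.condition
    let ν : pullback (wh ≫ ph) i ⟶ GP :=
      pullback.lift (pullback.fst (wh ≫ ph) i ≫ wh) (pullback.snd (wh ≫ ph) i) hcond
    have hν1 : ν ≫ iP = pullback.fst (wh ≫ ph) i ≫ wh := pullback.lift_fst _ _ _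
    have hν2 : ν ≫ pullback.snd ph i = pullback.snd (wh ≫ ph) i := pullback.lift_snd _ _ _
    let μ : pullback (wh ≫ ph) i ⟶ pullback wh iP :=
      pullback.lift (pullback.fst (wh ≫ ph) i) ν hν1.symm
    have hμ1 : μ ≫ pullback.fst wh iP = pullback.fst (wh ≫ ph) i := pullback.lift_fst _ _ _
    have hμ2 : μ ≫ pullback.snd wh iP = ν := pullback.lift_snd _ _ _
    have hμγ : (μ ≫ h₀) ≫ γl = ν :=
      (Category.assoc _ _ _).trans ((congrArg (fun t => μ ≫ t) h1').trans hμ2)
    have hm0 : (μ ≫ h₀) ≫ pullback.snd V.hom i = pullback.snd (wh ≫ ph) i :=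
      (congrArg (fun t => (μ ≫ h₀) ≫ t) hγw.symm).trans
        ((Category.assoc _ _ _).symm.trans
          ((congrArg (fun t => t ≫ pullback.snd ph i) hμγ).trans hν2))
    let m : G.obj T ⟶ G.obj V := MorphismProperty.Over.homMk (μ ≫ h₀) hm0
    have hm : m ≫ γ = G.map g := by
      apply MorphismProperty.Over.Hom.ext
      change (μ ≫ h₀) ≫ γl = (G.map g).left
      rw [hμγ]
      apply pullback.hom_ext
      · exact hν1.trans (bc_map_left_fst i g).symm
      · exact hν2.trans (bc_map_left_snd i g).symm
    let jT : T ⟶ V := g ≫ prod.fst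
    let l : T ⟶ V' := g ≫ prod.snd
    have hjT : G.map jT = m := by
      rw [G.map_comp, ← hm, Category.assoc, hγ1, Category.comp_id]
    have hl : G.map l = G.map jT ≫ a := by
      rw [hjT, G.map_comp, ← hm, Category.assoc, hγ2]
    -- the point
    let t : WL := (pullback.fst wh iP).base p
    let q : GP := (pullback.snd wh iP).base p
    let z : Z := (pullback.snd ph i).base q
    have hq : wh.base t = iP.base q := by
      change (pullback.fst wh iP ≫ wh).base p = (pullback.snd wh iP ≫ iP).base p
      rw [pullback.condition]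
    have htz : (wh ≫ ph).base t = i.base z := by
      change ph.base (wh.base t) = (pullback.snd ph i ≫ i).base q
      rw [hq, ← pullback.condition]
      rfl
    obtain ⟨y', hy1, hy2⟩ := Scheme.Pullback.exists_preimage_pullback
      (f := wh ≫ ph) (g := i) t z htz
    have hinj : Function.Injective (pullback.fst wh iP).base :=
      (pullback.fst wh iP).isClosedEmbedding.injective
    have hμy : μ.base y' = p := by
      apply hinj
      change (μ ≫ pullback.fst wh iP).base y' = t
      rw [hμ1]
      exact hy1
    refine ⟨G.obj T, G.map jT, y', Sieve.image_mem_functorPushforward _ _ ⟨l, hl⟩, ?_⟩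
    rw [hjT]
    change h₀.base (μ.base y') = x
    rw [hμy]
    exact hp

end Groth.Agent.Lib.Helper36.EtClosedDense
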