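import Mathlib
import Groth.Prelude.Def_EtBase
import Groth.Agent.Lib.Helper36.EtClosedDense

/-!
# Essential image of `i_*` for a closed immersion (any coefficients), and the sheaf condition for
the topology induced from `Z` in terms of sections over étale schemes missing `Z` (sheaves of types)
-/

set_option autoImplicit false
set_option linter.unusedSectionVars false
universe u w v'
open CategoryTheory CategoryTheory.Limits AlgebraicGeometry Opposite

namespace Groth.Agent.Lib.Helper36.EtClosedDense

open Groth.Agent.Lib.Helper43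

variable {Z X : Scheme.{u}} (i : Z ⟶ X) [IsClosedImmersion i]

/-- the topology on `X.Etale` induced from `Z_ét` -/
noncomputable abbrev J₀ : GrothendieckTopology X.Etale :=
  (EtCoh.bc i).restrictedTopology Z.smallEtaleTopology

lemma mem_J₀_iff {V : X.Etale} (S : Sieve V) :
    S ∈ J₀ i V ↔ S.functorPushforward (EtCoh.bc i) ∈ Z.smallEtaleTopology ((EtCoh.bc i).obj V) :=
  Functor.mem_restrictedTopology_iff

lemma le_J₀ : X.smallEtaleTopology ≤ J₀ i := by
  intro V S hS
  rw [mem_J₀_iff]
  exact (EtCoh.coverPreserving_bc i).cover_preserve hS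

variable (A : Type w) [Category.{v'} A]
  [∀ T, HasLimitsOfShape (StructuredArrow T (EtCoh.bc i).op) A]

/-- the equivalence of the comparison lemma -/
noncomputable abbrev E : Sheaf Z.smallEtaleTopology A ⥤ Sheaf (J₀ i) A :=
  (EtCoh.bc i).sheafPushforwardContinuous A (J₀ i) Z.smallEtaleTopology

instance : (E i A).IsEquivalence := inferInstance

/-- `i_*` is fully faithful, for any coefficients -/
theorem full_faithful_push :
    ((EtCoh.bc i).sheafPushforwardContinuous A X.smallEtaleTopology Z.smallEtaleTopology).Full ∧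
    ((EtCoh.bc i).sheafPushforwardContinuous A X.smallEtaleTopology Z.smallEtaleTopology).Faithful := by
  constructor
  · constructor
    intro F F' α
    let α' : (E i A).obj F ⟶ (E i A).obj F' := ⟨α.hom⟩
    refine ⟨(E i A).preimage α', ?_⟩
    apply Sheaf.hom_ext
    have := (E i A).map_preimage α'
    exact congrArg (fun t => t.hom) this
  · constructor
    intro F F' φ ψ h
    apply (E i A).map_injective
    apply Sheaf.hom_ext
    exact congrArg (fun t => t.hom) h

/-- the essential image of `i_*`: sheaves for the induced topology -/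
theorem essImage_push_iff (F : Sheaf X.smallEtaleTopology A) :
    ((EtCoh.bc i).sheafPushforwardContinuous A X.smallEtaleTopology Z.smallEtaleTopology).essImage F ↔
      Presheaf.IsSheaf (J₀ i) F.obj := by
  constructor
  · rintro ⟨F₀, ⟨e⟩⟩
    have h := ((E i A).obj F₀).property
    exact (Presheaf.isSheaf_of_iso_iff ((sheafToPresheaf _ _).mapIso e)).1 h
  · intro h
    let F' : Sheaf (J₀ i) A := ⟨F.obj, h⟩
    obtain ⟨F₀, ⟨e⟩⟩ := Functor.EssSurj.mem_essImage (F := E i A) F'
    refine ⟨F₀, ⟨⟨⟨e.hom.hom⟩, ⟨e.inv.hom⟩, ?_, ?_⟩⟩⟩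
    · apply Sheaf.hom_ext
      exact congrArg (fun t => t.hom) e.hom_inv_id
    · apply Sheaf.hom_ext
      exact congrArg (fun t => t.hom) e.inv_hom_id

section TypeSheaf

variable (F : (X.Etale)ᵒᵖ ⥤ Type w)

/-- the presheaf has exactly one section over every étale `X`-scheme missing `Z` -/
def TrivOffZ : Prop :=
  ∀ V : X.Etale, IsEmpty ((EtCoh.bc i).obj V).left →
    Nonempty (F.obj (op V)) ∧ Subsingleton (F.obj (op V))

lemma bot_mem_J₀ (V : X.Etale) (hV : IsEmpty ((EtCoh.bc i).obj V).left) :
    (⊥ : Sieve V) ∈ J₀ i V := by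
  rw [mem_J₀_iff, EtOpenSub.mem_smallEtaleTopology_iff']
  intro x
  exact (hV.false x).elim

theorem trivOffZ_of_isSheaf_J₀ (h : Presieve.IsSheaf (J₀ i) F) : TrivOffZ i F := by
  intro V hV
  have hS := h (⊥ : Sieve V) (bot_mem_J₀ i V hV)
  let x : Presieve.FamilyOfElements F (⊥ : Sieve V).arrows := fun _ _ hf => False.elim hf
  have hx : x.Compatible := fun _ _ _ _ _ _ _ hf => False.elim hf
  obtain ⟨t, -, -⟩ := hS x hx
  refine ⟨⟨t⟩, ⟨fun a b => ?_⟩⟩
  exact hS.isSeparatedFor.ext (fun _ _ hf => False.elim hf)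

omit [IsClosedImmersion i] in
lemma isEmpty_of_hom {T T' : X.Etale} (g : T' ⟶ T) (hT : IsEmpty ((EtCoh.bc i).obj T).left) :
    IsEmpty ((EtCoh.bc i).obj T').left :=
  ⟨fun y => hT.false (((EtCoh.bc i).map g).left.base y)⟩

/-- the complement of `Z` in an étale `X`-scheme, as an étale `X`-scheme -/
noncomputable def offZ (V : X.Etale) : V.left.Opens :=
  ⟨(Set.range (pullback.fst V.hom i).base)ᶜ,
    (pullback.fst V.hom i).isClosedEmbedding.isClosed_range.isOpen_compl⟩

noncomputable def offZEt (V : X.Etale) : X.Etale :=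
  haveI : Etale V.hom := V.prop
  Scheme.Etale.mk ((offZ i V).ι ≫ V.hom)

noncomputable def offZHom (V : X.Etale) : offZEt i V ⟶ V :=
  MorphismProperty.Over.homMk (offZ i V).ι rfl

lemma isEmpty_offZEt (V : X.Etale) : IsEmpty ((EtCoh.bc i).obj (offZEt i V)).left := by
  constructor
  intro w
  let w' : ↥(pullback ((offZ i V).ι ≫ V.hom) i) := w
  let t : (offZ i V).toScheme := (pullback.fst ((offZ i V).ι ≫ V.hom) i).base w'
  let z : Z := (pullback.snd ((offZ i V).ι ≫ V.hom) i).base w'
  have h1 : V.hom.base ((offZ i V).ι.base t) = i.base z := by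
    change (pullback.fst ((offZ i V).ι ≫ V.hom) i ≫ (offZ i V).ι ≫ V.hom).base w' =
      (pullback.snd ((offZ i V).ι ≫ V.hom) i ≫ i).base w'
    rw [pullback.condition]
  obtain ⟨x, hx1, -⟩ := Scheme.Pullback.exists_preimage_pullback (f := V.hom) (g := i) _ _ h1
  have h2 : ((offZ i V).ι.base t) ∈ (Set.range (pullback.fst V.hom i).base)ᶜ := t.2
  exact h2 ⟨x, hx1⟩

theorem isSheaf_J₀_of_trivOffZ (h : Presieve.IsSheaf X.smallEtaleTopology F)
    (ht : TrivOffZ i F) : Presieve.IsSheaf (J₀ i) F := by
  intro V S hS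
  rw [mem_J₀_iff, EtOpenSub.mem_smallEtaleTopology_iff'] at hS
  let R : Sieve V :=
    { arrows := fun T f => S f ∨ IsEmpty ((EtCoh.bc i).obj T).left
      downward_closed := by
        rintro T T' f (hf | hT) g
        · exact Or.inl (S.downward_closed hf g)
        · exact Or.inr (isEmpty_of_hom i g hT) }
  have hR : R ∈ X.smallEtaleTopology V := by
    rw [EtOpenSub.mem_smallEtaleTopology_iff']
    intro v
    by_cases hv : v ∈ Set.range (pullback.fst V.hom i).base
    · obtain ⟨x, rfl⟩ := hv
      let x' : ((EtCoh.bc i).obj V).left := x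
      obtain ⟨T', f', y', ⟨T, f, k, hf, rfl⟩, hy'⟩ := hS x'
      let t' : ↥(pullback T.hom i) := k.left.base y'
      have ht' : ((EtCoh.bc i).map f).left.base t' = x := hy'
      refine ⟨T, f, (pullback.fst T.hom i).base t', Or.inl hf, ?_⟩
      change (pullback.fst T.hom i ≫ f.left).base t' = _
      rw [← bc_map_left_fst i f]
      change (pullback.fst V.hom i).base (((EtCoh.bc i).map f).left.base t') = _
      rw [ht']
    · exact ⟨offZEt i V, offZHom i V, ⟨v, hv⟩, Or.inr (isEmpty_offZEt i V), rfl⟩
  apply Presieve.isSheafFor_trans F R S (h R hR)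
  · intro T f hf
    have : R.pullback f = ⊤ := by
      rw [← Sieve.id_mem_iff_eq_top]
      change R (𝟙 _ ≫ f)
      rw [Category.id_comp]
      exact Or.inl hf
    rw [this]
    exact Presieve.isSeparatedFor_top F
  · intro T f hf
    rcases hf with hf | hT
    · have : S.pullback f = ⊤ := by
        rw [← Sieve.id_mem_iff_eq_top]
        change S (𝟙 _ ≫ f)
        rw [Category.id_comp]
        exact hf
      rw [this]
      exact Presieve.isSheafFor_top F
    · intro x hx
      obtain ⟨⟨t⟩, hsub⟩ := ht T hT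
      refine ⟨t, ?_, fun s _ => hsub.elim _ _⟩
      intro T' g hg
      have := (ht T' (isEmpty_of_hom i g hT)).2
      exact Subsingleton.elim _ _

end TypeSheaf

end Groth.Agent.Lib.Helper36.EtClosedDense
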