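import Mathlib
import Groth.Prelude.Def_EtBase
import Groth.Prelude.Def_EtShriek2
import Groth.Prelude.Def_SGA4b
import Groth.Agent.Lib.Helper43.EtOpenSub
import Groth.Agent.Lib.Helper36.EtClosedEssImage

/-!
# Sheaves of sets: terminal sheaves, and the inverse image along an open immersion as restriction
-/

set_option autoImplicit false
set_option linter.unusedSectionVars false
universe u w v'
open CategoryTheory CategoryTheory.Limits AlgebraicGeometry Opposite

namespace Groth.Agent.Lib.Helper36.EtOpenPull

open Groth.Agent.Lib.Helper43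

section Terminal

variable {C : Type*} [Category C] (J : GrothendieckTopology C)

/-- the constant sheaf of types with value `PUnit` -/
def punitSheaf : Sheaf J (Type w) :=
  ⟨(Functor.const _).obj PUnit.{w + 1}, Presheaf.isSheaf_of_isTerminal J Types.isTerminalPUnit⟩

/-- a sheaf of types all of whose sections are singletons is terminal -/
noncomputable def isTerminalOfUnique (G : Sheaf J (Type w))
    (h : ∀ W : C, Nonempty (G.obj.obj (op W)) ∧ Subsingleton (G.obj.obj (op W))) : IsTerminal G :=
  IsTerminal.ofUniqueHom
    (fun H => ⟨{ app := fun W => TypeCat.ofHom (fun _ => (h W.unop).1.some)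
                 naturality := by
                  intro W W' f
                  ext x
                  have := (h W'.unop).2
                  exact Subsingleton.elim _ _ }⟩)
    (fun H m => by
      apply Sheaf.hom_ext
      ext W x
      have := (h W.unop).2
      exact Subsingleton.elim _ _)

theorem isIso_terminal_from_iff (G : Sheaf J (Type w)) :
    IsIso (terminal.from G) ↔
      ∀ W : C, Nonempty (G.obj.obj (op W)) ∧ Subsingleton (G.obj.obj (op W)) := by
  constructor
  · intro h
    have hG : IsTerminal G := IsTerminal.ofIso terminalIsTerminal (asIso (terminal.from G)).symm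
    have hT : IsTerminal (punitSheaf.{w} J) := isTerminalOfUnique J _ (fun W =>
      ⟨⟨PUnit.unit⟩, ⟨fun a b => rfl⟩⟩)
    let e : G ≅ punitSheaf.{w} J := hG.uniqueUpToIso hT
    intro W
    let eW : G.obj.obj (op W) ≅ PUnit.{w + 1} := ((sheafToPresheaf _ _).mapIso e).app (op W)
    refine ⟨⟨eW.inv PUnit.unit⟩, ⟨fun a b => ?_⟩⟩
    have ha : eW.inv (eW.hom a) = a := congrArg (fun t => t a) eW.hom_inv_id
    have hb : eW.inv (eW.hom b) = b := congrArg (fun t => t b) eW.hom_inv_id
    rw [← ha, ← hb]
  · intro h
    exact isIso_of_isTerminal (isTerminalOfUnique J G h) terminalIsTerminal _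

end Terminal

section Open

variable {U X : Scheme.{u}} (j : U ⟶ X) [IsOpenImmersion j]

/-- `compEtale j ⊣ bc j` -/
noncomputable def adjComp : EtShriek.compEtale j ⊣ EtCoh.bc j :=
  MorphismProperty.Over.mapPullbackAdj EtCoh.etaleMP ⊤ j (inferInstance : Etale j) trivial

/-- restriction of sheaves of sets along `compEtale j` -/
noncomputable abbrev rho : EtDesc.Sh X ⥤ EtDesc.Sh U :=
  (EtShriek.compEtale j).sheafPushforwardContinuous (Type (u + 1)) U.smallEtaleTopology
    X.smallEtaleTopology

noncomputable def adjRho : rho j ⊣ EtDesc.pushSh j :=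
  (adjComp j).sheafPushforwardContinuous _ _

noncomputable def pullIso : EtDesc.pullSh j ≅ rho j :=
  Adjunction.leftAdjointUniq (EtDesc.adjSh j) (adjRho j)

theorem isIso_terminal_from_pull_iff (F : EtDesc.Sh X) :
    IsIso (terminal.from ((EtDesc.pullSh j).obj F)) ↔
      ∀ W : U.Etale, Nonempty (F.obj.obj (op ((EtShriek.compEtale j).obj W))) ∧
        Subsingleton (F.obj.obj (op ((EtShriek.compEtale j).obj W))) := by
  let e : (EtDesc.pullSh j).obj F ≅ (rho j).obj F := (pullIso j).app F
  have he : terminal.from ((EtDesc.pullSh j).obj F) = e.hom ≫ terminal.from ((rho j).obj F) :=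
    terminal.hom_ext _ _
  have h1 : IsIso (terminal.from ((EtDesc.pullSh j).obj F)) ↔
      IsIso (terminal.from ((rho j).obj F)) := by
    rw [he]
    constructor
    · intro h
      exact IsIso.of_isIso_comp_left e.hom _
    · intro h
      infer_instance
  rw [h1, isIso_terminal_from_iff]
  rfl

variable {Z : Scheme.{u}} (i : Z ⟶ X) [IsClosedImmersion i]
  (hZU : Set.range j.base = (Set.range i.base)ᶜ)

include hZU in
theorem trivOffZ_iff (F : (X.Etale)ᵒᵖ ⥤ Type w) :
    EtClosedDense.TrivOffZ i F ↔
      ∀ W : U.Etale, Nonempty (F.obj (op ((EtShriek.compEtale j).obj W))) ∧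
        Subsingleton (F.obj (op ((EtShriek.compEtale j).obj W))) := by
  constructor
  · intro h W
    apply h
    constructor
    intro w
    let w' : ↥(pullback (W.hom ≫ j) i) := w
    let t : W.left := (pullback.fst (W.hom ≫ j) i).base w'
    let z : Z := (pullback.snd (W.hom ≫ j) i).base w'
    have h1 : j.base (W.hom.base t) = i.base z := by
      change (pullback.fst (W.hom ≫ j) i ≫ W.hom ≫ j).base w' =
        (pullback.snd (W.hom ≫ j) i ≫ i).base w'
      rw [pullback.condition]
    have h2 : j.base (W.hom.base t) ∈ Set.range j.base := ⟨_, rfl⟩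
    rw [hZU] at h2
    exact h2 ⟨z, h1.symm⟩
  · intro h V hV
    have hr : Set.range V.hom.base ⊆ Set.range j.base := by
      rintro _ ⟨v, rfl⟩
      rw [hZU]
      rintro ⟨z, hz⟩
      obtain ⟨x, -, -⟩ := Scheme.Pullback.exists_preimage_pullback (f := V.hom) (g := i) v z hz.symm
      exact hV.false x
    let l : V.left ⟶ U := IsOpenImmersion.lift j V.hom hr
    have hl : l ≫ j = V.hom := IsOpenImmersion.lift_fac j V.hom hr
    have hVet : Etale V.hom := V.prop
    have : Etale l := by
      have : Etale (l ≫ j) := by rw [hl]; infer_instance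
      exact Etale.of_comp l j
    let W : U.Etale := Scheme.Etale.mk l
    let e : (EtShriek.compEtale j).obj W ≅ V :=
      MorphismProperty.Over.isoMk (Iso.refl V.left) (by
        change 𝟙 _ ≫ V.hom = l ≫ j
        rw [Category.id_comp, hl])
    let eF : F.obj (op V) ≅ F.obj (op ((EtShriek.compEtale j).obj W)) := F.mapIso e.op
    obtain ⟨⟨s⟩, hs⟩ := h W
    refine ⟨⟨eF.inv s⟩, ⟨fun a b => ?_⟩⟩
    have ha : eF.inv (eF.hom a) = a := congrArg (fun t => t a) eF.hom_inv_id
    have hb : eF.inv (eF.hom b) = b := congrArg (fun t => t b) eF.hom_inv_id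
    rw [← ha, ← hb, hs.elim (eF.hom a) (eF.hom b)]

end Open

section OpenFF

variable {U X : Scheme.{u}} (j : U ⟶ X) [IsOpenImmersion j]

instance faithful_compEtale : (EtShriek.compEtale j).Faithful where
  map_injective := by
    intro V V' g g' h
    apply MorphismProperty.Over.Hom.ext
    exact congrArg (fun t => t.left) h

instance full_compEtale : (EtShriek.compEtale j).Full where
  map_surjective := by
    intro V V' h
    have h1 : h.left ≫ V'.hom = V.hom := by
      rw [← cancel_mono j, Category.assoc]
      exact EtOpenSub.hom_left_eq h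
    refine ⟨MorphismProperty.Over.homMk h.left h1, ?_⟩
    apply MorphismProperty.Over.Hom.ext
    rfl

instance isIso_unit_adjComp : IsIso (adjComp j).unit := inferInstance

instance isIso_counit_adjRho : IsIso (adjRho j).counit := by
  have : ∀ G, IsIso ((adjRho j).counit.app G) := by
    intro G
    have : IsIso ((sheafToPresheaf _ _).map ((adjRho j).counit.app G)) := by
      rw [NatTrans.isIso_iff_isIso_app]
      intro W
      change IsIso ((((adjComp j).sheafPushforwardContinuous U.smallEtaleTopology
        X.smallEtaleTopology).counit.app G).hom.app W)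
      rw [Adjunction.sheafPushforwardContinuous_counit_app_hom_app]
      have h1 : IsIso ((adjComp j).unit.app (unop W)) := inferInstance
      have h2 : IsIso ((adjComp j).unit.app (unop W)).op := inferInstance
      exact Functor.map_isIso G.obj _
    exact isIso_of_reflects_iso _ (sheafToPresheaf _ _)
  exact NatIso.isIso_of_isIso_app _

/-- `j_*` is fully faithful on sheaves of sets, for an open immersion `j` -/
theorem full_faithful_pushSh : (EtDesc.pushSh j).Full ∧ (EtDesc.pushSh j).Faithful :=
  ⟨(adjRho j).fullyFaithfulROfIsIsoCounit.full, (adjRho j).fullyFaithfulROfIsIsoCounit.faithful⟩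

end OpenFF


end Groth.Agent.Lib.Helper36.EtOpenPull
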