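import Mathlib

/-!
# Abstract recollement

Two adjunctions `iU ⊣ iL` (`iU : A ⥤ B`) and `jU ⊣ jL` (`jU : A ⥤ C`) with both counits
isomorphisms, `jU ⋙ iL`-images zero, `iU` and `jU` preserving pullbacks and equalizers and jointly
reflecting isomorphisms: then `F ↦ (iU F, jU F, iU (η^j_F))` is an equivalence from `A` to the comma
category of `𝟭 B` over `jL ⋙ iU`.
-/

set_option autoImplicit false
set_option linter.unusedSectionVars false
open CategoryTheory CategoryTheory.Limits

namespace Groth.Agent.Lib.Helper36.RecollAbstract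

universe v₁ v₂ v₃ u₁ u₂ u₃

variable {A : Type u₁} [Category.{v₁} A] {B : Type u₂} [Category.{v₂} B]
  {C : Type u₃} [Category.{v₃} C]
  {iU : A ⥤ B} {iL : B ⥤ A} (adjI : iU ⊣ iL) {jU : A ⥤ C} {jL : C ⥤ A} (adjJ : jU ⊣ jL)

/-- the generic recollement functor `F ↦ (iU F, jU F, iU (η^j_F))` -/
def triple (iU : A ⥤ B) {jU : A ⥤ C} {jL : C ⥤ A} (adjJ : jU ⊣ jL) :
    A ⥤ Comma (𝟭 B) (jL ⋙ iU) where
  obj F :=
    { left := iU.obj F
      right := jU.obj F
      hom := iU.map (adjJ.unit.app F) }
  map {F G} φ :=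
    { left := iU.map φ
      right := jU.map φ
      w := by
        dsimp
        rw [← Functor.map_comp, ← Functor.map_comp]
        congr 1
        exact (adjJ.unit.naturality φ) }
  map_id F := by ext <;> simp
  map_comp φ ψ := by ext <;> simp

section

lemma isIso_map_unit [IsIso adjI.counit] (F : A) : IsIso (iU.map (adjI.unit.app F)) := by
  have h := adjI.left_triangle_components F
  have : IsIso (iU.map (adjI.unit.app F) ≫ adjI.counit.app (iU.obj F)) := by
    rw [h]; exact IsIso.id _
  exact IsIso.of_isIso_comp_right (iU.map (adjI.unit.app F)) (adjI.counit.app (iU.obj F))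

lemma isIso_of_isZero {D : Type*} [Category D] {X Y : D} (f : X ⟶ Y) (hX : IsZero X)
    (hY : IsZero Y) : IsIso f :=
  ⟨⟨hY.to_ X, hX.eq_of_src _ _, hY.eq_of_src _ _⟩⟩

variable [HasPullbacks A] [HasEqualizers A] [HasEqualizers B] [HasEqualizers C]
  [PreservesLimitsOfShape WalkingCospan iU] [PreservesLimitsOfShape WalkingCospan jU]
  [PreservesLimitsOfShape WalkingParallelPair iU] [PreservesLimitsOfShape WalkingParallelPair jU]
  [IsIso adjI.counit] [IsIso adjJ.counit]
  (hz : ∀ G : B, IsZero (jU.obj (iL.obj G)))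
  (hcons : ∀ {F F' : A} (f : F ⟶ F'), IsIso (iU.map f) → IsIso (jU.map f) → IsIso f)

include hcons in
lemma eq_of_map_eq {F F' : A} (f g : F ⟶ F') (hi : iU.map f = iU.map g) (hj : jU.map f = jU.map g) :
    f = g := by
  have h1 : IsIso (iU.map (equalizer.ι f g)) := by
    have e := equalizerComparison_comp_π f g iU
    have : IsIso (equalizer.ι (iU.map f) (iU.map g)) := equalizer.ι_of_eq hi
    rw [← e]
    infer_instance
  have h2 : IsIso (jU.map (equalizer.ι f g)) := by
    have e := equalizerComparison_comp_π f g jU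
    have : IsIso (equalizer.ι (jU.map f) (jU.map g)) := equalizer.ι_of_eq hj
    rw [← e]
    infer_instance
  have h3 : IsIso (equalizer.ι f g) := hcons _ h1 h2
  exact eq_of_epi_equalizer

/-- the two legs of the canonical square -/
abbrev legA (F : A) : iL.obj (iU.obj F) ⟶ iL.obj (iU.obj (jL.obj (jU.obj F))) :=
  iL.map (iU.map (adjJ.unit.app F))

abbrev legB (F : A) : jL.obj (jU.obj F) ⟶ iL.obj (iU.obj (jL.obj (jU.obj F))) :=
  adjI.unit.app (jL.obj (jU.obj F))

lemma legs_comm (F : A) :
    adjI.unit.app F ≫ legA (iL := iL) adjJ F = adjJ.unit.app F ≫ legB adjI (jU := jU) (jL := jL) F :=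
  (adjI.unit.naturality (adjJ.unit.app F)).symm

/-- the canonical map to the fibre product -/
noncomputable abbrev toPull (F : A) :
    F ⟶ pullback (legA (iL := iL) adjJ F) (legB adjI (jU := jU) (jL := jL) F) :=
  pullback.lift (adjI.unit.app F) (adjJ.unit.app F) (legs_comm adjI adjJ F)

include hz in
/-- for a cospan `a : iL G ⟶ iL G'`, `b : H' ⟶ iL G'` with `iU b` an isomorphism: `iU` of the first
projection and `jU` of the second projection are isomorphisms -/
lemma isIso_proj {G G' : B} {H' : A} (a : iL.obj G ⟶ iL.obj G') (b : H' ⟶ iL.obj G')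
    (hb : IsIso (iU.map b)) :
    IsIso (iU.map (pullback.fst a b)) ∧ IsIso (jU.map (pullback.snd a b)) := by
  have hp := IsPullback.of_hasPullback a b
  constructor
  · have h1 := hp.map iU
    exact h1.isIso_fst_of_isIso
  · have h1 := hp.map jU
    have : IsIso (jU.map a) := isIso_of_isZero _ (hz G) (hz G')
    exact h1.isIso_snd_of_isIso

include hz hcons in
lemma isIso_toPull (F : A) : IsIso (toPull adjI adjJ F) := by
  have hb : IsIso (iU.map (legB adjI (jU := jU) (jL := jL) F)) := isIso_map_unit adjI _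
  obtain ⟨h1, h2⟩ := isIso_proj hz (legA (iL := iL) adjJ F) (legB adjI (jU := jU) (jL := jL) F) hb
  apply hcons
  · have e : iU.map (toPull adjI adjJ F) ≫ iU.map (pullback.fst _ _) =
        iU.map (adjI.unit.app F) := by
      rw [← Functor.map_comp, pullback.lift_fst]
    have : IsIso (iU.map (toPull adjI adjJ F) ≫ iU.map (pullback.fst _ _)) := by
      rw [e]; exact isIso_map_unit adjI F
    exact IsIso.of_isIso_comp_right _ (iU.map (pullback.fst _ _))
  · have e : jU.map (toPull adjI adjJ F) ≫ jU.map (pullback.snd _ _) =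
        jU.map (adjJ.unit.app F) := by
      rw [← Functor.map_comp, pullback.lift_snd]
    have : IsIso (jU.map (toPull adjI adjJ F) ≫ jU.map (pullback.snd _ _)) := by
      rw [e]; exact isIso_map_unit adjJ F
    exact IsIso.of_isIso_comp_right _ (jU.map (pullback.snd _ _))

include adjI hz hcons in
lemma full_triple : (triple iU adjJ).Full := by
  constructor
  intro F F' α
  let αl : iU.obj F ⟶ iU.obj F' := α.left
  let αr : jU.obj F ⟶ jU.obj F' := α.right
  have hw : αl ≫ iU.map (adjJ.unit.app F') =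
      iU.map (adjJ.unit.app F) ≫ iU.map (jL.map αr) := α.w
  have hc : (adjI.unit.app F ≫ iL.map αl) ≫ legA (iL := iL) adjJ F' =
      (adjJ.unit.app F ≫ jL.map αr) ≫ legB adjI (jU := jU) (jL := jL) F' := by
    have h1 := adjI.unit.naturality (adjJ.unit.app F ≫ jL.map αr)
    dsimp only [legA, legB]
    rw [Category.assoc, ← iL.map_comp, hw, ← iU.map_comp]
    exact h1.symm
  have := isIso_toPull adjI adjJ hz hcons F'
  let g : F ⟶ pullback (legA (iL := iL) adjJ F') (legB adjI (jU := jU) (jL := jL) F') :=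
    pullback.lift _ _ hc
  let f : F ⟶ F' := g ≫ inv (toPull adjI adjJ F')
  have hf1 : f ≫ adjI.unit.app F' = adjI.unit.app F ≫ iL.map αl := by
    have : adjI.unit.app F' = toPull adjI adjJ F' ≫ pullback.fst _ _ := (pullback.lift_fst _ _ _).symm
    rw [this]
    dsimp only [f]
    rw [Category.assoc, IsIso.inv_hom_id_assoc]
    exact pullback.lift_fst _ _ _
  have hf2 : f ≫ adjJ.unit.app F' = adjJ.unit.app F ≫ jL.map αr := by
    have : adjJ.unit.app F' = toPull adjI adjJ F' ≫ pullback.snd _ _ := (pullback.lift_snd _ _ _).symm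
    rw [this]
    dsimp only [f]
    rw [Category.assoc, IsIso.inv_hom_id_assoc]
    exact pullback.lift_snd _ _ _
  refine ⟨f, ?_⟩
  apply CommaMorphism.ext
  · change iU.map f = αl
    apply (adjI.homEquiv _ _).injective
    have hR : adjI.unit.app F ≫ iL.map (iU.map f) = adjI.unit.app F ≫ iL.map αl :=
      (adjI.unit.naturality f).symm.trans hf1
    exact (adjI.homEquiv_unit ..).trans (hR.trans (adjI.homEquiv_unit ..).symm)
  · change jU.map f = αr
    apply (adjJ.homEquiv _ _).injective
    have hR : adjJ.unit.app F ≫ jL.map (jU.map f) = adjJ.unit.app F ≫ jL.map αr :=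
      (adjJ.unit.naturality f).symm.trans hf2
    exact (adjJ.homEquiv_unit ..).trans (hR.trans (adjJ.homEquiv_unit ..).symm)

include hcons in
lemma faithful_triple : (triple iU adjJ).Faithful := by
  constructor
  intro F F' f g h
  apply eq_of_map_eq hcons
  · exact congrArg CommaMorphism.left h
  · exact congrArg CommaMorphism.right h

include adjI hz in
lemma essSurj_triple : (triple iU adjJ).EssSurj := by
  constructor
  intro T
  let G : B := T.left
  let H : C := T.right
  let φ : G ⟶ iU.obj (jL.obj H) := T.hom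
  let a : iL.obj G ⟶ iL.obj (iU.obj (jL.obj H)) := iL.map φ
  let b : jL.obj H ⟶ iL.obj (iU.obj (jL.obj H)) := adjI.unit.app (jL.obj H)
  have hb : IsIso (iU.map b) := isIso_map_unit adjI _
  obtain ⟨h1, h2⟩ := isIso_proj hz a b hb
  let F : A := pullback a b
  let p1 : F ⟶ iL.obj G := pullback.fst a b
  let p2 : F ⟶ jL.obj H := pullback.snd a b
  let ea : iU.obj F ≅ G := @asIso _ _ _ _ (iU.map p1) h1 ≪≫ asIso (adjI.counit.app G)
  let eb : jU.obj F ≅ H := @asIso _ _ _ _ (jU.map p2) h2 ≪≫ asIso (adjJ.counit.app H)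
  refine ⟨F, ⟨Comma.isoMk ea eb ?_⟩⟩
  change (iU.map p1 ≫ adjI.counit.app G) ≫ φ =
    iU.map (adjJ.unit.app F) ≫ iU.map (jL.map (jU.map p2 ≫ adjJ.counit.app H))
  have hL : (iU.map p1 ≫ adjI.counit.app G) ≫ φ = iU.map p2 := by
    have n1 : iU.map (iL.map φ) ≫ adjI.counit.app (iU.obj (jL.obj H)) = adjI.counit.app G ≫ φ :=
      adjI.counit.naturality φ
    have n2 : p1 ≫ a = p2 ≫ b := pullback.condition
    have n3 := adjI.left_triangle_components (jL.obj H)
    calc (iU.map p1 ≫ adjI.counit.app G) ≫ φ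
        = iU.map p1 ≫ (adjI.counit.app G ≫ φ) := Category.assoc _ _ _
      _ = iU.map p1 ≫ (iU.map (iL.map φ) ≫ adjI.counit.app (iU.obj (jL.obj H))) := by
          rw [n1]
      _ = iU.map (p1 ≫ a) ≫ adjI.counit.app (iU.obj (jL.obj H)) := by
          rw [iU.map_comp, Category.assoc]
      _ = iU.map (p2 ≫ b) ≫ adjI.counit.app (iU.obj (jL.obj H)) := by rw [n2]
      _ = iU.map p2 ≫ (iU.map b ≫ adjI.counit.app (iU.obj (jL.obj H))) := by
          rw [iU.map_comp, Category.assoc]
      _ = iU.map p2 := by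
          rw [show iU.map b ≫ adjI.counit.app (iU.obj (jL.obj H)) = 𝟙 _ from n3, Category.comp_id]
  have hR : iU.map (adjJ.unit.app F) ≫ iU.map (jL.map (jU.map p2 ≫ adjJ.counit.app H)) =
      iU.map p2 := by
    have n1 : p2 ≫ adjJ.unit.app (jL.obj H) = adjJ.unit.app F ≫ jL.map (jU.map p2) :=
      adjJ.unit.naturality p2
    have n3 := adjJ.right_triangle_components H
    rw [← iU.map_comp]
    congr 1
    calc adjJ.unit.app F ≫ jL.map (jU.map p2 ≫ adjJ.counit.app H)
        = (adjJ.unit.app F ≫ jL.map (jU.map p2)) ≫ jL.map (adjJ.counit.app H) := by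
          rw [jL.map_comp, Category.assoc]
      _ = (p2 ≫ adjJ.unit.app (jL.obj H)) ≫ jL.map (adjJ.counit.app H) := by
          rw [n1]
      _ = p2 := by rw [Category.assoc, n3, Category.comp_id]
  rw [hL, hR]

include adjI hz hcons in
/-- **Abstract recollement**: the triple functor is an equivalence. -/
theorem isEquivalence_triple : (triple iU adjJ).IsEquivalence := by
  have := full_triple adjI adjJ hz hcons
  have := faithful_triple adjJ hcons
  have := essSurj_triple adjI adjJ hz
  exact { }

end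

end Groth.Agent.Lib.Helper36.RecollAbstract
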