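import Mathlib
import Groth.Agent.S14449

/-!
# Étale recollement: `j⁻¹ i_* = 0` and joint conservativity of `i⁻¹`, `j⁻¹`
for a closed immersion `i` and the open immersion `j` of the complement (abelian sheaves).
-/

set_option autoImplicit false
universe u
open CategoryTheory CategoryTheory.Limits AlgebraicGeometry

namespace Groth.Agent.Lib.Helper36.EtRecoll

open Groth.Agent.Lib.Helper43 Groth.Agent.Lib.Helper43.EtStalk

variable {X Z U : Scheme.{u}} (i : Z ⟶ X) [IsClosedImmersion i] (j : U ⟶ X) [IsOpenImmersion j]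
  (hZU : Set.range j.base = (Set.range i.base)ᶜ)

include hZU in
theorem isZero_pull_push (G : EtCoh.Ab Z) :
    IsZero ((EtCoh.pull j).obj ((EtCoh.push i).obj G)) := by
  apply isZero_of_stalks_ab
  intro Ω _ _ ξ
  have h0 : IsZero ((EtCoh.stalk (ξ ≫ j)).obj ((EtCoh.push i).obj G)) := by
    apply Groth.Agent.S0069.result i
    rw [Set.disjoint_left]
    rintro _ ⟨q, rfl⟩ hq
    have h1 : (ξ ≫ j).base q ∈ Set.range j.base := ⟨ξ.base q, rfl⟩
    rw [hZU] at h1
    exact h1 hq
  exact IsZero.of_iso h0 (asIso (PullStalk.pullStalkMap j ((EtCoh.push i).obj G) ξ)).symm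

include hZU in
theorem isIso_of_isIso_pull {F F' : EtCoh.Ab X} (f : F ⟶ F')
    (hi : IsIso ((EtCoh.pull i).map f)) (hj : IsIso ((EtCoh.pull j).map f)) : IsIso f := by
  have key : ∀ (Ω : Type u) [Field Ω] [IsSepClosed Ω] (ξ : Spec (CommRingCat.of Ω) ⟶ X),
      IsIso (((Scheme.pointSmallEtale ξ).sheafFiber (A := AddCommGrpCat.{u + 1})).map f) := by
    intro Ω _ _ ξ
    rcases ShriekStalk.lifts_nonempty_or j ξ with ⟨⟨u⟩⟩ | hξ
    · obtain ⟨υ, rfl⟩ := u
      exact Groth.Agent.S14449.isIso_stalk_of_isIso_pull j υ f hj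
    · have hmem : ξ.base default ∈ Set.range i.base := by
        have := hξ ⟨default, rfl⟩
        rw [hZU] at this
        simpa using this
      obtain ⟨ζ, rfl⟩ := ClosedStalk.exists_lift_closed i ξ hmem
      exact Groth.Agent.S14449.isIso_stalk_of_isIso_pull i ζ f hi
  have hm : Mono f := mono_of_stalks_ab _ (fun Ω _ _ ξ =>
    haveI := key Ω ξ
    (ConcreteCategory.bijective_of_isIso _).1)
  have he : Epi f := epi_of_stalks_ab _ (fun Ω _ _ ξ =>
    haveI := key Ω ξ
    (ConcreteCategory.bijective_of_isIso _).2)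
  exact isIso_of_mono_of_epi _

end Groth.Agent.Lib.Helper36.EtRecoll
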