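import Mathlib
import Groth.Prelude.Def_EtShriek2
import Groth.Agent.Lib.Helper43.EtOpenSub

/-!
# Sections with support on the small étale site: excision (helper36)
-/

set_option autoImplicit false
set_option linter.style.haveILetI false
universe u
open CategoryTheory CategoryTheory.Limits AlgebraicGeometry Opposite

namespace Groth.Agent.Lib.Helper36.EtSupp

open Groth.Agent.Lib.Helper43.EtOpenSub

section Carrier

open AlgebraicGeometry.Scheme.Pullback

/-- the spectrum of a ring isomorphic to a field is a subsingleton -/
theorem subsingleton_spec_of_iso {R : CommRingCat.{u}} {K : Type u} [Field K]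
    (e : CommRingCat.of K ≅ R) : Subsingleton ↥(Spec R) := by
  constructor
  intro p q
  have h1 : (Spec.map e.hom) p = (Spec.map e.hom) q := Subsingleton.elim _ _
  have h2 : ∀ r : ↥(Spec R), (Spec.map e.inv) ((Spec.map e.hom) r) = r := by
    intro r
    rw [← Scheme.Hom.comp_apply, ← Spec.map_comp, e.inv_hom_id, Spec.map_id]
    rfl
  rw [← h2 p, h1, h2 q]

/-- Two points of `A ×_B A` with the same projections coincide, provided the residue field
extension at the first projection is trivial. -/
theorem eq_of_fst_eq_snd_eq {A B : Scheme.{u}} (f : A ⟶ B) (y₁ y₂ : ↑(pullback f f))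
    (h1 : pullback.fst f f y₁ = pullback.fst f f y₂)
    (h2 : pullback.snd f f y₁ = pullback.snd f f y₂)
    (hres : Function.Bijective (f.residueFieldMap (pullback.fst f f y₂))) : y₁ = y₂ := by
  apply (carrierEquiv (f := f) (g := f)).injective
  rw [carrierEquiv_eq_iff]
  let T : Triplet f f := Triplet.ofPoint y₂
  haveI : IsIso (f.residueFieldMap T.x) := (ConcreteCategory.isIso_iff_bijective _).mpr hres
  let a := (B.residueFieldCongr T.hx).inv ≫ f.residueFieldMap T.x
  let b := (B.residueFieldCongr T.hy).inv ≫ f.residueFieldMap T.y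
  haveI : IsIso a := inferInstance
  have hiso : IsIso (pushout.inr a b) := (IsPushout.of_hasPushout a b).isIso_inr_of_isIso
  let e : A.residueField T.y ≅ pushout a b := @asIso _ _ _ _ (pushout.inr a b) hiso
  haveI : Subsingleton ↥(Spec (carrierEquiv y₂).1.tensor) :=
    subsingleton_spec_of_iso (K := ↑(A.residueField T.y)) e
  exact ⟨Triplet.ext h1 h2, Subsingleton.elim _ _⟩

end Carrier

variable {X : Scheme.{u}}

section FibreProduct

variable {U V W : X.Etale} (g : V ⟶ U) (h : W ⟶ U)

/-- the fibre product of two morphisms of the small étale site -/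
noncomputable def fp : X.Etale := Scheme.Etale.mk (pullback.fst g.left h.left ≫ V.hom)

/-- first projection -/
noncomputable def fpFst : fp g h ⟶ V :=
  MorphismProperty.Over.homMk (pullback.fst g.left h.left) rfl

/-- second projection -/
noncomputable def fpSnd : fp g h ⟶ W :=
  MorphismProperty.Over.homMk (pullback.snd g.left h.left) (by
    change pullback.snd g.left h.left ≫ W.hom = pullback.fst g.left h.left ≫ V.hom
    rw [← hom_left_eq g, ← hom_left_eq h, ← Category.assoc, ← Category.assoc, pullback.condition])

theorem fp_condition : fpFst g h ≫ g = fpSnd g h ≫ h := by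
  apply MorphismProperty.Over.Hom.ext
  exact pullback.condition

theorem exists_point (v : V.left) (w : W.left) (hvw : g.left v = h.left w) :
    ∃ z : (fp g h).left, (fpFst g h).left z = v ∧ (fpSnd g h).left z = w :=
  Scheme.Pullback.exists_preimage_pullback (f := g.left) (g := h.left) v w hvw

end FibreProduct

section OpenSub

variable (U : X.Etale) (O : U.left.Opens)

/-- an open subscheme as an object of the small étale site -/
noncomputable def sub : X.Etale := Scheme.Etale.mk (O.ι ≫ U.hom)

/-- the inclusion of an open subscheme -/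
noncomputable def subι : sub U O ⟶ U := MorphismProperty.Over.homMk O.ι rfl

end OpenSub

variable (F : EtCoh.Ab X)

/-- two sections which agree étale locally are equal -/
theorem sheaf_ext {U : X.Etale} (s t : F.obj.obj (op U))
    (H : ∀ x : U.left, ∃ (V : X.Etale) (g : V ⟶ U) (v : V.left), g.left v = x ∧
      F.obj.map g.op s = F.obj.map g.op t) : s = t := by
  have hsh := (isSheaf_iff_isSheaf_of_type _ _).1
    ((Presheaf.isSheaf_iff_isSheaf_forget _ F.obj (forget AddCommGrpCat)).1 F.property)
  let R : Sieve U :=
    { arrows := fun T k => F.obj.map k.op s = F.obj.map k.op t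
      downward_closed := by
        intro T₁ T₂ k hk k'
        rw [op_comp, F.obj.map_comp]
        change F.obj.map k'.op (F.obj.map k.op s) = F.obj.map k'.op (F.obj.map k.op t)
        rw [hk] }
  have hR : R ∈ X.smallEtaleTopology U := by
    rw [mem_smallEtaleTopology_iff']
    intro x
    obtain ⟨V, g, v, hv, hg⟩ := H x
    exact ⟨V, g, v, hg, hv⟩
  exact (hsh _ hR).isSeparatedFor.ext (fun T k hk => hk)

theorem not_mem_sectSupp_iff {U : X.Etale} (s : F.obj.obj (op U)) (x : U.left) :
    x ∉ EtShriek.sectSupp F U s ↔
      ∃ (W : X.Etale) (g : W ⟶ U) (w : W.left), g.left w = x ∧ F.obj.map g.op s = 0 := by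
  constructor
  · intro hx
    have hx' : ¬ (∀ (W : X.Etale) (g : W ⟶ U), (∃ w : W.left, g.left.base w = x) →
        F.obj.map g.op s ≠ 0) := hx
    push Not at hx'
    obtain ⟨W, g, ⟨w, hw⟩, hz⟩ := hx'
    exact ⟨W, g, w, hw, hz⟩
  · rintro ⟨W, g, w, hw, hz⟩ hx
    exact hx W g ⟨w, hw⟩ hz

theorem map_map {U V W : X.Etale} (g : V ⟶ U) (h : W ⟶ V) (s : F.obj.obj (op U)) :
    F.obj.map h.op (F.obj.map g.op s) = F.obj.map (h ≫ g).op s := by
  rw [op_comp, F.obj.map_comp]
  rfl

/-- a section restricts to zero along any morphism whose image misses its support -/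
theorem map_eq_zero_of_forall_not_mem {U T : X.Etale} (s : F.obj.obj (op U)) (k : T ⟶ U)
    (hk : ∀ t : T.left, k.left t ∉ EtShriek.sectSupp F U s) : F.obj.map k.op s = 0 := by
  apply sheaf_ext
  intro t
  obtain ⟨W, g, w, hw, hz⟩ := (not_mem_sectSupp_iff F s (k.left t)).mp (hk t)
  obtain ⟨z, hz1, -⟩ := exists_point k g t w hw.symm
  refine ⟨fp k g, fpFst k g, z, hz1, ?_⟩
  rw [map_map, fp_condition, ← map_map, hz, map_zero, map_zero]

end Groth.Agent.Lib.Helper36.EtSupp
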