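import Mathlib
import Groth.Prelude.Def_EtShriek2
import Groth.Agent.Lib.Helper36.EtSupp

/-!
# Excision for sections with support on the small étale site (helper36)
-/

set_option autoImplicit false
set_option linter.style.haveILetI false
universe u
open CategoryTheory CategoryTheory.Limits AlgebraicGeometry Opposite

namespace Groth.Agent.Lib.Helper36.EtSupp

open Groth.Agent.Lib.Helper43.EtOpenSub

variable {X : Scheme.{u}} (F : EtCoh.Ab X) {U U' : X.Etale} (φ : U' ⟶ U) (Z : Set ↥U.left)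

/-- restriction preserves the support condition -/
theorem sectSupp_map_subset_preimage (s : F.obj.obj (op U))
    (hs : EtShriek.sectSupp F U s ⊆ Z) :
    EtShriek.sectSupp F U' (F.obj.map φ.op s) ⊆ φ.left.base ⁻¹' Z := by
  intro x' hx'
  by_contra hxZ
  have h1 : φ.left x' ∉ EtShriek.sectSupp F U s := fun h => hxZ (hs h)
  obtain ⟨W, g, w, hw, hz⟩ := (not_mem_sectSupp_iff F s (φ.left x')).mp h1
  obtain ⟨z, -, hz2⟩ := exists_point g φ w x' hw
  apply hx' (fp g φ) (fpSnd g φ) ⟨z, hz2⟩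
  rw [map_map, ← fp_condition, ← map_map, hz, map_zero]

variable (hbij : Set.BijOn φ.left.base (φ.left.base ⁻¹' Z) Z)

include hbij in
/-- injectivity of restriction on sections supported in `Z` -/
theorem injOn_map (s₁ s₂ : F.obj.obj (op U))
    (h₁ : EtShriek.sectSupp F U s₁ ⊆ Z) (h₂ : EtShriek.sectSupp F U s₂ ⊆ Z)
    (h : F.obj.map φ.op s₁ = F.obj.map φ.op s₂) : s₁ = s₂ := by
  apply sheaf_ext
  intro x
  by_cases hx : x ∈ Z
  · obtain ⟨x', -, hx'⟩ := hbij.surjOn hx
    exact ⟨U', φ, x', hx', h⟩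
  · obtain ⟨W₁, g₁, w₁, hw₁, hz₁⟩ := (not_mem_sectSupp_iff F s₁ x).mp (fun h => hx (h₁ h))
    obtain ⟨W₂, g₂, w₂, hw₂, hz₂⟩ := (not_mem_sectSupp_iff F s₂ x).mp (fun h => hx (h₂ h))
    obtain ⟨z, hz1, -⟩ := exists_point g₁ g₂ w₁ w₂ (hw₁.trans hw₂.symm)
    refine ⟨fp g₁ g₂, fpFst g₁ g₂ ≫ g₁, z, ?_, ?_⟩
    · change g₁.left ((fpFst g₁ g₂).left z) = x
      rw [hz1, hw₁]
    · rw [← map_map, hz₁, map_zero, fp_condition, ← map_map, hz₂, map_zero]

variable (hZ : IsClosed Z)
  (hres : ∀ x ∈ φ.left.base ⁻¹' Z, Function.Bijective (φ.left.residueFieldMap x))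

include hbij hres hZ in
/-- two morphisms to `U'` over `U` restrict a section supported over `Z` in the same way -/
theorem map_eq_map_of_comp_eq (s' : F.obj.obj (op U'))
    (hs' : EtShriek.sectSupp F U' s' ⊆ φ.left.base ⁻¹' Z)
    {T : X.Etale} (k' k'' : T ⟶ U') (hk : k' ≫ φ = k'' ≫ φ) :
    F.obj.map k'.op s' = F.obj.map k''.op s' := by
  have hkl : k'.left ≫ φ.left = k''.left ≫ φ.left := congrArg (fun m => m.left) hk
  apply sheaf_ext
  intro t
  by_cases hx : φ.left (k'.left t) ∈ Z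
  · -- the two maps agree near `t`
    have hx'' : φ.left (k''.left t) ∈ Z := by
      have := congrArg (fun m : T.left ⟶ U.left => m t) hkl
      change φ.left (k'.left t) = φ.left (k''.left t) at this
      rwa [← this]
    have heq : k'.left t = k''.left t := by
      apply hbij.injOn hx hx''
      exact congrArg (fun m : T.left ⟶ U.left => m t) hkl
    let P : Scheme.{u} := pullback φ.left φ.left
    let δ : U'.left ⟶ P := pullback.diagonal φ.left
    haveI : IsOpenImmersion δ := inferInstanceAs (IsOpenImmersion (pullback.diagonal φ.left))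
    let m : T.left ⟶ P := pullback.lift k'.left k''.left hkl
    have hm1 : m ≫ pullback.fst φ.left φ.left = k'.left := pullback.lift_fst _ _ _
    have hm2 : m ≫ pullback.snd φ.left φ.left = k''.left := pullback.lift_snd _ _ _
    have hδ1 : δ ≫ pullback.fst φ.left φ.left = 𝟙 _ := pullback.diagonal_fst _
    have hδ2 : δ ≫ pullback.snd φ.left φ.left = 𝟙 _ := pullback.diagonal_snd _
    have hmt : m t = δ (k'.left t) := by
      apply eq_of_fst_eq_snd_eq φ.left
      · have e1 := congrArg (fun f : T.left ⟶ U'.left => f t) hm1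
        have e2 := congrArg (fun f : U'.left ⟶ U'.left => f (k'.left t)) hδ1
        exact e1.trans e2.symm
      · have e1 := congrArg (fun f : T.left ⟶ U'.left => f t) hm2
        have e2 := congrArg (fun f : U'.left ⟶ U'.left => f (k'.left t)) hδ2
        exact e1.trans (heq.symm.trans e2.symm)
      · have e2 : pullback.fst φ.left φ.left (δ (k'.left t)) = k'.left t :=
          congrArg (fun f : U'.left ⟶ U'.left => f (k'.left t)) hδ1
        rw [e2]
        exact hres _ hx
    let E : T.left.Opens := m ⁻¹ᵁ δ.opensRange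
    have htE : t ∈ E := by
      change m t ∈ Set.range δ
      exact ⟨k'.left t, hmt.symm⟩
    have hr : Set.range (E.ι ≫ m).base ⊆ Set.range δ.base := by
      rintro _ ⟨e, rfl⟩
      exact e.2
    let l : E.toScheme ⟶ U'.left := IsOpenImmersion.lift δ (E.ι ≫ m) hr
    have hl : l ≫ δ = E.ι ≫ m := IsOpenImmersion.lift_fac _ _ _
    have hE : E.ι ≫ k'.left = E.ι ≫ k''.left := by
      rw [← hm1, ← hm2, ← Category.assoc, ← Category.assoc, ← hl, Category.assoc, Category.assoc,
        hδ1, hδ2]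
    have hsub : subι T E ≫ k' = subι T E ≫ k'' := by
      apply MorphismProperty.Over.Hom.ext
      exact hE
    refine ⟨sub T E, subι T E, ⟨t, htE⟩, rfl, ?_⟩
    rw [map_map, map_map, hsub]
  · -- both restrictions vanish near `t`
    let O : U.left.Opens := ⟨Zᶜ, hZ.isOpen_compl⟩
    let E : T.left.Opens := (k'.left ≫ φ.left) ⁻¹ᵁ O
    have htE : t ∈ E := hx
    have h0 : ∀ (k : T ⟶ U'), k.left ≫ φ.left = k'.left ≫ φ.left →
        F.obj.map (subι T E ≫ k).op s' = 0 := by
      intro k hkk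
      apply map_eq_zero_of_forall_not_mem
      intro e he
      have h1 : φ.left (k.left (E.ι e)) ∈ Z := hs' he
      have h2 : φ.left (k.left (E.ι e)) = (k'.left ≫ φ.left) (E.ι e) :=
        congrArg (fun f : T.left ⟶ U.left => f (E.ι e)) hkk
      rw [h2] at h1
      exact e.2 h1
    refine ⟨sub T E, subι T E, ⟨t, htE⟩, rfl, ?_⟩
    rw [map_map, map_map, h0 k' rfl, h0 k'' hkl.symm]

include hbij hres hZ in
/-- surjectivity of restriction on sections supported in `Z` -/
theorem exists_map_eq (s' : F.obj.obj (op U'))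
    (hs' : EtShriek.sectSupp F U' s' ⊆ φ.left.base ⁻¹' Z) :
    ∃ s : F.obj.obj (op U), EtShriek.sectSupp F U s ⊆ Z ∧ F.obj.map φ.op s = s' := by
  have hsh := (isSheaf_iff_isSheaf_of_type _ _).1
    ((Presheaf.isSheaf_iff_isSheaf_forget _ F.obj (forget AddCommGrpCat)).1 F.property)
  let O : U.left.Opens := ⟨Zᶜ, hZ.isOpen_compl⟩
  let U₀ : X.Etale := sub U O
  let j₀ : U₀ ⟶ U := subι U O
  let Y : Bool → X.Etale := fun b => match b with
    | true => U'
    | false => U₀
  let π : ∀ b, Y b ⟶ U := fun b => match b with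
    | true => φ
    | false => j₀
  let x : ∀ b, (F.obj ⋙ forget AddCommGrpCat).obj (op (Y b)) := fun b => match b with
    | true => s'
    | false => (0 : F.obj.obj (op U₀))
  have hcov : Sieve.generate (Presieve.ofArrows Y π) ∈ X.smallEtaleTopology U := by
    rw [mem_smallEtaleTopology_iff']
    intro u
    by_cases hu : u ∈ Z
    · obtain ⟨u', -, hu'⟩ := hbij.surjOn hu
      exact ⟨U', φ, u', ⟨_, 𝟙 _, φ, Presieve.ofArrows.mk true, Category.id_comp _⟩, hu'⟩
    · exact ⟨U₀, j₀, ⟨u, hu⟩, ⟨_, 𝟙 _, j₀, Presieve.ofArrows.mk false, Category.id_comp _⟩, rfl⟩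
  have hsf : Presieve.IsSheafFor (F.obj ⋙ forget AddCommGrpCat) (Presieve.ofArrows Y π) :=
    (Presieve.isSheafFor_iff_generate _).mpr (hsh _ hcov)
  -- a morphism through `U'` and `U₀` kills `s'`
  have hzero : ∀ {T : X.Etale} (k' : T ⟶ U') (k₀ : T ⟶ U₀), k' ≫ φ = k₀ ≫ j₀ →
      F.obj.map k'.op s' = 0 := by
    intro T k' k₀ hk
    apply map_eq_zero_of_forall_not_mem
    intro t ht
    have h1 : φ.left (k'.left t) ∈ Z := hs' ht
    have h2 : φ.left (k'.left t) = j₀.left (k₀.left t) :=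
      congrArg (fun m : T ⟶ U => m.left t) hk
    rw [h2] at h1
    exact (k₀.left t).2 h1
  have hcompat : Presieve.Arrows.Compatible (F.obj ⋙ forget AddCommGrpCat) π x := by
    intro b b' T gi gj hg
    cases b <;> cases b'
    · change F.obj.map gi.op (0 : F.obj.obj (op U₀)) = F.obj.map gj.op (0 : F.obj.obj (op U₀))
      rw [map_zero, map_zero]
    · change F.obj.map gi.op (0 : F.obj.obj (op U₀)) = F.obj.map gj.op s'
      rw [map_zero]
      exact (hzero gj gi hg.symm).symm
    · change F.obj.map gi.op s' = F.obj.map gj.op (0 : F.obj.obj (op U₀))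
      rw [map_zero]
      exact hzero gi gj hg
    · exact map_eq_map_of_comp_eq F φ Z hbij hZ hres s' hs' gi gj hg
  obtain ⟨s, hs, -⟩ := (Presieve.isSheafFor_arrows_iff _ _).mp hsf x hcompat
  have hs1 : F.obj.map φ.op s = s' := hs true
  have hs0 : F.obj.map j₀.op s = 0 := hs false
  refine ⟨s, ?_, hs1⟩
  intro u hu
  by_contra huZ
  exact hu U₀ j₀ ⟨⟨u, huZ⟩, rfl⟩ hs0

include hbij hres hZ in
/-- **Excision for sections with support.** -/
theorem bijOn_map :
    Set.BijOn (F.obj.map φ.op) {s | EtShriek.sectSupp F U s ⊆ Z}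
      {s' | EtShriek.sectSupp F U' s' ⊆ φ.left.base ⁻¹' Z} := by
  refine ⟨?_, ?_, ?_⟩
  · intro s hs
    exact sectSupp_map_subset_preimage F φ Z s hs
  · intro s₁ h₁ s₂ h₂ h
    exact injOn_map F φ Z hbij s₁ s₂ h₁ h₂ h
  · intro s' hs'
    obtain ⟨s, hs, hss'⟩ := exists_map_eq F φ Z hbij hZ hres s' hs'
    exact ⟨s, hs, hss'⟩

end Groth.Agent.Lib.Helper36.EtSupp
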