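import Mathlib
import Groth.Prelude.Def_ProEtS
import Groth.Agent.Lib.Helper36.ProEtSite

/-!
# Sections of extension by zero on the pro-étale site (helper36)
-/

set_option autoImplicit false
set_option linter.style.haveILetI false
set_option linter.unusedSimpArgs false
open CategoryTheory CategoryTheory.Limits AlgebraicGeometry Opposite
universe u

namespace Groth.Agent.Lib.Helper36.ProEtExtZero

open Groth.Agent.Lib.Helper36.ProEtSite


/-- the value of a pointwise left Kan extension at an object with empty comma category is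
initial -/
noncomputable def isInitialLanObjOfIsEmpty {C D H : Type*} [Category C] [Category D] [Category H]
    (L : C ⥤ D) (P : C ⥤ H) [∀ F : C ⥤ H, L.HasLeftKanExtension F]
    [L.HasPointwiseLeftKanExtension P] (Y : D)
    [IsEmpty (CostructuredArrow L Y)] : IsInitial ((L.lan.obj P).obj Y) :=
  (isColimitEquivIsInitialOfIsEmpty _ _)
    (show IsColimit _ from Functor.isPointwiseLeftKanExtensionLeftKanExtensionUnit L P Y)

variable {U X : Scheme.{u}} (j : U ⟶ X) [WeaklyEtale j]

theorem subsingleton_lan_obj (F : U.ProEtᵒᵖ ⥤ AddCommGrpCat.{u + 1}) (V : X.ProEt)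
    (hV : ∀ W : U.ProEt, IsEmpty (V ⟶ (ProEtS.compP j).obj W)) :
    Subsingleton (((ProEtS.compP j).op.lan.obj F).obj (op V)) := by
  haveI : IsEmpty (CostructuredArrow (ProEtS.compP j).op (op V)) :=
    ⟨fun a => (hV a.left.unop).false a.hom.unop⟩
  have h1 := isInitialLanObjOfIsEmpty (ProEtS.compP j).op F (op V)
  have h2 : IsZero (((ProEtS.compP j).op.lan.obj F).obj (op V)) :=
    (isZero_zero _).of_iso (h1.uniqueUpToIso (isZero_zero AddCommGrpCat.{u + 1}).isInitial)
  exact AddCommGrpCat.subsingleton_of_isZero h2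



variable {U X : Scheme.{u}} (j : U ⟶ X) [WeaklyEtale j] [ProEtS.JPCont j]

noncomputable def extZeroIso (F : ProEtS.AbP U) : (ProEtS.extZeroP j).obj F ≅
    (presheafToSheaf (Scheme.ProEt.topology X) AddCommGrpCat.{u + 1}).obj
      ((ProEtS.compP j).op.lan.obj F.obj) :=
  (Functor.sheafPullbackConstruction.sheafPullbackIso (ProEtS.compP j) AddCommGrpCat.{u + 1}
    (Scheme.ProEt.topology U) (Scheme.ProEt.topology X)).app F

theorem subsingleton_sectP_of_subsingleton (F : ProEtS.AbP U) (V : X.ProEt)
    (h : Subsingleton (((presheafToSheaf (Scheme.ProEt.topology X) AddCommGrpCat.{u + 1}).obj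
      ((ProEtS.compP j).op.lan.obj F.obj)).obj.obj (op V))) :
    Subsingleton (ProEtS.sectP ((ProEtS.extZeroP j).obj F) V) := by
  let e := ((sheafToPresheaf _ _).mapIso (extZeroIso j F)).app (op V)
  haveI : Subsingleton ↑(((sheafToPresheaf (Scheme.ProEt.topology X) AddCommGrpCat.{u + 1}).obj
      ((presheafToSheaf (Scheme.ProEt.topology X) AddCommGrpCat.{u + 1}).obj
        ((ProEtS.compP j).op.lan.obj F.obj))).obj (op V)) := h
  exact e.addCommGroupIsoToAddEquiv.toEquiv.subsingleton



variable {X : Scheme.{u}}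

/-- sections of the sheafification vanish if they vanish locally -/
theorem eq_zero_of_equalizerSieve_mem (Q : ProEtS.AbP X) (V : X.ProEt)
    (s : Q.obj.obj (op V))
    (h : Presheaf.equalizerSieve (F := Q.obj) (X := op V) s 0 ∈ Scheme.ProEt.topology X V) :
    s = 0 := by
  have h1 : Presieve.IsSheaf (Scheme.ProEt.topology X) (Q.obj ⋙ forget AddCommGrpCat.{u + 1}) :=
    (isSheaf_iff_isSheaf_of_type _ _).mp
      ((Presheaf.isSheaf_iff_isSheaf_forget _ _ (forget AddCommGrpCat.{u + 1})).mp Q.property)
  exact (h1.isSeparated _ h).ext (fun _ _ hf => hf)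

/-- Let `P` be an abelian presheaf on `X_proét`, `V` an affine object and `E` a set of points
of `V` to which every point specialises. If `P` vanishes on every object over `V` whose image
meets `E`, then the sheafification of `P` has no nonzero sections over `V`. -/
theorem subsingleton_sheafify_obj (P : X.ProEtᵒᵖ ⥤ AddCommGrpCat.{u + 1}) (V : X.ProEt)
    [IsAffine V.left] (E : Set ↥V.left)
    (hP : ∀ (W : X.ProEt) (g : W ⟶ V), ¬ Subsingleton (P.obj (op W)) →
      Disjoint (Set.range g.left) E)
    (hE : ∀ v : ↥V.left, ∃ z ∈ E, v ⤳ z) :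
    Subsingleton (((presheafToSheaf (Scheme.ProEt.topology X) AddCommGrpCat.{u + 1}).obj
      P).obj.obj (op V)) := by
  let K := Scheme.ProEt.topology X
  let Q := (presheafToSheaf K AddCommGrpCat.{u + 1}).obj P
  let η : P ⟶ Q.obj := toSheafify K P
  suffices H : ∀ s : Q.obj.obj (op V), s = 0 from ⟨fun a b => (H a).trans (H b).symm⟩
  intro s
  apply eq_zero_of_equalizerSieve_mem Q V s
  have hS : Presheaf.imageSieve η s ∈ K V := Presheaf.imageSieve_mem K η s
  obtain ⟨ι, Yf, g, hSg, hqc, hsurj⟩ := exists_family_of_mem_topology V _ hS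
  let E' : PreZeroHypercover V.left := ⟨ι, fun i => (Yf i).left, fun i => (g i).left⟩
  haveI : QuasiCompactCover E' := hqc
  obtain ⟨n, f, O, hO, hOV⟩ := QuasiCompactCover.exists_isAffineOpen_of_isCompact E'
    (U := ⊤) isCompact_univ
  haveI : ∀ i, WeaklyEtale (g i).left := fun i => weaklyEtale_left (g i)
  haveI : ∀ a, IsAffine ((O a).toScheme) := fun a => hO a
  let N := {a : Fin n // Q.obj.map (g (f a)).op s = 0}
  let p : ∀ a : N, (O a.1).toScheme ⟶ V.left := fun a => (O a.1).ι ≫ (g (f a.1)).left
  haveI hpw : ∀ a : N, WeaklyEtale (p a) := fun a => inferInstanceAs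
    (WeaklyEtale ((O a.1).ι ≫ (g (f a.1)).left))
  -- the points of `E` are covered
  have hcovE : ∀ z ∈ E, ∃ a : N, z ∈ Set.range (p a) := by
    intro z hz
    have hx : z ∈ ⋃ a, E'.f (f a) '' (O a) := by
      rw [hOV]
      trivial
    obtain ⟨a, y, hy, hyz⟩ := Set.mem_iUnion.mp hx
    have ha : Q.obj.map (g (f a)).op s = 0 := by
      by_contra hne
      obtain ⟨t, ht⟩ := hSg (f a)
      have hns : ¬ Subsingleton (P.obj (op (Yf (f a)))) := by
        intro hsub
        apply hne
        have ht0 : t = 0 := Subsingleton.elim _ _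
        rw [← ht, ht0, map_zero]
      have hd := hP (Yf (f a)) (g (f a)) hns
      exact (Set.disjoint_left.mp hd) ⟨y, hyz⟩ hz
    refine ⟨⟨a, ha⟩, ⟨⟨y, hy⟩, ?_⟩⟩
    simp only [p, Scheme.Hom.comp_apply]
    exact hyz
  -- hence all points are covered
  have hcov : ∀ v : ↥V.left, ∃ a : N, v ∈ Set.range (p a) := by
    intro v
    obtain ⟨z, hzE, hvz⟩ := hE v
    obtain ⟨a, y, hy⟩ := hcovE z hzE
    haveI : Flat (p a) := inferInstance
    have hgen : GeneralizingMap (p a) := Flat.generalizingMap (p a)
    obtain ⟨y', -, hy'⟩ := hgen (hy ▸ hvz)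
    exact ⟨a, y', hy'⟩
  -- the family `p` is a covering
  have hmem : Presieve.ofArrows (fun a : N => (O a.1).toScheme) p ∈
      Scheme.proetalePrecoverage V.left := by
    refine ⟨?_, ?_⟩
    · let E'' : PreZeroHypercover.{u} V.left := ⟨ULift.{u} N, fun a => (O a.down.1).toScheme,
        fun a => p a.down⟩
      have hE'' : E''.presieve₀ ∈ Scheme.qcPrecoverage V.left := by
        rw [Scheme.presieve₀_mem_qcPrecoverage_iff]
        refine ⟨fun {W} hW => ?_⟩
        refine .of_finite_of_isSpectralMap (fun a => (p a.down).isSpectralMap) ?_ W.2 hW.isCompact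
        intro x _
        obtain ⟨a, ha⟩ := hcov x
        exact ⟨⟨a⟩, ha⟩
      convert hE'' using 1
      apply le_antisymm
      · rintro _ _ ⟨a⟩
        exact Presieve.ofArrows.mk (ι := ULift.{u} N) ⟨a⟩
      · rintro _ _ ⟨a⟩
        exact Presieve.ofArrows.mk a.down
    · rw [Scheme.ofArrows_mem_precoverage_iff]
      exact ⟨hcov, fun a => hpw a⟩
  refine K.superset_covering ?_ (generate_ofArrows_mem_topology V _ p hmem)
  rw [Sieve.generate_le_iff]
  rintro _ _ ⟨a⟩
  have hw : (O a.1).ι ≫ (Yf (f a.1)).hom = p a ≫ V.hom := by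
    rw [← MorphismProperty.Over.w (g (f a.1))]
    simp only [p, Category.assoc]
  let a' : objOver V (p a) ⟶ Yf (f a.1) := MorphismProperty.Over.homMk (O a.1).ι hw
  have ha' : a' ≫ g (f a.1) = homOver V (p a) := by
    apply MorphismProperty.Over.Hom.ext
    simp only [a', homOver, MorphismProperty.Comma.comp_hom, MorphismProperty.Over.homMk_hom,
      Comma.comp_left, Over.homMk_left]
    rfl
  change Q.obj.map (homOver V (p a)).op s = Q.obj.map (homOver V (p a)).op 0
  rw [← ha', op_comp, Functor.map_comp]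
  simp only [ConcreteCategory.comp_apply, map_zero]
  rw [a.2, map_zero]


section Main

variable {U X Z : Scheme.{u}} (j : U ⟶ X) [WeaklyEtale j] [ProEtS.JPCont j]

/-- sections of `j_! F` vanish over affine objects all of whose points specialise into a closed
subscheme disjoint from the image of `j` -/
theorem subsingleton_sectP_extZeroP (i : Z ⟶ X)
    (hUZ : Disjoint (Set.range j) (Set.range i))
    (V : X.ProEt) [IsAffine V.left]
    (hV : ∀ v : ↥V.left, ∃ z : ↥V.left, V.hom z ∈ Set.range i ∧ v ⤳ z)
    (F : ProEtS.AbP U) :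
    Subsingleton (ProEtS.sectP ((ProEtS.extZeroP j).obj F) V) := by
  apply subsingleton_sectP_of_subsingleton j F V
  apply subsingleton_sheafify_obj _ V {z : ↥V.left | V.hom z ∈ Set.range i}
  · intro W g hns
    by_contra hnd
    apply hns
    apply subsingleton_lan_obj j F.obj W
    intro W'
    constructor
    intro φ
    apply hnd
    rw [Set.disjoint_left]
    rintro _ ⟨w, rfl⟩ hz
    have h1 : V.hom (g.left w) = j (W'.hom (φ.left w)) := by
      have e1 : g.left ≫ V.hom = W.hom := MorphismProperty.Over.w g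
      have e2 : φ.left ≫ (W'.hom ≫ j) = W.hom := MorphismProperty.Over.w φ
      have e3 : (g.left ≫ V.hom) w = (φ.left ≫ (W'.hom ≫ j)) w := by rw [e1, e2]
      exact e3
    exact Set.disjoint_left.mp hUZ ⟨_, h1.symm⟩ hz
  · intro v
    obtain ⟨z, hz, hvz⟩ := hV v
    exact ⟨z, hz, hvz⟩

end Main

end Groth.Agent.Lib.Helper36.ProEtExtZero
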