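import Mathlib
import Groth.Prelude.Def_ProEtS
import Groth.Agent.Lib.Helper36.ProEtDec
import Groth.Agent.Lib.Helper36.ProEtExtZero
import Groth.Agent.S0730
import Groth.Agent.S0742

set_option autoImplicit false
set_option linter.style.haveILetI false
universe u
open CategoryTheory CategoryTheory.Limits AlgebraicGeometry Opposite

namespace Groth.Agent.Lib.Helper36.ExtZeroLim

open Groth.Agent.Lib.Helper36.ProEtSite Groth.Agent.Lib.Helper36.ProEtDec
  Groth.Agent.Lib.Helper36.ProEtExtZero

variable {U X : Scheme.{u}} (j : U ⟶ X)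

section

variable [WeaklyEtale j] [ProEtS.JPCont j]

/-- sections of `j_! F` vanish over affine objects all of whose points specialise to a point outside
the image of `j` -/
theorem subsingleton_sectP_extZeroP' (V : X.ProEt) [IsAffine V.left]
    (hV : ∀ v : ↥V.left, ∃ z : ↥V.left, V.hom z ∉ Set.range j ∧ v ⤳ z)
    (F : ProEtS.AbP U) :
    Subsingleton (ProEtS.sectP ((ProEtS.extZeroP j).obj F) V) := by
  apply subsingleton_sectP_of_subsingleton j F V
  apply subsingleton_sheafify_obj _ V {z : ↥V.left | V.hom z ∉ Set.range j}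
  · intro W g hns
    by_contra hnd
    apply hns
    apply subsingleton_lan_obj j F.obj W
    intro W'
    constructor
    intro φ
    apply hnd
    rw [Set.disjoint_left]
    rintro _ ⟨w, rfl⟩ hz
    have h1 : V.hom (g.left w) = j (W'.hom (φ.left w)) := by
      have e1 : g.left ≫ V.hom = W.hom := MorphismProperty.Over.w g
      have e2 : φ.left ≫ (W'.hom ≫ j) = W.hom := MorphismProperty.Over.w φ
      have e3 : (g.left ≫ V.hom) w = (φ.left ≫ (W'.hom ≫ j)) w := by rw [e1, e2]
      exact e3
    exact hz ⟨_, h1.symm⟩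
  · intro v
    obtain ⟨z, hz, hvz⟩ := hV v
    exact ⟨z, hz, hvz⟩

end

/-- For an abelian sheaf `Q` and two open immersions `V₁ → W ← V₂` with disjoint images covering
`W` such that `Q(V₁) = 0`, the restriction `Q(W) → Q(V₂)` is bijective. -/
theorem bijective_map_of_subsingleton (Q : ProEtS.AbP X) {W V₁ V₂ : X.ProEt} (π₁ : V₁ ⟶ W)
    (π₂ : V₂ ⟶ W) [IsOpenImmersion π₁.left] [IsOpenImmersion π₂.left]
    (hcov : ∀ x : ↥W.left, x ∈ Set.range π₁.left ∨ x ∈ Set.range π₂.left)
    (hdisj : Disjoint (Set.range π₁.left) (Set.range π₂.left))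
    (h₁ : Subsingleton (Q.obj.obj (op V₁))) :
    Function.Bijective (Q.obj.map π₂.op) := by
  let G : Sheaf (Scheme.ProEt.topology X) (Type (u + 1)) :=
    (sheafCompose (Scheme.ProEt.topology X) (forget AddCommGrpCat.{u + 1})).obj Q
  let V : Bool → X.ProEt := fun b => cond b V₂ V₁
  let π : ∀ b, V b ⟶ W := fun b => match b with
    | true => π₂
    | false => π₁
  haveI : ∀ b, IsOpenImmersion (π b).left := fun b => by
    cases b
    · exact inferInstanceAs (IsOpenImmersion π₁.left)
    · exact inferInstanceAs (IsOpenImmersion π₂.left)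
  have hcov' : Sieve.generate (Presieve.ofArrows V π) ∈ Scheme.ProEt.topology X W := by
    apply generate_ofArrows_mem_topology_of_isOpenImmersion W V π
    intro x
    rcases hcov x with hx | hx
    · exact ⟨false, hx⟩
    · exact ⟨true, hx⟩
  have hmono : ∀ b, Mono (π b) := fun b => by
    haveI : Mono (π b).left := inferInstance
    exact Groth.Agent.Lib.Helper36.ProEtSite.mono_of_mono_left _
  have hdisj' : ∀ k l, k ≠ l → ∀ (Z : X.ProEt) (a : Z ⟶ V k) (b : Z ⟶ V l),
      a ≫ π k = b ≫ π l → IsEmpty ↥Z.left := by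
    intro k l hkl Z a b hab
    constructor
    intro z
    have h1 : (a ≫ π k).left = (b ≫ π l).left := by rw [hab]
    have h2 : a.left ≫ (π k).left = b.left ≫ (π l).left := h1
    have h3 : (π k).left (a.left z) = (π l).left (b.left z) := by
      have h6 : (a.left ≫ (π k).left) z = (b.left ≫ (π l).left) z := by rw [h2]
      exact h6
    cases k <;> cases l
    · exact hkl rfl
    · exact Set.disjoint_left.mp hdisj ⟨_, rfl⟩ ⟨_, h3.symm⟩
    · exact Set.disjoint_left.mp hdisj ⟨_, h3.symm⟩ ⟨_, rfl⟩
    · exact hkl rfl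
  have key := existsUnique_of_disjoint_cover G W V π hcov' hmono hdisj'
  constructor
  · intro a b hab
    let t : ∀ k, G.obj.obj (op (V k)) := fun k => G.obj.map (π k).op a
    obtain ⟨s, -, hs⟩ := key t
    have ha : a = s := hs a (fun k => rfl)
    have hb : b = s := hs b (fun k => by
      cases k
      · exact @Subsingleton.elim _ h₁ _ _
      · exact hab.symm)
    rw [ha, hb]
  · intro y
    let t : ∀ k, G.obj.obj (op (V k)) := fun k =>
      match k with
      | true => y
      | false => (0 : Q.obj.obj (op V₁))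
    obtain ⟨s, hs, -⟩ := key t
    exact ⟨s, hs true⟩

section Main

variable [IsOpenImmersion j] [QuasiCompact j] [ProEtS.JPCont j]

theorem preservesLimitsOfShape_sections (J : Type u) [SmallCategory J] (W : X.ProEt)
    [IsAffine W.left] (hW : EtPBC.IsWContractible ↥(Γ(W.left, ⊤))) :
    PreservesLimitsOfShape J (ProEtS.extZeroP j ⋙
      (sheafSections (Scheme.ProEt.topology X) AddCommGrpCat.{u + 1}).obj (op W)) := by
  haveI : ProEtS.PCont j := Groth.Agent.S0730.result j
  -- decomposition
  let K : Set ↥W.left := (W.hom ⁻¹' Set.range j)ᶜ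
  have hopen : IsOpen (W.hom ⁻¹' Set.range j) :=
    j.isOpenEmbedding.isOpen_range.preimage W.hom.continuous
  have hK : IsClosed K := hopen.isClosed_compl
  have hKc : IsCompact Kᶜ := by
    rw [compl_compl]
    have h1 : Set.range (pullback.fst W.hom j) = W.hom ⁻¹' Set.range j :=
      Scheme.Pullback.range_fst W.hom j
    rw [← h1]
    haveI : CompactSpace ↥((𝟭 Scheme).obj W.left) := inferInstanceAs (CompactSpace ↥W.left)
    haveI : CompactSpace ↥(pullback W.hom j) :=
      QuasiCompact.compactSpace_of_compactSpace (pullback.fst W.hom j)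
    exact isCompact_range (pullback.fst W.hom j).continuous
  obtain ⟨W₁, W₂, hcov, hdisj, hW₂, hW₁, hW₁aff⟩ := exists_clopen_dec W.left hW K hK hKc
  have hW₁closed : IsClosed (W₁ : Set ↥W.left) := by
    have : (W₁ : Set ↥W.left) = (W₂ : Set ↥W.left)ᶜ := by
      ext x
      constructor
      · intro hx hx2
        exact Set.disjoint_left.mp hdisj hx hx2
      · intro hx
        have : x ∈ (W₁ : Set ↥W.left) ∪ W₂ := hcov ▸ Set.mem_univ x
        rcases this with h | h
        · exact h
        · exact absurd h hx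
    rw [this]
    exact W₂.2.isClosed_compl
  -- the piece over the closed part
  let V₁ : X.ProEt := objOver W W₁.ι
  let π₁ : V₁ ⟶ W := homOver W W₁.ι
  haveI : IsAffine V₁.left := hW₁aff
  have hV₁ : ∀ v : ↥V₁.left, ∃ z : ↥V₁.left, V₁.hom z ∉ Set.range j ∧ v ⤳ z := by
    intro v
    obtain ⟨z, hzK, hvz⟩ := hW₁ (W₁.ι v) v.2
    have hz : z ∈ (W₁ : Set ↥W.left) := hvz.mem_closed hW₁closed v.2
    let z' : ↥W₁.toScheme := ⟨z, hz⟩
    refine ⟨z', ?_, ?_⟩
    · change W.hom (W₁.ι z') ∉ Set.range j
      exact hzK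
    · exact (W₁.ι.isOpenEmbedding.isInducing.specializes_iff).mp hvz
  -- the piece over `U`
  have hrange : Set.range (W₂.ι ≫ W.hom) ⊆ Set.range j := by
    rintro _ ⟨x, rfl⟩
    have hx : W₂.ι x ∈ Kᶜ := hW₂ x.2
    rw [compl_compl] at hx
    exact hx
  let g : W₂.toScheme ⟶ U := IsOpenImmersion.lift j (W₂.ι ≫ W.hom) hrange
  have hg : g ≫ j = W₂.ι ≫ W.hom := IsOpenImmersion.lift_fac _ _ _
  haveI : WeaklyEtale g := by
    haveI : WeaklyEtale (g ≫ j) := by rw [hg]; infer_instance
    exact WeaklyEtale.of_comp g j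
  let W₂' : U.ProEt := Scheme.ProEt.mk g
  let π₂ : (ProEtS.compP j).obj W₂' ⟶ W := MorphismProperty.Over.homMk W₂.ι hg.symm
  haveI : IsOpenImmersion π₁.left := inferInstanceAs (IsOpenImmersion W₁.ι)
  haveI : IsOpenImmersion π₂.left := inferInstanceAs (IsOpenImmersion W₂.ι)
  have hbij : ∀ G : ProEtS.AbP U,
      Function.Bijective (((ProEtS.extZeroP j).obj G).obj.map π₂.op) := by
    intro G
    apply bijective_map_of_subsingleton ((ProEtS.extZeroP j).obj G) π₁ π₂
    · intro x
      have hx : x ∈ (W₁ : Set ↥W.left) ∪ W₂ := hcov ▸ Set.mem_univ x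
      rcases hx with hx | hx
      · left
        change x ∈ Set.range W₁.ι
        rw [Scheme.Opens.range_ι]
        exact hx
      · right
        change x ∈ Set.range W₂.ι
        rw [Scheme.Opens.range_ι]
        exact hx
    · change Disjoint (Set.range W₁.ι) (Set.range W₂.ι)
      rw [Scheme.Opens.range_ι, Scheme.Opens.range_ι]
      exact hdisj
    · exact subsingleton_sectP_extZeroP' j V₁ hV₁ G
  -- the functors of sections
  let ΓW := (sheafSections (Scheme.ProEt.topology X) AddCommGrpCat.{u + 1}).obj (op W)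
  let Γ2 := (sheafSections (Scheme.ProEt.topology X) AddCommGrpCat.{u + 1}).obj
    (op ((ProEtS.compP j).obj W₂'))
  let Γ' := (sheafSections (Scheme.ProEt.topology U) AddCommGrpCat.{u + 1}).obj (op W₂')
  let θ : ProEtS.extZeroP j ⋙ ΓW ⟶ ProEtS.extZeroP j ⋙ Γ2 :=
    Functor.whiskerLeft (ProEtS.extZeroP j)
      ((sheafSections (Scheme.ProEt.topology X) AddCommGrpCat.{u + 1}).map π₂.op)
  let ρ : Γ' ⟶ ProEtS.extZeroP j ⋙ Γ2 :=
    Functor.whiskerRight (ProEtS.extZeroPAdj j).unit Γ'
  haveI hθ : IsIso θ := by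
    apply (config := { allowSynthFailures := true }) NatIso.isIso_of_isIso_app
    intro G
    change IsIso (((ProEtS.extZeroP j).obj G).obj.map π₂.op)
    exact (ConcreteCategory.isIso_iff_bijective _).mpr (hbij G)
  haveI hρ : IsIso ρ := by
    apply (config := { allowSynthFailures := true }) NatIso.isIso_of_isIso_app
    intro G
    haveI : IsIso ((ProEtS.extZeroPAdj j).unit.app G) := (Groth.Agent.S0742.result j G G).1
    change IsIso (Γ'.map ((ProEtS.extZeroPAdj j).unit.app G))
    infer_instance
  haveI : PreservesLimitsOfShape J Γ' :=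
    inferInstanceAs (PreservesLimitsOfShape J (sheafToPresheaf (Scheme.ProEt.topology U)
      AddCommGrpCat.{u + 1} ⋙ (evaluation _ _).obj (op W₂')))
  haveI : PreservesLimitsOfShape J (ProEtS.extZeroP j ⋙ Γ2) :=
    preservesLimitsOfShape_of_natIso (asIso ρ)
  exact preservesLimitsOfShape_of_natIso (asIso θ).symm

theorem preservesLimitsOfShape_extZeroP (J : Type u) [SmallCategory J] :
    PreservesLimitsOfShape J (ProEtS.extZeroP j) :=
  preservesLimitsOfShape_of_sections (ProEtS.extZeroP j) J
    (fun W _ hW => preservesLimitsOfShape_sections j J W hW)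

end Main

end Groth.Agent.Lib.Helper36.ExtZeroLim
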