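import Mathlib
import Groth.Statements.S7177
import Groth.Agent.Lib.Helper36.WeaklyEtale

set_option autoImplicit false
universe u

namespace Groth.Agent.Lib.Helper36.WE

open AlgebraicGeometry CategoryTheory Limits MorphismProperty TensorProduct

/-- The diagonal of `Spec S ⟶ Spec R` is flat iff `S ⊗[R] S → S` is flat. -/
theorem diagonal_flat_SpecMap_iff {R S : Type u} [CommRing R] [CommRing S] (φ : R →+* S) :
    MorphismProperty.diagonal @Flat (Spec.map (CommRingCat.ofHom φ)) ↔
      (let := φ.toAlgebra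
       (Algebra.TensorProduct.lmul' R (S := S)).toRingHom.Flat) := by
  algebraize [φ]
  rw [MorphismProperty.diagonal_iff,
    show CommRingCat.ofHom φ = CommRingCat.ofHom (algebraMap R S) from rfl, diagonal_SpecMap R S,
    cancel_right_of_respectsIso (P := @Flat), HasRingHomProperty.Spec_iff (P := @Flat)]
  rfl

theorem flat_lmul'_of_flat_diagonal {X Y : Scheme.{u}} (f : X ⟶ Y) [Flat (pullback.diagonal f)]
    (U : X.Opens) (V : Y.Opens) (hU : IsAffineOpen U) (hV : IsAffineOpen V) (e : U ≤ f ⁻¹ᵁ V) :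
    let := (f.appLE V U e).hom.toAlgebra
    (Algebra.TensorProduct.lmul' Γ(Y, V) (S := Γ(X, U))).toRingHom.Flat := by
  have := HasRingHomProperty.of_isZariskiLocalAtSource_of_isZariskiLocalAtTarget
    (MorphismProperty.diagonal @Flat)
  have h : MorphismProperty.diagonal @Flat f := ‹Flat (pullback.diagonal f)›
  rw [HasRingHomProperty.iff_appLE (P := MorphismProperty.diagonal @Flat)] at h
  exact (diagonal_flat_SpecMap_iff _).mp (h ⟨V, hV⟩ ⟨U, hU⟩ e)

theorem isFlat_of_isFlatOver_of_flat_diagonal {X Y : Scheme.{u}} (f : X ⟶ Y)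
    [Flat (pullback.diagonal f)] (F : X.Modules)
    (hF : FlatMod.IsFlatOver f F) : FlatMod.IsFlat F := by
  intro x
  obtain ⟨_, ⟨V, hV, rfl⟩, hxV, -⟩ :=
    Y.isBasis_affineOpens.exists_subset_of_mem_open (Set.mem_univ (f x)) isOpen_univ
  obtain ⟨_, ⟨U, hU, rfl⟩, hxU, hUV⟩ :=
    X.isBasis_affineOpens.exists_subset_of_mem_open (show x ∈ f ⁻¹ᵁ V from hxV) (f ⁻¹ᵁ V).isOpen
  have hx := hF x
  unfold FlatMod.IsFlatAt
  unfold FlatMod.IsFlatOverAt at hx
  let iRS : Algebra Γ(Y, V) Γ(X, U) := (f.appLE V U hUV).hom.toAlgebra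
  let iSB : Algebra Γ(X, U) (X.presheaf.stalk x) := (X.presheaf.germ U x hxU).hom.toAlgebra
  let iRA : Algebra Γ(Y, V) (Y.presheaf.stalk (f x)) := (Y.presheaf.germ V (f x) hxV).hom.toAlgebra
  let iAM : Module (Y.presheaf.stalk (f x)) (F.presheaf.stalk x) := FlatMod.moduleStalkOver f F x
  let iSM : Module Γ(X, U) (F.presheaf.stalk x) :=
    Module.compHom (F.presheaf.stalk x) (algebraMap Γ(X, U) (X.presheaf.stalk x))
  let iRM : Module Γ(Y, V) (F.presheaf.stalk x) :=
    Module.compHom (F.presheaf.stalk x) (algebraMap Γ(Y, V) Γ(X, U))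
  have t1 : IsScalarTower Γ(X, U) (X.presheaf.stalk x) (F.presheaf.stalk x) :=
    IsScalarTower.of_algebraMap_smul fun _ _ => rfl
  have t2 : IsScalarTower Γ(Y, V) Γ(X, U) (F.presheaf.stalk x) :=
    IsScalarTower.of_algebraMap_smul fun _ _ => rfl
  have t3 : IsScalarTower Γ(Y, V) (Y.presheaf.stalk (f x)) (F.presheaf.stalk x) := by
    refine IsScalarTower.of_algebraMap_smul fun r m => ?_
    change (f.stalkMap x).hom ((Y.presheaf.germ V (f x) hxV).hom r) • m =
      (X.presheaf.germ U x hxU).hom ((f.appLE V U hUV).hom r) • m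
    congr 1
    rw [Scheme.Hom.appLE]
    erw [Scheme.Hom.germ_stalkMap_apply]
    simp only [CommRingCat.hom_comp, RingHom.coe_comp, Function.comp_apply]
    erw [TopCat.Presheaf.germ_res_apply]
  have hflatA : Module.Flat (Y.presheaf.stalk (f x)) (F.presheaf.stalk x) := hx
  have locA := hV.isLocalization_stalk ⟨f x, hxV⟩
  have hflatR : Module.Flat Γ(Y, V) (F.presheaf.stalk x) :=
    (Module.flat_iff_of_isLocalization (Y.presheaf.stalk (f x))
      (hV.primeIdealOf ⟨f x, hxV⟩).asIdeal.primeCompl (F.presheaf.stalk x)).mp hflatA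
  have hflatS : Module.Flat Γ(X, U) (F.presheaf.stalk x) :=
    flat_of_flat_lmul' Γ(Y, V) Γ(X, U) (flat_lmul'_of_flat_diagonal f U V hU hV hUV) _
  have locB := hU.isLocalization_stalk ⟨x, hxU⟩
  exact (Module.flat_iff_of_isLocalization (X.presheaf.stalk x)
      (hU.primeIdealOf ⟨x, hxU⟩).asIdeal.primeCompl (F.presheaf.stalk x)).mpr hflatS

end Groth.Agent.Lib.Helper36.WE
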