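import Mathlib
import Groth.Agent.Lib.Helper3.HenselEtale
import Groth.Prelude.Def_PBC

set_option autoImplicit false
set_option linter.style.haveILetI false
universe u

namespace Groth.Agent.Lib.Helper36.HensIndEt

open IsLocalRing TensorProduct Groth.Agent.Lib.Helper3 CategoryTheory CategoryTheory.Limits CommRingCat

section
variable {R : Type u} [CommRing R] {S' : Type u} [CommRing S'] [HenselianLocalRing S']
  [Algebra R S'] {K : Type u} [Field K] [Algebra R K] (u' : S' →ₐ[R] K)

/-- the induced map on the residue field -/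
noncomputable def ubar (hk : RingHom.ker u'.toRingHom = maximalIdeal S') :
    ResidueField S' →+* K :=
  Ideal.Quotient.lift (maximalIdeal S') u'.toRingHom (fun a ha => by
    rw [← hk] at ha
    exact ha)

theorem ubar_residue (hk : RingHom.ker u'.toRingHom = maximalIdeal S') (x : S') :
    ubar u' hk (residue S' x) = u' x := rfl

theorem ubar_bijective (hu' : Function.Surjective u')
    (hk : RingHom.ker u'.toRingHom = maximalIdeal S') : Function.Bijective (ubar u' hk) := by
  refine ⟨(ubar u' hk).injective, fun k => ?_⟩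
  obtain ⟨x, rfl⟩ := hu' k
  exact ⟨residue S' x, rfl⟩

theorem algHom_ext_of_etale' (hk : RingHom.ker u'.toRingHom = maximalIdeal S')
    (E : Type u) [CommRing E] [Algebra R E] [Algebra.Etale R E] (φ₁ φ₂ : E →ₐ[R] S')
    (h : u'.comp φ₁ = u'.comp φ₂) : φ₁ = φ₂ := by
  let σ₁ : S' ⊗[R] E →ₐ[S'] S' :=
    Algebra.TensorProduct.lift (AlgHom.id S' S') φ₁ (fun _ _ => Commute.all _ _)
  let σ₂ : S' ⊗[R] E →ₐ[S'] S' :=
    Algebra.TensorProduct.lift (AlgHom.id S' S') φ₂ (fun _ _ => Commute.all _ _)
  have hres : ∀ e, residue S' (φ₁ e) = residue S' (φ₂ e) := by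
    intro e
    apply (ubar u' hk).injective
    rw [ubar_residue, ubar_residue]
    exact congrArg (fun f => f e) h
  have hσ : (residueAlgHom S').comp σ₁ = (residueAlgHom S').comp σ₂ := by
    apply Algebra.TensorProduct.ext
    · ext
    · ext e
      simp only [AlgHom.coe_comp, AlgHom.coe_restrictScalars', Function.comp_apply,
        Algebra.TensorProduct.includeRight_apply, residueAlgHom_apply]
      change residue S' (σ₁ (1 ⊗ₜ e)) = residue S' (σ₂ (1 ⊗ₜ e))
      simp only [σ₁, σ₂, Algebra.TensorProduct.lift_tmul, map_one, one_mul]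
      exact hres e
  have := algHom_ext_of_etale σ₁ σ₂ hσ
  ext e
  have h2 := congrArg (fun f => f (1 ⊗ₜ[R] e)) this
  simpa [σ₁, σ₂] using h2

theorem existsUnique_algHom_of_etale (hu' : Function.Surjective u')
    (hk : RingHom.ker u'.toRingHom = maximalIdeal S')
    (E : Type u) [CommRing E] [Algebra R E] [Algebra.Etale R E] (v : E →ₐ[R] K) :
    ∃! φ : E →ₐ[R] S', u'.comp φ = v := by
  have hb := ubar_bijective u' hu' hk
  let ue : ResidueField S' ≃+* K := RingEquiv.ofBijective (ubar u' hk) hb
  -- g : E → residue field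
  let g : E →ₐ[R] ResidueField S' :=
    { (ue.symm.toRingHom.comp v.toRingHom) with
      commutes' := fun r => by
        change ue.symm (v (algebraMap R E r)) = _
        rw [v.commutes, RingEquiv.symm_apply_eq]
        change _ = ubar u' hk (algebraMap R (ResidueField S') r)
        rw [IsScalarTower.algebraMap_apply R S' (ResidueField S'),
          ResidueField.algebraMap_eq, ubar_residue, u'.commutes] }
  have hg : ∀ e, ubar u' hk (g e) = v e := fun e => ue.apply_symm_apply (v e)
  let φ₀ : S' ⊗[R] E →ₐ[S'] ResidueField S' :=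
    Algebra.TensorProduct.lift (Algebra.ofId S' (ResidueField S')) g (fun _ _ => Commute.all _ _)
  obtain ⟨σ, hσ⟩ := exists_algHom_of_etale φ₀
  refine ⟨(σ.restrictScalars R).comp Algebra.TensorProduct.includeRight, ?_, ?_⟩
  · ext e
    change u' (σ (1 ⊗ₜ e)) = v e
    rw [← ubar_residue u' hk, ← hg]
    congr 1
    have := congrArg (fun f => f (1 ⊗ₜ[R] e)) hσ
    change residue S' (σ (1 ⊗ₜ e)) = φ₀ (1 ⊗ₜ e) at this
    rw [this]
    simp [φ₀]
  · intro φ₂ hφ₂
    apply algHom_ext_of_etale' u' hk E
    rw [hφ₂]
    ext e
    change v e = u' (σ (1 ⊗ₜ e))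
    rw [← ubar_residue u' hk, ← hg]
    congr 1
    have := congrArg (fun f => f (1 ⊗ₜ[R] e)) hσ
    change residue S' (σ (1 ⊗ₜ e)) = φ₀ (1 ⊗ₜ e) at this
    rw [this]
    simp [φ₀]
end

section
variable {R : Type u} [CommRing R]

/-- local algebra instance on objects of `Under (of R)` -/
local instance underAlg (A : Under (CommRingCat.of R)) : Algebra R A.right := A.hom.hom.toAlgebra

/-- algebra map out of an object of `Under` into a genuine algebra -/
def legHom (A : Under (CommRingCat.of R)) (S : Type u) [CommRing S] [Algebra R S]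
    (m : A ⟶ Under.mk (CommRingCat.ofHom (algebraMap R S))) : A.right →ₐ[R] S :=
  { m.right.hom with
    commutes' := fun r => by
      have := Under.w m
      exact congrArg (fun f => f.hom r) this }

/-- algebra map between genuine algebras from a morphism in `Under` -/
def homOf (S T : Type u) [CommRing S] [Algebra R S] [CommRing T] [Algebra R T]
    (m : Under.mk (CommRingCat.ofHom (algebraMap R S)) ⟶
      Under.mk (CommRingCat.ofHom (algebraMap R T))) : S →ₐ[R] T :=
  { m.right.hom with
    commutes' := fun r => by
      have := Under.w m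
      exact congrArg (fun f => f.hom r) this }

/-- morphism in `Under` from an algebra map out of an object of `Under` -/
def toUnderHom (A : Under (CommRingCat.of R)) (T : Type u) [CommRing T] [Algebra R T]
    (φ : A.right →ₐ[R] T) : A ⟶ Under.mk (CommRingCat.ofHom (algebraMap R T)) :=
  Under.homMk (CommRingCat.ofHom φ.toRingHom) (by
    ext r
    exact φ.commutes r)

theorem algHom_ext_of_isColimit {J : Type u} [SmallCategory J]
    {D : J ⥤ Under (CommRingCat.of R)} {c : Cocone D} (hc : IsColimit c)
    {S : Type u} [CommRing S] [Algebra R S]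
    (iso : c.pt ≅ Under.mk (CommRingCat.ofHom (algebraMap R S)))
    {T : Type u} [CommRing T] [Algebra R T] (f g : S →ₐ[R] T)
    (h : ∀ (j : J) (x : (D.obj j).right), f (legHom _ S (c.ι.app j ≫ iso.hom) x) =
      g (legHom _ S (c.ι.app j ≫ iso.hom) x)) : f = g := by
  have key : iso.hom ≫ (AlgHom.toUnder (R := CommRingCat.of R) f) =
      iso.hom ≫ (AlgHom.toUnder (R := CommRingCat.of R) g) := by
    apply hc.hom_ext
    intro j
    ext x
    exact h j x
  have h2 := (cancel_epi iso.hom).mp key
  ext s
  have := congrArg (fun m => m.right s) h2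
  exact this

variable {S' : Type u} [CommRing S'] [HenselianLocalRing S']
  [Algebra R S'] {K : Type u} [Field K] [Algebra R K] (u' : S' →ₐ[R] K)

theorem existsUnique_algHom_of_isIndEtale (hu' : Function.Surjective u')
    (hk : RingHom.ker u'.toRingHom = maximalIdeal S')
    (S : Type u) [CommRing S] [Algebra R S] (hS : EtPBC.IsIndEtale R S) (u : S →ₐ[R] K) :
    ∃! φ : S →ₐ[R] S', u'.comp φ = u := by
  obtain ⟨J, _, _, D, c, hc, hD, ⟨iso⟩⟩ := hS
  -- legs as algebra maps
  let leg : ∀ j, (D.obj j).right →ₐ[R] S := fun j => legHom _ S (c.ι.app j ≫ iso.hom)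
  have hleg : ∀ {j k : J} (f : j ⟶ k) (x : (D.obj j).right),
      leg k ((D.map f).right x) = leg j x := by
    intro j k f x
    have := c.w f
    have h2 : D.map f ≫ c.ι.app k ≫ iso.hom = c.ι.app j ≫ iso.hom := by
      rw [← Category.assoc, this]
    exact congrArg (fun m => m.right x) h2
  have hE : ∀ j, Algebra.Etale R (D.obj j).right := hD
  -- the lifts
  have hex : ∀ j, ∃! φ : (D.obj j).right →ₐ[R] S', u'.comp φ = u.comp (leg j) := fun j =>
    existsUnique_algHom_of_etale u' hu' hk (D.obj j).right (u.comp (leg j))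
  choose φ hφ hφuniq using hex
  have hnat : ∀ {j k : J} (f : j ⟶ k) (x : (D.obj j).right),
      φ k ((D.map f).right x) = φ j x := by
    intro j k f x
    let mf : (D.obj j).right →ₐ[R] (D.obj k).right :=
      { (D.map f).right.hom with
        commutes' := fun r => by
          have := Under.w (D.map f)
          exact congrArg (fun f => f.hom r) this }
    have : (φ k).comp mf = φ j := by
      apply hφuniq
      ext y
      change u' (φ k ((D.map f).right y)) = u (leg j y)
      have := congrArg (fun m => m ((D.map f).right y)) (hφ k)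
      change u' (φ k ((D.map f).right y)) = u (leg k ((D.map f).right y)) at this
      rw [this, hleg]
    exact congrArg (fun m => m x) this
  let cc : Cocone D :=
    { pt := Under.mk (CommRingCat.ofHom (algebraMap R S'))
      ι :=
        { app := fun j => toUnderHom (D.obj j) S' (φ j)
          naturality := fun j k f => by
            ext x
            simp only [Functor.const_obj_obj, Functor.const_obj_map, Category.comp_id]
            exact hnat f x } }
  let Φ : S →ₐ[R] S' := homOf S S' (iso.inv ≫ hc.desc cc)
  have hΦ : ∀ j (x : (D.obj j).right), Φ (leg j x) = φ j x := by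
    intro j x
    have h1 : (c.ι.app j ≫ iso.hom) ≫ iso.inv ≫ hc.desc cc = cc.ι.app j := by
      rw [Category.assoc, Iso.hom_inv_id_assoc, hc.fac]
    exact congrArg (fun m => m.right x) h1
  refine ⟨Φ, ?_, ?_⟩
  · apply algHom_ext_of_isColimit hc iso
    intro j x
    change u' (Φ (leg j x)) = u (leg j x)
    rw [hΦ]
    exact congrArg (fun m => m x) (hφ j)
  · intro Ψ hΨ
    apply algHom_ext_of_isColimit hc iso
    intro j x
    change Ψ (leg j x) = Φ (leg j x)
    rw [hΦ]
    have : Ψ.comp (leg j) = φ j := by
      apply hφuniq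
      ext y
      exact congrArg (fun m => m (leg j y)) hΨ
    exact congrArg (fun m => m x) this
end

end Groth.Agent.Lib.Helper36.HensIndEt
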