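import Mathlib.CategoryTheory.ObjectProperty.Ind
import Mathlib.CategoryTheory.MorphismProperty.Ind
import Mathlib.CategoryTheory.Filtered.Final
import Mathlib.CategoryTheory.Filtered.Connected
import Mathlib.CategoryTheory.Limits.Final
import Mathlib.CategoryTheory.Limits.Constructions.Over.Connected
import Mathlib.CategoryTheory.Comma.Over.Pullback
import Groth.Agent.Lib.Helper36.IndGeneral

set_option autoImplicit false
set_option linter.style.haveILetI false
universe w v u

namespace Groth.Agent.Lib.Helper36.IndGen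

open CategoryTheory CategoryTheory.Limits MorphismProperty

variable {C : Type u} [Category.{v} C] [HasPushouts C]

section PushDiag

variable {J : Type w} [Category.{w} J] {D : J ⥤ C} (c : Cocone D) {Y : C} (u : c.pt ⟶ Y)

/-- the diagram `i ↦ Y ⊔_{D i} X` -/
noncomputable def pushDiag : J ⥤ C where
  obj i := pushout (c.ι.app i ≫ u) (c.ι.app i)
  map {i k} a := pushout.desc (pushout.inl _ _) (pushout.inr _ _) (by
    have h := c.w a
    rw [← h, Category.assoc, Category.assoc, Category.assoc]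
    congr 1
    rw [← Category.assoc]
    exact pushout.condition)
  map_id i := by
    apply pushout.hom_ext
    · rw [pushout.inl_desc, Category.comp_id]
    · rw [pushout.inr_desc, Category.comp_id]
  map_comp a b := by
    apply pushout.hom_ext
    · rw [pushout.inl_desc, pushout.inl_desc_assoc, pushout.inl_desc]
    · rw [pushout.inr_desc, pushout.inr_desc_assoc, pushout.inr_desc]

/-- left inclusion -/
noncomputable def pInl (i : J) : Y ⟶ (pushDiag c u).obj i := pushout.inl _ _

/-- right inclusion -/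
noncomputable def pInr (i : J) : c.pt ⟶ (pushDiag c u).obj i := pushout.inr _ _

lemma pCondition (i : J) : (c.ι.app i ≫ u) ≫ pInl c u i = c.ι.app i ≫ pInr c u i :=
  pushout.condition

/-- descent -/
noncomputable def pDesc (i : J) {W : C} (a : Y ⟶ W) (b : c.pt ⟶ W)
    (h : (c.ι.app i ≫ u) ≫ a = c.ι.app i ≫ b) : (pushDiag c u).obj i ⟶ W :=
  pushout.desc a b h

@[reassoc]
lemma pInl_desc (i : J) {W : C} (a : Y ⟶ W) (b : c.pt ⟶ W)
    (h : (c.ι.app i ≫ u) ≫ a = c.ι.app i ≫ b) : pInl c u i ≫ pDesc c u i a b h = a :=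
  pushout.inl_desc _ _ _

@[reassoc]
lemma pInr_desc (i : J) {W : C} (a : Y ⟶ W) (b : c.pt ⟶ W)
    (h : (c.ι.app i ≫ u) ≫ a = c.ι.app i ≫ b) : pInr c u i ≫ pDesc c u i a b h = b :=
  pushout.inr_desc _ _ _

lemma p_hom_ext (i : J) {W : C} {f g : (pushDiag c u).obj i ⟶ W}
    (h1 : pInl c u i ≫ f = pInl c u i ≫ g) (h2 : pInr c u i ≫ f = pInr c u i ≫ g) : f = g :=
  pushout.hom_ext h1 h2

@[reassoc]
lemma pInl_map {i k : J} (a : i ⟶ k) : pInl c u i ≫ (pushDiag c u).map a = pInl c u k :=
  pushout.inl_desc _ _ _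

@[reassoc]
lemma pInr_map {i k : J} (a : i ⟶ k) : pInr c u i ≫ (pushDiag c u).map a = pInr c u k :=
  pushout.inr_desc _ _ _

/-- the maps `X ⟶ Y ⊔_{D i} X` -/
noncomputable def pushDiagT : (Functor.const J).obj c.pt ⟶ pushDiag c u where
  app i := pInr c u i
  naturality i k a := by
    simp only [Functor.const_obj_obj, Functor.const_obj_map, Category.id_comp]
    exact (pInr_map c u a).symm

/-- the maps `Y ⊔_{D i} X ⟶ Y` -/
noncomputable def pushDiagS : pushDiag c u ⟶ (Functor.const J).obj Y where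
  app i := pDesc c u i (𝟙 Y) u (by simp)
  naturality i k a := by
    simp only [Functor.const_obj_obj, Functor.const_obj_map, Category.comp_id]
    apply p_hom_ext
    · rw [pInl_map_assoc, pInl_desc, pInl_desc]
    · rw [pInr_map_assoc, pInr_desc, pInr_desc]

variable [IsFiltered J]

lemma inl_comp_eq (s : Cocone (pushDiag c u)) (i k : J) :
    pInl c u i ≫ s.ι.app i = pInl c u k ≫ s.ι.app k := by
  have h1 := s.w (IsFiltered.leftToMax i k)
  have h2 := s.w (IsFiltered.rightToMax i k)
  rw [← h1, ← h2, pInl_map_assoc, pInl_map_assoc]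

lemma inr_comp_eq (s : Cocone (pushDiag c u)) (i k : J) :
    pInr c u i ≫ s.ι.app i = pInr c u k ≫ s.ι.app k := by
  have h1 := s.w (IsFiltered.leftToMax i k)
  have h2 := s.w (IsFiltered.rightToMax i k)
  rw [← h1, ← h2, pInr_map_assoc, pInr_map_assoc]

/-- `Y` is the colimit of the `Y ⊔_{D i} X`. -/
noncomputable def isColimitPushDiag (hc : IsColimit c) :
    IsColimit (Cocone.mk Y (pushDiagS c u)) where
  desc s := pInl c u (IsFiltered.nonempty (C := J)).some ≫ s.ι.app _
  fac s i := by
    let i₀ := (IsFiltered.nonempty (C := J)).some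
    show pDesc c u i (𝟙 Y) u _ ≫ pInl c u i₀ ≫ s.ι.app i₀ = s.ι.app i
    have hu : u ≫ pInl c u i₀ ≫ s.ι.app i₀ = pInr c u i₀ ≫ s.ι.app i₀ := by
      apply hc.hom_ext
      intro k
      rw [inl_comp_eq c u s i₀ k, inr_comp_eq c u s i₀ k, ← Category.assoc, ← Category.assoc,
        ← Category.assoc]
      congr 1
      exact pCondition c u k
    apply p_hom_ext
    · rw [pInl_desc_assoc, Category.id_comp]
      exact inl_comp_eq c u s i₀ i
    · rw [pInr_desc_assoc, hu]
      exact inr_comp_eq c u s i₀ i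
  uniq s m hm := by
    let i₀ := (IsFiltered.nonempty (C := J)).some
    have h : pDesc c u i₀ (𝟙 Y) u (by simp) ≫ m = s.ι.app i₀ := hm i₀
    have h2 := congrArg (fun x => pInl c u i₀ ≫ x) h
    simp only [pInl_desc_assoc, Category.id_comp] at h2
    exact h2

end PushDiag

variable (P : MorphismProperty C)

/-- If `X = colim Dᵢ` is a filtered colimit and `u : X ⟶ Y` is such that all `Dᵢ ⟶ X ⟶ Y`
satisfy `P`, then `u` is ind-`P`. -/
theorem ind_of_forall_comp_mem [P.IsStableUnderCobaseChange]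
    {J : Type w} [SmallCategory J] [IsFiltered J] {D : J ⥤ C} (c : Cocone D) (hc : IsColimit c)
    {Y : C} (u : c.pt ⟶ Y) (h : ∀ i, P (c.ι.app i ≫ u)) : ind.{w} P u := by
  refine ⟨J, inferInstance, inferInstance, pushDiag c u, pushDiagT c u, pushDiagS c u,
    isColimitPushDiag c u hc, fun i => ⟨?_, ?_⟩⟩
  · exact P.pushout_inr _ _ (h i)
  · exact pInr_desc c u i _ _ _

/-- Cancellation for ind-`P`: if `f` and `f ≫ g` are ind-`P`, then so is `g`. -/
theorem ind_of_comp [P.IsStableUnderComposition] [P.IsStableUnderCobaseChange]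
    [P.ContainsIdentities] [PreIndSpreads.{w} P] [LocallySmall.{w} C]
    (hfp : P ≤ MorphismProperty.isFinitelyPresentable.{w} C)
    (hcancel : ∀ {X Y Z : C} (f : X ⟶ Y) (g : Y ⟶ Z), P f → P (f ≫ g) → P g)
    {X Y Z : C} (f : X ⟶ Y) (g : Y ⟶ Z) (hf : ind.{w} P f) (hfg : ind.{w} P (f ≫ g)) :
    ind.{w} P g := by
  have hinl : ind.{w} P (pushout.inl f (f ≫ g)) :=
    MorphismProperty.pushout_inl (P := ind.{w} P) f (f ≫ g) hfg
  let μ : pushout f (f ≫ g) ⟶ Z := pushout.desc g (𝟙 Z) (by simp)
  have hg : g = pushout.inl f (f ≫ g) ≫ μ := (pushout.inl_desc _ _ _).symm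
  have hμ : ind.{w} P μ := by
    rw [ind_iff_ind_underMk] at hf
    obtain ⟨J, _, _, pres, hpres⟩ := hf
    haveI : IsConnected J := IsFiltered.isConnected J
    let F : Under X ⥤ Under Z := Under.pushout (f ≫ g)
    haveI : PreservesColimitsOfSize.{w, w} F :=
      (Under.mapPushoutAdj (f ≫ g)).leftAdjoint_preservesColimits
    let pres' := (pres.map F).map (Under.forget Z)
    refine ind_of_forall_comp_mem P pres'.cocone pres'.isColimit μ (fun i => ?_)
    have h1 : P (F.obj (pres.diag.obj i)).hom := P.pushout_inr _ _ (hpres i)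
    apply hcancel (F.obj (pres.diag.obj i)).hom _ h1
    have h2 : (F.obj (pres.diag.obj i)).hom ≫ pres'.cocone.ι.app i ≫ μ = 𝟙 Z := by
      have hw := Under.w (F.map (pres.ι.app i))
      have h3 : pres'.cocone.ι.app i = (F.map (pres.ι.app i)).right := by
        simp [pres']
      have h4 : (F.obj (CategoryTheory.Under.mk f)).hom ≫ μ = 𝟙 Z := pushout.inr_desc _ _ _
      exact (congrArg (fun x => (F.obj (pres.diag.obj i)).hom ≫ x ≫ μ) h3).trans
        ((Category.assoc _ _ _).symm.trans ((congrArg (· ≫ μ) hw).trans h4))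
    exact (congrArg (fun m : Z ⟶ Z => P m) h2).mpr (P.id_mem Z)
  rw [hg]
  exact ind_comp P hfp hcancel _ _ hinl hμ

end Groth.Agent.Lib.Helper36.IndGen
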