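import Mathlib
import Groth.Agent.Lib.Helper36.IndEtaleSpread
import Groth.Agent.Lib.Helper36.IndCancel

set_option autoImplicit false
universe u

namespace Groth.Agent.Lib.Helper36.IndEt

open CategoryTheory CategoryTheory.Limits MorphismProperty

instance : etaleMP.{u}.ContainsIdentities where
  id_mem _ := RingHom.Etale.containsIdentities _

/-- cancellation for ind-étale maps (morphism version). -/
theorem indMP_of_comp {X Y Z : CommRingCat.{u}} (f : X ⟶ Y) (g : Y ⟶ Z)
    (hf : MorphismProperty.ind.{u} etaleMP.{u} f)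
    (hfg : MorphismProperty.ind.{u} etaleMP.{u} (f ≫ g)) :
    MorphismProperty.ind.{u} etaleMP.{u} g :=
  Groth.Agent.Lib.Helper36.IndGen.ind_of_comp etaleMP.{u} etaleMP_le_isFinitelyPresentable
    (fun f g hf hfg => etaleMP_of_comp f g hf hfg) f g hf hfg

/-- If `A → B` and `A → C` are ind-étale and `C` is a `B`-algebra compatibly, then `B → C` is
ind-étale. -/
theorem isIndEtale_of_isIndEtale_of_isScalarTower (A B C : Type u) [CommRing A] [CommRing B]
    [CommRing C] [Algebra A B] [Algebra B C] [Algebra A C] [IsScalarTower A B C]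
    (hB : EtPBC.IsIndEtale A B) (hC : EtPBC.IsIndEtale A C) : EtPBC.IsIndEtale B C := by
  rw [isIndEtale_iff_indMP] at hB hC ⊢
  have h : CommRingCat.ofHom (algebraMap A C) =
      CommRingCat.ofHom (algebraMap A B) ≫ CommRingCat.ofHom (algebraMap B C) := by
    ext x
    exact IsScalarTower.algebraMap_apply A B C x
  rw [h] at hC
  exact indMP_of_comp _ _ hB hC

end Groth.Agent.Lib.Helper36.IndEt
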