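import Groth.Agent.Lib.Helper36.NTAffine

/-!
A packaged context for the classification of numerical types all of whose indices are
(-2)-indices (helper36).
-/

set_option autoImplicit false
open Finset

namespace Groth.Agent.Lib.Helper36.NT

open Models Models.NumericalType

/-- All indices are `(-2)`-indices and `b s t = a s t / w s`. -/
structure AffCtx {n : ℕ} (T : Models.NumericalType n) (b : Fin n → Fin n → ℤ) : Prop where
  hm2 : ∀ s, T.IsMinusTwo s
  hb : ∀ s t, s ≠ t → T.a s t = b s t * T.w s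

namespace AffCtx

variable {n : ℕ} {T : Models.NumericalType n} {b : Fin n → Fin n → ℤ}

theorem exists_of_all_minusTwo (T : Models.NumericalType n) (h : ∀ s, T.IsMinusTwo s) :
    ∃ b : Fin n → Fin n → ℤ, AffCtx T b := by
  refine ⟨fun s t => T.a s t / T.w s, h, fun s t _ => ?_⟩
  exact (Int.ediv_mul_cancel (T.w_dvd s t)).symm

theorem nonneg (C : AffCtx T b) {s t : Fin n} (hst : s ≠ t) : 0 ≤ b s t :=
  (b_props T hst (C.hb s t hst) (C.hb t s hst.symm)).1

theorem pos_symm (C : AffCtx T b) {s t : Fin n} (hst : s ≠ t) (h : 1 ≤ b s t) : 1 ≤ b t s := by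
  obtain ⟨-, h2, h3, -⟩ := b_props T hst (C.hb s t hst) (C.hb t s hst.symm)
  have : b t s ≠ 0 := fun h0 => by
    have := h3.mpr h0
    omega
  omega

theorem le_zero_symm (C : AffCtx T b) {s t : Fin n} (hst : s ≠ t) (h : b s t ≤ 0) :
    b t s ≤ 0 := by
  obtain ⟨h1, -, h3, -⟩ := b_props T hst (C.hb s t hst) (C.hb t s hst.symm)
  have : b s t = 0 := by omega
  have := h3.mp this
  omega

theorem rel (C : AffCtx T b) {s t : Fin n} (hst : s ≠ t) : b s t * T.w s = b t s * T.w t :=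
  (b_props T hst (C.hb s t hst) (C.hb t s hst.symm)).2.2.2

theorem diag (C : AffCtx T b) (s : Fin n) : T.a s s = -2 * T.w s := (C.hm2 s).2

theorem row (C : AffCtx T b) (s : Fin n) :
    ∑ t, (if t = s then 0 else b s t * T.m t) = 2 * T.m s :=
  row_eq_b T (Equiv.refl (Fin n)) C.hm2 b C.hb s

theorem too_big (C : AffCtx T b) (B : Fin n → Fin n → ℤ) (hB : ∀ s t, s ≠ t → B s t ≤ b s t)
    (x : Fin n → ℤ) (hx : ∀ s, 0 ≤ x s) (hx' : ∃ s, 0 < x s) (hx'' : ∃ s, x s = 0)
    (hrow : ∀ s, 0 < x s → 2 * x s ≤ ∑ t, if t = s then 0 else B s t * x t) : False :=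
  too_big_b T C.hm2 b C.hb B hB x hx hx' hx'' hrow

theorem too_big_whole (C : AffCtx T b) (B : Fin n → Fin n → ℤ)
    (hB : ∀ s t, s ≠ t → B s t ≤ b s t) (y : Fin n → ℤ) (hy : ∀ s, 0 < y s)
    (hrow : ∀ t, 2 * y t ≤ ∑ s, if s = t then 0 else B t s * y s)
    (hstrict : ∃ t, 2 * y t < ∑ s, if s = t then 0 else B t s * y s) : False :=
  too_big_whole_b T C.hm2 b C.hb B hB y hy hrow hstrict

theorem too_small (C : AffCtx T b) (U : Fin n → Fin n → ℤ) (hU : ∀ s t, s ≠ t → b s t ≤ U s t)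
    (y : Fin n → ℤ) (hy : ∀ s, 0 < y s)
    (hrow : ∀ t, (∑ s, if s = t then 0 else U t s * y s) ≤ 2 * y t)
    (hstrict : ∃ t, (∑ s, if s = t then 0 else U t s * y s) < 2 * y t) : False :=
  too_small_b T C.hm2 b C.hb U hU y hy hrow hstrict

end AffCtx

end Groth.Agent.Lib.Helper36.NT
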