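import Groth.Agent.Lib.Helper36.NTGenusOne

/-!
Whole-set certificate lemmas for numerical types all of whose indices are (-2)-indices
(helper36): `too_big_b` (a proper sub-support carries a non-negative vector) and `too_small_b`
(upper bounds admit a strictly sub-harmonic positive vector).
-/

set_option autoImplicit false
open Finset

namespace Groth.Agent.Lib.Helper36.NT

open Models Models.NumericalType

variable {n : ℕ} (T : Models.NumericalType n)

/-- Key lemma on the whole index set with a proper support. -/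
theorem no_nonneg_vector_proper_supp (x : Fin n → ℤ) (hx : ∀ j, 0 ≤ x j) (hx' : ∃ j, 0 < x j)
    (hx'' : ∃ j, x j = 0) (h : ∀ i, 0 < x i → 0 ≤ ∑ j, T.a i j * x j) : False := by
  classical
  let J : Finset (Fin n) := univ.filter fun j => 0 < x j
  have hne : J.Nonempty := by
    obtain ⟨j, hj⟩ := hx'
    exact ⟨j, Finset.mem_filter.mpr ⟨mem_univ j, hj⟩⟩
  have hne' : J ≠ univ := by
    intro hEq
    obtain ⟨j, hj⟩ := hx''
    have : j ∈ J := hEq ▸ mem_univ j
    have := (Finset.mem_filter.mp this).2
    omega
  refine no_nonneg_vector T J hne hne' x (fun j hj => (Finset.mem_filter.mp hj).2) ?_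
  intro i hi
  have := h i (Finset.mem_filter.mp hi).2
  have hsum : ∑ j, T.a i j * x j = ∑ j ∈ J, T.a i j * x j := by
    symm
    refine Finset.sum_subset (Finset.subset_univ _) ?_
    intro j _ hj'
    have : x j = 0 := by
      have h0 := hx j
      have : ¬ 0 < x j := fun hpos => hj' (Finset.mem_filter.mpr ⟨mem_univ j, hpos⟩)
      omega
    rw [this, mul_zero]
  rwa [hsum] at this

/-- "Too big": when all indices are `(-2)`-indices, lower bounds `B` for the numbers `b` cannot
admit a non-negative vector with proper non-empty support satisfying `2 x ≤ B x` on its support. -/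
theorem too_big_b (hv : ∀ s, T.IsMinusTwo s) (b : Fin n → Fin n → ℤ)
    (hb : ∀ s t, s ≠ t → T.a s t = b s t * T.w s)
    (B : Fin n → Fin n → ℤ) (hB : ∀ s t, s ≠ t → B s t ≤ b s t)
    (x : Fin n → ℤ) (hx : ∀ s, 0 ≤ x s) (hx' : ∃ s, 0 < x s) (hx'' : ∃ s, x s = 0)
    (hrow : ∀ s, 0 < x s → 2 * x s ≤ ∑ t, if t = s then 0 else B s t * x t) : False := by
  classical
  refine no_nonneg_vector_proper_supp T x hx hx' hx'' fun s hs => ?_
  have hws := T.w_pos s
  have hterm : ∀ t ∈ (univ : Finset (Fin n)),
      (if t = s then -2 * T.w s * x s else T.w s * (B s t * x t)) ≤ T.a s t * x t := by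
    intro t _
    by_cases hts : t = s
    · subst hts
      simp only [if_true]
      rw [(hv t).2]
    · simp only [if_neg hts]
      rw [hb s t (Ne.symm hts)]
      have h1 := mul_le_mul_of_nonneg_right (hB s t (Ne.symm hts)) (hx t)
      have h2 := mul_le_mul_of_nonneg_left h1 hws.le
      linarith
  refine le_trans ?_ (Finset.sum_le_sum hterm)
  have : ∑ t, (if t = s then -2 * T.w s * x s else T.w s * (B s t * x t)) =
      T.w s * ((∑ t, if t = s then 0 else B s t * x t) - 2 * x s) := by
    rw [mul_sub, Finset.mul_sum]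
    rw [← Finset.add_sum_erase univ _ (mem_univ s), ← Finset.add_sum_erase univ _ (mem_univ s)]
    simp only [if_true]
    have : ∀ t ∈ univ.erase s, (if t = s then -2 * T.w s * x s else
        T.w s * (B s t * x t)) = T.w s * (if t = s then 0 else B s t * x t) := by
      intro t ht
      rw [if_neg (ne_of_mem_erase ht), if_neg (ne_of_mem_erase ht)]
    rw [Finset.sum_congr rfl this]
    ring
  rw [this]
  exact mul_nonneg hws.le (by linarith [hrow s hs])

/-- "Too small": when all indices are `(-2)`-indices, upper bounds `U` for the numbers `b` cannot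
admit a positive vector `y` with `U y ≤ 2 y`, strictly somewhere. -/
theorem too_small_b (hv : ∀ s, T.IsMinusTwo s) (b : Fin n → Fin n → ℤ)
    (hb : ∀ s t, s ≠ t → T.a s t = b s t * T.w s)
    (U : Fin n → Fin n → ℤ) (hU : ∀ s t, s ≠ t → b s t ≤ U s t)
    (y : Fin n → ℤ) (hy : ∀ s, 0 < y s)
    (hrow : ∀ t, (∑ s, if s = t then 0 else U t s * y s) ≤ 2 * y t)
    (hstrict : ∃ t, (∑ s, if s = t then 0 else U t s * y s) < 2 * y t) : False := by
  classical
  -- the double sum `∑_s y_s ∑_t a_st m_t` vanishes
  have h0 : ∑ s, y s * ∑ t, T.a s t * T.m t = 0 := by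
    refine Finset.sum_eq_zero fun s _ => ?_
    rw [row_sum T s, mul_zero]
  have h1 : ∑ s, y s * ∑ t, T.a s t * T.m t = ∑ t, T.m t * ∑ s, T.a t s * y s := by
    simp_rw [Finset.mul_sum]
    rw [Finset.sum_comm]
    refine Finset.sum_congr rfl fun t _ => Finset.sum_congr rfl fun s _ => ?_
    rw [a_comm T s t]; ring
  -- each inner sum is at most `w_t ((U y)_t - 2 y_t)`
  have hinner : ∀ t, ∑ s, T.a t s * y s ≤
      T.w t * ((∑ s, if s = t then 0 else U t s * y s) - 2 * y t) := by
    intro t
    have hwt := T.w_pos t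
    have hterm : ∀ s ∈ (univ : Finset (Fin n)), T.a t s * y s ≤
        (if s = t then -2 * T.w t * y t else T.w t * (U t s * y s)) := by
      intro s _
      by_cases hst : s = t
      · subst hst
        simp only [if_true]
        rw [(hv s).2]
      · simp only [if_neg hst]
        rw [hb t s (Ne.symm hst)]
        have h1 := mul_le_mul_of_nonneg_right (hU t s (Ne.symm hst)) (hy s).le
        have h2 := mul_le_mul_of_nonneg_left h1 hwt.le
        linarith
    refine le_trans (Finset.sum_le_sum hterm) (le_of_eq ?_)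
    rw [mul_sub, Finset.mul_sum]
    rw [← Finset.add_sum_erase univ _ (mem_univ t), ← Finset.add_sum_erase univ _ (mem_univ t)]
    simp only [if_true]
    have : ∀ s ∈ univ.erase t, (if s = t then -2 * T.w t * y t else
        T.w t * (U t s * y s)) = T.w t * (if s = t then 0 else U t s * y s) := by
      intro s hs
      rw [if_neg (ne_of_mem_erase hs), if_neg (ne_of_mem_erase hs)]
    rw [Finset.sum_congr rfl this]
    ring
  have hneg : ∑ t, T.m t * ∑ s, T.a t s * y s < 0 := by
    obtain ⟨t₀, ht₀⟩ := hstrict
    refine Finset.sum_neg' (fun t _ => ?_) ⟨t₀, mem_univ _, ?_⟩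
    · have := hinner t
      have h2 : T.w t * ((∑ s, if s = t then 0 else U t s * y s) - 2 * y t) ≤ 0 :=
        mul_nonpos_of_nonneg_of_nonpos (T.w_pos t).le (by linarith [hrow t])
      exact mul_nonpos_of_nonneg_of_nonpos (T.m_pos t).le (by linarith)
    · have := hinner t₀
      have h2 : T.w t₀ * ((∑ s, if s = t₀ then 0 else U t₀ s * y s) - 2 * y t₀) < 0 :=
        mul_neg_of_pos_of_neg (T.w_pos t₀) (by linarith)
      exact mul_neg_of_pos_of_neg (T.m_pos t₀) (by linarith)
  linarith

/-- "Too big on the whole set": when all indices are `(-2)`-indices, lower bounds `B` for the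
numbers `b` cannot admit a positive vector `y` with `2 y ≤ B y`, strictly somewhere. -/
theorem too_big_whole_b (hv : ∀ s, T.IsMinusTwo s) (b : Fin n → Fin n → ℤ)
    (hb : ∀ s t, s ≠ t → T.a s t = b s t * T.w s)
    (B : Fin n → Fin n → ℤ) (hB : ∀ s t, s ≠ t → B s t ≤ b s t)
    (y : Fin n → ℤ) (hy : ∀ s, 0 < y s)
    (hrow : ∀ t, 2 * y t ≤ ∑ s, if s = t then 0 else B t s * y s)
    (hstrict : ∃ t, 2 * y t < ∑ s, if s = t then 0 else B t s * y s) : False := by
  classical
  have h0 : ∑ s, y s * ∑ t, T.a s t * T.m t = 0 := by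
    refine Finset.sum_eq_zero fun s _ => ?_
    rw [row_sum T s, mul_zero]
  have h1 : ∑ s, y s * ∑ t, T.a s t * T.m t = ∑ t, T.m t * ∑ s, T.a t s * y s := by
    simp_rw [Finset.mul_sum]
    rw [Finset.sum_comm]
    refine Finset.sum_congr rfl fun t _ => Finset.sum_congr rfl fun s _ => ?_
    rw [a_comm T s t]; ring
  have hinner : ∀ t, T.w t * ((∑ s, if s = t then 0 else B t s * y s) - 2 * y t) ≤
      ∑ s, T.a t s * y s := by
    intro t
    have hwt := T.w_pos t
    have hterm : ∀ s ∈ (univ : Finset (Fin n)),
        (if s = t then -2 * T.w t * y t else T.w t * (B t s * y s)) ≤ T.a t s * y s := by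
      intro s _
      by_cases hst : s = t
      · subst hst
        simp only [if_true]
        rw [(hv s).2]
      · simp only [if_neg hst]
        rw [hb t s (Ne.symm hst)]
        have h1 := mul_le_mul_of_nonneg_right (hB t s (Ne.symm hst)) (hy s).le
        have h2 := mul_le_mul_of_nonneg_left h1 hwt.le
        linarith
    refine le_trans (le_of_eq ?_) (Finset.sum_le_sum hterm)
    rw [mul_sub, Finset.mul_sum]
    rw [← Finset.add_sum_erase univ _ (mem_univ t), ← Finset.add_sum_erase univ _ (mem_univ t)]
    simp only [if_true]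
    have : ∀ s ∈ univ.erase t, (if s = t then -2 * T.w t * y t else
        T.w t * (B t s * y s)) = T.w t * (if s = t then 0 else B t s * y s) := by
      intro s hs
      rw [if_neg (ne_of_mem_erase hs), if_neg (ne_of_mem_erase hs)]
    rw [Finset.sum_congr rfl this]
    ring
  have hpos : 0 < ∑ t, T.m t * ∑ s, T.a t s * y s := by
    obtain ⟨t₀, ht₀⟩ := hstrict
    refine Finset.sum_pos' (fun t _ => ?_) ⟨t₀, mem_univ _, ?_⟩
    · have := hinner t
      have h2 : 0 ≤ T.w t * ((∑ s, if s = t then 0 else B t s * y s) - 2 * y t) :=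
        mul_nonneg (T.w_pos t).le (by linarith [hrow t])
      exact mul_nonneg (T.m_pos t).le (by linarith)
    · have := hinner t₀
      have h2 : 0 < T.w t₀ * ((∑ s, if s = t₀ then 0 else B t₀ s * y s) - 2 * y t₀) :=
        mul_pos (T.w_pos t₀) (by linarith)
      exact mul_pos (T.m_pos t₀) (by linarith)
  linarith

end Groth.Agent.Lib.Helper36.NT
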