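import Groth.Agent.Lib.Helper36.NTSub

/-!
The key exclusion lemma with partial support, and its form in terms of the numbers
`b s t = a (v s) (v t) / w (v s)` (helper36).
-/

set_option autoImplicit false
open Finset

namespace Groth.Agent.Lib.Helper36.NT

open Models Models.NumericalType

variable {n : ℕ} (T : Models.NumericalType n)

/-- Key lemma with partial support: a non-negative nonzero vector `x` on a subset `J ≠ univ` cannot
have non-negative row sums at all indices of its support. -/
theorem no_nonneg_vector_supp (J : Finset (Fin n)) (hJ' : J ≠ univ)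
    (x : Fin n → ℤ) (hx : ∀ j ∈ J, 0 ≤ x j) (hx' : ∃ j ∈ J, 0 < x j)
    (h : ∀ i ∈ J, 0 < x i → 0 ≤ ∑ j ∈ J, T.a i j * x j) : False := by
  classical
  let J' : Finset (Fin n) := J.filter fun j => 0 < x j
  have hJ'J : J' ⊆ J := Finset.filter_subset _ _
  have hne : J'.Nonempty := by
    obtain ⟨j, hj, hj'⟩ := hx'
    exact ⟨j, Finset.mem_filter.mpr ⟨hj, hj'⟩⟩
  have hne' : J' ≠ univ := by
    intro hEq
    apply hJ'
    rw [Finset.eq_univ_iff_forall] at hEq ⊢
    exact fun i => hJ'J (hEq i)
  refine no_nonneg_vector T J' hne hne' x (fun j hj => (Finset.mem_filter.mp hj).2) ?_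
  intro i hi
  have hi' := Finset.mem_filter.mp hi
  have := h i hi'.1 hi'.2
  have hsum : ∑ j ∈ J, T.a i j * x j = ∑ j ∈ J', T.a i j * x j := by
    symm
    refine Finset.sum_subset hJ'J ?_
    intro j hj hj'
    have : x j = 0 := by
      have h0 := hx j hj
      have : ¬ 0 < x j := fun hpos => hj' (Finset.mem_filter.mpr ⟨hj, hpos⟩)
      omega
    rw [this, mul_zero]
  rwa [hsum] at this

/-- Embedding version of the key lemma with partial support. -/
theorem no_nonneg_vector_emb_supp {k : ℕ} (v : Fin k ↪ Fin n) (hkn : k < n)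
    (x : Fin k → ℤ) (hx : ∀ s, 0 ≤ x s) (hx' : ∃ s, 0 < x s)
    (h : ∀ s, 0 < x s → 0 ≤ ∑ t, T.a (v s) (v t) * x t) : False := by
  classical
  let J : Finset (Fin n) := univ.map v
  have hJ' : J ≠ univ := by
    intro hEq
    have := congrArg Finset.card hEq
    simp [J] at this
    omega
  let y : Fin n → ℤ := fun j => if hj : ∃ s, v s = j then x hj.choose else 0
  have hy : ∀ s, y (v s) = x s := by
    intro s
    have hex : ∃ s', v s' = v s := ⟨s, rfl⟩
    simp only [y, dif_pos hex]
    exact congrArg x (v.injective hex.choose_spec)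
  refine no_nonneg_vector_supp T J hJ' y ?_ ?_ ?_
  · intro j hj
    obtain ⟨s, -, rfl⟩ := Finset.mem_map.mp hj
    rw [hy]; exact hx s
  · obtain ⟨s, hs⟩ := hx'
    exact ⟨v s, by simp [J], by rw [hy]; exact hs⟩
  · intro i hi hpos
    obtain ⟨s, -, rfl⟩ := Finset.mem_map.mp hi
    rw [Finset.sum_map]
    simp_rw [hy]
    rw [hy] at hpos
    exact h s hpos

/-- Exclusion of a configuration of `(-2)`-indices in terms of a matrix `b` with
`a (v s) (v t) = b s t * w (v s)` and a matrix `B` of lower bounds for `b`; the certificate `x`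
may have partial support. -/
theorem no_config_b {k : ℕ} (v : Fin k ↪ Fin n) (hkn : k < n)
    (hv : ∀ s, T.IsMinusTwo (v s)) (b : Fin k → Fin k → ℤ)
    (hb : ∀ s t, s ≠ t → T.a (v s) (v t) = b s t * T.w (v s))
    (B : Fin k → Fin k → ℤ) (hB : ∀ s t, s ≠ t → B s t ≤ b s t)
    (x : Fin k → ℤ) (hx : ∀ s, 0 ≤ x s) (hx' : ∃ s, 0 < x s)
    (hrow : ∀ s, 0 < x s → 2 * x s ≤ ∑ t, if t = s then 0 else B s t * x t) : False := by
  classical
  refine no_nonneg_vector_emb_supp T v hkn x hx hx' fun s hs => ?_
  have hws := T.w_pos (v s)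
  have hterm : ∀ t ∈ (univ : Finset (Fin k)),
      (if t = s then -2 * T.w (v s) * x s else T.w (v s) * (B s t * x t)) ≤
        T.a (v s) (v t) * x t := by
    intro t _
    by_cases hts : t = s
    · subst hts
      simp only [if_true]
      rw [(hv t).2]
    · simp only [if_neg hts]
      rw [hb s t (Ne.symm hts)]
      have h1 := mul_le_mul_of_nonneg_right (hB s t (Ne.symm hts)) (hx t)
      have h2 := mul_le_mul_of_nonneg_left h1 hws.le
      linarith
  refine le_trans ?_ (Finset.sum_le_sum hterm)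
  have : ∑ t, (if t = s then -2 * T.w (v s) * x s else T.w (v s) * (B s t * x t)) =
      T.w (v s) * ((∑ t, if t = s then 0 else B s t * x t) - 2 * x s) := by
    rw [mul_sub, Finset.mul_sum]
    rw [← Finset.add_sum_erase univ _ (mem_univ s), ← Finset.add_sum_erase univ _ (mem_univ s)]
    simp only [if_true]
    have : ∀ t ∈ univ.erase s, (if t = s then -2 * T.w (v s) * x s else
        T.w (v s) * (B s t * x t)) = T.w (v s) * (if t = s then 0 else B s t * x t) := by
      intro t ht
      rw [if_neg (ne_of_mem_erase ht), if_neg (ne_of_mem_erase ht)]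
    rw [Finset.sum_congr rfl this]
    ring
  rw [this]
  exact mul_nonneg hws.le (by linarith [hrow s hs])

/-- The numbers `b` exist. -/
theorem exists_b (i j : Fin n) : ∃ c : ℤ, T.a i j = c * T.w i := by
  obtain ⟨c, hc⟩ := T.w_dvd i j
  exact ⟨c, by rw [hc]; ring⟩

/-- Sign and symmetry properties of the numbers `b`. -/
theorem b_props {i j : Fin n} (hij : i ≠ j) {c c' : ℤ} (hc : T.a i j = c * T.w i)
    (hc' : T.a j i = c' * T.w j) :
    0 ≤ c ∧ 0 ≤ c' ∧ (c = 0 ↔ c' = 0) ∧ c * T.w i = c' * T.w j := by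
  have hwi := T.w_pos i
  have hwj := T.w_pos j
  have h0 := T.offDiag_nonneg i j hij
  have hsym := a_comm T i j
  have hc0 : 0 ≤ c := by
    by_contra hneg
    have : c * T.w i < 0 := mul_neg_of_neg_of_pos (by omega) hwi
    linarith
  have hc0' : 0 ≤ c' := by
    by_contra hneg
    have : c' * T.w j < 0 := mul_neg_of_neg_of_pos (by omega) hwj
    linarith
  refine ⟨hc0, hc0', ?_, by rw [← hc, ← hc', hsym]⟩
  constructor
  · intro h
    rw [h, zero_mul] at hc
    rw [hsym, hc'] at hc
    rcases mul_eq_zero.mp hc with h | h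
    · exact h
    · omega
  · intro h
    rw [h, zero_mul] at hc'
    rw [← hsym, hc] at hc'
    rcases mul_eq_zero.mp hc' with h | h
    · exact h
    · omega

/-- Multiplicity inequality at a `(-2)`-index with one neighbour, in terms of `b`. -/
theorem m_ineq_b_one (i : Fin n) (hi : T.IsMinusTwo i) (p : Fin n) (hp : p ≠ i) {c : ℤ}
    (hc : T.a i p = c * T.w i) : c * T.m p ≤ 2 * T.m i := by
  classical
  have h := diag_eq T i
  rw [hi.2] at h
  have hsub : ∑ j ∈ ({p} : Finset (Fin n)), T.a i j * T.m j ≤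
      ∑ j ∈ univ.erase i, T.a i j * T.m j := by
    refine Finset.sum_le_sum_of_subset_of_nonneg ?_ ?_
    · intro j hj
      rw [Finset.mem_singleton] at hj
      subst hj
      exact Finset.mem_erase.mpr ⟨hp, mem_univ j⟩
    · intro j hj _
      exact mul_nonneg (T.offDiag_nonneg i j (ne_of_mem_erase hj).symm) (T.m_pos j).le
  rw [Finset.sum_singleton, hc] at hsub
  have hw := T.w_pos i
  exact le_of_mul_le_mul_left (by linarith : T.w i * (c * T.m p) ≤ T.w i * (2 * T.m i)) hw

/-- Multiplicity inequality at a `(-2)`-index with two neighbours, in terms of `b`. -/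
theorem m_ineq_b_two (i : Fin n) (hi : T.IsMinusTwo i) (p q : Fin n) (hp : p ≠ i) (hq : q ≠ i)
    (hpq : p ≠ q) {c d : ℤ} (hc : T.a i p = c * T.w i) (hd : T.a i q = d * T.w i) :
    c * T.m p + d * T.m q ≤ 2 * T.m i := by
  classical
  have h := diag_eq T i
  rw [hi.2] at h
  have hsub : ∑ j ∈ ({p, q} : Finset (Fin n)), T.a i j * T.m j ≤
      ∑ j ∈ univ.erase i, T.a i j * T.m j := by
    refine Finset.sum_le_sum_of_subset_of_nonneg ?_ ?_
    · intro j hj
      rw [Finset.mem_insert, Finset.mem_singleton] at hj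
      rcases hj with rfl | rfl
      · exact Finset.mem_erase.mpr ⟨hp, mem_univ _⟩
      · exact Finset.mem_erase.mpr ⟨hq, mem_univ _⟩
    · intro j hj _
      exact mul_nonneg (T.offDiag_nonneg i j (ne_of_mem_erase hj).symm) (T.m_pos j).le
  rw [Finset.sum_pair hpq, hc, hd] at hsub
  have hw := T.w_pos i
  exact le_of_mul_le_mul_left
    (by linarith : T.w i * (c * T.m p + d * T.m q) ≤ T.w i * (2 * T.m i)) hw

end Groth.Agent.Lib.Helper36.NT
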