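import Groth.Prelude.Def_Models

/-!
Helper lemmas on numerical types (helper36).
-/

set_option autoImplicit false
open Finset

namespace Groth.Agent.Lib.Helper36.NT

open Models Models.NumericalType

variable {n : ℕ} (T : Models.NumericalType n)

/-- The `i`-th row of `a · m = 0`. -/
theorem row_sum (i : Fin n) : ∑ j, T.a i j * T.m j = 0 := by
  have := congrFun T.mulVec_m i
  simpa [Matrix.mulVec, dotProduct] using this

/-- Split off the diagonal term. -/
theorem diag_eq (i : Fin n) :
    T.a i i * T.m i = - ∑ j ∈ univ.erase i, T.a i j * T.m j := by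
  have h := row_sum T i
  rw [← Finset.add_sum_erase univ (fun j => T.a i j * T.m j) (mem_univ i)] at h
  linarith

/-- For `n > 1`, each index has a neighbour. -/
theorem exists_neighbour (hn : 1 < n) (i : Fin n) : ∃ j, j ≠ i ∧ 0 < T.a i j := by
  have hne : ({i} : Finset (Fin n)) ≠ univ := by
    intro h
    have := congrArg Finset.card h
    simp at this
    omega
  obtain ⟨i', hi', j, hj, hij⟩ := T.connected {i} (singleton_nonempty i) hne
  rw [mem_singleton] at hi'
  subst hi'
  rw [mem_singleton] at hj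
  refine ⟨j, hj, lt_of_le_of_ne (T.offDiag_nonneg _ _ (Ne.symm hj)) (Ne.symm hij)⟩

/-- For `n > 1` the diagonal entries are negative. -/
theorem diag_neg (hn : 1 < n) (i : Fin n) : T.a i i < 0 := by
  obtain ⟨j, hj, hij⟩ := exists_neighbour T hn i
  have h := diag_eq T i
  have hpos : 0 < ∑ j ∈ univ.erase i, T.a i j * T.m j := by
    refine Finset.sum_pos' (fun k hk => ?_) ⟨j, by simp [hj], mul_pos hij (T.m_pos j)⟩
    exact mul_nonneg (T.offDiag_nonneg _ _ (Ne.symm (ne_of_mem_erase hk))) (T.m_pos k).le
  have : T.a i i * T.m i < 0 := by linarith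
  exact neg_of_mul_neg_left this (T.m_pos i).le

/-- For `n > 1`, `a i i = - k * w i` with `k ≥ 1`. -/
theorem diag_eq_neg_mul (hn : 1 < n) (i : Fin n) : ∃ k : ℤ, 1 ≤ k ∧ T.a i i = - (k * T.w i) := by
  obtain ⟨c, hc⟩ := T.w_dvd i i
  have hneg := diag_neg T hn i
  have hw := T.w_pos i
  refine ⟨-c, ?_, by rw [hc]; ring⟩
  rw [hc] at hneg
  have : c < 0 := by
    by_contra hcn
    have := mul_nonneg hw.le (not_lt.mp hcn)
    linarith
  linarith

end Groth.Agent.Lib.Helper36.NT
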