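import Groth.Agent.Lib.Helper36.NTFive
import Groth.Agent.Lib.Helper36.NTB

/-!
Chains of (-2)-indices of arbitrary length in a numerical type, indexed by natural numbers
(helper36).
-/

set_option autoImplicit false
open Finset

namespace Groth.Agent.Lib.Helper36.NT

open Models Models.NumericalType

variable {n : ℕ} (T : Models.NumericalType n)

/-- A chain of `t` distinct `(-2)`-indices `V 0, …, V (t - 1)` with consecutive ones meeting. -/
structure IsChain (V : ℕ → Fin n) (t : ℕ) : Prop where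
  inj : ∀ i j, i < t → j < t → V i = V j → i = j
  m2 : ∀ i, i < t → T.IsMinusTwo (V i)
  adj : ∀ i, i + 1 < t → T.a (V i) (V (i + 1)) ≠ 0

variable {T}

/-- The embedding attached to a chain. -/
def IsChain.emb {V : ℕ → Fin n} {t : ℕ} (h : IsChain T V t) : Fin t ↪ Fin n :=
  ⟨fun s => V s.val, fun s s' hss' => Fin.ext (h.inj _ _ s.isLt s'.isLt hss')⟩

theorem IsChain.adj' {V : ℕ → Fin n} {t : ℕ} (h : IsChain T V t) (i : ℕ) (hi : i + 1 < t) :
    T.a (V (i + 1)) (V i) ≠ 0 := by
  rw [a_comm]; exact h.adj i hi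

/-- The reversed chain. -/
theorem IsChain.reverse {V : ℕ → Fin n} {t : ℕ} (h : IsChain T V t) :
    IsChain T (fun i => V (t - 1 - i)) t where
  inj i j hi hj hij := by
    have := h.inj _ _ (by omega) (by omega) hij
    omega
  m2 i hi := h.m2 _ (by omega)
  adj i hi := by
    have := h.adj' (t - 1 - (i + 1)) (by omega)
    have e : t - 1 - (i + 1) + 1 = t - 1 - i := by omega
    rw [e] at this
    exact this

/-- A window of five consecutive members of a chain. -/
theorem IsChain.window {V : ℕ → Fin n} {t : ℕ} (h : IsChain T V t) (htn : t < n) (c : ℕ)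
    (hc : c + 4 < t) :
    (T.a (V (c + 1)) (V (c + 2)) = T.w (V (c + 1)) ∧ T.w (V (c + 1)) = T.w (V (c + 2))) ∧
    (T.a (V (c + 2)) (V (c + 3)) = T.w (V (c + 2)) ∧ T.w (V (c + 2)) = T.w (V (c + 3))) ∧
    EndBond T (V c) (V (c + 1)) ∧ EndBond T (V (c + 4)) (V (c + 3)) := by
  let vw : Fin 5 ↪ Fin n := ⟨fun s => V (c + s.val), fun s s' hss' => by
    have := h.inj _ _ (by omega) (by omega) hss'
    exact Fin.ext (by omega)⟩
  have hv : ∀ s, T.IsMinusTwo (vw s) := fun s => h.m2 _ (by have := s.isLt; omega)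
  have := five_chain_facts T (by omega) vw hv (h.adj c (by omega)) (h.adj (c + 1) (by omega))
    (h.adj (c + 2) (by omega)) (h.adj (c + 3) (by omega))
  exact this

/-- Interior bonds of a chain of length at least five are simple. -/
theorem IsChain.interior_simple {V : ℕ → Fin n} {t : ℕ} (h : IsChain T V t) (htn : t < n)
    (j : ℕ) (hj1 : 1 ≤ j) (hj2 : j + 2 < t) (ht : 5 ≤ t) :
    T.a (V j) (V (j + 1)) = T.w (V j) ∧ T.w (V j) = T.w (V (j + 1)) := by
  by_cases hj3 : j + 3 < t
  · have := (h.window htn (j - 1) (by omega)).1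
    have e1 : j - 1 + 1 = j := by omega
    have e2 : j - 1 + 2 = j + 1 := by omega
    rw [e1, e2] at this
    exact this
  · have := (h.window htn (j - 2) (by omega)).2.1
    have e1 : j - 2 + 2 = j := by omega
    have e2 : j - 2 + 3 = j + 1 := by omega
    rw [e1, e2] at this
    exact this

theorem IsChain.left_end {V : ℕ → Fin n} {t : ℕ} (h : IsChain T V t) (htn : t < n)
    (ht : 5 ≤ t) : EndBond T (V 0) (V 1) := by
  have := (h.window htn 0 (by omega)).2.2.1
  simpa using this

theorem IsChain.right_end {V : ℕ → Fin n} {t : ℕ} (h : IsChain T V t) (htn : t < n)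
    (ht : 5 ≤ t) : EndBond T (V (t - 1)) (V (t - 2)) := by
  have := (h.window htn (t - 5) (by omega)).2.2.2
  have e1 : t - 5 + 4 = t - 1 := by omega
  have e2 : t - 5 + 3 = t - 2 := by omega
  rw [e1, e2] at this
  exact this

/-- Non-adjacent members of a chain do not meet (otherwise there is a cycle). -/
theorem IsChain.nonadj_zero {V : ℕ → Fin n} {t : ℕ} (h : IsChain T V t) (htn : t < n)
    (i j : ℕ) (hij : i + 1 < j) (hj : j < t) : T.a (V i) (V j) = 0 := by
  by_contra hne
  have hne' : T.a (V j) (V i) ≠ 0 := by rwa [a_comm]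
  let x : Fin t → ℤ := fun s => if i ≤ s.val ∧ s.val ≤ j then 1 else 0
  have hx1 : ∀ s : Fin t, i ≤ s.val → s.val ≤ j → x s = 1 := fun s h1 h2 => if_pos ⟨h1, h2⟩
  have hx0 : ∀ s : Fin t, 0 ≤ x s := by
    intro s
    by_cases hs : i ≤ s.val ∧ s.val ≤ j
    · simp [x, hs]
    · simp [x, hs]
  have hxpos : ∀ s : Fin t, 0 < x s → i ≤ s.val ∧ s.val ≤ j := by
    intro s hs
    by_contra hcon
    simp [x, hcon] at hs
  have NE : ∀ (s s' : Fin t), s.val ≠ s'.val → s ≠ s' := fun s s' h => Fin.ne_of_val_ne h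
  refine no_nonneg_vector_emb_supp T h.emb htn x hx0 ⟨⟨i, by omega⟩, ?_⟩ ?_
  · rw [hx1 ⟨i, by omega⟩ le_rfl (show i ≤ j by omega)]; norm_num
  · intro s hs
    obtain ⟨hs1, hs2⟩ := hxpos s hs
    have hsm2 : T.IsMinusTwo (h.emb s) := h.m2 _ s.isLt
    by_cases c1 : s.val = i
    · -- neighbours `i + 1` and `j`
      let p : Fin t := ⟨i + 1, by omega⟩
      let q : Fin t := ⟨j, hj⟩
      have hp : p.val = i + 1 := rfl
      have hq : q.val = j := rfl
      refine row_nonneg_two T h.emb x hx0 s hsm2 p q (NE _ _ (by omega))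
        (NE _ _ (by omega)) (NE _ _ (by omega)) ?_ ?_ ?_
      · show T.a (V s.val) (V (i + 1)) ≠ 0
        rw [c1]; exact h.adj i (by omega)
      · show T.a (V s.val) (V j) ≠ 0
        rw [c1]; exact hne
      · rw [hx1 s hs1 hs2, hx1 p (by omega) (by omega), hx1 q (by omega) (by omega)]
        norm_num
    by_cases c2 : s.val = j
    · -- neighbours `j - 1` and `i`
      let p : Fin t := ⟨j - 1, by omega⟩
      let q : Fin t := ⟨i, by omega⟩
      have hp : p.val = j - 1 := rfl
      have hq : q.val = i := rfl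
      refine row_nonneg_two T h.emb x hx0 s hsm2 p q (NE _ _ (by omega))
        (NE _ _ (by omega)) (NE _ _ (by omega)) ?_ ?_ ?_
      · show T.a (V s.val) (V (j - 1)) ≠ 0
        rw [c2]
        have := h.adj' (j - 1) (by omega)
        have e : j - 1 + 1 = j := by omega
        rwa [e] at this
      · show T.a (V s.val) (V i) ≠ 0
        rw [c2]; exact hne'
      · rw [hx1 s hs1 hs2, hx1 p (by omega) (by omega), hx1 q (by omega) (by omega)]
        norm_num
    · -- interior of the cycle
      let p : Fin t := ⟨s.val - 1, by omega⟩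
      let q : Fin t := ⟨s.val + 1, by omega⟩
      have hp : p.val = s.val - 1 := rfl
      have hq : q.val = s.val + 1 := rfl
      refine row_nonneg_two T h.emb x hx0 s hsm2 p q (NE _ _ (by omega))
        (NE _ _ (by omega)) (NE _ _ (by omega)) ?_ ?_ ?_
      · show T.a (V s.val) (V (s.val - 1)) ≠ 0
        have := h.adj' (s.val - 1) (by omega)
        have e : s.val - 1 + 1 = s.val := by omega
        rwa [e] at this
      · show T.a (V s.val) (V (s.val + 1)) ≠ 0
        exact h.adj s.val (by omega)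
      · rw [hx1 s hs1 hs2, hx1 p (by omega) (by omega), hx1 q (by omega) (by omega)]
        norm_num

/-- The two end bonds of a chain of length at least six cannot both be multiple: abstract
certificate. -/
theorem IsChain.not_both_ends {V : ℕ → Fin n} {t : ℕ} (h : IsChain T V t) (htn : t < n)
    (ht : 6 ≤ t) (e0 c0 d0 e1 c1 d1 : ℤ) (he0 : 0 < e0) (he1 : 0 < e1)
    (hc0 : c0 * T.w (V 0) ≤ T.a (V 0) (V 1)) (hd0 : d0 * T.w (V 1) ≤ T.a (V 1) (V 0))
    (hc1 : c1 * T.w (V (t - 1)) ≤ T.a (V (t - 1)) (V (t - 2)))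
    (hd1 : d1 * T.w (V (t - 2)) ≤ T.a (V (t - 2)) (V (t - 1)))
    (r0 : 2 * e0 ≤ c0 * 2) (r1 : 4 ≤ d0 * e0 + 2) (r0' : 2 * e1 ≤ c1 * 2)
    (r1' : 4 ≤ d1 * e1 + 2) : False := by
  let x : Fin t → ℤ := fun s => if s.val = 0 then e0 else if s.val = t - 1 then e1 else 2
  have hxa : ∀ s : Fin t, s.val = 0 → x s = e0 := fun s hs => if_pos hs
  have hxb : ∀ s : Fin t, s.val = t - 1 → x s = e1 := fun s hs => by
    have : ¬ s.val = 0 := by omega
    simp only [x, if_neg this, if_pos hs]
  have hxc : ∀ s : Fin t, s.val ≠ 0 → s.val ≠ t - 1 → x s = 2 := fun s h1 h2 => by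
    simp only [x, if_neg h1, if_neg h2]
  have hxpos : ∀ s : Fin t, 0 < x s := by
    intro s
    by_cases h1 : s.val = 0
    · rw [hxa s h1]; exact he0
    by_cases h2 : s.val = t - 1
    · rw [hxb s h2]; exact he1
    · rw [hxc s h1 h2]; norm_num
  have hx0 : ∀ s : Fin t, 0 ≤ x s := fun s => (hxpos s).le
  have NE : ∀ (s s' : Fin t), s.val ≠ s'.val → s ≠ s' := fun s s' h => Fin.ne_of_val_ne h
  refine no_nonneg_vector_emb T h.emb (by omega) htn x hxpos fun s => ?_
  have hsm2 : T.IsMinusTwo (h.emb s) := h.m2 _ s.isLt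
  have hsv := s.isLt
  by_cases c0' : s.val = 0
  · let p : Fin t := ⟨1, by omega⟩
    have hp : p.val = 1 := rfl
    refine row_nonneg_one_w T h.emb x hx0 s hsm2 p (NE _ _ (by omega)) c0 ?_ ?_
    · show c0 * T.w (V s.val) ≤ T.a (V s.val) (V 1)
      rw [c0']; exact hc0
    · rw [hxa s c0', hxc p (by omega) (by omega)]; linarith
  by_cases c1' : s.val = 1
  · let p : Fin t := ⟨0, by omega⟩
    let q : Fin t := ⟨2, by omega⟩
    have hp : p.val = 0 := rfl
    have hq : q.val = 2 := rfl
    refine row_nonneg_two_w T h.emb x hx0 s hsm2 p q (NE _ _ (by omega)) (NE _ _ (by omega))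
      (NE _ _ (by omega)) d0 1 ?_ ?_ ?_
    · show d0 * T.w (V s.val) ≤ T.a (V s.val) (V 0)
      rw [c1']; exact hd0
    · show 1 * T.w (V s.val) ≤ T.a (V s.val) (V 2)
      rw [c1', one_mul]
      exact (w_le_of_ne_zero T (fun hh => by have := h.inj 1 2 (by omega) (by omega) hh; omega)
        (h.adj 1 (by omega))).1
    · rw [hxc s (by omega) (by omega), hxa p hp, hxc q (by omega) (by omega)]; linarith
  by_cases c2' : s.val + 3 ≤ t
  · -- `2 ≤ s ≤ t - 3`
    let p : Fin t := ⟨s.val - 1, by omega⟩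
    let q : Fin t := ⟨s.val + 1, by omega⟩
    have hp : p.val = s.val - 1 := rfl
    have hq : q.val = s.val + 1 := rfl
    refine row_nonneg_two T h.emb x hx0 s hsm2 p q (NE _ _ (by omega)) (NE _ _ (by omega))
      (NE _ _ (by omega)) ?_ ?_ ?_
    · show T.a (V s.val) (V (s.val - 1)) ≠ 0
      have := h.adj' (s.val - 1) (by omega)
      have e : s.val - 1 + 1 = s.val := by omega
      rwa [e] at this
    · show T.a (V s.val) (V (s.val + 1)) ≠ 0
      exact h.adj s.val (by omega)
    · rw [hxc s (by omega) (by omega), hxc p (by omega) (by omega), hxc q (by omega) (by omega)]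
      norm_num
  by_cases c3' : s.val + 2 = t
  · -- `s = t - 2`
    let p : Fin t := ⟨t - 1, by omega⟩
    let q : Fin t := ⟨t - 3, by omega⟩
    have hp : p.val = t - 1 := rfl
    have hq : q.val = t - 3 := rfl
    have es : s.val = t - 2 := by omega
    refine row_nonneg_two_w T h.emb x hx0 s hsm2 p q (NE _ _ (by omega)) (NE _ _ (by omega))
      (NE _ _ (by omega)) d1 1 ?_ ?_ ?_
    · show d1 * T.w (V s.val) ≤ T.a (V s.val) (V (t - 1))
      rw [es]; exact hd1
    · show 1 * T.w (V s.val) ≤ T.a (V s.val) (V (t - 3))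
      rw [es, one_mul]
      have hadj := h.adj' (t - 3) (by omega)
      have e : t - 3 + 1 = t - 2 := by omega
      rw [e] at hadj
      exact (w_le_of_ne_zero T (fun hh => by
        have := h.inj (t - 2) (t - 3) (by omega) (by omega) hh; omega) hadj).1
    · rw [hxc s (by omega) (by omega), hxb p hp, hxc q (by omega) (by omega)]; linarith
  · -- `s = t - 1`
    have es : s.val = t - 1 := by omega
    let p : Fin t := ⟨t - 2, by omega⟩
    have hp : p.val = t - 2 := rfl
    refine row_nonneg_one_w T h.emb x hx0 s hsm2 p (NE _ _ (by omega)) c1 ?_ ?_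
    · show c1 * T.w (V s.val) ≤ T.a (V s.val) (V (t - 2))
      rw [es]; exact hc1
    · rw [hxb s es, hxc p (by omega) (by omega)]; linarith

/-- A multiple end bond, as data for the certificate. -/
theorem EndBond.multiple_data {i j : Fin n} (hb : EndBond T i j) (hns : ¬ (T.w i = T.w j ∧ T.a i j = T.w i)) :
    ∃ e c d : ℤ, 0 < e ∧ c * T.w i ≤ T.a i j ∧ d * T.w j ≤ T.a j i ∧ 2 * e ≤ c * 2 ∧
      4 ≤ d * e + 2 := by
  have hc := a_comm T j i
  rcases hb with hb | hb | hb
  · exact absurd hb hns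
  · exact ⟨1, 1, 2, by norm_num, by linarith, by linarith, by norm_num, by norm_num⟩
  · exact ⟨2, 2, 1, by norm_num, by linarith, by linarith, by norm_num, by norm_num⟩

/-- One of the two end bonds of a chain of length at least six is simple. -/
theorem IsChain.left_or_right_simple {V : ℕ → Fin n} {t : ℕ} (h : IsChain T V t) (htn : t < n)
    (ht : 6 ≤ t) :
    (T.w (V 0) = T.w (V 1) ∧ T.a (V 0) (V 1) = T.w (V 0)) ∨
      (T.w (V (t - 1)) = T.w (V (t - 2)) ∧ T.a (V (t - 1)) (V (t - 2)) = T.w (V (t - 1))) := by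
  by_contra hcon
  rw [not_or] at hcon
  obtain ⟨e0, c0, d0, he0, hc0, hd0, r0, r1⟩ := (h.left_end htn (by omega)).multiple_data hcon.1
  obtain ⟨e1, c1, d1, he1, hc1, hd1, r0', r1'⟩ :=
    (h.right_end htn (by omega)).multiple_data hcon.2
  exact h.not_both_ends htn ht e0 c0 d0 e1 c1 d1 he0 he1 hc0 hd0 hc1 hd1 r0 r1 r0' r1'

/-- If the left end bond is simple, all members but possibly the last have the same weight,
and all bonds but possibly the last are simple. -/
theorem IsChain.weights_of_left_simple {V : ℕ → Fin n} {t : ℕ} (h : IsChain T V t) (htn : t < n)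
    (ht : 5 ≤ t) (hl : T.w (V 0) = T.w (V 1) ∧ T.a (V 0) (V 1) = T.w (V 0)) :
    (∀ j, j + 1 < t → T.w (V j) = T.w (V 0)) ∧
      (∀ j, j + 2 < t → T.a (V j) (V (j + 1)) = T.w (V 0)) := by
  have hw : ∀ j, j + 1 < t → T.w (V j) = T.w (V 0) := by
    intro j
    induction j with
    | zero => intro _; rfl
    | succ j ih =>
      intro hj
      rcases Nat.eq_zero_or_pos j with rfl | hjpos
      · exact hl.1.symm
      · have := (h.interior_simple htn j hjpos (by omega) ht).2
        rw [← this]; exact ih (by omega)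
  refine ⟨hw, ?_⟩
  intro j hj
  rcases Nat.eq_zero_or_pos j with rfl | hjpos
  · exact hl.2
  · rw [(h.interior_simple htn j hjpos hj ht).1]
    exact hw j (by omega)

end Groth.Agent.Lib.Helper36.NT
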