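import Groth.Agent.Lib.Helper36.NTSub

/-!
Forbidden configurations of (-2)-indices in a numerical type (helper36).
-/

set_option autoImplicit false
open Finset

namespace Groth.Agent.Lib.Helper36.NT

open Models Models.NumericalType

variable {n : ℕ} (T : Models.NumericalType n)

/-- Generic exclusion of a configuration of `(-2)`-indices: if the listed edges `E` have nonzero
intersection numbers, and `x` is a positive vector with `2 x_s ≤ ∑_{t ∼ s} x_t` for all `s`
(the sum over the listed neighbours), then the configuration cannot be a proper part of `T`. -/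
theorem no_config {k : ℕ} (v : Fin k ↪ Fin n) (hk : 0 < k) (hkn : k < n)
    (hv : ∀ s, T.IsMinusTwo (v s)) (E : List (Fin k × Fin k))
    (hE : ∀ e ∈ E, e.1 ≠ e.2 ∧ T.a (v e.1) (v e.2) ≠ 0)
    (x : Fin k → ℤ) (hx : ∀ s, 0 < x s)
    (hrow : ∀ s, 2 * x s ≤ ∑ t, if (s, t) ∈ E ∨ (t, s) ∈ E then x t else 0) : False := by
  classical
  refine no_nonneg_vector_emb T v hk hkn x hx fun s => ?_
  have hws := T.w_pos (v s)
  -- lower bound for each term
  have hterm : ∀ t ∈ (univ : Finset (Fin k)),
      (if t = s then -2 * T.w (v s) * x s else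
        if (s, t) ∈ E ∨ (t, s) ∈ E then T.w (v s) * x t else 0) ≤ T.a (v s) (v t) * x t := by
    intro t _
    by_cases hts : t = s
    · subst hts
      simp only [if_true]
      rw [(hv t).2]
    · simp only [if_neg hts]
      have hne : v s ≠ v t := fun h => hts (v.injective h).symm
      split_ifs with hadj
      · have hnz : T.a (v s) (v t) ≠ 0 := by
          rcases hadj with h | h
          · exact (hE _ h).2
          · have := (hE _ h).2
            rwa [a_comm T (v t) (v s)] at this
        exact mul_le_mul_of_nonneg_right (w_le_of_ne_zero T hne hnz).1 (hx t).le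
      · exact mul_nonneg (T.offDiag_nonneg _ _ hne) (hx t).le
  refine le_trans ?_ (Finset.sum_le_sum hterm)
  -- compute the lower bound
  have hss : ¬ ((s, s) ∈ E ∨ (s, s) ∈ E) := by
    rintro (h | h) <;> exact (hE _ h).1 rfl
  have : ∑ t, (if t = s then -2 * T.w (v s) * x s else
        if (s, t) ∈ E ∨ (t, s) ∈ E then T.w (v s) * x t else 0) =
      T.w (v s) * ((∑ t, if (s, t) ∈ E ∨ (t, s) ∈ E then x t else 0) - 2 * x s) := by
    rw [mul_sub, Finset.mul_sum]
    rw [← Finset.add_sum_erase univ _ (mem_univ s), ← Finset.add_sum_erase univ _ (mem_univ s)]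
    simp only [if_true, if_neg hss]
    have : ∀ t ∈ univ.erase s, (if t = s then -2 * T.w (v s) * x s else
        if (s, t) ∈ E ∨ (t, s) ∈ E then T.w (v s) * x t else 0) =
        T.w (v s) * (if (s, t) ∈ E ∨ (t, s) ∈ E then x t else 0) := by
      intro t ht
      rw [if_neg (ne_of_mem_erase ht)]
      split_ifs <;> simp
    rw [Finset.sum_congr rfl this]
    ring
  rw [this]
  exact mul_nonneg hws.le (by linarith [hrow s])

end Groth.Agent.Lib.Helper36.NT
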