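import Groth.Agent.Lib.Helper36.NTAffCtx

/-!
Embedded diagrams in a numerical type all of whose indices are `(-2)`-indices, and the
"growth" technique for classifying them (helper36).

A diagram on `k` nodes is a function `B : Fin k → Fin k → ℤ` (only off-diagonal entries matter).
`Emb b B e` says that `e : Fin k → Fin n` is injective and `b (e i) (e j) = B i j` off the diagonal.
-/

set_option autoImplicit false
open Finset

namespace Groth.Agent.Lib.Helper36.NT

open Models Models.NumericalType

variable {n : ℕ} {T : Models.NumericalType n} {b : Fin n → Fin n → ℤ}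

/-- `B` is a lower bound for the diagram induced by `b` along the injective map `e`. -/
structure EmbLE {k : ℕ} (b : Fin n → Fin n → ℤ) (B : Fin k → Fin k → ℤ) (e : Fin k → Fin n) :
    Prop where
  inj : Function.Injective e
  le : ∀ i j, i ≠ j → B i j ≤ b (e i) (e j)

/-- `B` is the diagram induced by `b` along the injective map `e`. -/
structure Emb {k : ℕ} (b : Fin n → Fin n → ℤ) (B : Fin k → Fin k → ℤ) (e : Fin k → Fin n) :
    Prop where
  inj : Function.Injective e
  eq : ∀ i j, i ≠ j → b (e i) (e j) = B i j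

/-- Append a value to a tuple. -/
def snoc {k : ℕ} (e : Fin k → Fin n) (v : Fin n) : Fin (k + 1) → Fin n :=
  fun i => if h : i.val < k then e ⟨i.val, h⟩ else v

/-- Extend a diagram by one node, with new column `p` and new row `q`. -/
def ext {k : ℕ} (B : Fin k → Fin k → ℤ) (p q : Fin k → ℤ) : Fin (k + 1) → Fin (k + 1) → ℤ :=
  fun i j =>
    if hi : i.val < k then
      (if hj : j.val < k then B ⟨i.val, hi⟩ ⟨j.val, hj⟩ else p ⟨i.val, hi⟩)
    else (if hj : j.val < k then q ⟨j.val, hj⟩ else 0)

theorem snoc_injective {k : ℕ} {e : Fin k → Fin n} (he : Function.Injective e) {v : Fin n}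
    (hv : ∀ i, e i ≠ v) : Function.Injective (snoc e v) := by
  intro i j hij
  unfold snoc at hij
  by_cases hi : i.val < k <;> by_cases hj : j.val < k
  · rw [dif_pos hi, dif_pos hj] at hij
    have := he hij
    exact Fin.ext (by simpa using congrArg Fin.val this)
  · rw [dif_pos hi, dif_neg hj] at hij
    exact absurd hij (hv _)
  · rw [dif_neg hi, dif_pos hj] at hij
    exact absurd hij.symm (hv _)
  · exact Fin.ext (by have := i.isLt; have := j.isLt; omega)

namespace Emb

variable {k : ℕ} {B : Fin k → Fin k → ℤ} {e : Fin k → Fin n}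

theorem toLE (E : Emb b B e) : EmbLE b B e := ⟨E.inj, fun i j h => (E.eq i j h).ge⟩

theorem card_le (E : Emb b B e) : k ≤ n := by
  simpa using Fintype.card_le_of_injective e E.inj

/-- Extend an embedded diagram by a new node, knowing lower bounds for the new entries. -/
theorem snocLE (E : Emb b B e) {v : Fin n} (hv : ∀ i, e i ≠ v) {p q : Fin k → ℤ}
    (hp : ∀ i, p i ≤ b (e i) v) (hq : ∀ i, q i ≤ b v (e i)) :
    EmbLE b (ext B p q) (snoc e v) := by
  refine ⟨snoc_injective E.inj hv, fun i j hij => ?_⟩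
  unfold ext snoc
  by_cases hi : i.val < k <;> by_cases hj : j.val < k
  · rw [dif_pos hi, dif_pos hj, dif_pos hi, dif_pos hj]
    refine (E.eq _ _ ?_).ge
    intro h
    exact hij (Fin.ext (by simpa using congrArg Fin.val h))
  · rw [dif_pos hi, dif_neg hj, dif_pos hi, dif_neg hj]
    exact hp _
  · rw [dif_neg hi, dif_pos hj, dif_neg hi, dif_pos hj]
    exact hq _
  · exact absurd (Fin.ext (by have := i.isLt; have := j.isLt; omega)) hij

/-- Extend an embedded diagram by a new node, knowing the new entries. -/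
theorem snoc (E : Emb b B e) {v : Fin n} (hv : ∀ i, e i ≠ v) {p q : Fin k → ℤ}
    (hp : ∀ i, b (e i) v = p i) (hq : ∀ i, b v (e i) = q i) :
    Emb b (ext B p q) (NT.snoc e v) := by
  refine ⟨snoc_injective E.inj hv, fun i j hij => ?_⟩
  unfold ext NT.snoc
  by_cases hi : i.val < k <;> by_cases hj : j.val < k
  · rw [dif_pos hi, dif_pos hj, dif_pos hi, dif_pos hj]
    refine E.eq _ _ ?_
    intro h
    exact hij (Fin.ext (by simpa using congrArg Fin.val h))
  · rw [dif_pos hi, dif_neg hj, dif_pos hi, dif_neg hj]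
    exact hp _
  · rw [dif_neg hi, dif_pos hj, dif_neg hi, dif_pos hj]
    exact hq _
  · exact absurd (Fin.ext (by have := i.isLt; have := j.isLt; omega)) hij

/-- Relabel the nodes of an embedded diagram. -/
theorem perm (E : Emb b B e) (π : Fin k → Fin k) (hπ : ∀ i j, π i = π j → i = j)
    (B' : Fin k → Fin k → ℤ) (hB' : ∀ i j, i ≠ j → B' i j = B (π i) (π j)) :
    Emb b B' (fun i => e (π i)) := by
  refine ⟨fun i j hij => hπ i j (E.inj hij), fun i j hij => ?_⟩
  rw [hB' i j hij]
  exact E.eq _ _ fun h => hij (hπ i j h)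

end Emb

namespace AffCtx

/-- Growth: a proper nonempty set of nodes has a neighbour outside. -/
theorem grow (C : AffCtx T b) {k : ℕ} {e : Fin k → Fin n} (he : Function.Injective e)
    (hk0 : 0 < k) (hk : k < n) : ∃ v : Fin n, (∀ i, e i ≠ v) ∧ ∃ i, 1 ≤ b (e i) v := by
  classical
  let I : Finset (Fin n) := univ.image e
  have hI : I.Nonempty := ⟨e ⟨0, hk0⟩, Finset.mem_image_of_mem e (mem_univ _)⟩
  have hne : I ≠ univ := by
    intro h
    have h1 : I.card = k := by
      simp only [I]
      rw [Finset.card_image_of_injective _ he]; simp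
    rw [h, Finset.card_univ, Fintype.card_fin] at h1
    omega
  obtain ⟨s, hs, v, hv, hsv⟩ := T.connected I hI hne
  obtain ⟨i, -, rfl⟩ := Finset.mem_image.mp hs
  have hiv : ∀ j, e j ≠ v := fun j hj => hv (hj ▸ Finset.mem_image_of_mem e (mem_univ _))
  refine ⟨v, hiv, i, ?_⟩
  have h1 := C.hb (e i) v (hiv i)
  have h2 := C.nonneg (hiv i)
  rcases h2.lt_or_eq with h3 | h3
  · omega
  · rw [← h3, zero_mul] at h1
    exact absurd h1 hsv

variable {k : ℕ} {B : Fin k → Fin k → ℤ} {e : Fin k → Fin n}

/-- Certificate: an embedded lower bound diagram carrying a non-negative vector `x` with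
`B x ≥ 2 x` on its support, where either `x` has a zero or some inequality is strict. -/
theorem cert (C : AffCtx T b) (E : EmbLE b B e) (x : Fin k → ℤ) (hx : ∀ i, 0 ≤ x i)
    (hx' : ∃ i, 0 < x i)
    (hrow : ∀ i, 0 < x i → 2 * x i ≤ ∑ j, if j = i then 0 else B i j * x j)
    (hs : (∃ i, x i = 0) ∨ ∃ i, 2 * x i < ∑ j, if j = i then 0 else B i j * x j) : False := by
  classical
  have hkn : k ≤ n := by simpa using Fintype.card_le_of_injective e E.inj
  rcases hkn.lt_or_eq with hlt | rfl
  · exact no_config_b T ⟨e, E.inj⟩ hlt (fun s => C.hm2 _) (fun s t => b (e s) (e t))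
      (fun s t hst => C.hb _ _ (E.inj.ne hst)) B E.le x hx hx' hrow
  · have hbij : Function.Bijective e := Finite.injective_iff_bijective.mp E.inj
    let σ : Fin k ≃ Fin k := Equiv.ofBijective e hbij
    have hσ : ∀ i, σ i = e i := fun i => rfl
    have hsum : ∀ (i : Fin k) (f : Fin k → ℤ),
        (∑ t, if t = σ i then 0 else B (σ.symm (σ i)) (σ.symm t) * f (σ.symm t)) =
          ∑ j, if j = i then 0 else B i j * f j := by
      intro i f
      rw [← Equiv.sum_comp σ]
      refine Finset.sum_congr rfl fun j _ => ?_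
      simp only [Equiv.symm_apply_apply, EmbeddingLike.apply_eq_iff_eq]
    have hB : ∀ s t, s ≠ t → B (σ.symm s) (σ.symm t) ≤ b s t := by
      intro s t hst
      have := E.le (σ.symm s) (σ.symm t) (fun h => hst (σ.symm.injective h))
      rwa [← hσ, ← hσ, Equiv.apply_symm_apply, Equiv.apply_symm_apply] at this
    rcases hs with ⟨i0, hi0⟩ | ⟨i0, hi0⟩
    · refine C.too_big (fun s t => B (σ.symm s) (σ.symm t)) hB (fun s => x (σ.symm s))
        (fun s => hx _) ?_ ⟨σ i0, by simpa using hi0⟩ ?_
      · obtain ⟨i, hi⟩ := hx'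
        exact ⟨σ i, by simpa using hi⟩
      · intro s hs
        obtain ⟨i, rfl⟩ := σ.surjective s
        rw [hsum i x]
        simp only [Equiv.symm_apply_apply] at hs ⊢
        exact hrow i hs
    · by_cases hz : ∃ i, x i = 0
      · obtain ⟨i1, hi1⟩ := hz
        refine C.too_big (fun s t => B (σ.symm s) (σ.symm t)) hB (fun s => x (σ.symm s))
          (fun s => hx _) ?_ ⟨σ i1, by simpa using hi1⟩ ?_
        · obtain ⟨i, hi⟩ := hx'
          exact ⟨σ i, by simpa using hi⟩
        · intro s hs
          obtain ⟨i, rfl⟩ := σ.surjective s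
          rw [hsum i x]
          simp only [Equiv.symm_apply_apply] at hs ⊢
          exact hrow i hs
      · simp only [not_exists] at hz
        have hpos : ∀ i, 0 < x i := fun i => lt_of_le_of_ne (hx i) (Ne.symm (hz i))
        refine C.too_big_whole (fun s t => B (σ.symm s) (σ.symm t)) hB (fun s => x (σ.symm s))
          (fun s => hpos _) ?_ ?_
        · intro s
          obtain ⟨i, rfl⟩ := σ.surjective s
          rw [hsum i x]
          simp only [Equiv.symm_apply_apply]
          exact hrow i (hpos i)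
        · refine ⟨σ i0, ?_⟩
          rw [hsum i0 x]
          simp only [Equiv.symm_apply_apply]
          exact hi0

/-- Certificate of finite type: the whole type cannot be a diagram carrying a positive vector
`y` with `B y ≤ 2 y`, not everywhere an equality. -/
theorem fin_cert (C : AffCtx T b) (E : Emb b B e) (hk : n ≤ k) (y : Fin k → ℤ)
    (hy : ∀ i, 0 < y i)
    (hrow : ∀ i, (∑ j, if j = i then 0 else B i j * y j) ≤ 2 * y i)
    (hs : ∃ i, (∑ j, if j = i then 0 else B i j * y j) < 2 * y i) : False := by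
  classical
  have hkn : k ≤ n := E.card_le
  obtain rfl : k = n := le_antisymm hkn hk
  have hbij : Function.Bijective e := Finite.injective_iff_bijective.mp E.inj
  let σ : Fin k ≃ Fin k := Equiv.ofBijective e hbij
  have hσ : ∀ i, σ i = e i := fun i => rfl
  have hsum : ∀ (i : Fin k) (f : Fin k → ℤ),
      (∑ t, if t = σ i then 0 else B (σ.symm (σ i)) (σ.symm t) * f (σ.symm t)) =
        ∑ j, if j = i then 0 else B i j * f j := by
    intro i f
    rw [← Equiv.sum_comp σ]
    refine Finset.sum_congr rfl fun j _ => ?_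
    simp only [Equiv.symm_apply_apply, EmbeddingLike.apply_eq_iff_eq]
  have hB : ∀ s t, s ≠ t → b s t ≤ B (σ.symm s) (σ.symm t) := by
    intro s t hst
    have := E.eq (σ.symm s) (σ.symm t) (fun h => hst (σ.symm.injective h))
    rw [← hσ, ← hσ, Equiv.apply_symm_apply, Equiv.apply_symm_apply] at this
    exact this.le
  refine C.too_small (fun s t => B (σ.symm s) (σ.symm t)) hB (fun s => y (σ.symm s))
    (fun s => hy _) ?_ ?_
  · intro s
    obtain ⟨i, rfl⟩ := σ.surjective s
    rw [hsum i y]
    simp only [Equiv.symm_apply_apply]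
    exact hrow i
  · obtain ⟨i0, hi0⟩ := hs
    refine ⟨σ i0, ?_⟩
    rw [hsum i0 y]
    simp only [Equiv.symm_apply_apply]
    exact hi0

/-- An embedded diagram carrying a positive vector `x` with `B x ≥ 2 x` is the whole type. -/
theorem eq_card_of_emb (C : AffCtx T b) (E : Emb b B e) (x : Fin k → ℤ) (hx : ∀ i, 0 < x i)
    (hk0 : 0 < k)
    (hrow : ∀ i, 2 * x i ≤ ∑ j, if j = i then 0 else B i j * x j) : k = n := by
  have hkn : k ≤ n := E.card_le
  rcases hkn.lt_or_eq with hlt | h
  · exact (no_config_b T ⟨e, E.inj⟩ hlt (fun s => C.hm2 _) (fun s t => b (e s) (e t))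
      (fun s t hst => C.hb _ _ (E.inj.ne hst)) B E.toLE.le x (fun i => (hx i).le)
      ⟨⟨0, hk0⟩, hx _⟩ (fun i _ => hrow i)).elim
  · exact h

/-- The row relation along a bijective embedding. -/
theorem row_emb (C : AffCtx T b) (E : Emb b B e) (hk : n ≤ k) (i : Fin k) :
    (∑ j, if j = i then 0 else B i j * T.m (e j)) = 2 * T.m (e i) := by
  classical
  have hkn : k ≤ n := E.card_le
  obtain rfl : k = n := le_antisymm hkn hk
  have hbij : Function.Bijective e := Finite.injective_iff_bijective.mp E.inj
  let σ : Fin k ≃ Fin k := Equiv.ofBijective e hbij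
  have hσ : ∀ i, σ i = e i := fun i => rfl
  have h := C.row (e i)
  rw [← Equiv.sum_comp σ] at h
  rw [← h]
  refine Finset.sum_congr rfl fun j _ => ?_
  rw [hσ]
  by_cases hji : j = i
  · rw [if_pos hji, if_pos (by rw [hji])]
  · rw [if_neg hji, if_neg (fun h => hji (E.inj h)), E.eq i j (Ne.symm hji)]

end AffCtx

/-- The type is one of the diagrams of the family `K`. -/
def IsAffOf (K : (k : ℕ) → (Fin k → Fin k → ℤ) → Prop) (b : Fin n → Fin n → ℤ) : Prop :=
  ∃ (k : ℕ) (B : Fin k → Fin k → ℤ) (e : Fin k → Fin n), K k B ∧ k = n ∧ Emb b B e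

theorem IsAffOf.of_emb {K : (k : ℕ) → (Fin k → Fin k → ℤ) → Prop} (C : AffCtx T b) {k : ℕ}
    {B : Fin k → Fin k → ℤ} {e : Fin k → Fin n} (hK : K k B) (E : Emb b B e) (hk0 : 0 < k)
    (x : Fin k → ℤ) (hx : ∀ i, 0 < x i)
    (hrow : ∀ i, 2 * x i ≤ ∑ j, if j = i then 0 else B i j * x j) : IsAffOf K b :=
  ⟨k, B, e, hK, C.eq_card_of_emb E x hx hk0 hrow, E⟩

end Groth.Agent.Lib.Helper36.NT
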