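import Groth.Agent.Lib.Helper36.NTSub

/-!
Row estimates for configurations of (-2)-indices in a numerical type (helper36).
-/

set_option autoImplicit false
open Finset

namespace Groth.Agent.Lib.Helper36.NT

open Models Models.NumericalType

variable {n : ℕ} (T : Models.NumericalType n)

/-- Lower bound of a row sum by the diagonal term and the terms of a set `N` of other indices. -/
theorem row_lower_bound {k : ℕ} (v : Fin k ↪ Fin n) (x : Fin k → ℤ) (hx : ∀ s, 0 ≤ x s)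
    (s : Fin k) (N : Finset (Fin k)) (hN : s ∉ N) :
    T.a (v s) (v s) * x s + ∑ t ∈ N, T.a (v s) (v t) * x t ≤ ∑ t, T.a (v s) (v t) * x t := by
  classical
  rw [← Finset.add_sum_erase univ _ (mem_univ s)]
  refine add_le_add le_rfl ?_
  refine Finset.sum_le_sum_of_subset_of_nonneg ?_ ?_
  · intro t ht
    exact Finset.mem_erase.mpr ⟨fun h => hN (h ▸ ht), mem_univ t⟩
  · intro t ht _
    have hne : v s ≠ v t := fun h => (ne_of_mem_erase ht) (v.injective h).symm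
    exact mul_nonneg (T.offDiag_nonneg _ _ hne) (hx t)

/-- If `s` is a `(-2)`-index, all members of `N` are neighbours of `s` and
`2 x_s ≤ ∑_{t ∈ N} x_t`, then the `s`-th row sum is non-negative. -/
theorem row_nonneg_of_neighbours {k : ℕ} (v : Fin k ↪ Fin n) (x : Fin k → ℤ) (hx : ∀ s, 0 ≤ x s)
    (s : Fin k) (hs : T.IsMinusTwo (v s)) (N : Finset (Fin k))
    (hN : ∀ t ∈ N, t ≠ s ∧ T.a (v s) (v t) ≠ 0) (h2 : 2 * x s ≤ ∑ t ∈ N, x t) :
    0 ≤ ∑ t, T.a (v s) (v t) * x t := by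
  classical
  have hsN : s ∉ N := fun h => (hN s h).1 rfl
  refine le_trans ?_ (row_lower_bound T v x hx s N hsN)
  have hws := T.w_pos (v s)
  have h1 : ∑ t ∈ N, T.w (v s) * x t ≤ ∑ t ∈ N, T.a (v s) (v t) * x t := by
    refine Finset.sum_le_sum fun t ht => ?_
    have hne : v s ≠ v t := fun h => (hN t ht).1 (v.injective h).symm
    exact mul_le_mul_of_nonneg_right (w_le_of_ne_zero T hne (hN t ht).2).1 (hx t)
  rw [hs.2]
  rw [← Finset.mul_sum] at h1
  have : 0 ≤ T.w (v s) * (∑ t ∈ N, x t - 2 * x s) := mul_nonneg hws.le (by linarith)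
  linarith

/-- One neighbour. -/
theorem row_nonneg_one {k : ℕ} (v : Fin k ↪ Fin n) (x : Fin k → ℤ) (hx : ∀ s, 0 ≤ x s)
    (s : Fin k) (hs : T.IsMinusTwo (v s)) (p : Fin k) (hp : p ≠ s) (hap : T.a (v s) (v p) ≠ 0)
    (h2 : 2 * x s ≤ x p) : 0 ≤ ∑ t, T.a (v s) (v t) * x t := by
  classical
  refine row_nonneg_of_neighbours T v x hx s hs {p} ?_ ?_
  · intro t ht
    rw [Finset.mem_singleton] at ht
    subst ht
    exact ⟨hp, hap⟩
  · simpa using h2

/-- Two neighbours. -/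
theorem row_nonneg_two {k : ℕ} (v : Fin k ↪ Fin n) (x : Fin k → ℤ) (hx : ∀ s, 0 ≤ x s)
    (s : Fin k) (hs : T.IsMinusTwo (v s)) (p q : Fin k) (hp : p ≠ s) (hq : q ≠ s) (hpq : p ≠ q)
    (hap : T.a (v s) (v p) ≠ 0) (haq : T.a (v s) (v q) ≠ 0)
    (h2 : 2 * x s ≤ x p + x q) : 0 ≤ ∑ t, T.a (v s) (v t) * x t := by
  classical
  refine row_nonneg_of_neighbours T v x hx s hs {p, q} ?_ ?_
  · intro t ht
    rw [Finset.mem_insert, Finset.mem_singleton] at ht
    rcases ht with rfl | rfl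
    · exact ⟨hp, hap⟩
    · exact ⟨hq, haq⟩
  · rw [Finset.sum_pair hpq]; exact h2

/-- Three neighbours. -/
theorem row_nonneg_three {k : ℕ} (v : Fin k ↪ Fin n) (x : Fin k → ℤ) (hx : ∀ s, 0 ≤ x s)
    (s : Fin k) (hs : T.IsMinusTwo (v s)) (p q r : Fin k) (hp : p ≠ s) (hq : q ≠ s) (hr : r ≠ s)
    (hpq : p ≠ q) (hpr : p ≠ r) (hqr : q ≠ r)
    (hap : T.a (v s) (v p) ≠ 0) (haq : T.a (v s) (v q) ≠ 0) (har : T.a (v s) (v r) ≠ 0)
    (h2 : 2 * x s ≤ x p + x q + x r) : 0 ≤ ∑ t, T.a (v s) (v t) * x t := by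
  classical
  refine row_nonneg_of_neighbours T v x hx s hs {p, q, r} ?_ ?_
  · intro t ht
    rw [Finset.mem_insert, Finset.mem_insert, Finset.mem_singleton] at ht
    rcases ht with rfl | rfl | rfl
    · exact ⟨hp, hap⟩
    · exact ⟨hq, haq⟩
    · exact ⟨hr, har⟩
  · rw [Finset.sum_insert (by simp [hpq, hpr]), Finset.sum_pair hqr]
    linarith

end Groth.Agent.Lib.Helper36.NT
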