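import Groth.Agent.S7353
import Groth.Agent.Lib.Helper36.NTRow

/-!
Consequences of the classification of chains of five (-2)-indices, and weighted row estimates
(helper36).
-/

set_option autoImplicit false
open Finset

namespace Groth.Agent.Lib.Helper36.NT

open Models Models.NumericalType

variable {n : ℕ} (T : Models.NumericalType n)

/-- The trichotomy for a bond `(i, j)` seen from the end vertex `i`: simple, or `w_i = 2 w_j`, or
`w_j = 2 w_i`. -/
def EndBond (i j : Fin n) : Prop :=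
  (T.w i = T.w j ∧ T.a i j = T.w i) ∨ (T.w i = 2 * T.w j ∧ T.a i j = T.w i) ∨
    (T.w j = 2 * T.w i ∧ T.a i j = T.w j)

/-- In a chain of five `(-2)`-indices the two middle bonds are simple and the end bonds satisfy the
trichotomy. -/
theorem five_chain_facts (hn : 5 < n) (v : Fin 5 ↪ Fin n) (hv : ∀ j, T.IsMinusTwo (v j))
    (h01 : T.a (v 0) (v 1) ≠ 0) (h12 : T.a (v 1) (v 2) ≠ 0) (h23 : T.a (v 2) (v 3) ≠ 0)
    (h34 : T.a (v 3) (v 4) ≠ 0) :
    (T.a (v 1) (v 2) = T.w (v 1) ∧ T.w (v 1) = T.w (v 2)) ∧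
    (T.a (v 2) (v 3) = T.w (v 2) ∧ T.w (v 2) = T.w (v 3)) ∧
    EndBond T (v 0) (v 1) ∧ EndBond T (v 4) (v 3) := by
  obtain ⟨-, u, w, hor, hcl⟩ := Groth.Agent.S7353.result T hn v hv h01 h12 h23 h34
  have c10 := a_comm T (v 1) (v 0)
  have c21 := a_comm T (v 2) (v 1)
  have c32 := a_comm T (v 3) (v 2)
  have c43 := a_comm T (v 4) (v 3)
  unfold EndBond
  rcases hor with hor | hor
  · rw [hor 0, hor 1, hor 2, hor 3, hor 4] at hcl
    rcases hcl with h | h | h
    · obtain ⟨w0, w1, w2, w3, w4, a01, a12, a23, a34, -⟩ := h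
      exact ⟨⟨by linarith, by linarith⟩, ⟨by linarith, by linarith⟩,
        Or.inl ⟨by linarith, by linarith⟩, Or.inl ⟨by linarith, by linarith⟩⟩
    · obtain ⟨w0, w1, w2, w3, w4, a01, a12, a23, a34, -⟩ := h
      exact ⟨⟨by linarith, by linarith⟩, ⟨by linarith, by linarith⟩,
        Or.inl ⟨by linarith, by linarith⟩, Or.inr (Or.inl ⟨by linarith, by linarith⟩)⟩
    · obtain ⟨w0, w1, w2, w3, w4, a01, a12, a23, a34, -⟩ := h
      exact ⟨⟨by linarith, by linarith⟩, ⟨by linarith, by linarith⟩,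
        Or.inl ⟨by linarith, by linarith⟩, Or.inr (Or.inr ⟨by linarith, by linarith⟩)⟩
  · have r0 : (Fin.rev 0 : Fin 5) = 4 := rfl
    have r1 : (Fin.rev 1 : Fin 5) = 3 := rfl
    have r2 : (Fin.rev 2 : Fin 5) = 2 := rfl
    have r3 : (Fin.rev 3 : Fin 5) = 1 := rfl
    have r4 : (Fin.rev 4 : Fin 5) = 0 := rfl
    rw [hor 0, hor 1, hor 2, hor 3, hor 4, r0, r1, r2, r3, r4] at hcl
    rcases hcl with h | h | h
    · obtain ⟨w0, w1, w2, w3, w4, a01, a12, a23, a34, -⟩ := h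
      exact ⟨⟨by linarith, by linarith⟩, ⟨by linarith, by linarith⟩,
        Or.inl ⟨by linarith, by linarith⟩, Or.inl ⟨by linarith, by linarith⟩⟩
    · obtain ⟨w0, w1, w2, w3, w4, a01, a12, a23, a34, -⟩ := h
      exact ⟨⟨by linarith, by linarith⟩, ⟨by linarith, by linarith⟩,
        Or.inr (Or.inl ⟨by linarith, by linarith⟩), Or.inl ⟨by linarith, by linarith⟩⟩
    · obtain ⟨w0, w1, w2, w3, w4, a01, a12, a23, a34, -⟩ := h
      exact ⟨⟨by linarith, by linarith⟩, ⟨by linarith, by linarith⟩,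
        Or.inr (Or.inr ⟨by linarith, by linarith⟩), Or.inl ⟨by linarith, by linarith⟩⟩

/-- Weighted version of `row_nonneg_of_neighbours`: each neighbour `t ∈ N` comes with a
coefficient `c t` such that `c t * w (v s) ≤ a (v s) (v t)`. -/
theorem row_nonneg_weighted {k : ℕ} (v : Fin k ↪ Fin n) (x : Fin k → ℤ) (hx : ∀ s, 0 ≤ x s)
    (s : Fin k) (hs : T.IsMinusTwo (v s)) (N : Finset (Fin k)) (c : Fin k → ℤ)
    (hN : ∀ t ∈ N, t ≠ s ∧ c t * T.w (v s) ≤ T.a (v s) (v t))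
    (h2 : 2 * x s ≤ ∑ t ∈ N, c t * x t) :
    0 ≤ ∑ t, T.a (v s) (v t) * x t := by
  classical
  have hsN : s ∉ N := fun h => (hN s h).1 rfl
  refine le_trans ?_ (row_lower_bound T v x hx s N hsN)
  have hws := T.w_pos (v s)
  have h1 : ∑ t ∈ N, T.w (v s) * (c t * x t) ≤ ∑ t ∈ N, T.a (v s) (v t) * x t := by
    refine Finset.sum_le_sum fun t ht => ?_
    have := mul_le_mul_of_nonneg_right (hN t ht).2 (hx t)
    linarith
  rw [hs.2]
  rw [← Finset.mul_sum] at h1
  have : 0 ≤ T.w (v s) * (∑ t ∈ N, c t * x t - 2 * x s) := mul_nonneg hws.le (by linarith)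
  linarith

/-- Weighted row estimate, one neighbour. -/
theorem row_nonneg_one_w {k : ℕ} (v : Fin k ↪ Fin n) (x : Fin k → ℤ) (hx : ∀ s, 0 ≤ x s)
    (s : Fin k) (hs : T.IsMinusTwo (v s)) (p : Fin k) (hp : p ≠ s) (cp : ℤ)
    (hap : cp * T.w (v s) ≤ T.a (v s) (v p))
    (h2 : 2 * x s ≤ cp * x p) : 0 ≤ ∑ t, T.a (v s) (v t) * x t := by
  classical
  refine row_nonneg_weighted T v x hx s hs {p} (fun _ => cp) ?_ ?_
  · intro t ht
    rw [Finset.mem_singleton] at ht
    subst ht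
    exact ⟨hp, hap⟩
  · simpa using h2

/-- Weighted row estimate, two neighbours. -/
theorem row_nonneg_two_w {k : ℕ} (v : Fin k ↪ Fin n) (x : Fin k → ℤ) (hx : ∀ s, 0 ≤ x s)
    (s : Fin k) (hs : T.IsMinusTwo (v s)) (p q : Fin k) (hp : p ≠ s) (hq : q ≠ s) (hpq : p ≠ q)
    (cp cq : ℤ) (hap : cp * T.w (v s) ≤ T.a (v s) (v p)) (haq : cq * T.w (v s) ≤ T.a (v s) (v q))
    (h2 : 2 * x s ≤ cp * x p + cq * x q) : 0 ≤ ∑ t, T.a (v s) (v t) * x t := by
  classical
  refine row_nonneg_weighted T v x hx s hs {p, q} (fun t => if t = p then cp else cq) ?_ ?_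
  · intro t ht
    rw [Finset.mem_insert, Finset.mem_singleton] at ht
    rcases ht with rfl | rfl
    · exact ⟨hp, by simpa using hap⟩
    · exact ⟨hq, by simpa [hpq.symm] using haq⟩
  · rw [Finset.sum_pair hpq]
    simpa [hpq.symm] using h2

/-- Weighted row estimate, three neighbours. -/
theorem row_nonneg_three_w {k : ℕ} (v : Fin k ↪ Fin n) (x : Fin k → ℤ) (hx : ∀ s, 0 ≤ x s)
    (s : Fin k) (hs : T.IsMinusTwo (v s)) (p q r : Fin k) (hp : p ≠ s) (hq : q ≠ s) (hr : r ≠ s)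
    (hpq : p ≠ q) (hpr : p ≠ r) (hqr : q ≠ r) (cp cq cr : ℤ)
    (hap : cp * T.w (v s) ≤ T.a (v s) (v p)) (haq : cq * T.w (v s) ≤ T.a (v s) (v q))
    (har : cr * T.w (v s) ≤ T.a (v s) (v r))
    (h2 : 2 * x s ≤ cp * x p + cq * x q + cr * x r) : 0 ≤ ∑ t, T.a (v s) (v t) * x t := by
  classical
  refine row_nonneg_weighted T v x hx s hs {p, q, r}
    (fun t => if t = p then cp else if t = q then cq else cr) ?_ ?_
  · intro t ht
    rw [Finset.mem_insert, Finset.mem_insert, Finset.mem_singleton] at ht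
    rcases ht with rfl | rfl | rfl
    · exact ⟨hp, by simpa using hap⟩
    · exact ⟨hq, by simpa [hpq.symm] using haq⟩
    · exact ⟨hr, by simpa [hpr.symm, hqr.symm] using har⟩
  · rw [Finset.sum_insert (by simp [hpq, hpr]), Finset.sum_pair hqr]
    simp only [if_true, hpq.symm, hpr.symm, hqr.symm, if_false]
    linarith

end Groth.Agent.Lib.Helper36.NT
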