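import Groth.Agent.Lib.Helper10.NumType
import Groth.Agent.S7317
import Groth.Agent.Lib.Helper36.NTB

/-!
Minimal numerical types of genus one: all indices are (-2)-indices; whole-set versions of the
certificate lemmas (helper36).
-/

set_option autoImplicit false
open Finset

namespace Groth.Agent.Lib.Helper36.NT

open Models Models.NumericalType

variable {n : ℕ} (T : Models.NumericalType n)

/-- In a minimal numerical type of genus one on at least two indices every index is a
`(-2)`-index. -/
theorem all_minusTwo_of_genus_one (hn : 1 < n) (hmin : T.IsMinimal) (hg : T.genus = 1)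
    (i : Fin n) : T.IsMinusTwo i := by
  have h := Groth.Agent.Lib.Helper10.nt_genus_eq T
  rw [hg] at h
  have hsum : ∑ i, T.m i * (2 * T.w i * (T.g i - 1) - T.a i i) = 0 := by linarith
  have hnonneg : ∀ i ∈ (univ : Finset (Fin n)),
      0 ≤ T.m i * (2 * T.w i * (T.g i - 1) - T.a i i) := fun i _ =>
    mul_nonneg (T.m_pos i).le (Groth.Agent.Lib.Helper10.nt_term_nonneg T hmin hn i)
  have := (Finset.sum_eq_zero_iff_of_nonneg hnonneg).mp hsum i (mem_univ i)
  exact Groth.Agent.S7317.result T hn i this

/-- The row equation at a `(-2)`-index, in terms of numbers `b`: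
`∑_{t ≠ s} b s t * m t = 2 m s`. -/
theorem row_eq_b {k : ℕ} (e : Fin k ≃ Fin n) (hv : ∀ s, T.IsMinusTwo (e s))
    (b : Fin k → Fin k → ℤ) (hb : ∀ s t, s ≠ t → T.a (e s) (e t) = b s t * T.w (e s)) (s : Fin k) :
    ∑ t, (if t = s then 0 else b s t * T.m (e t)) = 2 * T.m (e s) := by
  classical
  have h := row_sum T (e s)
  rw [← Equiv.sum_comp e] at h
  have hws := T.w_pos (e s)
  have hterm : ∀ t ∈ (univ : Finset (Fin k)), T.a (e s) (e t) * T.m (e t) =
      T.w (e s) * ((if t = s then 0 else b s t * T.m (e t)) - (if t = s then 2 * T.m (e s) else 0)) := by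
    intro t _
    by_cases hts : t = s
    · subst hts
      simp only [if_true]
      rw [(hv t).2]; ring
    · simp only [if_neg hts]
      rw [hb s t (Ne.symm hts)]; ring
  rw [Finset.sum_congr rfl hterm, ← Finset.mul_sum, Finset.sum_sub_distrib] at h
  have h2 : ∑ t, (if t = s then 2 * T.m (e s) else 0) = 2 * T.m (e s) := by
    simp
  rw [h2] at h
  rcases mul_eq_zero.mp h with h | h
  · omega
  · linarith

end Groth.Agent.Lib.Helper36.NT
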