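import Groth.Agent.Lib.Helper36.NTBasic
import Mathlib.Combinatorics.SimpleGraph.Acyclic

/-!
The dual graph of a numerical type (helper36).
-/

set_option autoImplicit false
open Finset

namespace Groth.Agent.Lib.Helper36.NT

open Models Models.NumericalType

variable {n : ℕ} (T : Models.NumericalType n)

/-- The dual graph of a numerical type. -/
def dualGraph : SimpleGraph (Fin n) where
  Adj i j := i ≠ j ∧ 0 < T.a i j
  symm := ⟨by
    intro i j h
    refine ⟨h.1.symm, ?_⟩
    have : T.a j i = T.a i j := by
      have := congrFun (congrFun T.symm i) j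
      simpa [Matrix.transpose_apply] using this
    rw [this]; exact h.2⟩
  loopless := ⟨fun i h => h.1 rfl⟩

theorem dualGraph_adj {i j : Fin n} : (dualGraph T).Adj i j ↔ i ≠ j ∧ 0 < T.a i j := Iff.rfl

theorem a_symm (i j : Fin n) : T.a i j = T.a j i := by
  have := congrFun (congrFun T.symm j) i
  simpa [Matrix.transpose_apply] using this

theorem dualGraph_connected : (dualGraph T).Connected := by
  have : Nonempty (Fin n) := ⟨⟨0, T.pos⟩⟩
  refine ⟨fun u v => ?_⟩
  classical
  by_contra hv
  let I : Finset (Fin n) := univ.filter fun x => (dualGraph T).Reachable u x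
  have hI : I.Nonempty := ⟨u, by simp [I]⟩
  have hne : I ≠ univ := by
    intro h
    have : v ∈ I := h ▸ mem_univ v
    simp only [I, mem_filter, mem_univ, true_and] at this
    exact hv this
  obtain ⟨i, hi, j, hj, hij⟩ := T.connected I hI hne
  simp only [I, mem_filter, mem_univ, true_and] at hi hj
  have hne' : i ≠ j := by
    rintro rfl
    exact hj hi
  have hadj : (dualGraph T).Adj i j :=
    ⟨hne', lt_of_le_of_ne (T.offDiag_nonneg i j hne') (Ne.symm hij)⟩
  exact hj (hi.trans hadj.reachable)

theorem card_le_edgeCount_add_one : n ≤ T.edgeCount + 1 := by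
  classical
  have h := (dualGraph_connected T).card_vert_le_card_edgeSet_add_one
  rw [Nat.card_eq_fintype_card, Fintype.card_fin] at h
  refine h.trans (Nat.add_le_add_right ?_ 1)
  rw [Nat.card_eq_fintype_card, ← SimpleGraph.edgeFinset_card]
  unfold Models.NumericalType.edgeCount
  let S : Finset (Fin n × Fin n) := univ.filter fun p : Fin n × Fin n => p.1 < p.2 ∧ 0 < T.a p.1 p.2
  have hsub : (dualGraph T).edgeFinset ⊆ S.image (fun p => s(p.1, p.2)) := by
    intro e he
    rw [SimpleGraph.mem_edgeFinset] at he
    induction e using Sym2.ind with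
    | h i j =>
      rw [SimpleGraph.mem_edgeSet] at he
      rw [mem_image]
      rcases lt_or_gt_of_ne he.1 with hlt | hgt
      · exact ⟨(i, j), by simp [S, hlt, he.2], rfl⟩
      · refine ⟨(j, i), ?_, Sym2.eq_swap⟩
        have := a_symm T i j
        simp only [S, mem_filter, mem_univ, true_and]
        exact ⟨hgt, this ▸ he.2⟩
  exact (Finset.card_le_card hsub).trans Finset.card_image_le

end Groth.Agent.Lib.Helper36.NT
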