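import Groth.Agent.Lib.Helper36.NTSub

/-!
Simply laced configurations of (-2)-indices in a numerical type: a certificate-based classification
lemma (helper36).
-/

set_option autoImplicit false
open Finset

namespace Groth.Agent.Lib.Helper36.NT

open Models Models.NumericalType

variable {n : ℕ} (T : Models.NumericalType n)

/-- Exclusion of a configuration of `(-2)`-indices given by a matrix `B` of lower bounds for the
numbers `a (v s) (v t) / w (v s)`. -/
theorem no_config_matrix {k : ℕ} (v : Fin k ↪ Fin n) (hk : 0 < k) (hkn : k < n)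
    (hv : ∀ s, T.IsMinusTwo (v s)) (B : Fin k → Fin k → ℤ)
    (hB : ∀ s t, s ≠ t → B s t * T.w (v s) ≤ T.a (v s) (v t))
    (x : Fin k → ℤ) (hx : ∀ s, 0 < x s)
    (hrow : ∀ s, 2 * x s ≤ ∑ t, if t = s then 0 else B s t * x t) : False := by
  classical
  refine no_nonneg_vector_emb T v hk hkn x hx fun s => ?_
  have hws := T.w_pos (v s)
  have hterm : ∀ t ∈ (univ : Finset (Fin k)),
      (if t = s then -2 * T.w (v s) * x s else T.w (v s) * (B s t * x t)) ≤
        T.a (v s) (v t) * x t := by
    intro t _
    by_cases hts : t = s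
    · subst hts
      simp only [if_true]
      rw [(hv t).2]
    · simp only [if_neg hts]
      have := mul_le_mul_of_nonneg_right (hB s t (Ne.symm hts)) (hx t).le
      linarith
  refine le_trans ?_ (Finset.sum_le_sum hterm)
  have : ∑ t, (if t = s then -2 * T.w (v s) * x s else T.w (v s) * (B s t * x t)) =
      T.w (v s) * ((∑ t, if t = s then 0 else B s t * x t) - 2 * x s) := by
    rw [mul_sub, Finset.mul_sum]
    rw [← Finset.add_sum_erase univ _ (mem_univ s), ← Finset.add_sum_erase univ _ (mem_univ s)]
    simp only [if_true]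
    have : ∀ t ∈ univ.erase s, (if t = s then -2 * T.w (v s) * x s else
        T.w (v s) * (B s t * x t)) = T.w (v s) * (if t = s then 0 else B s t * x t) := by
      intro t ht
      rw [if_neg (ne_of_mem_erase ht), if_neg (ne_of_mem_erase ht)]
    rw [Finset.sum_congr rfl this]
    ring
  rw [this]
  exact mul_nonneg hws.le (by linarith [hrow s])

/-- The `0/1` adjacency matrix of an edge list. -/
def adjOf {k : ℕ} (E : List (Fin k × Fin k)) (s t : Fin k) : ℤ :=
  if (s, t) ∈ E ∨ (t, s) ∈ E then 1 else 0

theorem adjOf_comm {k : ℕ} (E : List (Fin k × Fin k)) (s t : Fin k) :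
    adjOf E s t = adjOf E t s := by
  unfold adjOf
  by_cases h : (s, t) ∈ E ∨ (t, s) ∈ E
  · rw [if_pos h, if_pos (Or.symm h)]
  · rw [if_neg h, if_neg (fun h' => h (Or.symm h'))]

/-- The lower-bound matrix attached to a violation at `(s, t)` of the simply-laced pattern `E`:
a double bond if `(s, t)` is an edge, a new edge otherwise. -/
def violOf {k : ℕ} (E : List (Fin k × Fin k)) (s t u u' : Fin k) : ℤ :=
  adjOf E u u' +
    (if adjOf E s t = 1 then (if u = s ∧ u' = t then 1 else 0)
      else (if (u = s ∧ u' = t) ∨ (u = t ∧ u' = s) then 1 else 0))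

/-- Certificate-based classification of a simply laced configuration: if every single violation
of the pattern `E` (a multiple bond on an edge of `E`, or an extra edge) admits a positive vector
`X s t` with `2 x ≤ B x`, then the intersection numbers are exactly given by the pattern. -/
theorem simply_laced {k : ℕ} (v : Fin k ↪ Fin n) (hk : 0 < k) (hkn : k < n)
    (hv : ∀ s, T.IsMinusTwo (v s)) (E : List (Fin k × Fin k))
    (hE : ∀ e ∈ E, e.1 ≠ e.2 ∧ T.a (v e.1) (v e.2) ≠ 0)
    (X : Fin k → Fin k → Fin k → ℤ)
    (hX : ∀ s t, s ≠ t → (∀ u, 0 < X s t u) ∧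
      ∀ u, 2 * X s t u ≤ ∑ u', if u' = u then 0 else violOf E s t u u' * X s t u') :
    ∀ s t, s ≠ t → T.a (v s) (v t) = if adjOf E s t = 1 then T.w (v s) else 0 := by
  classical
  -- the basic lower bound given by the pattern
  have hadj : ∀ u u', u ≠ u' → adjOf E u u' * T.w (v u) ≤ T.a (v u) (v u') := by
    intro u u' huu'
    have hne : v u ≠ v u' := fun h => huu' (v.injective h)
    unfold adjOf
    split_ifs with h
    · have hnz : T.a (v u) (v u') ≠ 0 := by
        rcases h with h | h
        · exact (hE _ h).2
        · have := (hE _ h).2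
          rwa [a_comm T (v u') (v u)] at this
      rw [one_mul]
      exact (w_le_of_ne_zero T hne hnz).1
    · rw [zero_mul]
      exact T.offDiag_nonneg _ _ hne
  intro s t hst
  have hne : v s ≠ v t := fun h => hst (v.injective h)
  by_contra hcon
  obtain ⟨hXpos, hXrow⟩ := hX s t hst
  refine no_config_matrix T v hk hkn hv (violOf E s t) ?_ (X s t) hXpos hXrow
  intro u u' huu'
  have hne' : v u ≠ v u' := fun h => huu' (v.injective h)
  unfold violOf
  by_cases hadjst : adjOf E s t = 1
  · -- violation: a multiple bond on the edge `(s, t)`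
    rw [if_pos hadjst] at hcon ⊢
    by_cases hu : u = s ∧ u' = t
    · obtain ⟨rfl, rfl⟩ := hu
      simp only [and_self, if_true, hadjst]
      -- `a = c * w` with `c ≥ 1`, `c ≠ 1`
      obtain ⟨c, hc⟩ := T.w_dvd (v u) (v u')
      have hw := T.w_pos (v u)
      have h1 := hadj u u' huu'
      rw [hadjst, one_mul] at h1
      have hc2 : 2 ≤ c := by
        by_contra hlt
        have hc1 : c ≤ 1 := by omega
        have hc0 : 1 ≤ c := by
          by_contra hlt0
          have : c ≤ 0 := by omega
          have := mul_nonpos_of_nonneg_of_nonpos hw.le this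
          rw [← hc] at this
          linarith
        have : c = 1 := le_antisymm hc1 hc0
        rw [this, mul_one] at hc
        exact hcon hc
      rw [hc]
      have := mul_le_mul_of_nonneg_left hc2 hw.le
      linarith
    · rw [if_neg hu, add_zero]
      exact hadj u u' huu'
  · -- violation: an extra edge `(s, t)`
    rw [if_neg hadjst] at hcon ⊢
    have hadj0 : adjOf E s t = 0 := by
      unfold adjOf at hadjst ⊢
      split_ifs at hadjst ⊢ with h
      · exact absurd rfl hadjst
      · rfl
    have hadj0' : adjOf E t s = 0 := by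
      rw [adjOf_comm]; exact hadj0
    by_cases hu : (u = s ∧ u' = t) ∨ (u = t ∧ u' = s)
    · rw [if_pos hu]
      rcases hu with ⟨rfl, rfl⟩ | ⟨rfl, rfl⟩
      · rw [hadj0, zero_add, one_mul]
        exact (w_le_of_ne_zero T hne' hcon).1
      · rw [hadj0', zero_add, one_mul]
        have : T.a (v u) (v u') ≠ 0 := by rwa [a_comm T (v u) (v u')]
        exact (w_le_of_ne_zero T hne' this).1
    · rw [if_neg hu, add_zero]
      exact hadj u u' huu'

/-- Along an edge of a simply laced configuration the weights agree. -/
theorem simply_laced_w_eq {k : ℕ} (v : Fin k ↪ Fin n) (E : List (Fin k × Fin k))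
    (h : ∀ s t, s ≠ t → T.a (v s) (v t) = if adjOf E s t = 1 then T.w (v s) else 0)
    (s t : Fin k) (hst : s ≠ t) (hadj : adjOf E s t = 1) : T.w (v s) = T.w (v t) := by
  have h1 := h s t hst
  have h2 := h t s (Ne.symm hst)
  have hadj' : adjOf E t s = 1 := by
    rw [adjOf_comm]; exact hadj
  rw [if_pos hadj] at h1
  rw [if_pos hadj', a_comm T (v t) (v s)] at h2
  rw [← h1, ← h2]

end Groth.Agent.Lib.Helper36.NT
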