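import Groth.Agent.Lib.Helper36.NTSub

/-!
Inequalities between the multiplicities at a (-2)-index and its neighbours (helper36).
-/

set_option autoImplicit false
open Finset

namespace Groth.Agent.Lib.Helper36.NT

open Models Models.NumericalType

variable {n : ℕ} (T : Models.NumericalType n)

/-- At a `(-2)`-index `i`, the neighbours in a set `N` contribute at most `2 w_i m_i`. -/
theorem m_ineq_finset (i : Fin n) (hi : T.IsMinusTwo i) (N : Finset (Fin n)) (hN : i ∉ N) :
    ∑ j ∈ N, T.a i j * T.m j ≤ 2 * T.w i * T.m i := by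
  classical
  have h := diag_eq T i
  rw [hi.2] at h
  have : ∑ j ∈ N, T.a i j * T.m j ≤ ∑ j ∈ univ.erase i, T.a i j * T.m j := by
    refine Finset.sum_le_sum_of_subset_of_nonneg ?_ ?_
    · intro j hj
      exact Finset.mem_erase.mpr ⟨fun h => hN (h ▸ hj), mem_univ j⟩
    · intro j hj _
      exact mul_nonneg (T.offDiag_nonneg i j (ne_of_mem_erase hj).symm) (T.m_pos j).le
  linarith

theorem m_ineq_one (i : Fin n) (hi : T.IsMinusTwo i) (p : Fin n) (hp : p ≠ i) :
    T.a i p * T.m p ≤ 2 * T.w i * T.m i := by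
  classical
  have := m_ineq_finset T i hi {p} (by simpa using hp.symm)
  simpa using this

theorem m_ineq_two (i : Fin n) (hi : T.IsMinusTwo i) (p q : Fin n) (hp : p ≠ i) (hq : q ≠ i)
    (hpq : p ≠ q) :
    T.a i p * T.m p + T.a i q * T.m q ≤ 2 * T.w i * T.m i := by
  classical
  have := m_ineq_finset T i hi {p, q} (by simp [hp.symm, hq.symm])
  rwa [Finset.sum_pair hpq] at this

theorem m_ineq_three (i : Fin n) (hi : T.IsMinusTwo i) (p q r : Fin n) (hp : p ≠ i) (hq : q ≠ i)
    (hr : r ≠ i) (hpq : p ≠ q) (hpr : p ≠ r) (hqr : q ≠ r) :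
    T.a i p * T.m p + T.a i q * T.m q + T.a i r * T.m r ≤ 2 * T.w i * T.m i := by
  classical
  have := m_ineq_finset T i hi {p, q, r} (by simp [hp.symm, hq.symm, hr.symm])
  rw [Finset.sum_insert (by simp [hpq, hpr]), Finset.sum_pair hqr] at this
  linarith

end Groth.Agent.Lib.Helper36.NT
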