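import Groth.Agent.Lib.Helper36.NTBasic

/-!
Proper subsets of a numerical type carry a "negative definite" intersection form (helper36).

The key statement `no_nonneg_vector`: on a proper non-empty subset `J` of the indices, there is no
vector `x`, positive on `J`, with `∑_{j ∈ J} a i j * x j ≥ 0` for all `i ∈ J`.
-/

set_option autoImplicit false
open Finset

namespace Groth.Agent.Lib.Helper36.NT

open Models Models.NumericalType

variable {n : ℕ} (T : Models.NumericalType n)

theorem a_comm (i j : Fin n) : T.a i j = T.a j i := by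
  have := congrFun (congrFun T.symm j) i
  simpa [Matrix.transpose_apply] using this

/-- The sum over `J` of `a i j * m j`, for `i ∈ J`, is minus the sum over the complement. -/
theorem sum_subset_eq (J : Finset (Fin n)) (i : Fin n) :
    ∑ j ∈ J, T.a i j * T.m j = - ∑ j ∈ Jᶜ, T.a i j * T.m j := by
  have h := row_sum T i
  rw [← Finset.sum_add_sum_compl J] at h
  linarith

theorem sum_subset_nonpos (J : Finset (Fin n)) (i : Fin n) (hi : i ∈ J) :
    ∑ j ∈ J, T.a i j * T.m j ≤ 0 := by
  rw [sum_subset_eq]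
  have : 0 ≤ ∑ j ∈ Jᶜ, T.a i j * T.m j := by
    refine Finset.sum_nonneg fun j hj => ?_
    have hne : i ≠ j := by
      rintro rfl
      exact (Finset.mem_compl.mp hj) hi
    exact mul_nonneg (T.offDiag_nonneg i j hne) (T.m_pos j).le
  linarith

theorem exists_sum_subset_neg (J : Finset (Fin n)) (hJ : J.Nonempty) (hJ' : J ≠ univ) :
    ∃ i ∈ J, ∑ j ∈ J, T.a i j * T.m j < 0 := by
  obtain ⟨i, hi, j, hj, hij⟩ := T.connected J hJ hJ'
  refine ⟨i, hi, ?_⟩
  rw [sum_subset_eq]
  have hne : i ≠ j := by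
    rintro rfl
    exact hj hi
  have : 0 < ∑ j ∈ Jᶜ, T.a i j * T.m j := by
    refine Finset.sum_pos' (fun k hk => ?_) ⟨j, Finset.mem_compl.mpr hj, ?_⟩
    · have hne : i ≠ k := by
        rintro rfl
        exact (Finset.mem_compl.mp hk) hi
      exact mul_nonneg (T.offDiag_nonneg i k hne) (T.m_pos k).le
    · exact mul_pos (lt_of_le_of_ne (T.offDiag_nonneg i j hne) (Ne.symm hij)) (T.m_pos j)
  linarith

/-- Key lemma: on a proper non-empty subset `J` there is no vector, positive on `J`, on which the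
restricted intersection matrix takes non-negative values. -/
theorem no_nonneg_vector (J : Finset (Fin n)) (hJ : J.Nonempty) (hJ' : J ≠ univ)
    (x : Fin n → ℤ) (hx : ∀ j ∈ J, 0 < x j)
    (h : ∀ i ∈ J, 0 ≤ ∑ j ∈ J, T.a i j * x j) : False := by
  -- the double sum, computed in two ways
  have h1 : ∑ i ∈ J, x i * ∑ j ∈ J, T.a i j * T.m j < 0 := by
    obtain ⟨i₀, hi₀, hneg⟩ := exists_sum_subset_neg T J hJ hJ'
    refine Finset.sum_neg' (fun i hi => ?_) ⟨i₀, hi₀, ?_⟩
    · exact mul_nonpos_of_nonneg_of_nonpos (hx i hi).le (sum_subset_nonpos T J i hi)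
    · exact mul_neg_of_pos_of_neg (hx i₀ hi₀) hneg
  have h2 : ∑ i ∈ J, x i * ∑ j ∈ J, T.a i j * T.m j =
      ∑ j ∈ J, T.m j * ∑ i ∈ J, T.a j i * x i := by
    simp_rw [Finset.mul_sum]
    rw [Finset.sum_comm]
    refine Finset.sum_congr rfl fun j _ => Finset.sum_congr rfl fun i _ => ?_
    rw [a_comm T i j]; ring
  have h3 : 0 ≤ ∑ j ∈ J, T.m j * ∑ i ∈ J, T.a j i * x i :=
    Finset.sum_nonneg fun j hj => mul_nonneg (T.m_pos j).le (h j hj)
  linarith

/-- Embedding version of the key lemma. -/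
theorem no_nonneg_vector_emb {k : ℕ} (v : Fin k ↪ Fin n) (hk : 0 < k) (hkn : k < n)
    (x : Fin k → ℤ) (hx : ∀ s, 0 < x s)
    (h : ∀ s, 0 ≤ ∑ t, T.a (v s) (v t) * x t) : False := by
  classical
  let J : Finset (Fin n) := univ.map v
  have hJ : J.Nonempty := ⟨v ⟨0, hk⟩, by simp [J]⟩
  have hJ' : J ≠ univ := by
    intro hEq
    have := congrArg Finset.card hEq
    simp [J] at this
    omega
  -- extend `x` to all of `Fin n`
  let y : Fin n → ℤ := fun j => if hj : ∃ s, v s = j then x hj.choose else 0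
  have hy : ∀ s, y (v s) = x s := by
    intro s
    have hex : ∃ s', v s' = v s := ⟨s, rfl⟩
    simp only [y, dif_pos hex]
    exact congrArg x (v.injective hex.choose_spec)
  refine no_nonneg_vector T J hJ hJ' y ?_ ?_
  · intro j hj
    obtain ⟨s, -, rfl⟩ := Finset.mem_map.mp hj
    rw [hy]; exact hx s
  · intro i hi
    obtain ⟨s, -, rfl⟩ := Finset.mem_map.mp hi
    rw [Finset.sum_map]
    simp_rw [hy]
    exact h s

/-- A nonzero off-diagonal entry is at least both weights. -/
theorem w_le_of_ne_zero {i j : Fin n} (hij : i ≠ j) (h : T.a i j ≠ 0) :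
    T.w i ≤ T.a i j ∧ T.w j ≤ T.a i j := by
  have hpos : 0 < T.a i j := lt_of_le_of_ne (T.offDiag_nonneg i j hij) (Ne.symm h)
  refine ⟨Int.le_of_dvd hpos (T.w_dvd i j), ?_⟩
  have := T.w_dvd j i
  rw [← a_comm T i j] at this
  exact Int.le_of_dvd hpos this

end Groth.Agent.Lib.Helper36.NT
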