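import Mathlib
import Groth.Agent.Lib.Helper36.WeaklyEtaleLocal
import Groth.Agent.Lib.Helper36.WeaklyEtaleSch

set_option autoImplicit false
universe u

namespace Groth.Agent.Lib.Helper36.WE

open AlgebraicGeometry CategoryTheory Limits MorphismProperty TensorProduct

/-- compatibility of germs, `appLE` and the stalk map -/
theorem stalkMap_germ_eq_germ_appLE {X Y : Scheme.{u}} (f : X ⟶ Y) (U : X.Opens) (V : Y.Opens)
    (hUV : U ≤ f ⁻¹ᵁ V) (x : X) (hxU : x ∈ U) (r : Γ(Y, V)) :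
    (f.stalkMap x).hom ((Y.presheaf.germ V (f x) (hUV hxU)).hom r) =
      (X.presheaf.germ U x hxU).hom ((f.appLE V U hUV).hom r) := by
  rw [Scheme.Hom.appLE]
  erw [Scheme.Hom.germ_stalkMap_apply]
  simp only [CommRingCat.hom_comp, RingHom.coe_comp, Function.comp_apply]
  erw [TopCat.Presheaf.germ_res_apply]

theorem weaklyEtale_stalkMap {X Y : Scheme.{u}} (f : X ⟶ Y) [WeaklyEtale f] (x : X) :
    letI := (f.stalkMap x).hom.toAlgebra
    Algebra.WeaklyEtale (Y.presheaf.stalk (f x)) (X.presheaf.stalk x) := by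
  obtain ⟨_, ⟨V, hV, rfl⟩, hxV, -⟩ :=
    Y.isBasis_affineOpens.exists_subset_of_mem_open (Set.mem_univ (f x)) isOpen_univ
  obtain ⟨_, ⟨U, hU, rfl⟩, hxU, hUV⟩ :=
    X.isBasis_affineOpens.exists_subset_of_mem_open (show x ∈ f ⁻¹ᵁ V from hxV) (f ⁻¹ᵁ V).isOpen
  have h1 := (weaklyEtale_iff_forall_affineOpens f).mp inferInstance U V hU hV hUV
  let iRS : Algebra Γ(Y, V) Γ(X, U) := (f.appLE V U hUV).hom.toAlgebra
  let iSB : Algebra Γ(X, U) (X.presheaf.stalk x) := (X.presheaf.germ U x hxU).hom.toAlgebra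
  let iRA : Algebra Γ(Y, V) (Y.presheaf.stalk (f x)) := (Y.presheaf.germ V (f x) hxV).hom.toAlgebra
  let iAB : Algebra (Y.presheaf.stalk (f x)) (X.presheaf.stalk x) := (f.stalkMap x).hom.toAlgebra
  let iRB : Algebra Γ(Y, V) (X.presheaf.stalk x) :=
    ((algebraMap Γ(X, U) (X.presheaf.stalk x)).comp (algebraMap Γ(Y, V) Γ(X, U))).toAlgebra
  have t1 : IsScalarTower Γ(Y, V) Γ(X, U) (X.presheaf.stalk x) :=
    IsScalarTower.of_algebraMap_eq fun _ => rfl
  have t2 : IsScalarTower Γ(Y, V) (Y.presheaf.stalk (f x)) (X.presheaf.stalk x) :=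
    IsScalarTower.of_algebraMap_eq fun r => (stalkMap_germ_eq_germ_appLE f U V hUV x hxU r).symm
  have locA := hV.isLocalization_stalk ⟨f x, hxV⟩
  have locB := hU.isLocalization_stalk ⟨x, hxU⟩
  exact weaklyEtale_of_isLocalization_of_weaklyEtale
    (hV.primeIdealOf ⟨f x, hxV⟩).asIdeal.primeCompl (Y.presheaf.stalk (f x))
    (hU.primeIdealOf ⟨x, hxU⟩).asIdeal.primeCompl (X.presheaf.stalk x)

/-- variant of `flat_of_forall_maximal_comp` for arbitrary localizations at the maximal ideals -/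
theorem flat_of_forall_maximal_comp' {C S : Type u} [CommRing C] [CommRing S] (ψ : C →+* S)
    (h : ∀ (P : Ideal S) [P.IsMaximal], ∃ (B : Type u) (_ : CommRing B) (_ : Algebra S B)
      (_ : IsLocalization.AtPrime B P), ((algebraMap S B).comp ψ).Flat) : ψ.Flat := by
  apply flat_of_forall_maximal_comp
  intro P _
  obtain ⟨B, _, _, _, hB⟩ := h P
  let e : B ≃ₐ[S] Localization.AtPrime P := IsLocalization.algEquiv P.primeCompl _ _
  have : (algebraMap S (Localization.AtPrime P)).comp ψ =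
      (e : B →+* Localization.AtPrime P).comp ((algebraMap S B).comp ψ) := by
    ext c
    simp [e]
  rw [this]
  exact hB.comp (RingHom.Flat.of_bijective e.bijective)

theorem weaklyEtale_of_stalkMap {X Y : Scheme.{u}} (f : X ⟶ Y)
    (h : ∀ x : X, (f.stalkMap x).hom.Flat ∧
      (letI := (f.stalkMap x).hom.toAlgebra
       (Algebra.TensorProduct.lmul' (S := ↑(X.presheaf.stalk x))
        (↑(Y.presheaf.stalk (f x)))).toRingHom.Flat)) : WeaklyEtale f := by
  have hflat : Flat f := (AlgebraicGeometry.Flat.iff_flat_stalkMap (f := f)).mpr fun x => (h x).1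
  rw [weaklyEtale_iff_forall_affineOpens]
  intro U V hU hV hUV
  let iRS : Algebra Γ(Y, V) Γ(X, U) := (f.appLE V U hUV).hom.toAlgebra
  refine ⟨Flat.flat_appLE f hV hU hUV, ?_⟩
  apply flat_of_forall_maximal_comp'
  intro P hP
  let y : PrimeSpectrum Γ(X, U) := ⟨P, hP.isPrime⟩
  let x : X := hU.fromSpec y
  have hxU : x ∈ U := by
    have : x ∈ Set.range hU.fromSpec := Set.mem_range_self y
    rwa [hU.range_fromSpec] at this
  have hxV : f x ∈ V := hUV hxU
  let iSB : Algebra Γ(X, U) (X.presheaf.stalk x) := (X.presheaf.germ U x hxU).hom.toAlgebra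
  let iRA : Algebra Γ(Y, V) (Y.presheaf.stalk (f x)) := (Y.presheaf.germ V (f x) hxV).hom.toAlgebra
  let iAB : Algebra (Y.presheaf.stalk (f x)) (X.presheaf.stalk x) := (f.stalkMap x).hom.toAlgebra
  let iRB : Algebra Γ(Y, V) (X.presheaf.stalk x) :=
    ((algebraMap Γ(X, U) (X.presheaf.stalk x)).comp (algebraMap Γ(Y, V) Γ(X, U))).toAlgebra
  have t1 : IsScalarTower Γ(Y, V) Γ(X, U) (X.presheaf.stalk x) :=
    IsScalarTower.of_algebraMap_eq fun _ => rfl
  have t2 : IsScalarTower Γ(Y, V) (Y.presheaf.stalk (f x)) (X.presheaf.stalk x) :=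
    IsScalarTower.of_algebraMap_eq fun r => (stalkMap_germ_eq_germ_appLE f U V hUV x hxU r).symm
  have locA := hV.isLocalization_stalk ⟨f x, hxV⟩
  have locB : IsLocalization.AtPrime (X.presheaf.stalk x) P := hU.isLocalization_stalk' y hxU
  have flatB : Module.Flat Γ(X, U) (X.presheaf.stalk x) := IsLocalization.flat _ P.primeCompl
  refine ⟨X.presheaf.stalk x, inferInstance, iSB, locB, ?_⟩
  exact flat_comp_lmul'_of_flat_lmul'_local
    (hV.primeIdealOf ⟨f x, hxV⟩).asIdeal.primeCompl (h x).2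

theorem weaklyEtale_iff_stalkMap {X Y : Scheme.{u}} (f : X ⟶ Y) :
    WeaklyEtale f ↔ ∀ x : X, (f.stalkMap x).hom.Flat ∧
      (letI := (f.stalkMap x).hom.toAlgebra
       (Algebra.TensorProduct.lmul' (S := ↑(X.presheaf.stalk x))
        (↑(Y.presheaf.stalk (f x)))).toRingHom.Flat) := by
  refine ⟨fun hf x => ?_, weaklyEtale_of_stalkMap f⟩
  have := weaklyEtale_stalkMap f x
  let iAB : Algebra (Y.presheaf.stalk (f x)) (X.presheaf.stalk x) := (f.stalkMap x).hom.toAlgebra
  exact ⟨this.flat, Algebra.WeaklyEtale.flat_lmul' _ _⟩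

end Groth.Agent.Lib.Helper36.WE
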