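import Mathlib
import Groth.Agent.S1967
import Groth.Agent.Lib.Helper36.WeaklyEtaleField
import Groth.Agent.Lib.Helper36.WeaklyEtaleStalk
import Groth.Agent.Lib.Helper36.OlivierVal
import Groth.Prelude.Def_Pi1

/-!
# Weakly étale over normal is normal (helper36)
-/

set_option autoImplicit false
set_option linter.style.haveILetI false
universe u

namespace Groth.Agent.Lib.Helper36.Olivier

open TensorProduct IsLocalRing Groth.Agent.Lib.Helper36.WE Groth.Agent.Lib.Helper36.AbsFlat

/-- A local ring weakly étale over an integrally closed domain is an integrally closed domain. -/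
theorem isDomain_isIntegrallyClosed_of_weaklyEtale (A B : Type u) [CommRing A] [IsDomain A]
    [IsIntegrallyClosed A] [CommRing B] [IsLocalRing B] [Algebra A B] [Algebra.WeaklyEtale A B] :
    IsDomain B ∧ IsIntegrallyClosed B := by
  let K := FractionRing A
  let E := B ⊗[A] K
  have hIC : IsIntegrallyClosedIn B E := Groth.Agent.S1967.result A K B
  have hinj : Function.Injective (algebraMap B E) :=
    Algebra.TensorProduct.includeLeft_injective (S := B) (IsFractionRing.injective A K)
  haveI : Nontrivial E := hinj.nontrivial
  -- `E` is von Neumann regular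
  have hvnr : ∀ t : E, ∃ s : E, t = t * t * s := by
    have h1 : IsVNR (K ⊗[A] B) := isVNR_of_weaklyEtale_field K (K ⊗[A] B)
    let e : E ≃ₐ[A] K ⊗[A] B := Algebra.TensorProduct.comm A B K
    intro t
    obtain ⟨s', hs'⟩ := h1 (e t)
    refine ⟨e.symm s', ?_⟩
    apply e.injective
    rw [map_mul, map_mul, AlgEquiv.apply_symm_apply]
    exact hs'
  -- every element of `E` is zero or a unit
  have hunit : ∀ x : E, x = 0 ∨ IsUnit x := by
    intro x
    obtain ⟨y, hy⟩ := hvnr x
    have he : IsIdempotentElem (x * y) := by
      change x * y * (x * y) = x * y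
      calc x * y * (x * y) = (x * x * y) * y := by ring
        _ = x * y := by rw [← hy]
    have hint : IsIntegral B (x * y) := by
      refine ⟨Polynomial.X * (Polynomial.X - Polynomial.C 1),
        Polynomial.monic_X.mul (Polynomial.monic_X_sub_C 1), ?_⟩
      rw [Polynomial.eval₂_mul, Polynomial.eval₂_sub, Polynomial.eval₂_X, Polynomial.eval₂_C,
        map_one, mul_sub, mul_one, he.eq, sub_self]
    obtain ⟨b, hb⟩ := (isIntegrallyClosedIn_iff.mp hIC).2 hint
    have hbidem : b * b = b := by
      apply hinj
      rw [map_mul, hb, he.eq]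
    rcases IsLocalRing.isUnit_or_isUnit_one_sub_self b with hu | hu
    · -- `b = 1`
      have hb1 : b = 1 := by
        have h2 : b * (b - 1) = 0 := by rw [mul_sub, hbidem, mul_one, sub_self]
        have h3 : b - 1 = 0 := (hu.mul_right_eq_zero).mp h2
        exact sub_eq_zero.mp h3
      right
      have : x * y = 1 := by rw [← hb, hb1, map_one]
      exact IsUnit.of_mul_eq_one y this
    · -- `b = 0`
      have hb0 : b = 0 := by
        have h2 : (1 - b) * b = 0 := by rw [sub_mul, one_mul, hbidem, sub_self]
        exact (hu.mul_right_eq_zero).mp h2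
      left
      have h3 : x * y = 0 := by rw [← hb, hb0, map_zero]
      calc x = x * (x * y) := by rw [← mul_assoc]; exact hy
        _ = 0 := by rw [h3, mul_zero]
  haveI hdomE : IsDomain E := by
    haveI : NoZeroDivisors E := ⟨fun {x y} hxy => by
      rcases hunit x with hx | hx
      · exact Or.inl hx
      · right
        exact (hx.mul_right_eq_zero).mp hxy⟩
    exact NoZeroDivisors.to_isDomain E
  haveI hdomB : IsDomain B := hinj.isDomain (algebraMap B E)
  -- `E` is the fraction field of `B`
  haveI hfrac : IsFractionRing B E := by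
    refine IsLocalization.of_le (Algebra.algebraMapSubmonoid B (nonZeroDivisors A))
      (nonZeroDivisors B) ?_ ?_
    · rintro _ ⟨a, ha, rfl⟩
      rw [mem_nonZeroDivisors_iff_ne_zero]
      intro h0
      have h1 : a = 0 := by
        apply algebraMap_injective_of_flat A B
        rw [h0, map_zero]
      exact nonZeroDivisors.ne_zero ha h1
    · intro b hb
      rcases hunit (algebraMap B E b) with h | h
      · exact absurd (hinj (by rw [h, map_zero])) (nonZeroDivisors.ne_zero hb)
      · exact h
  exact ⟨hdomB, (isIntegrallyClosed_iff_isIntegrallyClosedIn E).mpr hIC⟩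

end Groth.Agent.Lib.Helper36.Olivier
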