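import Mathlib
import Groth.Prelude.Def_ProEtS
import Groth.Agent.Lib.Helper36.ProEtSite
import Groth.Agent.Lib.Helper36.ProEtWC
import Groth.Agent.Lib.Helper36.ProEtCover2
import Groth.Agent.Lib.Helper36.ProEtPush

set_option autoImplicit false
set_option linter.style.haveILetI false
open CategoryTheory CategoryTheory.Limits AlgebraicGeometry Opposite
universe u

namespace Groth.Agent.Lib.Helper36.ProEtPoints

open Groth.Agent.Lib.Helper36.ProEtSite

variable {S : Scheme.{u}}

/-- clopen neighbourhoods of a point of an object -/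
def Nbhd (W : S.ProEt) (w : ↥W.left) : Type u :=
  {T : W.left.Opens // IsClopen (T : Set ↥W.left) ∧ w ∈ T}

instance (W : S.ProEt) (w : ↥W.left) : SemilatticeInf (Nbhd W w) :=
  Subtype.semilatticeInf (fun {_ _} hT hT' => ⟨hT.1.inter hT'.1, ⟨hT.2, hT'.2⟩⟩)

instance (W : S.ProEt) (w : ↥W.left) : Nonempty (Nbhd W w) :=
  ⟨⟨⊤, isClopen_univ, trivial⟩⟩

instance (W : S.ProEt) (w : ↥W.left) : IsCofiltered (Nbhd W w) := inferInstance

instance (W : S.ProEt) (w : ↥W.left) : InitiallySmall.{u + 1} (Nbhd W w) :=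
  initiallySmall_of_essentiallySmall _

instance : LocallySmall.{u + 1} S.ProEt := inferInstance

/-- the pro-system of clopen neighbourhoods -/
noncomputable def nbhdFunctor (W : S.ProEt) (w : ↥W.left) : Nbhd W w ⥤ S.ProEt where
  obj T := objOver W T.1.ι
  map {T T'} h := MorphismProperty.Over.homMk (W.left.homOfLE (leOfHom h)) (by
    change W.left.homOfLE _ ≫ T'.1.ι ≫ W.hom = T.1.ι ≫ W.hom
    rw [Scheme.homOfLE_ι_assoc])
  map_id T := by
    apply MorphismProperty.Over.Hom.ext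
    simp
    rfl
  map_comp {T T' T''} h h' := by
    apply MorphismProperty.Over.Hom.ext
    apply (cancel_mono T''.1.ι).mp
    change W.left.homOfLE (leOfHom (h ≫ h')) ≫ T''.1.ι =
      (W.left.homOfLE (leOfHom h) ≫ W.left.homOfLE (leOfHom h')) ≫ T''.1.ι
    simp

/-- clopen subschemes of affine w-contractible schemes are affine w-contractible -/
theorem isWContractible_of_isClopen {Y : Scheme.{u}} [IsAffine Y]
    (hY : EtPBC.IsWContractible ↥(Γ(Y, ⊤))) (T : Y.Opens) (hT : IsClopen (T : Set ↥Y)) :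
    ∃ _ : IsAffine T.toScheme, EtPBC.IsWContractible ↥(Γ(T.toScheme, ⊤)) := by
  haveI : IsClosedImmersion T.ι := IsClosedImmersion.of_isPreimmersion T.ι (by
    rw [Scheme.Opens.range_ι]
    exact hT.1)
  exact Groth.Agent.Lib.Helper36.ProEtPush.isWContractible_of_isFinite T.ι hY

/-- the lifting property making the pro-system of clopen neighbourhoods a point -/
theorem nbhd_lift (W : S.ProEt) [IsAffine W.left] (hW : EtPBC.IsWContractible ↥(Γ(W.left, ⊤)))
    (w : ↥W.left) ⦃V : S.ProEt⦄ (R : Sieve V) (hR : R ∈ Scheme.ProEt.topology S V)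
    ⦃T : Nbhd W w⦄ (f : (nbhdFunctor W w).obj T ⟶ V) :
    ∃ (Y : S.ProEt) (g : Y ⟶ V) (_ : R g) (T' : Nbhd W w) (q : T' ⟶ T)
      (a : (nbhdFunctor W w).obj T' ⟶ Y), a ≫ g = (nbhdFunctor W w).map q ≫ f := by
  let PT : S.ProEt := (nbhdFunctor W w).obj T
  obtain ⟨hA, hwc⟩ := isWContractible_of_isClopen hW T.1 T.2.1
  haveI : IsAffine PT.left := hA
  obtain ⟨n, Tk, hclopen, hdisj, hcov, hTk⟩ :=
    exists_clopen_partition_mem_of_mem_topology PT hwc (R.pullback f)
      ((Scheme.ProEt.topology S).pullback_stable f hR)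
  let w' : ↥PT.left := ⟨w, T.2.2⟩
  obtain ⟨k, hk⟩ : ∃ k, w' ∈ (Tk k : Set ↥PT.left) := by
    have h1 : w' ∈ ⋃ k, (Tk k : Set ↥PT.left) := by rw [hcov]; trivial
    exact Set.mem_iUnion.mp h1
  let T'o : W.left.Opens := T.1.ι ''ᵁ (Tk k)
  have hle : T'o ≤ T.1 := T.1.ι_image_le (Tk k)
  have hclo : IsClopen (T'o : Set ↥W.left) := by
    have hemb : Topology.IsClosedEmbedding (T.1.ι : ↥T.1.toScheme → ↥W.left) :=
      ⟨T.1.ι.isOpenEmbedding.isEmbedding, by rw [Scheme.Opens.range_ι]; exact T.2.1.1⟩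
    refine ⟨?_, T'o.2⟩
    exact hemb.isClosedMap _ (hclopen k).1
  have hw : w ∈ T'o := ⟨w', hk, rfl⟩
  let T' : Nbhd W w := ⟨T'o, hclo, hw⟩
  let q : T' ⟶ T := homOfLE hle
  let Y : S.ProEt := objOver PT (Tk k).ι
  have hcomp : (T.1.ι.isoImage (Tk k)).inv ≫ (Tk k).ι = W.left.homOfLE hle :=
    Scheme.Opens.isoImage_ι_inv_ι T.1 (Tk k)
  let a : (nbhdFunctor W w).obj T' ⟶ Y :=
    MorphismProperty.Over.homMk ((T.1.ι.isoImage (Tk k)).inv) (by
      change (T.1.ι.isoImage (Tk k)).inv ≫ (Tk k).ι ≫ T.1.ι ≫ W.hom = T'o.ι ≫ W.hom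
      have h2 : W.left.homOfLE hle ≫ T.1.ι = T'o.ι := Scheme.homOfLE_ι _ _
      have h3 : ((T.1.ι.isoImage (Tk k)).inv ≫ (Tk k).ι) ≫ T.1.ι = T'o.ι := by
        rw [hcomp]
        exact h2
      have h4 := congrArg (fun m => m ≫ W.hom) h3
      simpa only [Category.assoc] using h4)
  refine ⟨Y, homOver PT (Tk k).ι ≫ f, hTk k, T', q, a, ?_⟩
  rw [← Category.assoc]
  congr 1
  apply MorphismProperty.Over.Hom.ext
  exact hcomp

/-- the point attached to a point of an affine w-contractible object -/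
noncomputable def pointOf (W : S.ProEt) [IsAffine W.left]
    (hW : EtPBC.IsWContractible ↥(Γ(W.left, ⊤))) (w : ↥W.left) :
    GrothendieckTopology.Point.{u + 1} (Scheme.ProEt.topology S) :=
  GrothendieckTopology.Point.ofIsCofiltered (nbhdFunctor W w) (nbhd_lift W hW w)

/-- the index type of our family of points -/
def Idx (S : Scheme.{u}) : Type (u + 1) :=
  Σ W : {W : S.ProEt // IsAffine W.left ∧ EtPBC.IsWContractible ↥(Γ(W.left, ⊤))}, ↥W.1.left

/-- the family of points -/
noncomputable def pointOfIdx (i : Idx S) :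
    GrothendieckTopology.Point.{u + 1} (Scheme.ProEt.topology S) :=
  haveI := i.1.2.1
  pointOf i.1.1 i.1.2.2 i.2

/-- the family of points, as a property -/
def pointFamily (S : Scheme.{u}) :
    ObjectProperty (GrothendieckTopology.Point.{u + 1} (Scheme.ProEt.topology S)) :=
  ObjectProperty.ofObj (pointOfIdx (S := S))

instance : ObjectProperty.Small.{u + 1} (pointFamily S) := by
  unfold pointFamily
  infer_instance

open GrothendieckTopology.Point.ofIsCofiltered in
/-- the key step for conservativity: given a map from an affine w-contractible object `W`, a sieve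
seen by all the points of `W` contains a clopen neighbourhood of every point of `W` -/
theorem exists_nbhd_mem (W : S.ProEt) [IsAffine W.left]
    (hW : EtPBC.IsWContractible ↥(Γ(W.left, ⊤))) {V : S.ProEt} (h : W ⟶ V) (R : Sieve V)
    (w : ↥W.left)
    (hR : ∀ (x : (pointOf W hW w).fiber.obj V),
      ∃ (Y : S.ProEt) (g : Y ⟶ V) (_ : R g) (y : (pointOf W hW w).fiber.obj Y),
        (pointOf W hW w).fiber.map g y = x) :
    ∃ T : W.left.Opens, w ∈ T ∧ R.arrows (homOver W T.ι ≫ h) := by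
  let p := nbhdFunctor W w
  let top : Nbhd W w := ⟨⊤, isClopen_univ, trivial⟩
  let ι₀ : p.obj top ⟶ W := homOver W (⊤ : W.left.Opens).ι
  obtain ⟨Y, g, hg, y, hy⟩ := hR (fiberMk (p := p) (ι₀ ≫ h))
  obtain ⟨T, ψ, rfl⟩ := fiberMk_jointly_surjective (p := p) y
  have hy' : fiberMk (p := p) (ψ ≫ g) = fiberMk (p := p) (ι₀ ≫ h) := by
    rw [← fiber_map_fiberMk]
    exact hy
  have hle : T ≤ top := fun x _ => trivial
  rw [← fiberMk_map_comp (p := p) (homOfLE hle) (ι₀ ≫ h)] at hy'
  obtain ⟨T', q, hq⟩ := exists_of_fiberMk_eq_fiberMk hy'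
  refine ⟨T'.1, T'.2.2, ?_⟩
  have h1 : homOver W T'.1.ι = p.map q ≫ p.map (homOfLE hle) ≫ ι₀ := by
    apply MorphismProperty.Over.Hom.ext
    change T'.1.ι = W.left.homOfLE (leOfHom q) ≫ W.left.homOfLE (leOfHom (homOfLE hle)) ≫
      (⊤ : W.left.Opens).ι
    rw [Scheme.homOfLE_ι, Scheme.homOfLE_ι]
  have h2 : homOver W T'.1.ι ≫ h = (p.map q ≫ ψ) ≫ g :=
    calc homOver W T'.1.ι ≫ h = (p.map q ≫ p.map (homOfLE hle) ≫ ι₀) ≫ h :=
          congrArg (fun m => m ≫ h) h1
      _ = p.map q ≫ p.map (homOfLE hle) ≫ ι₀ ≫ h :=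
          (Category.assoc _ _ _).trans (congrArg (fun m => p.map q ≫ m) (Category.assoc _ _ _))
      _ = p.map q ≫ ψ ≫ g := hq.symm
      _ = (p.map q ≫ ψ) ≫ g := (Category.assoc _ _ _).symm
  rw [h2]
  exact R.downward_closed hg _

theorem isConservativeFamilyOfPoints_pointFamily (S : Scheme.{u}) :
    (pointFamily S).IsConservativeFamilyOfPoints := by
  apply ObjectProperty.IsConservativeFamilyOfPoints.mk'
  intro V R hR
  obtain ⟨ι, D, _, fam, _, hmem, hwc⟩ := exists_affine_wContractible_family V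
  apply (Scheme.ProEt.topology S).transitive (generate_ofArrows_mem_topology V _ fam hmem)
  rintro Y' f' ⟨Y'', a, b, ⟨i⟩, rfl⟩
  rw [Sieve.pullback_comp]
  apply (Scheme.ProEt.topology S).pullback_stable
  let W : S.ProEt := objOver V (fam i)
  let h : W ⟶ V := homOver V (fam i)
  haveI hWa : IsAffine W.left := inferInstanceAs (IsAffine (Spec (.of (D i))))
  have hWc : EtPBC.IsWContractible ↥(Γ(W.left, ⊤)) :=
    isWContractible_of_ringEquiv
      (Scheme.ΓSpecIso (.of (D i))).commRingCatIsoToRingEquiv.symm (hwc i)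
  have key : ∀ w : ↥W.left, ∃ T : W.left.Opens, w ∈ T ∧
      (R.pullback h).arrows (homOver W T.ι) := by
    intro w
    apply exists_nbhd_mem W hWc h R w
    intro x
    let Φ : (pointFamily S).FullSubcategory :=
      ⟨pointOfIdx ⟨⟨W, hWa, hWc⟩, w⟩, ObjectProperty.ofObj.mk _⟩
    exact hR Φ x
  choose T hwT hT using key
  refine (Scheme.ProEt.topology S).superset_covering ?_
    (generate_opens_mem_topology W T (by
      apply Set.eq_univ_of_forall
      intro w
      exact Set.mem_iUnion.mpr ⟨w, hwT w⟩))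
  rw [Sieve.generate_le_iff]
  rintro _ _ ⟨w⟩
  exact hT w

theorem hasEnoughPoints (S : Scheme.{u}) :
    GrothendieckTopology.HasEnoughPoints.{u + 1} (Scheme.ProEt.topology S) :=
  ⟨⟨pointFamily S, inferInstance, isConservativeFamilyOfPoints_pointFamily S⟩⟩

end Groth.Agent.Lib.Helper36.ProEtPoints
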