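import Groth.Agent.Lib.Helper36.ProEtRestrictInj
import Groth.Agent.Lib.Helper33.BigSiteExact
import Mathlib.CategoryTheory.Adjunction.Triple

set_option autoImplicit false
open CategoryTheory CategoryTheory.Limits AlgebraicGeometry Opposite
universe u

namespace Groth.Agent.Lib.Helper36.ProEtRestrictInj

variable (S : Scheme.{u})

instance isCocontinuous_forget :
    (Scheme.ProEt.forget S).IsCocontinuous (Scheme.ProEt.topology S)
      (Scheme.proetaleTopology.over S) := by
  have h : Scheme.ProEt.topology S =
      (Scheme.ProEt.forget S).restrictedTopology (Scheme.proetaleTopology.over S) :=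
    MorphismProperty.toGrothendieck_comap_forget_eq_restrictedTopology _
      Scheme.proetalePrecoverage_le_precoverage_weaklyEtale
  rw [h]
  infer_instance

/-- The adjoint triple `u_s ⊣ u^s ⊣ u_*`. -/
noncomputable def triple : Adjunction.Triple
    ((Scheme.ProEt.forget S).sheafPullback AddCommGrpCat.{u + 1} (Scheme.ProEt.topology S)
      (Scheme.proetaleTopology.over S))
    ((Scheme.ProEt.forget S).sheafPushforwardContinuous AddCommGrpCat.{u + 1}
      (Scheme.ProEt.topology S) (Scheme.proetaleTopology.over S))
    ((Scheme.ProEt.forget S).sheafPushforwardCocontinuous AddCommGrpCat.{u + 1}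
      (Scheme.ProEt.topology S) (Scheme.proetaleTopology.over S)) where
  adj₁ := (Scheme.ProEt.forget S).sheafAdjunctionContinuous AddCommGrpCat.{u + 1}
      (Scheme.ProEt.topology S) (Scheme.proetaleTopology.over S)
  adj₂ := (Scheme.ProEt.forget S).sheafAdjunctionCocontinuous AddCommGrpCat.{u + 1}
      (Scheme.ProEt.topology S) (Scheme.proetaleTopology.over S)

theorem isIso_counit_cocontinuous :
    IsIso ((Scheme.ProEt.forget S).sheafAdjunctionCocontinuous AddCommGrpCat.{u + 1}
      (Scheme.ProEt.topology S) (Scheme.proetaleTopology.over S)).counit := by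
  apply +allowSynthFailures NatIso.isIso_of_isIso_app
  intro Y
  have h1 : IsIso (((Scheme.ProEt.forget S).sheafAdjunctionCocontinuous AddCommGrpCat.{u + 1}
      (Scheme.ProEt.topology S) (Scheme.proetaleTopology.over S)).counit.app Y).hom := by
    rw [Functor.sheafAdjunctionCocontinuous_counit_app_hom]
    have : (Scheme.ProEt.forget S).op.Full := inferInstance
    have : (Scheme.ProEt.forget S).op.Faithful := inferInstance
    have : ∀ (F : S.ProEtᵒᵖ ⥤ AddCommGrpCat.{u + 1}),
      (Scheme.ProEt.forget S).op.HasPointwiseRightKanExtension F := inferInstance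
    rw [Functor.ranAdjunction_counit]
    apply +allowSynthFailures NatIso.isIso_of_isIso_app
    intro X
    exact (Functor.isPointwiseRightKanExtensionRanCounit (Scheme.ProEt.forget S).op Y.obj
      ((Scheme.ProEt.forget S).op.obj X)).isIso_hom_app
  have h2 : IsIso ((sheafToPresheaf _ _).map
      (((Scheme.ProEt.forget S).sheafAdjunctionCocontinuous AddCommGrpCat.{u + 1}
      (Scheme.ProEt.topology S) (Scheme.proetaleTopology.over S)).counit.app Y)) := h1
  exact isIso_of_reflects_iso _ (sheafToPresheaf _ _)

theorem isIso_unit_continuous :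
    IsIso ((Scheme.ProEt.forget S).sheafAdjunctionContinuous AddCommGrpCat.{u + 1}
      (Scheme.ProEt.topology S) (Scheme.proetaleTopology.over S)).unit :=
  (triple S).isIso_unit_iff_isIso_counit.2 (isIso_counit_cocontinuous S)

instance preservesFiniteLimits_forget :
    PreservesFiniteLimits ((Scheme.ProEt.forget S).sheafPushforwardContinuous AddCommGrpCat.{u + 1}
      (Scheme.ProEt.topology S) (Scheme.proetaleTopology.over S)) := by
  have : PreservesLimitsOfSize.{0, 0} ((Scheme.ProEt.forget S).sheafPushforwardContinuous
      AddCommGrpCat.{u + 1} (Scheme.ProEt.topology S) (Scheme.proetaleTopology.over S)) :=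
    (triple S).adj₁.rightAdjoint_preservesLimits
  exact PreservesLimitsOfSize.preservesFiniteLimits _

instance preservesFiniteColimits_forget :
    PreservesFiniteColimits ((Scheme.ProEt.forget S).sheafPushforwardContinuous AddCommGrpCat.{u + 1}
      (Scheme.ProEt.topology S) (Scheme.proetaleTopology.over S)) := by
  have : PreservesColimitsOfSize.{0, 0} ((Scheme.ProEt.forget S).sheafPushforwardContinuous
      AddCommGrpCat.{u + 1} (Scheme.ProEt.topology S) (Scheme.proetaleTopology.over S)) :=
    (triple S).adj₂.leftAdjoint_preservesColimits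
  exact PreservesColimitsOfSize.preservesFiniteColimits _

end Groth.Agent.Lib.Helper36.ProEtRestrictInj

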