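import Mathlib.AlgebraicGeometry.Sites.Proetale
import Mathlib.CategoryTheory.Sites.Over
import Groth.Agent.Lib.Helper26.ShriekExact
import Groth.Agent.Lib.Helper6.LanFlat
import Mathlib.CategoryTheory.Preadditive.Injective.Preserves

set_option autoImplicit false
open CategoryTheory CategoryTheory.Limits AlgebraicGeometry Opposite
universe u

namespace Groth.Agent.Lib.Helper36.ProEtRestrictInj

variable {T S : Scheme.{u}} (f : T ⟶ S)

/-- Step 1: restriction along `Over.map f` on big pro-étale sites preserves injectives. -/
theorem preservesInjectiveObjects_overMap :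
    ((Over.map f).sheafPushforwardContinuous AddCommGrpCat.{u + 1}
      (Scheme.proetaleTopology.over T) (Scheme.proetaleTopology.over S)).PreservesInjectiveObjects := by
  have hlan := Groth.Agent.Lib.Helper26.ShriekExact.preservesFiniteLimits_lan f
  have e := Functor.sheafPullbackConstruction.sheafPullbackIso (Over.map f) AddCommGrpCat.{u + 1}
    (Scheme.proetaleTopology.over T) (Scheme.proetaleTopology.over S)
  have h1 : PreservesFiniteLimits (Functor.sheafPullbackConstruction.sheafPullback (Over.map f)
      AddCommGrpCat.{u + 1} (Scheme.proetaleTopology.over T) (Scheme.proetaleTopology.over S)) := by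
    unfold Functor.sheafPullbackConstruction.sheafPullback
    have : PreservesFiniteLimits ((Over.map f).op.lan ⋙
        presheafToSheaf (Scheme.proetaleTopology.over S) AddCommGrpCat.{u + 1}) :=
      comp_preservesFiniteLimits _ _
    apply comp_preservesFiniteLimits
  have h2 : PreservesFiniteLimits ((Over.map f).sheafPullback AddCommGrpCat.{u + 1}
      (Scheme.proetaleTopology.over T) (Scheme.proetaleTopology.over S)) :=
    preservesFiniteLimits_of_natIso e.symm
  have : ((Over.map f).sheafPullback AddCommGrpCat.{u + 1}
      (Scheme.proetaleTopology.over T) (Scheme.proetaleTopology.over S)).PreservesMonomorphisms :=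
    inferInstance
  exact Functor.preservesInjectiveObjects_of_adjunction_of_preservesMonomorphisms
    ((Over.map f).sheafAdjunctionContinuous AddCommGrpCat.{u + 1}
      (Scheme.proetaleTopology.over T) (Scheme.proetaleTopology.over S))

instance hasExactColimitsOfShape_ab (U : (Over T)ᵒᵖ) :
    HasExactColimitsOfShape (CostructuredArrow (Scheme.ProEt.forget T).op U)
      AddCommGrpCat.{u + 1} := by
  have := Groth.Agent.Lib.Helper6.LanFlat.isFiltered_costructuredArrow_op (Scheme.ProEt.forget T) U
  have : IsFiltered (ULiftHom.{u+1} (CostructuredArrow (Scheme.ProEt.forget T).op U)) :=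
    IsFiltered.of_equivalence ULiftHom.equiv
  exact HasExactColimitsOfShape.of_domain_equivalence _
    (ULiftHom.equiv (C := CostructuredArrow (Scheme.ProEt.forget T).op U)).symm

/-- Step 2: restriction from the big to the small pro-étale site preserves injectives. -/
theorem preservesInjectiveObjects_forget :
    ((Scheme.ProEt.forget T).sheafPushforwardContinuous AddCommGrpCat.{u + 1}
      (Scheme.ProEt.topology T) (Scheme.proetaleTopology.over T)).PreservesInjectiveObjects := by
  have h2 : PreservesFiniteLimits ((Scheme.ProEt.forget T).sheafPullback AddCommGrpCat.{u + 1}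
      (Scheme.ProEt.topology T) (Scheme.proetaleTopology.over T)) :=
    Groth.Agent.Lib.Helper6.LanFlat.sheafPullback_preservesFiniteLimits (Scheme.ProEt.forget T)
      AddCommGrpCat.{u + 1} _ _
  have : ((Scheme.ProEt.forget T).sheafPullback AddCommGrpCat.{u + 1}
      (Scheme.ProEt.topology T) (Scheme.proetaleTopology.over T)).PreservesMonomorphisms :=
    inferInstance
  exact Functor.preservesInjectiveObjects_of_adjunction_of_preservesMonomorphisms
    ((Scheme.ProEt.forget T).sheafAdjunctionContinuous AddCommGrpCat.{u + 1}
      (Scheme.ProEt.topology T) (Scheme.proetaleTopology.over T))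

end Groth.Agent.Lib.Helper36.ProEtRestrictInj

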