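import Mathlib
import Groth.Prelude.Def_ProEtS
import Groth.Agent.Lib.Helper36.ExtZeroLim
import Groth.Agent.Lib.Helper36.PullSections
import Groth.Agent.Lib.Helper36.ProEtPoints

set_option autoImplicit false
set_option linter.style.haveILetI false
universe u
open CategoryTheory CategoryTheory.Limits AlgebraicGeometry Opposite

namespace Groth.Agent.Lib.Helper36.ShortExactIJ

open Groth.Agent.Lib.Helper36.ProEtSite Groth.Agent.Lib.Helper36.ProEtDec
  Groth.Agent.Lib.Helper36.ProEtExtZero Groth.Agent.Lib.Helper36.ExtZeroLim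
  Groth.Agent.Lib.Helper36.PullSections

variable {U X : Scheme.{u}} (j : U ⟶ X) [IsOpenImmersion j] [QuasiCompact j]

/-- Decomposition of an affine object with w-contractible ring of functions with respect to a
quasi-compact open immersion `j`: a piece over `U` and a piece all of whose points specialise to
points outside `U`. -/
theorem exists_dec (W : X.ProEt) [IsAffine W.left]
    (hW : EtPBC.IsWContractible ↥(Γ(W.left, ⊤))) :
    ∃ (V₁ : X.ProEt) (π₁ : V₁ ⟶ W) (W₂' : U.ProEt) (π₂ : (ProEtS.compP j).obj W₂' ⟶ W)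
      (_ : IsOpenImmersion π₁.left) (_ : IsOpenImmersion π₂.left) (_ : IsAffine V₁.left),
      (∀ x : ↥W.left, x ∈ Set.range π₁.left ∨ x ∈ Set.range π₂.left) ∧
      Disjoint (Set.range π₁.left) (Set.range π₂.left) ∧
      EtPBC.IsWContractible ↥(Γ(V₁.left, ⊤)) ∧
      (∀ v : ↥V₁.left, ∃ z : ↥V₁.left, V₁.hom z ∉ Set.range j ∧ v ⤳ z) := by
  let K : Set ↥W.left := (W.hom ⁻¹' Set.range j)ᶜ
  have hopen : IsOpen (W.hom ⁻¹' Set.range j) :=
    j.isOpenEmbedding.isOpen_range.preimage W.hom.continuous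
  have hK : IsClosed K := hopen.isClosed_compl
  have hKc : IsCompact Kᶜ := by
    rw [compl_compl]
    have h1 : Set.range (pullback.fst W.hom j) = W.hom ⁻¹' Set.range j :=
      Scheme.Pullback.range_fst W.hom j
    rw [← h1]
    haveI : CompactSpace ↥((𝟭 Scheme).obj W.left) := inferInstanceAs (CompactSpace ↥W.left)
    haveI : CompactSpace ↥(pullback W.hom j) :=
      QuasiCompact.compactSpace_of_compactSpace (pullback.fst W.hom j)
    exact isCompact_range (pullback.fst W.hom j).continuous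
  obtain ⟨W₁, W₂, hcov, hdisj, hW₂, hW₁, hW₁aff⟩ := exists_clopen_dec W.left hW K hK hKc
  have hW₁compl : (W₁ : Set ↥W.left) = (W₂ : Set ↥W.left)ᶜ := by
    ext x
    constructor
    · intro hx hx2
      exact Set.disjoint_left.mp hdisj hx hx2
    · intro hx
      have : x ∈ (W₁ : Set ↥W.left) ∪ W₂ := hcov ▸ Set.mem_univ x
      rcases this with h | h
      · exact h
      · exact absurd h hx
  have hW₁closed : IsClosed (W₁ : Set ↥W.left) := by
    rw [hW₁compl]
    exact W₂.2.isClosed_compl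
  have hW₁clopen : IsClopen (W₁ : Set ↥W.left) := ⟨hW₁closed, W₁.2⟩
  let V₁ : X.ProEt := objOver W W₁.ι
  let π₁ : V₁ ⟶ W := homOver W W₁.ι
  have hV₁aff : IsAffine V₁.left := hW₁aff
  have hV₁ : ∀ v : ↥V₁.left, ∃ z : ↥V₁.left, V₁.hom z ∉ Set.range j ∧ v ⤳ z := by
    intro v
    obtain ⟨z, hzK, hvz⟩ := hW₁ (W₁.ι v) v.2
    have hz : z ∈ (W₁ : Set ↥W.left) := hvz.mem_closed hW₁closed v.2
    let z' : ↥W₁.toScheme := ⟨z, hz⟩
    refine ⟨z', ?_, ?_⟩
    · change W.hom (W₁.ι z') ∉ Set.range j
      exact hzK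
    · exact (W₁.ι.isOpenEmbedding.isInducing.specializes_iff).mp hvz
  have hrange : Set.range (W₂.ι ≫ W.hom) ⊆ Set.range j := by
    rintro _ ⟨x, rfl⟩
    have hx : W₂.ι x ∈ Kᶜ := hW₂ x.2
    rw [compl_compl] at hx
    exact hx
  let g : W₂.toScheme ⟶ U := IsOpenImmersion.lift j (W₂.ι ≫ W.hom) hrange
  have hg : g ≫ j = W₂.ι ≫ W.hom := IsOpenImmersion.lift_fac _ _ _
  haveI : WeaklyEtale g := by
    haveI : WeaklyEtale (g ≫ j) := by rw [hg]; infer_instance
    exact WeaklyEtale.of_comp g j
  let W₂' : U.ProEt := Scheme.ProEt.mk g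
  let π₂ : (ProEtS.compP j).obj W₂' ⟶ W := MorphismProperty.Over.homMk W₂.ι hg.symm
  refine ⟨V₁, π₁, W₂', π₂, inferInstanceAs (IsOpenImmersion W₁.ι),
    inferInstanceAs (IsOpenImmersion W₂.ι), hV₁aff, ?_, ?_, ?_, hV₁⟩
  · intro x
    have hx : x ∈ (W₁ : Set ↥W.left) ∪ W₂ := hcov ▸ Set.mem_univ x
    rcases hx with hx | hx
    · left
      change x ∈ Set.range W₁.ι
      rw [Scheme.Opens.range_ι]
      exact hx
    · right
      change x ∈ Set.range W₂.ι
      rw [Scheme.Opens.range_ι]
      exact hx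
  · change Disjoint (Set.range W₁.ι) (Set.range W₂.ι)
    rw [Scheme.Opens.range_ι, Scheme.Opens.range_ι]
    exact hdisj
  · exact (Groth.Agent.Lib.Helper36.ProEtPoints.isWContractible_of_isClopen hW W₁ hW₁clopen).2

omit [IsOpenImmersion j] [QuasiCompact j] in
/-- sheaf gluing for a cover by two disjoint open pieces -/
theorem existsUnique_of_two (Q : ProEtS.AbP X) {W V₁ V₂ : X.ProEt} (π₁ : V₁ ⟶ W)
    (π₂ : V₂ ⟶ W) [IsOpenImmersion π₁.left] [IsOpenImmersion π₂.left]
    (hcov : ∀ x : ↥W.left, x ∈ Set.range π₁.left ∨ x ∈ Set.range π₂.left)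
    (hdisj : Disjoint (Set.range π₁.left) (Set.range π₂.left))
    (t₁ : Q.obj.obj (op V₁)) (t₂ : Q.obj.obj (op V₂)) :
    ∃! x : Q.obj.obj (op W), Q.obj.map π₁.op x = t₁ ∧ Q.obj.map π₂.op x = t₂ := by
  let G : Sheaf (Scheme.ProEt.topology X) (Type (u + 1)) :=
    (sheafCompose (Scheme.ProEt.topology X) (forget AddCommGrpCat.{u + 1})).obj Q
  let V : Bool → X.ProEt := fun b => cond b V₂ V₁
  let π : ∀ b, V b ⟶ W := fun b => match b with
    | true => π₂
    | false => π₁
  haveI : ∀ b, IsOpenImmersion (π b).left := fun b => by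
    cases b
    · exact inferInstanceAs (IsOpenImmersion π₁.left)
    · exact inferInstanceAs (IsOpenImmersion π₂.left)
  have hcov' : Sieve.generate (Presieve.ofArrows V π) ∈ Scheme.ProEt.topology X W := by
    apply generate_ofArrows_mem_topology_of_isOpenImmersion W V π
    intro x
    rcases hcov x with hx | hx
    · exact ⟨false, hx⟩
    · exact ⟨true, hx⟩
  have hmono : ∀ b, Mono (π b) := fun b => by
    haveI : Mono (π b).left := inferInstance
    exact Groth.Agent.Lib.Helper36.ProEtSite.mono_of_mono_left _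
  have hdisj' : ∀ k l, k ≠ l → ∀ (Z : X.ProEt) (a : Z ⟶ V k) (b : Z ⟶ V l),
      a ≫ π k = b ≫ π l → IsEmpty ↥Z.left := by
    intro k l hkl Z a b hab
    constructor
    intro z
    have h1 : (a ≫ π k).left = (b ≫ π l).left := by rw [hab]
    have h2 : a.left ≫ (π k).left = b.left ≫ (π l).left := h1
    have h3 : (π k).left (a.left z) = (π l).left (b.left z) := by
      have h6 : (a.left ≫ (π k).left) z = (b.left ≫ (π l).left) z := by rw [h2]
      exact h6
    cases k <;> cases l
    · exact hkl rfl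
    · exact Set.disjoint_left.mp hdisj ⟨_, rfl⟩ ⟨_, h3.symm⟩
    · exact Set.disjoint_left.mp hdisj ⟨_, h3.symm⟩ ⟨_, rfl⟩
    · exact hkl rfl
  let t : ∀ k, G.obj.obj (op (V k)) := fun k =>
    match k with
    | true => t₂
    | false => t₁
  obtain ⟨s, hs, hsu⟩ := existsUnique_of_disjoint_cover G W V π hcov' hmono hdisj' t
  refine ⟨s, ⟨hs false, hs true⟩, ?_⟩
  rintro y ⟨hy1, hy2⟩
  apply hsu
  intro k
  cases k
  · exact hy1
  · exact hy2

section Sections

variable {Z : Scheme.{u}} (i : Z ⟶ X) [IsClosedImmersion i]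
  (hc : Set.range j = (Set.range i)ᶜ) [ProEtS.JPCont j] [ProEtS.PCont i] (F : ProEtS.AbP X)

include hc in
omit [QuasiCompact j] [ProEtS.JPCont j] [IsClosedImmersion i] in
/-- sections of `i_* G` vanish over objects coming from `U` -/
theorem subsingleton_pushP_compP (G : ProEtS.AbP Z) (W' : U.ProEt) :
    Subsingleton (((ProEtS.pushP i).obj G).obj.obj (op ((ProEtS.compP j).obj W'))) := by
  let V₂ := (ProEtS.compP j).obj W'
  haveI : IsEmpty ↥((ProEtS.bcP i).obj V₂).left := by
    constructor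
    intro p
    let p' : ↥(pullback V₂.hom i) := p
    have h1 : (pullback.fst V₂.hom i ≫ V₂.hom) p' = (pullback.snd V₂.hom i ≫ i) p' := by
      rw [pullback.condition]
    have h2 : (pullback.fst V₂.hom i ≫ V₂.hom) p' ∈ Set.range j :=
      ⟨W'.hom (pullback.fst V₂.hom i p'), rfl⟩
    have h3 : (pullback.snd V₂.hom i ≫ i) p' ∈ Set.range i := ⟨pullback.snd V₂.hom i p', rfl⟩
    rw [h1, hc] at h2
    exact h2 h3
  exact Groth.Agent.Lib.Helper36.ProEtSite.subsingleton_of_isEmpty
    ((sheafCompose (Scheme.ProEt.topology Z) (forget AddCommGrpCat.{u + 1})).obj G)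
    ((ProEtS.bcP i).obj V₂)

omit [QuasiCompact j] in
/-- the counit `j_! j⁻¹ F → F` is bijective on sections over objects coming from `U` -/
theorem bijective_counit_app_compP (W' : U.ProEt) :
    Function.Bijective (((ProEtS.extZeroPAdj j).counit.app F).hom.app
      (op ((ProEtS.compP j).obj W'))) := by
  haveI : ProEtS.PCont j := Groth.Agent.S0730.result j
  have h1 := (ProEtS.extZeroPAdj j).right_triangle_components F
  haveI : IsIso ((ProEtS.extZeroPAdj j).unit.app ((ProEtS.restrP j).obj F)) :=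
    (Groth.Agent.S0742.result j ((ProEtS.restrP j).obj F) ((ProEtS.restrP j).obj F)).1
  have h2 : IsIso ((ProEtS.restrP j).map ((ProEtS.extZeroPAdj j).counit.app F)) := by
    have h3 : IsIso ((ProEtS.extZeroPAdj j).unit.app ((ProEtS.restrP j).obj F) ≫
        (ProEtS.restrP j).map ((ProEtS.extZeroPAdj j).counit.app F)) := by
      rw [h1]
      exact IsIso.id _
    exact IsIso.of_isIso_comp_left ((ProEtS.extZeroPAdj j).unit.app ((ProEtS.restrP j).obj F)) _
  haveI h4 : IsIso (((sheafSections (Scheme.ProEt.topology U) AddCommGrpCat.{u + 1}).obj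
      (op W')).map ((ProEtS.restrP j).map ((ProEtS.extZeroPAdj j).counit.app F))) := inferInstance
  exact ConcreteCategory.bijective_of_isIso
    (((sheafSections (Scheme.ProEt.topology U) AddCommGrpCat.{u + 1}).obj
      (op W')).map ((ProEtS.restrP j).map ((ProEtS.extZeroPAdj j).counit.app F)))

include hc in
/-- The sequence `0 → j_! j⁻¹ F → F → i_* i⁻¹ F → 0` is short exact on sections over affine
objects with w-contractible ring of functions. -/
theorem sections_facts (W : X.ProEt) [IsAffine W.left]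
    (hW : EtPBC.IsWContractible ↥(Γ(W.left, ⊤))) :
    (∀ k, ((ProEtS.pullPushAdjP i).unit.app F).hom.app (op W)
      (((ProEtS.extZeroPAdj j).counit.app F).hom.app (op W) k) = 0) ∧
    Function.Injective (((ProEtS.extZeroPAdj j).counit.app F).hom.app (op W)) ∧
    Function.Surjective (((ProEtS.pullPushAdjP i).unit.app F).hom.app (op W)) ∧
    (∀ x, ((ProEtS.pullPushAdjP i).unit.app F).hom.app (op W) x = 0 →
      ∃ k, ((ProEtS.extZeroPAdj j).counit.app F).hom.app (op W) k = x) := by
  obtain ⟨V₁, π₁, W₂', π₂, hπ₁, hπ₂, hV₁aff, hcov, hdisj, hV₁wc, hV₁sp⟩ := exists_dec j W hW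
  let V₂ := (ProEtS.compP j).obj W₂'
  let K := (ProEtS.extZeroP j).obj ((ProEtS.restrP j).obj F)
  let G := (ProEtS.pushP i).obj ((ProEtS.pullP i).obj F)
  let ε : K ⟶ F := (ProEtS.extZeroPAdj j).counit.app F
  let η : F ⟶ G := (ProEtS.pullPushAdjP i).unit.app F
  -- vanishing
  have hK₁ : Subsingleton (K.obj.obj (op V₁)) :=
    subsingleton_sectP_extZeroP' j V₁ hV₁sp ((ProEtS.restrP j).obj F)
  have hG₂ : Subsingleton (G.obj.obj (op V₂)) :=
    subsingleton_pushP_compP j i hc ((ProEtS.pullP i).obj F) W₂'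
  -- bijectivity
  have hε₂ : Function.Bijective (ε.hom.app (op V₂)) := bijective_counit_app_compP j F W₂'
  have hsp' : ∀ v : ↥V₁.left, ∃ z : ↥V₁.left, V₁.hom z ∈ Set.range i ∧ v ⤳ z := by
    intro v
    obtain ⟨z, hz, hvz⟩ := hV₁sp v
    refine ⟨z, ?_, hvz⟩
    rw [hc] at hz
    exact not_not.mp hz
  have hT : ∃ _ : IsAffine (pullback V₁.hom i),
      EtPBC.IsWContractible ↥(Γ(pullback V₁.hom i, ⊤)) := by
    have hcomp : IsCompact (Set.range (pullback.fst V₁.hom i : pullback V₁.hom i ⟶ V₁.left))ᶜ := by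
      have h1 : Set.range (pullback.fst V₁.hom i : pullback V₁.hom i ⟶ V₁.left) =
          V₁.hom ⁻¹' Set.range i := Scheme.Pullback.range_fst V₁.hom i
      rw [h1, ← Set.preimage_compl, ← hc]
      have h2 : Set.range (pullback.fst V₁.hom j) = V₁.hom ⁻¹' Set.range j :=
        Scheme.Pullback.range_fst V₁.hom j
      rw [← h2]
      haveI : CompactSpace ↥((𝟭 Scheme).obj V₁.left) := inferInstanceAs (CompactSpace ↥V₁.left)
      haveI : CompactSpace ↥(pullback V₁.hom j) :=
        QuasiCompact.compactSpace_of_compactSpace (pullback.fst V₁.hom j)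
      exact isCompact_range (pullback.fst V₁.hom j).continuous
    exact Groth.Agent.Lib.Helper36.ProEtPush.isWContractible_of_isClosedImmersion
      (S := V₁.left) (pullback.fst V₁.hom i : pullback V₁.hom i ⟶ V₁.left) hcomp hV₁wc
  have hη₁ : Function.Bijective (η.hom.app (op V₁)) :=
    bijective_unit_app i V₁ hV₁wc hT hsp' F
  -- naturality
  have natε : ∀ {A B : X.ProEt} (π : A ⟶ B) (k : K.obj.obj (op B)),
      F.obj.map π.op (ε.hom.app (op B) k) = ε.hom.app (op A) (K.obj.map π.op k) :=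
    fun π k => (NatTrans.naturality_apply ε.hom π.op k).symm
  have natη : ∀ {A B : X.ProEt} (π : A ⟶ B) (x : F.obj.obj (op B)),
      G.obj.map π.op (η.hom.app (op B) x) = η.hom.app (op A) (F.obj.map π.op x) :=
    fun π x => (NatTrans.naturality_apply η.hom π.op x).symm
  -- gluing
  have hGinj : Function.Injective (G.obj.map π₁.op) :=
    (bijective_map_of_subsingleton G π₂ π₁ (fun x => (hcov x).symm) hdisj.symm hG₂).1
  have hKbij : Function.Bijective (K.obj.map π₂.op) :=
    bijective_map_of_subsingleton K π₁ π₂ hcov hdisj hK₁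
  refine ⟨?_, ?_, ?_, ?_⟩
  · intro k
    apply hGinj
    rw [natη, natε, @Subsingleton.elim _ hK₁ (K.obj.map π₁.op k) 0, map_zero, map_zero, map_zero]
  · rw [injective_iff_map_eq_zero]
    intro k hk
    apply hKbij.1
    apply hε₂.1
    rw [← natε, hk, map_zero, map_zero, map_zero]
  · intro y
    obtain ⟨x₁, hx₁⟩ := hη₁.2 (G.obj.map π₁.op y)
    obtain ⟨x, ⟨hx1, -⟩, -⟩ := existsUnique_of_two F π₁ π₂ hcov hdisj x₁ 0
    refine ⟨x, ?_⟩
    apply hGinj
    rw [natη, hx1, hx₁]
  · intro x hx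
    have h1 : F.obj.map π₁.op x = 0 := by
      apply hη₁.1
      rw [← natη, hx, map_zero, map_zero]
    obtain ⟨k₂, hk₂⟩ := hε₂.2 (F.obj.map π₂.op x)
    obtain ⟨k, hk⟩ := hKbij.2 k₂
    refine ⟨k, ?_⟩
    obtain ⟨x', -, hx'u⟩ := existsUnique_of_two F π₁ π₂ hcov hdisj (F.obj.map π₁.op x)
      (F.obj.map π₂.op x)
    have e1 : ε.hom.app (op W) k = x' := by
      apply hx'u
      constructor
      · rw [natε, @Subsingleton.elim _ hK₁ (K.obj.map π₁.op k) 0, map_zero, h1]
      · rw [natε, hk, hk₂]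
    have e2 : x = x' := hx'u x ⟨rfl, rfl⟩
    rw [e1, e2]

omit [IsOpenImmersion j] [QuasiCompact j] in
/-- a morphism of abelian sheaves vanishing on sections over affine objects with w-contractible
ring of functions is zero -/
theorem eq_zero_of_forall_wc {A B : ProEtS.AbP X} (φ : A ⟶ B)
    (H : ∀ (W : X.ProEt) (_ : IsAffine W.left) (_ : EtPBC.IsWContractible ↥(Γ(W.left, ⊤)))
      (x : A.obj.obj (op W)), φ.hom.app (op W) x = 0) : φ = 0 := by
  apply Sheaf.hom_ext
  ext ⟨V⟩ x
  change φ.hom.app (op V) x = 0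
  apply eq_zero_of_equalizerSieve_mem B V
  apply mem_topology_of_forall_wc
  intro W h hWaff hWwc
  change B.obj.map h.op (φ.hom.app (op V) x) = B.obj.map h.op 0
  rw [map_zero]
  have h1 := NatTrans.naturality_apply φ.hom h.op x
  rw [← h1]
  exact H W hWaff hWwc _

include hc in
theorem shortExact :
    ∃ h : (ProEtS.extZeroPAdj j).counit.app F ≫ (ProEtS.pullPushAdjP i).unit.app F = 0,
      (ShortComplex.mk _ _ h).ShortExact := by
  let K := (ProEtS.extZeroP j).obj ((ProEtS.restrP j).obj F)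
  let G := (ProEtS.pushP i).obj ((ProEtS.pullP i).obj F)
  let ε : K ⟶ F := (ProEtS.extZeroPAdj j).counit.app F
  let η : F ⟶ G := (ProEtS.pullPushAdjP i).unit.app F
  have hzero : ε ≫ η = 0 := by
    apply eq_zero_of_forall_wc
    intro W hWaff hWwc x
    exact (sections_facts j i hc F W hWwc).1 x
  refine ⟨hzero, ?_⟩
  -- `η` is an epimorphism
  haveI hepi : Epi η := by
    haveI : Sheaf.IsLocallySurjective η := by
      constructor
      intro V s
      apply mem_topology_of_forall_wc
      intro W h hWaff hWwc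
      exact (sections_facts j i hc F W hWwc).2.2.1 _
    infer_instance
  -- the kernel sequence
  let S' : ShortComplex (ProEtS.AbP X) := ShortComplex.mk (kernel.ι η) η (kernel.condition η)
  have hS' : S'.ShortExact :=
    ShortComplex.ShortExact.mk' (S'.exact_of_f_is_kernel (kernelIsKernel η))
      (inferInstanceAs (Mono (kernel.ι η))) hepi
  let κ : K ⟶ kernel η := kernel.lift η ε hzero
  have hκ : κ ≫ kernel.ι η = ε := kernel.lift_ι _ _ _
  haveI : IsIso κ := by
    apply isIso_of_bijective_of_wc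
    intro W hWaff hWwc
    obtain ⟨-, hinj, -, hex⟩ := sections_facts j i hc F W hWwc
    let Γ := (sheafSections (Scheme.ProEt.topology X) AddCommGrpCat.{u + 1}).obj (op W)
    haveI : PreservesFiniteLimits Γ :=
      inferInstanceAs (PreservesFiniteLimits (sheafToPresheaf (Scheme.ProEt.topology X)
        AddCommGrpCat.{u + 1} ⋙ (evaluation _ _).obj (op W)))
    haveI : Γ.Additive := Functor.additive_of_preserves_binary_products Γ
    have hΓ := (Functor.preservesFiniteLimits_iff_forall_exact_map_and_mono Γ).mp inferInstance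
      S' hS'
    have hιinj : Function.Injective ((kernel.ι η).hom.app (op W)) :=
      (AddCommGrpCat.mono_iff_injective (Γ.map (kernel.ι η))).mp hΓ.2
    have hκapp : ∀ k, (kernel.ι η).hom.app (op W) (κ.hom.app (op W) k) = ε.hom.app (op W) k :=
      fun k => congrArg (fun m => m.hom.app (op W) k) hκ
    constructor
    · intro k k' hkk
      apply hinj
      change ε.hom.app (op W) k = ε.hom.app (op W) k'
      rw [← hκapp, ← hκapp, hkk]
    · intro y
      have hy : η.hom.app (op W) ((kernel.ι η).hom.app (op W) y) = 0 :=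
        congrArg (fun m => m.hom.app (op W) y) (kernel.condition η)
      obtain ⟨k, hk⟩ := hex _ hy
      refine ⟨k, ?_⟩
      apply hιinj
      rw [hκapp]
      exact hk
  let e : ShortComplex.mk ε η hzero ≅ S' :=
    ShortComplex.isoMk (asIso κ) (Iso.refl _) (Iso.refl _)
      (by simp [S', hκ]) (by simp [S'])
  exact ShortComplex.shortExact_of_iso e.symm hS'

end Sections

end Groth.Agent.Lib.Helper36.ShortExactIJ
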