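import Mathlib
import Groth.Prelude.Def_ProEtW
import Groth.Agent.Lib.Helper36.WLocSpace
import Groth.Agent.Lib.Helper36.SigmaLocIdLoc

set_option autoImplicit false
set_option linter.unusedSectionVars false
universe u

namespace Groth.Agent.Lib.Helper36.SigmaLoc

open Topology WLoc

attribute [local instance] Classical.propDecidable

/-- algebra maps out of `Bw` are determined by the induced map on spectra -/
theorem algHom_ext_of_comap_eq {A : Type u} [CommRing A] {T : Type u} [TopologicalSpace T]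
    [CompactSpace T] {Sg : T → Submonoid A} {B : Type u} [CommRing B] [Algebra A B]
    (φ φ' : Bw A T Sg →ₐ[A] B)
    (h : ∀ y : PrimeSpectrum B, PrimeSpectrum.comap φ.toRingHom y =
      PrimeSpectrum.comap φ'.toRingHom y) : φ = φ' := by
  have hρ : ∀ Q : DiscreteQuotient T, (φ.toRingHom.comp (ρ Q) : (Q → A) →+* B) =
      φ'.toRingHom.comp (ρ Q) := by
    intro Q
    have : Fintype Q := Fintype.ofFinite Q
    apply ringHom_pi_ext
    · intro a
      simp only [RingHom.comp_apply, ρ_algebraMap]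
      exact (φ.commutes a).trans (φ'.commutes a).symm
    · intro k y
      rw [RingHom.comp_apply, RingHom.comp_apply]
      exact SetLike.ext_iff.mp (congrArg PrimeSpectrum.asIdeal (h y)) _
  apply AlgHom.ext
  intro b
  obtain ⟨j, n, g, hg⟩ := exists_normal_form b
  have h1 : φ b * φ (ρ j.Q (j.ε ^ n)) = φ (ρ j.Q g) := by rw [← map_mul, hg]
  have h2 : φ' b * φ' (ρ j.Q (j.ε ^ n)) = φ' (ρ j.Q g) := by rw [← map_mul, hg]
  have e1 : φ (ρ j.Q g) = φ' (ρ j.Q g) := congrArg (fun ψ : (j.Q → A) →+* B => ψ g) (hρ j.Q)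
  have e2 : φ (ρ j.Q (j.ε ^ n)) = φ' (ρ j.Q (j.ε ^ n)) :=
    congrArg (fun ψ : (j.Q → A) →+* B => ψ (j.ε ^ n)) (hρ j.Q)
  have hu : IsUnit (φ (ρ j.Q (j.ε ^ n))) := (isUnit_ρ_pow j n).map φ
  apply hu.mul_left_injective
  change φ b * φ (ρ j.Q (j.ε ^ n)) = φ' b * φ (ρ j.Q (j.ε ^ n))
  rw [h1, e1, ← h2, e2]

section Univ

variable (A : Type u) [CommRing A] (B : Type u) [CommRing B] [Algebra A B]
variable (hB : ProEtW.IsWLocal (PrimeSpectrum B))

/-- closed points of `Spec B` to the constructible spectrum of `A` -/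
def ν : Yc (PrimeSpectrum B) → TCons A := fun y =>
  WithTopology.toTopology _ (PrimeSpectrum.comap (algebraMap A B) y.1)

include hB in
theorem continuous_ν : Continuous (ν A B) := by
  have hT2 := t2Space_Yc hB
  have hemb : IsClosedEmbedding (Subtype.val : Yc (PrimeSpectrum B) → PrimeSpectrum B) :=
    hB.2.1.isClosedEmbedding_subtypeVal
  let g : Yc (PrimeSpectrum B) → PrimeSpectrum A := fun y =>
    PrimeSpectrum.comap (algebraMap A B) y.1
  have hg : Continuous g := (PrimeSpectrum.continuous_comap _).comp continuous_subtype_val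
  have hcont : @Continuous _ _ _ (constructibleTopology (PrimeSpectrum A)) g := by
    refine continuous_generateFrom_iff.2 ?_
    rintro s (⟨hso, -⟩ | ⟨hsc, hscc⟩)
    · exact hso.preimage hg
    · have h1 : IsCompact (PrimeSpectrum.comap (algebraMap A B) ⁻¹' sᶜ) :=
        (isSpectralMap_comap (algebraMap A B)).isCompact_preimage_of_isOpen hsc.isOpen_compl hscc
      have h2 : IsCompact (g ⁻¹' sᶜ) := hemb.isCompact_preimage h1
      have h3 : IsClosed (g ⁻¹' sᶜ) := h2.isClosed
      rw [Set.preimage_compl] at h3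
      simpa using h3.isOpen_compl
  rw [continuous_def]
  intro s hs
  rw [WithConstructibleTopology.isOpen_iff] at hs
  exact (continuous_def.1 hcont) _ hs

/-- `τ : Spec B → (Spec A)_cons` -/
noncomputable def τ2 : PrimeSpectrum B → TCons A := ν A B ∘ cl hB

theorem continuous_τ2 : Continuous (τ2 A B hB) := (continuous_ν A B hB).comp (continuous_cl hB)

theorem πCons_τ2 (y : PrimeSpectrum B) :
    πCons A (τ2 A B hB y) = PrimeSpectrum.comap (algebraMap A B) (cl hB y).1 := rfl

theorem hτ2 (y : PrimeSpectrum B) (a : A) (ha : a ∈ SgW (πCons A) (τ2 A B hB y)) :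
    algebraMap A B a ∉ y.asIdeal := by
  intro hmem
  have hle : y ≤ (cl hB y).1 := (PrimeSpectrum.le_iff_specializes _ _).mpr (specializes_cl hB y)
  exact ha (hle hmem)

/-- the universal map -/
noncomputable def Φ2 : Aw A →ₐ[A] B := descAlgHom (τ2 A B hB) (continuous_τ2 A B hB) (hτ2 A B hB)

theorem homeoW_symm_comap_Φ2 (y : PrimeSpectrum B) :
    ((homeoW A).symm (PrimeSpectrum.comap (Φ2 A B hB).toRingHom y)).1 =
      (PrimeSpectrum.comap (algebraMap A B) y, τ2 A B hB y) := by
  have h1 : PrimeSpectrum.comap (Φ2 A B hB).toRingHom y =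
      homeoW A ⟨(PrimeSpectrum.comap (algebraMap A B) y, τ2 A B hB y),
        mem_Yw_of_hτ (τ2 A B hB) (hτ2 A B hB) y⟩ :=
    comap_descHom (τ2 A B hB) (continuous_τ2 A B hB) (hτ2 A B hB) y
  rw [h1, Homeomorph.symm_apply_apply]

theorem isWLocalMap_Φ2 : ProEtW.IsWLocalMap (PrimeSpectrum.comap (Φ2 A B hB).toRingHom) := by
  refine ⟨isSpectralMap_comap _, fun y hy => ?_⟩
  rw [isClosed_singleton_iff_Aw, homeoW_symm_comap_Φ2]
  change PrimeSpectrum.comap (algebraMap A B) y = πCons A (τ2 A B hB y)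
  rw [πCons_τ2, cl_of_isClosed hB hy]

theorem Φ2_unique (φ' : Aw A →ₐ[A] B)
    (hφ' : ProEtW.IsWLocalMap (PrimeSpectrum.comap φ'.toRingHom)) : φ' = Φ2 A B hB := by
  apply algHom_ext_of_comap_eq
  intro y
  apply (homeoW A).symm.injective
  apply Subtype.ext
  rw [homeoW_symm_comap_Φ2]
  have hfst : ∀ z : PrimeSpectrum B,
      ((homeoW A).symm (PrimeSpectrum.comap φ'.toRingHom z)).1.1 =
        PrimeSpectrum.comap (algebraMap A B) z := by
    intro z
    rw [show ((homeoW A).symm (PrimeSpectrum.comap φ'.toRingHom z)).1.1 =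
      PrimeSpectrum.comap (algebraMap A (Aw A)) (PrimeSpectrum.comap φ'.toRingHom z) from
      homeo_symm_fst (hSgCons A) _]
    ext a
    simp only [PrimeSpectrum.comap_asIdeal, Ideal.mem_comap]
    rw [show φ'.toRingHom (algebraMap A (Aw A) a) = algebraMap A B a from φ'.commutes a]
  -- closed points
  have hclosed : ∀ z : PrimeSpectrum B, IsClosed ({z} : Set (PrimeSpectrum B)) →
      ((homeoW A).symm (PrimeSpectrum.comap φ'.toRingHom z)).1.2 = τ2 A B hB z := by
    intro z hz
    have h1 := (isClosed_singleton_iff_Aw A _).mp (hφ'.2 z hz)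
    rw [hfst] at h1
    apply WithTopology.ofTopology_injective
    change πCons A _ = πCons A (τ2 A B hB z)
    rw [← h1, πCons_τ2, cl_of_isClosed hB hz]
  refine Prod.ext (hfst y) ?_
  -- general points
  set y₀ := (cl hB y).1 with hy₀
  have hsp : y ⤳ y₀ := specializes_cl hB y
  have hsp' : PrimeSpectrum.comap φ'.toRingHom y ⤳ PrimeSpectrum.comap φ'.toRingHom y₀ :=
    hsp.map (PrimeSpectrum.continuous_comap _)
  have hsp'' : (homeoW A).symm (PrimeSpectrum.comap φ'.toRingHom y) ⤳
      (homeoW A).symm (PrimeSpectrum.comap φ'.toRingHom y₀) :=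
    hsp'.map (homeoW A).symm.continuous
  have h2 := ((specializes_iff_W (πCons A) _ _).mp hsp'').2
  change ((homeoW A).symm (PrimeSpectrum.comap φ'.toRingHom y)).1.2 = τ2 A B hB y
  rw [h2, hclosed y₀ (cl hB y).2]
  change ν A B (cl hB y₀) = ν A B (cl hB y)
  rw [hy₀, cl_cl]

end Univ

end Groth.Agent.Lib.Helper36.SigmaLoc
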