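import Mathlib
import Groth.Agent.Lib.Helper9.HensK.StrictUnique
import Groth.Agent.Lib.Helper9.HensK.IndEtale
import Groth.Agent.Lib.Helper9.FlatDescent
import Groth.Agent.Lib.Helper36.OlivierMain
import Groth.Agent.Lib.Helper36.WeaklyEtaleHom
import Groth.Agent.Lib.Helper36.WLSquareMisc
import Groth.Agent.S0736

/-!
# Strict henselizations and weakly étale maps (helper36)
-/

set_option autoImplicit false
set_option linter.style.haveILetI false
universe u

namespace Groth.Agent.Lib.Helper36.StrictHensWE

open TensorProduct IsLocalRing Groth.Agent.Lib.Helper36.WE Groth.Agent.Lib.Helper9.HensK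

/-- Source descent for weakly étale: `A → B → C` with `B → C` faithfully flat and `A → C` weakly
étale implies `A → B` weakly étale. -/
theorem weaklyEtale_of_faithfullyFlat_of_comp (A B C : Type*) [CommRing A] [CommRing B]
    [CommRing C] [Algebra A B] [Algebra B C] [Algebra A C] [IsScalarTower A B C]
    [Module.FaithfullyFlat B C] [Algebra.WeaklyEtale A C] : Algebra.WeaklyEtale A B := by
  have hflat : Module.Flat A B :=
    Groth.Agent.Lib.Helper9.flat_of_faithfullyFlat_of_flat_comp A B C
  refine ⟨hflat, ?_⟩
  have hg : (algebraMap B C).FaithfullyFlat := RingHom.faithfullyFlat_algebraMap_iff.mpr inferInstance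
  apply RingHom.Flat.of_comp_of_faithfullyFlat_helper9 hg
  let j : B →ₐ[A] C := IsScalarTower.toAlgHom A B C
  have hj : j.toRingHom.Flat := by
    change (algebraMap B C).Flat
    exact RingHom.flat_algebraMap_iff.mpr inferInstance
  have heq : (algebraMap B C).comp (Algebra.TensorProduct.lmul' A (S := B)).toRingHom =
      (Algebra.TensorProduct.lmul' A (S := C)).toRingHom.comp
        (Algebra.TensorProduct.map j j).toRingHom := by
    apply RingHom.ext
    intro x
    induction x using TensorProduct.induction_on with
    | zero => simp
    | add x y hx hy => rw [map_add, map_add, hx, hy]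
    | tmul c₁ c₂ => simp [j]
  change ((algebraMap B C).comp (Algebra.TensorProduct.lmul' A (S := B)).toRingHom).Flat
  rw [heq]
  exact RingHom.Flat.comp (RingHom.Flat.tensorProductMap hj hj) (Algebra.WeaklyEtale.flat_lmul' A C)

/-- a strict henselization is weakly étale -/
theorem weaklyEtale_of_isStrictHenselization (R : Type u) [CommRing R] [IsLocalRing R]
    (S : Type u) [CommRing S] [IsLocalRing S] [Algebra R S] [IsLocalHom (algebraMap R S)]
    [Hensel.IsStrictHenselization R S] : Algebra.WeaklyEtale R S := by
  have h1 : EtPBC.IsIndEtale R (StrictHenselization R) := PtColim.isIndEtale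
  have h2 : EtPBC.IsIndEtale R S :=
    isIndEtale_of_algEquiv (algEquivStrictHenselization R S).symm h1
  exact Groth.Agent.S0736.result R S h2

/-- transport of strict henselizations along algebra isomorphisms -/
theorem isStrictHenselization_of_algEquiv (R S S' : Type u) [CommRing R] [IsLocalRing R]
    [CommRing S] [IsLocalRing S] [Algebra R S] [IsLocalHom (algebraMap R S)]
    [CommRing S'] [IsLocalRing S'] [Algebra R S'] [IsLocalHom (algebraMap R S')]
    [h : Hensel.IsStrictHenselization R S] (e : S ≃ₐ[R] S') :
    Hensel.IsStrictHenselization R S' := by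
  haveI := h.henselian
  haveI := h.isSepClosure
  haveI : IsSepClosed (ResidueField S) := h.isSepClosure.sep_closed
  haveI : Algebra.IsSeparable (ResidueField R) (ResidueField S) := h.isSepClosure.separable
  haveI hloce : IsLocalHom e.toAlgHom.toRingHom := by
    constructor
    intro a ha
    have := ha.map e.symm
    simpa using this
  haveI hloce' : IsLocalHom e.symm.toAlgHom.toRingHom := by
    constructor
    intro a ha
    have := ha.map e
    simpa using this
  let κe : ResidueField S ≃+* ResidueField S' := ResidueField.mapEquiv e.toRingEquiv
  have hκe : ∀ s : S, κe (residue S s) = residue S' (e s) := fun s => rfl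
  have hκe' : ∀ s : S', κe.symm (residue S' s) = residue S (e.symm s) := by
    intro s
    apply κe.injective
    rw [κe.apply_symm_apply, hκe, e.apply_symm_apply]
  refine ⟨WLSquare.henselianLocalRing_of_ringEquiv e.toRingEquiv, ⟨?_, ?_⟩, ?_⟩
  · exact WLSquare.isSepClosed_of_ringEquiv κe
  · let κa : ResidueField S' →ₐ[ResidueField R] ResidueField S :=
      { κe.symm.toRingHom with
        commutes' := by
          intro c
          obtain ⟨r, rfl⟩ := IsLocalRing.residue_surjective c
          change κe.symm (residue S' (algebraMap R S' r)) = residue S (algebraMap R S r)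
          rw [hκe', e.symm.commutes] }
    exact Algebra.IsSeparable.of_algHom _ _ κa
  · intro T _ _ f _ τ hτ
    have hτ' : (τ.comp κe.toRingHom).comp (ResidueField.map (algebraMap R S)) =
        ResidueField.map f := by
      rw [← hτ]
      apply RingHom.ext
      intro c
      obtain ⟨r, rfl⟩ := IsLocalRing.residue_surjective c
      change τ (κe (residue S (algebraMap R S r))) = τ (residue S' (algebraMap R S' r))
      rw [hκe, e.commutes]
    obtain ⟨g, ⟨hg1, hg2⟩, hguniq⟩ := h.universal T f (τ.comp κe.toRingHom) hτ'
    refine ⟨g.comp e.symm.toAlgHom.toRingHom, ⟨?_, ?_⟩, ?_⟩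
    · rw [← hg1]
      apply RingHom.ext
      intro r
      change g (e.symm (algebraMap R S' r)) = g (algebraMap R S r)
      rw [e.symm.commutes]
    · intro x
      change residue T (g (e.symm x)) = τ (residue S' x)
      rw [hg2]
      change τ (κe (residue S (e.symm x))) = _
      rw [hκe, e.apply_symm_apply]
    · rintro g' ⟨hg'1, hg'2⟩
      have h1 : g'.comp e.toAlgHom.toRingHom = g := by
        apply hguniq
        refine ⟨?_, ?_⟩
        · rw [← hg'1]
          apply RingHom.ext
          intro r
          change g' (e (algebraMap R S r)) = g' (algebraMap R S' r)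
          rw [e.commutes]
        · intro x
          change residue T (g' (e x)) = τ (κe (residue S x))
          rw [hg'2, hκe]
      rw [← h1]
      apply RingHom.ext
      intro x
      change g' x = g' (e (e.symm x))
      rw [e.apply_symm_apply]

/-- Key step: if `A → B` is a weakly étale local map of local rings, then every strict
henselization of `B` is a strict henselization of `A`. -/
theorem isStrictHenselization_of_weaklyEtale (A B R : Type u) [CommRing A] [IsLocalRing A]
    [CommRing B] [IsLocalRing B] [CommRing R] [IsLocalRing R] [Algebra A B] [Algebra B R]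
    [Algebra A R] [IsScalarTower A B R] [IsLocalHom (algebraMap A B)]
    [IsLocalHom (algebraMap B R)] [IsLocalHom (algebraMap A R)] [Algebra.WeaklyEtale A B]
    [hR : Hensel.IsStrictHenselization B R] : Hensel.IsStrictHenselization A R := by
  let S := StrictHenselization A
  have hS : Hensel.IsStrictHenselization A S := inferInstance
  haveI hRh : HenselianLocalRing R := hR.henselian
  haveI : IsSepClosed (ResidueField R) := hR.isSepClosure.sep_closed
  haveI : IsSepClosed (ResidueField S) := hS.isSepClosure.sep_closed
  haveI : Algebra.IsSeparable (ResidueField A) (ResidueField S) := hS.isSepClosure.separable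
  let τ₀ : ResidueField S →ₐ[ResidueField A] ResidueField R := IsSepClosed.lift
  have hτ₀ : τ₀.toRingHom.comp (ResidueField.map (algebraMap A S)) =
      ResidueField.map (algebraMap A R) := by
    ext c
    exact τ₀.commutes c
  obtain ⟨φ, ⟨hφ1, hφ2⟩, -⟩ := hS.universal R (algebraMap A R) τ₀.toRingHom hτ₀
  letI : Algebra S R := φ.toAlgebra
  haveI : IsScalarTower A S R :=
    IsScalarTower.of_algebraMap_eq (fun a => (DFunLike.congr_fun hφ1 a).symm)
  haveI : IsLocalHom (algebraMap S R) := by
    constructor
    intro s hs
    by_contra hns
    have h1 : residue S s = 0 := (residue_eq_zero_iff s).mpr hns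
    have h2 : residue R (φ s) = 0 := by
      rw [hφ2, h1, map_zero]
    exact ((residue_eq_zero_iff (φ s)).mp h2) hs
  haveI : Algebra.WeaklyEtale A S := weaklyEtale_of_isStrictHenselization A S
  haveI : Algebra.WeaklyEtale B R := weaklyEtale_of_isStrictHenselization B R
  haveI : Algebra.WeaklyEtale A R := Algebra.WeaklyEtale.trans A B R
  haveI : Algebra.WeaklyEtale S R := weaklyEtale_of_algHom A S R
  have hbij : Function.Bijective (algebraMap S R) := Olivier.olivier S R
  let e : S ≃ₐ[A] R := AlgEquiv.ofBijective (IsScalarTower.toAlgHom A S R) hbij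
  exact isStrictHenselization_of_algEquiv A S R e

end Groth.Agent.Lib.Helper36.StrictHensWE
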