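import Mathlib
import Groth.Agent.Lib.Helper32.CoconeSES
import Groth.Agent.Lib.Helper6.DerivedAdj0

/-!
# A Serre class with a right adjoint to its inclusion: the counit on divisible complexes (helper36)

Abstract setting: `S` abelian, `P` a Serre class, `T : S ⥤ P.FullSubcategory` right adjoint to the
inclusion.  Under the three "torsion-like" hypotheses
* `H1`: objects killed by a positive integer are in `P`;
* `H2`: an object of `P` on which every positive integer acts injectively is zero;
we show that for a cochain complex `I` whose terms are divisible (`n • 𝟙` epi) and whose cohomology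
lies in `P`, the counit `ι T I ⟶ I` is a quasi-isomorphism.
-/

set_option autoImplicit false
universe v u
open CategoryTheory CategoryTheory.Limits

namespace Groth.Agent.Lib.Helper36.TorsionAbstract

variable {S : Type u} [Category.{v} S] [Abelian S] (P : ObjectProperty S) [P.IsSerreClass]
  {T : S ⥤ P.FullSubcategory} (adj : P.ι ⊣ T)

include adj

omit [Abelian S] [P.IsSerreClass] in
/-- any map from an object of `P` factors through the counit -/
lemma exists_fac {F' F : S} (hF' : P F') (m : F' ⟶ F) :
    ∃ f : F' ⟶ (T.obj F).obj, f ≫ adj.counit.app F = m := by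
  let X : P.FullSubcategory := ⟨F', hF'⟩
  refine ⟨(adj.homEquiv X F m).hom, ?_⟩
  have h := (adj.homEquiv X F).symm_apply_apply m
  rw [Adjunction.homEquiv_counit] at h
  exact h

/-- the counit of the adjunction is a monomorphism -/
lemma mono_counit (F : S) : Mono (adj.counit.app F) := by
  apply Preadditive.mono_of_kernel_zero
  have hK : P (kernel (adj.counit.app F)) :=
    P.prop_of_mono (kernel.ι (adj.counit.app F)) (T.obj F).property
  let K' : P.FullSubcategory := ⟨_, hK⟩
  let k : K' ⟶ T.obj F := ObjectProperty.homMk (kernel.ι (adj.counit.app F))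
  have h0 : (adj.homEquiv K' F).symm k = (adj.homEquiv K' F).symm 0 := by
    rw [Adjunction.homEquiv_counit, Adjunction.homEquiv_counit, Functor.map_zero, zero_comp]
    exact kernel.condition (adj.counit.app F)
  have hk : k = 0 := (adj.homEquiv K' F).symm.injective h0
  exact congrArg (fun t => t.hom) hk

variable (H1 : ∀ (K : S) (n : ℕ), 0 < n → n • 𝟙 K = 0 → P K)
include H1

/-- On a cokernel of the counit, positive integers act injectively. -/
lemma mono_nsmul_of_shortExact {F G : S} (π : F ⟶ G) (w : adj.counit.app F ≫ π = 0)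
    (hS : (ShortComplex.mk (adj.counit.app F) π w).ShortExact) (n : ℕ) (hn : 0 < n) :
    Mono (n • 𝟙 G) := by
  have : Epi π := hS.epi_g
  have : Mono (adj.counit.app F) := hS.mono_f
  apply Preadditive.mono_of_kernel_zero
  set i := kernel.ι (n • 𝟙 G) with hi
  have hK0 : n • 𝟙 (kernel (n • 𝟙 G)) = 0 := by
    rw [← cancel_mono i, zero_comp, Preadditive.nsmul_comp, Category.id_comp]
    have := kernel.condition (n • 𝟙 G)
    rw [Preadditive.comp_nsmul, Category.comp_id] at this
    exact this
  have hK : P (kernel (n • 𝟙 G)) := H1 _ n hn hK0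
  -- the pullback
  let F' := pullback π i
  let fst : F' ⟶ F := pullback.fst π i
  let snd : F' ⟶ kernel (n • 𝟙 G) := pullback.snd π i
  have : Epi snd := Abelian.epi_pullback_of_epi_f π i
  have : Mono fst := inferInstance
  -- kernel of snd maps monomorphically into `ιTF`
  have hker : (kernel.ι snd ≫ fst) ≫ π = 0 := by
    rw [Category.assoc, pullback.condition, ← Category.assoc, kernel.condition, zero_comp]
  have hl : ∃ l : kernel snd ⟶ (T.obj F).obj, l ≫ adj.counit.app F = kernel.ι snd ≫ fst :=
    ⟨hS.exact.lift (kernel.ι snd ≫ fst) hker, hS.exact.lift_f (kernel.ι snd ≫ fst) hker⟩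
  obtain ⟨l, hl⟩ := hl
  have : Mono l := by
    have : Mono (l ≫ adj.counit.app F) := by rw [hl]; infer_instance
    exact mono_of_mono l (adj.counit.app F)
  have hP1 : P (kernel snd) := P.prop_of_mono l (T.obj F).property
  have hF' : P F' :=
    P.prop_X₂_of_exact (S := ShortComplex.mk (kernel.ι snd) snd (kernel.condition snd))
      (ShortComplex.exact_kernel snd) hP1 hK
  obtain ⟨f, hf⟩ := exists_fac P adj hF' fst
  have h1 : snd ≫ i = 0 := by
    have hc : fst ≫ π = snd ≫ i := pullback.condition
    rw [← hc, ← hf, Category.assoc, w, comp_zero]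
  exact (cancel_epi snd).1 (h1.trans comp_zero.symm)

omit H1 adj [P.IsSerreClass] in
lemma epi_nsmul_of_epi {F G : S} (π : F ⟶ G) [Epi π] (n : ℕ) (h : Epi (n • 𝟙 F)) :
    Epi (n • 𝟙 G) := by
  have h1 : (n • 𝟙 F) ≫ π = π ≫ (n • 𝟙 G) := by
    rw [Preadditive.nsmul_comp, Preadditive.comp_nsmul, Category.id_comp, Category.comp_id]
  have : Epi (π ≫ (n • 𝟙 G)) := by rw [← h1]; infer_instance
  exact epi_of_epi π _

omit adj H1 in
/-- the cohomology of a complex with terms in `P` lies in `P` -/
lemma prop_homology_of_prop_X (Y : CochainComplex S ℤ) (h : ∀ k, P (Y.X k)) (k : ℤ) :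
    P (Y.homology k) :=
  P.prop_of_epi (Y.homologyπ k) (P.prop_of_mono (Y.iCycles k) (h k))

variable (H2 : ∀ (H : S), P H → (∀ n : ℕ, 0 < n → Mono (n • 𝟙 H)) → IsZero H)
include H2

open Groth.Agent.Lib.Helper6.DerivedAdj in
/-- **Key lemma**: for a complex of divisible objects with cohomology in `P`, the counit
`ι T I ⟶ I` is a quasi-isomorphism. -/
theorem quasiIso_counitC [T.Additive] (I : CochainComplex S ℤ)
    (hdiv : ∀ (k : ℤ) (n : ℕ), 0 < n → Epi (n • 𝟙 (I.X k)))
    (hcoh : ∀ j : ℤ, P (I.homology j)) :
    QuasiIso ((counitC adj (ComplexShape.up ℤ)).app I) := by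
  set ε := (counitC adj (ComplexShape.up ℤ)).app I with hε
  have hmono : Mono ε :=
    HomologicalComplex.mono_of_mono_f ε (fun k => mono_counit P adj (I.X k))
  let Sc : ShortComplex (CochainComplex S ℤ) :=
    ShortComplex.mk ε (cokernel.π ε) (cokernel.condition ε)
  have hSc : Sc.ShortExact := { exact := ShortComplex.exact_cokernel ε }
  have hk : ∀ k, (Sc.map (HomologicalComplex.eval S (ComplexShape.up ℤ) k)).ShortExact :=
    fun k => hSc.map_of_exact _
  have hiso : ∀ (k : ℤ) (n : ℕ), 0 < n → IsIso (n • 𝟙 ((cokernel ε).X k)) := by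
    intro k n hn
    have hm : Mono (n • 𝟙 ((cokernel ε).X k)) :=
      mono_nsmul_of_shortExact P adj H1 ((cokernel.π ε).f k) _ (hk k) n hn
    have : Epi ((cokernel.π ε).f k) := (hk k).epi_g
    have he : Epi (n • 𝟙 ((cokernel ε).X k)) :=
      epi_nsmul_of_epi ((cokernel.π ε).f k) n (hdiv k n hn)
    exact isIso_of_mono_of_epi _
  have hisoC : ∀ n : ℕ, 0 < n → IsIso (n • 𝟙 (cokernel ε)) := by
    intro n hn
    have : ∀ k, IsIso ((n • 𝟙 (cokernel ε)).f k) := by
      intro k
      have : (n • 𝟙 (cokernel ε)).f k = n • 𝟙 ((cokernel ε).X k) := by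
        rw [HomologicalComplex.nsmul_f_apply, HomologicalComplex.id_f]
      rw [this]
      exact hiso k n hn
    exact HomologicalComplex.Hom.isIso_of_components _
  have hacyc : (cokernel ε).Acyclic := by
    intro j
    rw [HomologicalComplex.exactAt_iff_isZero_homology]
    apply H2
    · have hex := hSc.homology_exact₃ j (j + 1) rfl
      refine P.prop_X₂_of_exact hex (hcoh j) ?_
      exact prop_homology_of_prop_X P _ (fun k => ((T.obj (I.X k))).property) (j + 1)
    · intro n hn
      have := hisoC n hn
      have h1 : (HomologicalComplex.homologyFunctor S (ComplexShape.up ℤ) j).map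
          (n • 𝟙 (cokernel ε)) = n • 𝟙 ((cokernel ε).homology j) := by
        rw [Functor.map_nsmul, CategoryTheory.Functor.map_id]
        rfl
      have : IsIso (n • 𝟙 ((cokernel ε).homology j)) := by
        rw [← h1]
        exact Functor.map_isIso _ _
      infer_instance
  exact Groth.Agent.Lib.Helper32.CoconeSES.quasiIso_f_of_acyclic_X₃ hSc hacyc

end Groth.Agent.Lib.Helper36.TorsionAbstract
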