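import Mathlib
import Groth.Prelude.Def_WeakSerre
import Groth.Agent.Lib.Helper32.KInjDerived
import Groth.Agent.Lib.Helper32.KInjRes
import Groth.Agent.Lib.Helper6.ExactDC
import Groth.Agent.Lib.Helper36.TorsionAbstract

/-!
# `D(P) ⥤ D_P(S)` is an equivalence for a torsion-like Serre class (helper36)

`S` Grothendieck abelian, `P` a Serre class whose inclusion has a right adjoint `T`, such that
objects killed by a positive integer are in `P`, objects of `P` on which all positive integers act
injectively vanish, and injective objects are divisible.  Then `D(P) ⥤ D(S)` is fully faithful with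
essential image the complexes with cohomology in `P`.
-/

set_option autoImplicit false
universe w₁ w₂ v u
open CategoryTheory CategoryTheory.Limits

namespace Groth.Agent.Lib.Helper36.TorsionDerived

open Groth.Agent.Lib.Helper32.KInjDerived Groth.Agent.Lib.Helper32.KInjRes
  Groth.Agent.Lib.Helper6 Groth.Agent.Lib.Helper6.DerivedAdj Groth.Agent.Lib.Helper36.TorsionAbstract

variable {S : Type u} [Category.{v} S] [Abelian S] [IsGrothendieckAbelian.{v} S]
  [HasDerivedCategory.{w₁} S]
  (P : ObjectProperty S) [P.IsSerreClass] [HasDerivedCategory.{w₂} P.FullSubcategory]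
  {T : S ⥤ P.FullSubcategory} (adj : P.ι ⊣ T)
  (H1 : ∀ (K : S) (n : ℕ), 0 < n → n • 𝟙 K = 0 → P K)
  (H2 : ∀ (H : S), P H → (∀ n : ℕ, 0 < n → Mono (n • 𝟙 H)) → IsZero H)
  (H3 : ∀ (I : S), Injective I → ∀ n : ℕ, 0 < n → Epi (n • 𝟙 I))

include adj H1 H2 H3

theorem main :
    (WSerre.toDerived P).Full ∧ (WSerre.toDerived P).Faithful ∧
      ∀ K : DerivedCategory S, WSerre.cohIn P K ↔ (WSerre.toDerived P).essImage K := by
  classical
  have hT : T.Additive := adj.right_adjoint_additive
  have hS : HasKInjRes S := fun M => by
    obtain ⟨I, f, hI, hf, -, -⟩ := exists_kInjective_resolution M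
    exact ⟨I, f, hI, hf⟩
  let W := HomotopyCategory.quasiIso S (ComplexShape.up ℤ)
  let Φ : HomotopyCategory S (ComplexShape.up ℤ) ⥤ DerivedCategory P.FullSubcategory :=
    T.mapHomotopyCategory (ComplexShape.up ℤ) ⋙ DerivedCategory.Qh
  have hTA := hasTerminalArrows_Qh hS
  haveI : (DerivedCategory.Qh (C := S)).HasPointwiseLeftKanExtension Φ :=
    hasPointwiseLeftKanExtension hTA Φ
  haveI : Φ.HasRightDerivedFunctor W :=
    (Functor.hasRightDerivedFunctor_iff Φ DerivedCategory.Qh W).2 inferInstance
  let RG : DerivedCategory S ⥤ DerivedCategory P.FullSubcategory :=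
    Φ.totalRightDerived DerivedCategory.Qh W
  let β : Φ ⟶ DerivedCategory.Qh ⋙ RG := Φ.totalRightDerivedUnit DerivedCategory.Qh W
  obtain ⟨adj', hadj'⟩ := exists_derivedAdjunctionh adj hS RG β
  -- (B) the essential image has cohomology in `P`
  have hB : ∀ M : DerivedCategory P.FullSubcategory,
      WSerre.cohIn P ((WSerre.toDerived P).obj M) := by
    intro M j
    exact P.prop_of_iso ((ExactDC.homologyIso P.ι j).app M).symm
      ((DerivedCategory.homologyFunctor P.FullSubcategory j).obj M).property
  -- (A) the counit is an isomorphism on complexes with cohomology in `P`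
  have hA : ∀ K : DerivedCategory S, WSerre.cohIn P K → IsIso (adj'.counit.app K) := by
    intro K hK
    obtain ⟨I, f, hI, hf, -, hinj⟩ :=
      exists_kInjective_resolution (DerivedCategory.Q.objPreimage K)
    have : IsIso (DerivedCategory.Q.map f) := by
      rw [DerivedCategory.isIso_Q_map_iff_quasiIso]
      exact hf
    let e'' : DerivedCategory.Q.obj I ≅ K :=
      (asIso (DerivedCategory.Q.map f)).symm ≪≫ DerivedCategory.Q.objObjPreimageIso K
    let e' : DerivedCategory.Qh.obj ((HomotopyCategory.quotient S (ComplexShape.up ℤ)).obj I) ≅ K :=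
      (DerivedCategory.quotientCompQhIso S).app I ≪≫ e''
    rw [← NatTrans.isIso_app_iff_of_iso adj'.counit e']
    have hcoh : ∀ j, P (I.homology j) := by
      intro j
      have e1 : (DerivedCategory.homologyFunctor S j).obj K ≅ I.homology j :=
        (DerivedCategory.homologyFunctor S j).mapIso e''.symm ≪≫
          (DerivedCategory.homologyFunctorFactors S j).app I
      exact P.prop_of_iso e1 (hK j)
    have hq : QuasiIso ((counitC adj (ComplexShape.up ℤ)).app I) :=
      quasiIso_counitC P adj H1 H2 I (fun k n hn => H3 (I.X k) (hinj k) n hn) hcoh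
    have h4 := hadj' ((HomotopyCategory.quotient S (ComplexShape.up ℤ)).obj I)
    have h1 : IsIso (β.app ((HomotopyCategory.quotient S (ComplexShape.up ℤ)).obj I)) :=
      isIso_app_of_isTerminal hTA W RG β _ (isTerminalMkId I)
    have h3 : IsIso (DerivedCategory.Qh.map ((adjHomotopyCategory adj (ComplexShape.up ℤ)).counit.app
        ((HomotopyCategory.quotient S (ComplexShape.up ℤ)).obj I))) := by
      change IsIso (DerivedCategory.Qh.map ((HomotopyCategory.quotient S (ComplexShape.up ℤ)).map
        ((counitC adj (ComplexShape.up ℤ)).app I)))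
      have h : IsIso (DerivedCategory.Q.map ((counitC adj (ComplexShape.up ℤ)).app I)) := by
        rw [DerivedCategory.isIso_Q_map_iff_quasiIso]
        exact hq
      exact (NatIso.isIso_map_iff (DerivedCategory.quotientCompQhIso S)
        ((counitC adj (ComplexShape.up ℤ)).app I)).2 h
    have h5 : IsIso (P.ι.mapDerivedCategory.map
        (β.app ((HomotopyCategory.quotient S (ComplexShape.up ℤ)).obj I)) ≫
        adj'.counit.app (DerivedCategory.Qh.obj
          ((HomotopyCategory.quotient S (ComplexShape.up ℤ)).obj I))) := by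
      rw [h4]
      infer_instance
    exact IsIso.of_isIso_comp_left (P.ι.mapDerivedCategory.map
        (β.app ((HomotopyCategory.quotient S (ComplexShape.up ℤ)).obj I))) _
  -- (D) the unit is an isomorphism
  have hD : ∀ M : DerivedCategory P.FullSubcategory, IsIso (adj'.unit.app M) := by
    intro M
    have hε : IsIso (adj'.counit.app (P.ι.mapDerivedCategory.obj M)) := hA _ (hB M)
    have htri := adj'.left_triangle_components M
    have h1 : IsIso (P.ι.mapDerivedCategory.map (adj'.unit.app M)) := by
      haveI : IsIso (P.ι.mapDerivedCategory.map (adj'.unit.app M) ≫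
          adj'.counit.app (P.ι.mapDerivedCategory.obj M)) := by
        rw [htri]
        exact IsIso.id _
      exact IsIso.of_isIso_comp_right _ (adj'.counit.app (P.ι.mapDerivedCategory.obj M))
    rw [DerivedCategory.isIso_iff]
    intro n
    refine (ExactDC.isIso_homology_map_iff (F := P.ι) (adj'.unit.app M) n).1 ?_
    exact Functor.map_isIso _ _
  haveI : IsIso adj'.unit := NatIso.isIso_of_isIso_app _
  refine ⟨?_, ?_, fun K => ⟨fun hK => ?_, ?_⟩⟩
  · exact (adj'.fullyFaithfulLOfIsIsoUnit).full
  · exact (adj'.fullyFaithfulLOfIsIsoUnit).faithful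
  · haveI := hA K hK
    exact ⟨RG.obj K, ⟨asIso (adj'.counit.app K)⟩⟩
  · rintro ⟨M, ⟨e⟩⟩ j
    exact P.prop_of_iso ((DerivedCategory.homologyFunctor S j).mapIso e) (hB M j)

end Groth.Agent.Lib.Helper36.TorsionDerived
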