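import Mathlib
import Groth.Prelude.Def_SiteCmp

/-!
# The torsion subsheaf of an abelian sheaf on a small site (helper36)
-/

set_option autoImplicit false
universe u
open CategoryTheory CategoryTheory.Limits Opposite

namespace Groth.Agent.Lib.Helper36.TorsionSh

variable {C : Type u} [SmallCategory C] (J : GrothendieckTopology C)

section Presheaf

variable (F : Cᵒᵖ ⥤ AddCommGrpCat.{u})

/-- a section is locally of finite order -/
def IsLocTors {U : C} (s : F.obj (op U)) : Prop :=
  ∃ S ∈ J U, ∀ ⦃V : C⦄ (g : V ⟶ U), S g → IsOfFinAddOrder ((F.map g.op).hom s)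

/-- the subgroup of sections locally of finite order -/
def torSub (U : C) : AddSubgroup (F.obj (op U)) where
  carrier := {s | IsLocTors J F s}
  zero_mem' := ⟨⊤, J.top_mem U, fun V g _ => by
    rw [map_zero]
    exact IsOfFinAddOrder.zero⟩
  add_mem' := by
    rintro a b ⟨S₁, h₁, ha⟩ ⟨S₂, h₂, hb⟩
    exact ⟨S₁ ⊓ S₂, J.intersection_covering h₁ h₂, fun V g hg => by
      rw [map_add]
      exact (ha g hg.1).add (hb g hg.2)⟩
  neg_mem' := by
    rintro a ⟨S, h, ha⟩
    exact ⟨S, h, fun V g hg => by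
      rw [map_neg]
      exact (ha g hg).neg⟩

lemma mem_torSub_iff {U : C} (s : F.obj (op U)) : s ∈ torSub J F U ↔ IsLocTors J F s := Iff.rfl

lemma map_map_hom {U V W : C} (h : V ⟶ U) (g : W ⟶ V) (s : F.obj (op U)) :
    (F.map g.op).hom ((F.map h.op).hom s) = (F.map (g ≫ h).op).hom s := by
  rw [op_comp, F.map_comp]
  rfl

lemma map_mem_torSub {U U' : C} (h : U' ⟶ U) {s : F.obj (op U)} (hs : s ∈ torSub J F U) :
    (F.map h.op).hom s ∈ torSub J F U' := by
  obtain ⟨S, hS, hs⟩ := hs
  refine ⟨S.pullback h, J.pullback_stable h hS, fun V g hg => ?_⟩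
  rw [map_map_hom]
  exact hs (g ≫ h) hg

/-- the torsion sub-presheaf -/
def TF : Cᵒᵖ ⥤ AddCommGrpCat.{u} where
  obj U := AddCommGrpCat.of (torSub J F U.unop)
  map {U U'} h := AddCommGrpCat.ofHom
    (((F.map h).hom.comp (torSub J F U.unop).subtype).codRestrict (torSub J F U'.unop)
      (fun x => map_mem_torSub J F h.unop x.2))
  map_id U := by
    ext x
    simp
  map_comp f g := by
    ext x
    simp

/-- the inclusion of the torsion sub-presheaf -/
def TFι : TF J F ⟶ F where
  app U := AddCommGrpCat.ofHom (torSub J F U.unop).subtype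
  naturality := by
    intros
    ext
    rfl

/-- the corresponding subfunctor of the underlying presheaf of sets -/
def G : Subfunctor (F ⋙ forget AddCommGrpCat.{u}) where
  obj U := {s | IsLocTors J F (U := U.unop) s}
  map {U V} i s hs := map_mem_torSub J F i.unop hs

lemma G_local (U : Cᵒᵖ) (s : (F ⋙ forget AddCommGrpCat.{u}).obj U)
    (hs : (G J F).sieveOfSection s ∈ J (unop U)) : s ∈ (G J F).obj U := by
  have h : ∀ ⦃V : C⦄ ⦃f : V ⟶ unop U⦄, ((G J F).sieveOfSection s) f →
      ∃ S ∈ J V, ∀ ⦃W : C⦄ (g : W ⟶ V), S g →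
        IsOfFinAddOrder ((F.map g.op).hom ((F.map f.op).hom s)) := fun V f hf => hf
  choose R hR hR' using h
  refine ⟨Sieve.bind ((G J F).sieveOfSection s) (fun V f hf => R hf),
    J.bind_covering hs (fun V f hf => hR hf), ?_⟩
  rintro W k ⟨V, g, f, hf, hg, rfl⟩
  have := hR' hf g hg
  rw [map_map_hom] at this
  exact this

/-- the comparison between the two descriptions of the sub-presheaf -/
def isoG : TF J F ⋙ forget AddCommGrpCat.{u} ≅ (G J F).toFunctor :=
  NatIso.ofComponents (fun U => Iso.refl _) (by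
    intro U V f
    ext x
    rfl)

variable {F} in
lemma isSheaf_TF (hF : Presheaf.IsSheaf J F) : Presheaf.IsSheaf J (TF J F) := by
  rw [Presheaf.isSheaf_iff_isSheaf_forget J (TF J F) (forget AddCommGrpCat.{u}),
    isSheaf_iff_isSheaf_of_type]
  have hF' : Presieve.IsSheaf J (F ⋙ forget AddCommGrpCat.{u}) := by
    rw [← isSheaf_iff_isSheaf_of_type, ← Presheaf.isSheaf_iff_isSheaf_forget]
    exact hF
  exact Presieve.isSheaf_iso J (isoG J F).symm
    (((G J F).isSheaf_iff hF').2 (G_local J F))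

end Presheaf

section Sheaf

variable {J}

/-- the torsion subsheaf -/
def TSh (F : Sheaf J AddCommGrpCat.{u}) : Sheaf J AddCommGrpCat.{u} :=
  ⟨TF J F.obj, isSheaf_TF J F.property⟩

/-- the inclusion of the torsion subsheaf -/
def TShι (F : Sheaf J AddCommGrpCat.{u}) : TSh F ⟶ F := ObjectProperty.homMk (TFι J F.obj)

lemma isTorsionSh_TSh (F : Sheaf J AddCommGrpCat.{u}) : SiteCmp.IsTorsionSh J (TSh F) := by
  intro U s
  obtain ⟨S, hS, hs⟩ := s.2
  refine ⟨S, hS, fun V g hg => ?_⟩
  obtain ⟨n, hn, h⟩ := (hs g hg).exists_nsmul_eq_zero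
  refine isOfFinAddOrder_iff_nsmul_eq_zero.2 ⟨n, hn, Subtype.ext ?_⟩
  exact (AddSubgroup.coe_nsmul (torSub J F.obj V) _ n).trans h

/-- a morphism from a torsion sheaf factors through the torsion subsheaf -/
def liftT {M F : Sheaf J AddCommGrpCat.{u}} (hM : SiteCmp.IsTorsionSh J M) (m : M ⟶ F) :
    M ⟶ TSh F :=
  ObjectProperty.homMk
    { app := fun U => AddCommGrpCat.ofHom ((m.hom.app U).hom.codRestrict (torSub J F.obj U.unop)
        (fun x => by
          obtain ⟨S, hS, hx⟩ := hM U.unop x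
          refine ⟨S, hS, fun V g hg => ?_⟩
          have h1 : (F.obj.map g.op).hom ((m.hom.app U).hom x) =
              (m.hom.app (op V)).hom ((M.obj.map g.op).hom x) :=
            (congr($(m.hom.naturality g.op) x)).symm
          rw [h1]
          exact AddMonoidHom.isOfFinAddOrder _ (hx g hg)))
      naturality := by
        intro U V f
        ext x
        exact Subtype.ext (congr($(m.hom.naturality f) x)) }

@[reassoc (attr := simp)]
lemma liftT_ι {M F : Sheaf J AddCommGrpCat.{u}} (hM : SiteCmp.IsTorsionSh J M) (m : M ⟶ F) :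
    liftT hM m ≫ TShι F = m := by
  apply Sheaf.hom_ext
  ext U x
  rfl

lemma liftT_comp_ι {M F : Sheaf J AddCommGrpCat.{u}} (hM : SiteCmp.IsTorsionSh J M)
    (k : M ⟶ TSh F) : liftT hM (k ≫ TShι F) = k := by
  apply Sheaf.hom_ext
  ext U x
  rfl

lemma liftT_naturality {M' M F : Sheaf J AddCommGrpCat.{u}} (hM' : SiteCmp.IsTorsionSh J M')
    (hM : SiteCmp.IsTorsionSh J M) (f : M' ⟶ M) (m : M ⟶ F) :
    liftT hM' (f ≫ m) = f ≫ liftT hM m := by
  apply Sheaf.hom_ext
  ext U x
  rfl

variable (J) in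
/-- the hom-set bijection of the adjunction -/
def homEquivT (M : (SiteCmp.torsionSh J).FullSubcategory) (F : Sheaf J AddCommGrpCat.{u}) :
    ((SiteCmp.torsionSh J).ι.obj M ⟶ F) ≃
      (M ⟶ (⟨TSh F, isTorsionSh_TSh F⟩ : (SiteCmp.torsionSh J).FullSubcategory)) where
  toFun m := ObjectProperty.homMk (liftT M.property m)
  invFun k := k.hom ≫ TShι F
  left_inv m := liftT_ι M.property m
  right_inv k := by
    apply ObjectProperty.hom_ext
    exact liftT_comp_ι M.property k.hom

variable (J) in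
/-- the torsion subsheaf functor -/
def T : Sheaf J AddCommGrpCat.{u} ⥤ (SiteCmp.torsionSh J).FullSubcategory :=
  Adjunction.rightAdjointOfEquiv (homEquivT J) (by
    intro M' M F f m
    apply ObjectProperty.hom_ext
    exact liftT_naturality M'.property M.property f.hom m)

variable (J) in
/-- the inclusion of torsion sheaves is left adjoint to the torsion subsheaf functor -/
def adjT : (SiteCmp.torsionSh J).ι ⊣ T J :=
  Adjunction.adjunctionOfEquivRight (homEquivT J) _

/-! ### The three torsion-like properties -/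

/-- evaluation of endomorphisms on sections, as an additive map -/
def secHom (K : Sheaf J AddCommGrpCat.{u}) (U : Cᵒᵖ) :
    (K ⟶ K) →+ (K.obj.obj U →+ K.obj.obj U) :=
  AddMonoidHom.mk' (fun f => (f.hom.app U).hom) (fun f g => by
    rw [Sheaf.Hom.add_app]
    rfl)

lemma nsmul_id_hom_app (K : Sheaf J AddCommGrpCat.{u}) (n : ℕ) (U : Cᵒᵖ) (x : K.obj.obj U) :
    ((n • 𝟙 K : K ⟶ K).hom.app U).hom x = n • x := by
  have h : secHom K U (n • 𝟙 K) = n • secHom K U (𝟙 K) := map_nsmul _ _ _
  have h' := congrArg (fun φ => φ x) h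
  simp only [AddMonoidHom.smul_apply] at h'
  exact h'

lemma isTorsionSh_of_nsmul_eq_zero (K : Sheaf J AddCommGrpCat.{u}) (n : ℕ) (hn : 0 < n)
    (h : n • 𝟙 K = 0) : SiteCmp.torsionSh J K := by
  intro U s
  refine ⟨⊤, J.top_mem U, fun V g _ => isOfFinAddOrder_iff_nsmul_eq_zero.2 ⟨n, hn, ?_⟩⟩
  rw [← nsmul_id_hom_app, h]
  rfl

lemma injective_of_mono {K L : Sheaf J AddCommGrpCat.{u}} (f : K ⟶ L) [Mono f] (U : Cᵒᵖ) :
    Function.Injective (f.hom.app U).hom := by
  have h1 : Mono f.hom := (inferInstance : Mono ((sheafToPresheaf J AddCommGrpCat.{u}).map f))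
  have h2 : Mono (f.hom.app U) := (NatTrans.mono_iff_mono_app f.hom).1 h1 U
  exact (AddCommGrpCat.mono_iff_injective _).1 h2

lemma isZero_of_torsion_of_mono (H : Sheaf J AddCommGrpCat.{u}) (hH : SiteCmp.torsionSh J H)
    (hm : ∀ n : ℕ, 0 < n → Mono (n • 𝟙 H)) : IsZero H := by
  rw [IsZero.iff_id_eq_zero]
  apply Sheaf.hom_ext
  ext U x
  change x = 0
  obtain ⟨S, hS, hx⟩ := hH U.unop x
  refine Sheaf.isSeparated H U.unop S hS x 0 (fun V g hg => ?_)
  obtain ⟨n, hn, h⟩ := (hx g hg).exists_nsmul_eq_zero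
  have := hm n hn
  apply injective_of_mono (n • 𝟙 H) (op V)
  rw [nsmul_id_hom_app, nsmul_id_hom_app]
  refine h.trans ?_
  rw [map_zero, smul_zero]

/-! ### Injective sheaves are divisible -/

section Free

variable (F : Cᵒᵖ ⥤ AddCommGrpCat.{u})

/-- the free presheaf on the underlying presheaf of sets -/
noncomputable def Fr : Cᵒᵖ ⥤ AddCommGrpCat.{u} :=
  F ⋙ forget AddCommGrpCat.{u} ⋙ AddCommGrpCat.free

/-- the canonical epimorphism from the free presheaf -/
noncomputable def FrQ : Fr F ⟶ F where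
  app U := AddCommGrpCat.adj.counit.app (F.obj U)
  naturality U V f := AddCommGrpCat.adj.counit.naturality (F.map f)

instance : Epi (FrQ F) := by
  rw [NatTrans.epi_iff_epi_app]
  intro U
  exact inferInstanceAs (Epi (AddCommGrpCat.adj.counit.app (F.obj U)))

lemma mono_nsmul_Fr (n : ℕ) (hn : 0 < n) : Mono (n • 𝟙 (Fr F)) := by
  rw [NatTrans.mono_iff_mono_app]
  intro U
  rw [AddCommGrpCat.mono_iff_injective]
  intro x y hxy
  have h1 : ∀ z : (Fr F).obj U, ((n • 𝟙 (Fr F) : Fr F ⟶ Fr F).app U).hom z = n • z := by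
    intro z
    rw [NatTrans.app_nsmul]
    rfl
  have h2 : n • x = n • y := by
    rw [← h1, ← h1]
    exact hxy
  let e := FreeAbelianGroup.equivFinsupp ((forget AddCommGrpCat.{u}).obj (F.obj U))
  have h3 : n • e x = n • e y := by
    rw [← map_nsmul, ← map_nsmul]
    exact congrArg e h2
  exact e.injective (nsmul_right_injective hn.ne' h3)

end Free

lemma epi_nsmul_of_injective (I : Sheaf J AddCommGrpCat.{u}) [Injective I] (n : ℕ) (hn : 0 < n) :
    Epi (n • 𝟙 I) := by
  let Pf : Sheaf J AddCommGrpCat.{u} := (presheafToSheaf J AddCommGrpCat.{u}).obj (Fr I.obj)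
  let π : Pf ⟶ I := (presheafToSheaf J AddCommGrpCat.{u}).map (FrQ I.obj) ≫
    (sheafificationAdjunction J AddCommGrpCat.{u}).counit.app I
  have : Epi π := epi_comp _ _
  have hmono : Mono (n • 𝟙 Pf) := by
    have h : n • 𝟙 Pf = (presheafToSheaf J AddCommGrpCat.{u}).map (n • 𝟙 (Fr I.obj)) := by
      rw [Functor.map_nsmul, CategoryTheory.Functor.map_id]
    rw [h]
    have := mono_nsmul_Fr I.obj n hn
    infer_instance
  let g := Injective.factorThru π (n • 𝟙 Pf)
  have hg : (n • 𝟙 Pf) ≫ g = π := Injective.comp_factorThru π (n • 𝟙 Pf)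
  have hg' : g ≫ (n • 𝟙 I) = π := by
    rw [← hg, Preadditive.nsmul_comp, Preadditive.comp_nsmul, Category.id_comp, Category.comp_id]
  have : Epi (g ≫ (n • 𝟙 I)) := by
    rw [hg']
    infer_instance
  exact epi_of_epi g _

end Sheaf

end Groth.Agent.Lib.Helper36.TorsionSh
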