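import Mathlib
import Groth.Agent.Lib.Helper36.WeaklyEtaleMax
import Groth.Agent.Lib.Helper2.WeaklyEtaleUnram

set_option autoImplicit false
universe u

namespace Groth.Agent.Lib.Helper36.WE

open TensorProduct Polynomial Groth.Agent.Lib.Helper36.AbsFlat

/-- An element of a finite product of separable field extensions is a root of a monic separable
polynomial. -/
theorem exists_separable_of_pi (K : Type u) [Field K] (I : Type u) [Finite I] (Ai : I → Type u)
    [∀ i, Field (Ai i)] [∀ i, Algebra K (Ai i)] [∀ i, Algebra.IsSeparable K (Ai i)]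
    (x : Π i, Ai i) : ∃ P : K[X], P.Monic ∧ P.Separable ∧ aeval x P = 0 := by
  classical
  have := Fintype.ofFinite I
  let q : I → K[X] := fun i => minpoly K (x i)
  have hint : ∀ i, IsIntegral K (x i) := fun i => Algebra.IsIntegral.isIntegral _
  have hq_irr : ∀ i, Irreducible (q i) := fun i => minpoly.irreducible (hint i)
  have hq_monic : ∀ i, (q i).Monic := fun i => minpoly.monic (hint i)
  have hq_sep : ∀ i, (q i).Separable := fun i => Algebra.IsSeparable.isSeparable K (x i)
  let s : Finset K[X] := Finset.univ.image q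
  refine ⟨∏ p ∈ s, p, ?_, ?_, ?_⟩
  · apply Polynomial.monic_prod_of_monic
    intro p hp
    obtain ⟨i, -, rfl⟩ := Finset.mem_image.mp hp
    exact hq_monic i
  · apply Polynomial.separable_prod' (f := id)
    · intro p hp p' hp' hne
      obtain ⟨i, -, rfl⟩ := Finset.mem_image.mp hp
      obtain ⟨j, -, rfl⟩ := Finset.mem_image.mp hp'
      change IsCoprime (q i) (q j)
      refine (hq_irr i).coprime_iff_not_dvd.mpr ?_
      intro hdvd
      apply hne
      exact Polynomial.eq_of_monic_of_associated (hq_monic i) (hq_monic j)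
        ((hq_irr i).associated_of_dvd (hq_irr j) hdvd)
    · intro p hp
      obtain ⟨i, -, rfl⟩ := Finset.mem_image.mp hp
      exact hq_sep i
  · funext i
    have h1 : (aeval x (∏ p ∈ s, p)) i = aeval (x i) (∏ p ∈ s, p) :=
      (Polynomial.aeval_algHom_apply (Pi.evalAlgHom K Ai i) x _).symm
    rw [h1, Pi.zero_apply]
    have hdvd : q i ∣ ∏ p ∈ s, p :=
      Finset.dvd_prod_of_mem _ (Finset.mem_image.mpr ⟨i, Finset.mem_univ _, rfl⟩)
    obtain ⟨r, hr⟩ := hdvd
    rw [hr, map_mul, minpoly.aeval, zero_mul]

/-- Every element of a weakly étale algebra over a field is a root of a monic separable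
polynomial. -/
theorem exists_separable_of_weaklyEtale_field (K W : Type u) [Field K] [CommRing W] [Algebra K W]
    [Algebra.WeaklyEtale K W] (c : W) : ∃ P : K[X], P.Monic ∧ P.Separable ∧ aeval c P = 0 := by
  have hint : Algebra.IsIntegral K W := isIntegral_of_weaklyEtale_field K W
  let W' : Subalgebra K W := Algebra.adjoin K {c}
  have hW' : Algebra.WeaklyEtale K W' := weaklyEtale_subalgebra_field K W W'
  have hfin : Module.Finite K W' := by
    have : (Algebra.adjoin K {c}).toSubmodule.FG :=
      (hint.isIntegral c).fg_adjoin_singleton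
    exact Module.Finite.iff_fg.mpr this
  have hunr : Algebra.FormallyUnramified K W' :=
    Groth.Agent.Lib.Helper2.formallyUnramified_of_weaklyEtale K W'
  have het : Algebra.FormallyEtale K W' := Algebra.FormallyEtale.of_formallyUnramified_of_field K W'
  obtain ⟨I, hI, Ai, hF, hA, e, hsep⟩ := (Algebra.FormallyEtale.iff_exists_algEquiv_prod K W').mp het
  obtain ⟨P, hmonic, hsepP, hP⟩ := exists_separable_of_pi K I Ai (e ⟨c, Algebra.subset_adjoin rfl⟩)
  refine ⟨P, hmonic, hsepP, ?_⟩
  have h1 : aeval (⟨c, Algebra.subset_adjoin rfl⟩ : W') P = 0 := by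
    apply e.injective
    rw [map_zero, ← hP]
    exact (Polynomial.aeval_algHom_apply e.toAlgHom _ P).symm
  have h2 := congrArg W'.val h1
  rw [map_zero, ← Polynomial.aeval_algHom_apply] at h2
  exact h2

/-- A root of a monic separable polynomial lies in a weakly étale subalgebra. -/
theorem exists_weaklyEtale_subalgebra_of_separable (K A : Type u) [Field K] [CommRing A]
    [Algebra K A] (a : A) (P : K[X]) (hmonic : P.Monic) (hsep : P.Separable)
    (ha : aeval a P = 0) : ∃ S : Subalgebra K A, Algebra.WeaklyEtale K S ∧ a ∈ S := by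
  obtain ⟨u, v, huv⟩ := hsep
  let E : StandardEtalePair K :=
    { f := P
      monic_f := hmonic
      g := 1
      cond := ⟨v, u, 0, by rw [pow_zero, ← huv]; ring⟩ }
  have hmap : E.HasMap a := ⟨ha, by simp [E]⟩
  refine ⟨(E.lift a hmap).range, weaklyEtale_range_field K E.Ring A (E.lift a hmap), ?_⟩
  exact ⟨E.X, E.lift_X a hmap⟩

end Groth.Agent.Lib.Helper36.WE
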