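import Mathlib
import Groth.Prelude.Def_PBC
import Groth.Agent.Lib.Helper36.WeaklyEtaleSeparable
import Groth.Agent.S0736

set_option autoImplicit false
universe u

namespace Groth.Agent.Lib.Helper36.WE

open CategoryTheory CategoryTheory.Limits

section FGColimit

variable (K B : Type u) [CommRing K] [CommRing B] [Algebra K B]

/-- index: f.g. subalgebras -/
abbrev FGSub := {S : Subalgebra K B // S.FG}

instance : Nonempty (FGSub K B) := ⟨⟨⊥, Subalgebra.fg_bot⟩⟩

instance : IsDirected (FGSub K B) (· ≤ ·) :=
  ⟨fun S T => ⟨⟨S.1 ⊔ T.1, S.2.sup T.2⟩,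
    show S.1 ≤ S.1 ⊔ T.1 from le_sup_left, show T.1 ≤ S.1 ⊔ T.1 from le_sup_right⟩⟩

instance : IsFiltered (FGSub K B) := isFiltered_of_directed_le_nonempty _

/-- the diagram of f.g. subalgebras -/
noncomputable def fgDiagram : FGSub K B ⥤ Under (CommRingCat.of K) where
  obj S := Under.mk (CommRingCat.ofHom (algebraMap K S.1))
  map {S T} h := Under.homMk (CommRingCat.ofHom (Subalgebra.inclusion (leOfHom h)).toRingHom)
    (by ext; rfl)
  map_id S := by ext; rfl
  map_comp f g := by ext; rfl

/-- the cocone of f.g. subalgebras -/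
noncomputable def fgCocone : Cocone (fgDiagram K B) where
  pt := Under.mk (CommRingCat.ofHom (algebraMap K B))
  ι :=
    { app := fun S => Under.homMk (CommRingCat.ofHom S.1.val.toRingHom) (by ext; rfl)
      naturality := fun S T h => by ext; rfl }

variable {K B}

/-- the algebra maps out of the f.g. subalgebras defined by a cocone -/
noncomputable def coconeAlgHom (s : Cocone (fgDiagram K B)) (S : FGSub K B) :
    letI := s.pt.hom.hom.toAlgebra
    S.1 →ₐ[K] s.pt.right :=
  letI := s.pt.hom.hom.toAlgebra
  { toRingHom := (s.ι.app S).right.hom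
    commutes' := fun r => ConcreteCategory.congr_hom (Under.w (s.ι.app S)) r }

lemma coconeAlgHom_compat (s : Cocone (fgDiagram K B)) (S T : FGSub K B) (h : S.1 ≤ T.1) :
    letI := s.pt.hom.hom.toAlgebra
    coconeAlgHom s S = (coconeAlgHom s T).comp (Subalgebra.inclusion h) := by
  let := s.pt.hom.hom.toAlgebra
  ext x
  have := s.w (homOfLE (show S ≤ T from h))
  have h2 := congrArg (fun m => m.right.hom x) this
  exact h2.symm

lemma fgSub_directed : Directed (· ≤ ·) (fun S : FGSub K B => S.1) := by
  intro S T
  exact ⟨⟨S.1 ⊔ T.1, S.2.sup T.2⟩, le_sup_left, le_sup_right⟩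

lemma top_le_iSup_fgSub : (⊤ : Subalgebra K B) ≤ iSup (fun S : FGSub K B => S.1) := by
  intro b _
  have : b ∈ Algebra.adjoin K {b} := Algebra.subset_adjoin rfl
  have hfg : (Algebra.adjoin K {b}).FG := by
    have := Subalgebra.fg_adjoin_finset (R := K) ({b} : Finset B)
    simpa using this
  exact (le_iSup (fun S : FGSub K B => S.1) ⟨Algebra.adjoin K {b}, hfg⟩) this

/-- the induced map out of `B` -/
noncomputable def coconeDesc (s : Cocone (fgDiagram K B)) :
    letI := s.pt.hom.hom.toAlgebra
    B →ₐ[K] s.pt.right :=
  letI := s.pt.hom.hom.toAlgebra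
  (Subalgebra.iSupLift (fun S : FGSub K B => S.1) fgSub_directed (coconeAlgHom s)
    (fun S T h => coconeAlgHom_compat s S T h) ⊤ top_le_iSup_fgSub).comp
    Subalgebra.topEquiv.symm.toAlgHom

lemma coconeDesc_apply (s : Cocone (fgDiagram K B)) (S : FGSub K B) (x : S.1) :
    coconeDesc s x.1 = coconeAlgHom s S x := by
  let := s.pt.hom.hom.toAlgebra
  have := Subalgebra.iSupLift_inclusion (K := fun S : FGSub K B => S.1) (dir := fgSub_directed)
    (f := coconeAlgHom s) (hf := fun S T h => coconeAlgHom_compat s S T h) (T := ⊤)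
    (hT := top_le_iSup_fgSub) (i := S) x le_top
  exact this

/-- ring hom version of `coconeDesc` -/
noncomputable def coconeDescRingHom (s : Cocone (fgDiagram K B)) : B →+* s.pt.right :=
  letI := s.pt.hom.hom.toAlgebra
  (coconeDesc s).toRingHom

lemma coconeDescRingHom_algebraMap (s : Cocone (fgDiagram K B)) (r : K) :
    coconeDescRingHom s (algebraMap K B r) = s.pt.hom.hom r := by
  let := s.pt.hom.hom.toAlgebra
  exact (coconeDesc s).commutes r

lemma coconeDescRingHom_apply (s : Cocone (fgDiagram K B)) (S : FGSub K B) (x : S.1) :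
    coconeDescRingHom s x.1 = (s.ι.app S).right.hom x :=
  coconeDesc_apply s S x

variable (K B) in
/-- `B` is the colimit of its finitely generated subalgebras. -/
noncomputable def fgIsColimit : IsColimit (fgCocone K B) where
  desc s := Under.homMk (CommRingCat.ofHom (coconeDescRingHom s)) (by
    ext r
    exact coconeDescRingHom_algebraMap s r)
  fac s S := by
    ext x
    exact coconeDescRingHom_apply s S x
  uniq s m hm := by
    have key : ∀ b : B, m.right.hom b = coconeDescRingHom s b := by
      intro b
      have hfg : (Algebra.adjoin K {b}).FG := by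
        have := Subalgebra.fg_adjoin_finset (R := K) ({b} : Finset B)
        simpa using this
      let S : FGSub K B := ⟨Algebra.adjoin K {b}, hfg⟩
      let x : S.1 := ⟨b, Algebra.subset_adjoin rfl⟩
      have h1 := congrArg (fun f => f.right.hom x) (hm S)
      have h2 := coconeDescRingHom_apply s S x
      exact h1.trans h2.symm
    ext b
    exact key b

end FGColimit

/-- Finitely generated subalgebras of a weakly étale algebra over a field are étale. -/
theorem etale_of_fg_subalgebra_field (K B : Type u) [Field K] [CommRing B] [Algebra K B]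
    [Algebra.WeaklyEtale K B] (S : Subalgebra K B) (hS : S.FG) : Algebra.Etale K S := by
  have hW : Algebra.WeaklyEtale K S := weaklyEtale_subalgebra_field K B S
  have hint : Algebra.IsIntegral K S := isIntegral_of_weaklyEtale_field K S
  have hft : Algebra.FiniteType K S := S.fg_iff_finiteType.mp hS
  have hfin : Module.Finite K S := Algebra.IsIntegral.finite
  have hunr : Algebra.FormallyUnramified K S :=
    Groth.Agent.Lib.Helper2.formallyUnramified_of_weaklyEtale K S
  have het : Algebra.FormallyEtale K S := Algebra.FormallyEtale.of_formallyUnramified_of_field K S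
  have hfp : Algebra.FinitePresentation K S := Algebra.FinitePresentation.of_finiteType.mp hft
  exact {}

theorem weaklyEtale_iff_isIndEtale_field (K B : Type u) [Field K] [CommRing B] [Algebra K B] :
    (Algebra.WeaklyEtale K B ↔ EtPBC.IsIndEtale K B) ∧
    (Algebra.WeaklyEtale K B → ∀ S : Subalgebra K B, S.FG → Algebra.Etale K S) := by
  refine ⟨⟨fun h => ?_, fun h => Groth.Agent.S0736.result K B h⟩,
    fun h S hS => etale_of_fg_subalgebra_field K B S hS⟩
  refine ⟨FGSub K B, inferInstance, inferInstance, fgDiagram K B, fgCocone K B, fgIsColimit K B,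
    fun S => ?_, ⟨Iso.refl _⟩⟩
  have h1 : Algebra.Etale K S.1 := etale_of_fg_subalgebra_field K B S.1 S.2
  have h2 : ((fgDiagram K B).obj S).hom.hom.toAlgebra = (inferInstance : Algebra K S.1) :=
    Algebra.algebra_ext _ _ (fun r => rfl)
  rw [h2]
  exact h1

end Groth.Agent.Lib.Helper36.WE
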