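import Mathlib
import Groth.Agent.Lib.Helper36.WeaklyEtaleSeparable

set_option autoImplicit false
universe u

namespace Groth.Agent.Lib.Helper36.WE

open TensorProduct Polynomial Groth.Agent.Lib.Helper36.AbsFlat

theorem le_maxWeaklyEtale (K A : Type u) [Field K] [CommRing A] [Algebra K A]
    (S : Subalgebra K A) (hS : Algebra.WeaklyEtale K S) : S ≤ EtAlgD.maxWeaklyEtale K A :=
  le_sSup hS

/-- Membership in the maximal weakly étale subalgebra: being a root of a monic separable
polynomial. -/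
theorem mem_maxWeaklyEtale_iff (K A : Type u) [Field K] [CommRing A] [Algebra K A] (a : A) :
    a ∈ EtAlgD.maxWeaklyEtale K A ↔ ∃ P : K[X], P.Monic ∧ P.Separable ∧ aeval a P = 0 := by
  constructor
  · intro ha
    have := weaklyEtale_maxWeaklyEtale K A
    obtain ⟨P, h1, h2, h3⟩ := exists_separable_of_weaklyEtale_field K
      (EtAlgD.maxWeaklyEtale K A) ⟨a, ha⟩
    refine ⟨P, h1, h2, ?_⟩
    have h4 := congrArg (EtAlgD.maxWeaklyEtale K A).val h3
    rw [map_zero, ← Polynomial.aeval_algHom_apply] at h4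
    exact h4
  · rintro ⟨P, h1, h2, h3⟩
    obtain ⟨S, hS, haS⟩ := exists_weaklyEtale_subalgebra_of_separable K A a P h1 h2 h3
    exact le_maxWeaklyEtale K A S hS haS

theorem maxWeaklyEtale_map_val (K A : Type u) [Field K] [CommRing A] [Algebra K A]
    (A' : Subalgebra K A) :
    (EtAlgD.maxWeaklyEtale K A').map A'.val = EtAlgD.maxWeaklyEtale K A ⊓ A' := by
  ext x
  rw [Subalgebra.mem_map, Algebra.mem_inf, mem_maxWeaklyEtale_iff]
  simp only [mem_maxWeaklyEtale_iff]
  constructor
  · rintro ⟨y, ⟨P, h1, h2, h3⟩, rfl⟩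
    refine ⟨⟨P, h1, h2, ?_⟩, y.2⟩
    have h4 := congrArg A'.val h3
    rw [map_zero, ← Polynomial.aeval_algHom_apply] at h4
    exact h4
  · rintro ⟨⟨P, h1, h2, h3⟩, hx⟩
    refine ⟨⟨x, hx⟩, ⟨P, h1, h2, ?_⟩, rfl⟩
    apply Subtype.val_injective
    have := Polynomial.aeval_algHom_apply A'.val (⟨x, hx⟩ : A') P
    simp only [Subalgebra.coe_val] at this
    rw [← this, h3]
    rfl

theorem maxWeaklyEtale_bijOn_reduction (K A : Type u) [Field K] [CommRing A] [Algebra K A] :
    Set.BijOn (Ideal.Quotient.mkₐ K (nilradical A)) (EtAlgD.maxWeaklyEtale K A)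
      (EtAlgD.maxWeaklyEtale K (A ⧸ nilradical A)) := by
  refine ⟨?_, ?_, ?_⟩
  · -- MapsTo
    intro a ha
    rw [SetLike.mem_coe, mem_maxWeaklyEtale_iff] at ha ⊢
    obtain ⟨P, h1, h2, h3⟩ := ha
    refine ⟨P, h1, h2, ?_⟩
    rw [Polynomial.aeval_algHom_apply, h3, map_zero]
  · -- InjOn
    intro a₁ h₁ a₂ h₂ h
    have hB := weaklyEtale_maxWeaklyEtale K A
    have hred : IsReduced (EtAlgD.maxWeaklyEtale K A) :=
      (isVNR_of_weaklyEtale_field K (EtAlgD.maxWeaklyEtale K A)).isReduced
    have hnil : IsNilpotent (a₁ - a₂) := by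
      have : a₁ - a₂ ∈ nilradical A := by
        rw [← Ideal.Quotient.eq_zero_iff_mem, map_sub, sub_eq_zero]
        exact h
      exact this
    obtain ⟨n, hn⟩ := hnil
    have hnil' : IsNilpotent ((⟨a₁, h₁⟩ : EtAlgD.maxWeaklyEtale K A) - ⟨a₂, h₂⟩) :=
      ⟨n, Subtype.ext hn⟩
    have := hnil'.eq_zero
    have h0 := congrArg Subtype.val this
    simp only [ZeroMemClass.coe_zero] at h0
    exact sub_eq_zero.mp h0
  · -- SurjOn
    intro c hc
    rw [SetLike.mem_coe, mem_maxWeaklyEtale_iff] at hc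
    obtain ⟨P, h1, h2, h3⟩ := hc
    obtain ⟨a₀, rfl⟩ := Ideal.Quotient.mk_surjective c
    have hnil : IsNilpotent (aeval a₀ P) := by
      have : aeval a₀ P ∈ nilradical A := by
        rw [← Ideal.Quotient.eq_zero_iff_mem]
        have := Polynomial.aeval_algHom_apply (Ideal.Quotient.mkₐ K (nilradical A)) a₀ P
        rw [Ideal.Quotient.mkₐ_eq_mk] at this
        rw [← this]
        exact h3
      exact this
    have hunit : IsUnit (aeval a₀ (derivative P)) := by
      obtain ⟨u, v, huv⟩ := h2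
      have h4 : aeval a₀ u * aeval a₀ P + aeval a₀ v * aeval a₀ (derivative P) = 1 := by
        rw [← map_mul, ← map_mul, ← map_add, huv, map_one]
      have h5 : aeval a₀ v * aeval a₀ (derivative P) = 1 - aeval a₀ u * aeval a₀ P := by
        rw [← h4]; ring
      have h6 : IsUnit (aeval a₀ v * aeval a₀ (derivative P)) := by
        rw [h5]
        exact IsNilpotent.isUnit_one_sub ((Commute.all _ _).isNilpotent_mul_left hnil)
      exact isUnit_of_mul_isUnit_right h6
    obtain ⟨r, ⟨hr1, hr2⟩, -⟩ := Polynomial.existsUnique_nilpotent_sub_and_aeval_eq_zero hnil hunit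
    refine ⟨r, ?_, ?_⟩
    · rw [SetLike.mem_coe, mem_maxWeaklyEtale_iff]
      exact ⟨P, h1, h2.of_dvd dvd_rfl, hr2⟩
    · have : a₀ - r ∈ nilradical A := hr1
      rw [← Ideal.Quotient.eq_zero_iff_mem, map_sub, sub_eq_zero] at this
      exact this.symm

theorem maxWeaklyEtale_isField_of_connected (K A : Type u) [Field K] [CommRing A] [Algebra K A]
    (hidem : ∀ e : A, IsIdempotentElem e → e = 0 ∨ e = 1) (hnt : Nontrivial A) :
    IsField (EtAlgD.maxWeaklyEtale K A) ∧ Algebra.IsSeparable K (EtAlgD.maxWeaklyEtale K A) := by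
  have hB := weaklyEtale_maxWeaklyEtale K A
  have hvnr : IsVNR (EtAlgD.maxWeaklyEtale K A) := isVNR_of_weaklyEtale_field K _
  constructor
  · refine ⟨⟨0, 1, ?_⟩, mul_comm, ?_⟩
    · intro h
      have := congrArg Subtype.val h
      simp at this
    · intro b hb
      obtain ⟨c, hc⟩ := hvnr b
      have hidem' : IsIdempotentElem (b * c) := by
        unfold IsIdempotentElem
        calc b * c * (b * c) = (b * b * c) * c := by ring
          _ = b * c := by rw [← hc]
      have hidemA : IsIdempotentElem ((b * c : EtAlgD.maxWeaklyEtale K A) : A) := by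
        unfold IsIdempotentElem
        rw [← Subalgebra.coe_mul, hidem'.eq]
      rcases hidem _ hidemA with h0 | h1
      · exfalso
        apply hb
        have : b * c = 0 := Subtype.ext h0
        calc b = b * b * c := hc
          _ = b * (b * c) := by ring
          _ = 0 := by rw [this, mul_zero]
      · exact ⟨c, Subtype.ext h1⟩
  · refine ⟨fun x => ?_⟩
    obtain ⟨P, h1, h2, h3⟩ := exists_separable_of_weaklyEtale_field K _ x
    exact h2.of_dvd (minpoly.dvd K x h3)

end Groth.Agent.Lib.Helper36.WE
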