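import Mathlib
import Groth.Agent.Lib.Helper36.WeaklyEtaleSch
import Groth.Agent.Lib.Helper36.WeaklyEtaleReduced

set_option autoImplicit false
universe u

namespace Groth.Agent.Lib.Helper36.WE

open AlgebraicGeometry CategoryTheory Limits MorphismProperty TensorProduct

theorem isReduced_of_weaklyEtale_scheme {X Y : Scheme.{u}} (f : X ⟶ Y) [WeaklyEtale f]
    [AlgebraicGeometry.IsReduced Y] : AlgebraicGeometry.IsReduced X := by
  have (x : X) : _root_.IsReduced (X.presheaf.stalk x) := by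
    obtain ⟨_, ⟨V, hV, rfl⟩, hxV, -⟩ :=
      Y.isBasis_affineOpens.exists_subset_of_mem_open (Set.mem_univ (f x)) isOpen_univ
    obtain ⟨_, ⟨U, hU, rfl⟩, hxU, hUV⟩ :=
      X.isBasis_affineOpens.exists_subset_of_mem_open (show x ∈ f ⁻¹ᵁ V from hxV) (f ⁻¹ᵁ V).isOpen
    have h1 := (weaklyEtale_iff_forall_affineOpens f).mp inferInstance U V hU hV hUV
    let := (f.appLE V U hUV).hom.toAlgebra
    have h2 : _root_.IsReduced Γ(X, U) := isReduced_of_weaklyEtale Γ(Y, V) Γ(X, U)
    let : Algebra Γ(X, U) (X.presheaf.stalk x) := (X.presheaf.germ U x hxU).hom.toAlgebra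
    have := hU.isLocalization_stalk ⟨x, hxU⟩
    exact isReduced_localizationPreserves (hU.primeIdealOf ⟨x, hxU⟩).asIdeal.primeCompl
      (X.presheaf.stalk x) h2
  exact isReduced_of_isReduced_stalk _

end Groth.Agent.Lib.Helper36.WE
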